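import Cfsg.Agent.Lib.Helper99.SpMax

set_option autoImplicit false

/-!
The stabilizer of a totally isotropic subspace is maximal in the symplectic group.
-/

namespace Cfsg.Agent.Lib.Helper99

open Matrix

section dual

variable {F : Type*} [Field F] {W : Type*} [AddCommGroup W] [Module F W] [FiniteDimensional F W]

/-- The general linear group is transitive on nonzero linear forms. -/
theorem exists_equiv_dual (l l' : Module.Dual F W) (hl : l ≠ 0) (hl' : l' ≠ 0) :
    ∃ α : W ≃ₗ[F] W, ∀ w, l' (α w) = l w := by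
  obtain ⟨a, ha⟩ : ∃ a, l a ≠ 0 := by
    by_contra h
    push Not at h
    exact hl (LinearMap.ext h)
  obtain ⟨b, hb⟩ : ∃ b, l' b ≠ 0 := by
    by_contra h
    push Not at h
    exact hl' (LinearMap.ext h)
  obtain ⟨z, hz, hz'⟩ : ∃ z, l z ≠ 0 ∧ l' z ≠ 0 := by
    by_cases h1 : l' a = 0
    · by_cases h2 : l b = 0
      · refine ⟨a + b, ?_, ?_⟩
        · rw [map_add, h2, add_zero]; exact ha
        · rw [map_add, h1, zero_add]; exact hb
      · exact ⟨b, h2, hb⟩
    · exact ⟨a, ha, h1⟩
  set z' : W := (l' z)⁻¹ • z with hz'def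
  have hl'z' : l' z' = 1 := by rw [hz'def, map_smul, smul_eq_mul, inv_mul_cancel₀ hz']
  have hlz' : l z' ≠ 0 := by
    rw [hz'def, map_smul, smul_eq_mul]
    exact mul_ne_zero (inv_ne_zero hz') hz
  let T : W →ₗ[F] W := LinearMap.id + (l - l').smulRight z'
  have hT : ∀ x, T x = x + (l x - l' x) • z' := by
    intro x
    simp [T, LinearMap.smulRight_apply]
  have hlT : ∀ x, l' (T x) = l x := by
    intro x
    rw [hT, map_add, map_smul, hl'z', smul_eq_mul, mul_one]
    ring
  have hinj : Function.Injective T := by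
    rw [← LinearMap.ker_eq_bot, LinearMap.ker_eq_bot']
    intro x hx
    have h1 : l x = 0 := by rw [← hlT, hx, map_zero]
    have h2 : x = (l' x) • z' := by
      have := hT x
      rw [hx, h1, zero_sub, neg_smul] at this
      rw [← sub_eq_zero, sub_eq_add_neg]
      exact this.symm
    have h3 : l' x = 0 := by
      have := congrArg l h2
      rw [h1, map_smul, smul_eq_mul] at this
      rcases mul_eq_zero.mp this.symm with h | h
      · exact h
      · exact absurd h hlz'
    rw [h2, h3, zero_smul]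
  refine ⟨LinearEquiv.ofInjectiveEndo T hinj, fun w => ?_⟩
  rw [LinearEquiv.coe_ofInjectiveEndo]
  exact hlT w

end dual

section ti

variable {F : Type*} [Field F] (m : ℕ)

theorem sympForm_swap' (u v : Fin m ⊕ Fin m → F) :
    Cfsg.sympForm m F u v = -Cfsg.sympForm m F v u := by
  rw [← sympB_apply, ← sympB_apply]
  exact ((sympB_isAlt (F := F) m).neg v u).symm

/-- The stabilizer of a totally isotropic subspace `W` is transitive on the vectors outside the
orthogonal complement of `W`. -/
theorem exists_stab_map_ti (W : Submodule F (Fin m ⊕ Fin m → F))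
    (hW : ∀ u ∈ W, ∀ v ∈ W, Cfsg.sympForm m F u v = 0)
    (u u' : Fin m ⊕ Fin m → F) (hu : u ∉ sperp m W) (hu' : u' ∉ sperp m W) :
    ∃ p : GL (Fin m ⊕ Fin m) F, p ∈ Cfsg.spGL m F ∧ p ∈ Cfsg.Geo.subspaceStabilizer W ∧
      (p : Matrix (Fin m ⊕ Fin m) (Fin m ⊕ Fin m) F) *ᵥ u = u' := by
  have hWle : W ≤ sperp m W := by
    intro x hx
    rw [mem_sperp]
    intro w hw
    exact hW w hw x hx
  have huW : u ∉ W := fun h => hu (hWle h)
  have hu'W : u' ∉ W := fun h => hu' (hWle h)
  -- the two linear forms on `W`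
  let l : Module.Dual F W := ((sympB (F := F) m).flip u).comp W.subtype
  let l' : Module.Dual F W := ((sympB (F := F) m).flip u').comp W.subtype
  have hl : ∀ w : W, l w = Cfsg.sympForm m F (w : Fin m ⊕ Fin m → F) u := by
    intro w
    simp [l, sympB_apply]
  have hl' : ∀ w : W, l' w = Cfsg.sympForm m F (w : Fin m ⊕ Fin m → F) u' := by
    intro w
    simp [l', sympB_apply]
  have hl0 : l ≠ 0 := by
    intro h
    apply hu
    rw [mem_sperp]
    intro w hw
    have := hl ⟨w, hw⟩
    rw [h] at this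
    exact this.symm
  have hl'0 : l' ≠ 0 := by
    intro h
    apply hu'
    rw [mem_sperp]
    intro w hw
    have := hl' ⟨w, hw⟩
    rw [h] at this
    exact this.symm
  obtain ⟨α, hα⟩ := exists_equiv_dual l l' hl0 hl'0
  set k := Module.finrank F W with hk
  let b : Module.Basis (Fin k) F W := Module.finBasis F W
  let x : Fin (k + 1) → (Fin m ⊕ Fin m → F) :=
    Fin.snoc (fun i => ((b i : W) : Fin m ⊕ Fin m → F)) u
  let y : Fin (k + 1) → (Fin m ⊕ Fin m → F) :=
    Fin.snoc (fun i => ((α (b i) : W) : Fin m ⊕ Fin m → F)) u'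
  have hspan : ∀ (c : Module.Basis (Fin k) F W),
      Submodule.span F (Set.range fun i => ((c i : W) : Fin m ⊕ Fin m → F)) = W := by
    intro c
    have h1 : (Set.range fun i => ((c i : W) : Fin m ⊕ Fin m → F)) =
        W.subtype '' (Set.range c) := by
      rw [← Set.range_comp]
      rfl
    rw [h1, ← Submodule.map_span, c.span_eq, Submodule.map_top, Submodule.range_subtype]
  have hli : ∀ (c : Module.Basis (Fin k) F W),
      LinearIndependent F (fun i => ((c i : W) : Fin m ⊕ Fin m → F)) := by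
    intro c
    exact c.linearIndependent.map' W.subtype (Submodule.ker_subtype W)
  have hx : LinearIndependent F x := by
    rw [linearIndependent_finSnoc]
    refine ⟨hli b, ?_⟩
    rw [hspan b]
    exact huW
  have hy : LinearIndependent F y := by
    rw [linearIndependent_finSnoc]
    have := hli (b.map α)
    refine ⟨this, ?_⟩
    have h2 := hspan (b.map α)
    simp only [Module.Basis.map_apply] at h2
    rw [h2]
    exact hu'W
  have hgram : ∀ i j, sympB (F := F) m (y i) (y j) = sympB (F := F) m (x i) (x j) := by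
    intro i j
    rw [sympB_apply, sympB_apply]
    refine Fin.lastCases ?_ (fun i' => ?_) i <;> refine Fin.lastCases ?_ (fun j' => ?_) j
    · simp only [x, y, Fin.snoc_last]
      rw [← sympB_apply, ← sympB_apply, sympB_self, sympB_self]
    · simp only [x, y, Fin.snoc_last, Fin.snoc_castSucc]
      rw [sympForm_swap', sympForm_swap' m u, ← hl', ← hl, hα]
    · simp only [x, y, Fin.snoc_last, Fin.snoc_castSucc]
      rw [← hl', ← hl, hα]
    · simp only [x, y, Fin.snoc_castSucc]
      rw [hW _ (b i').2 _ (b j').2, hW _ (α (b i')).2 _ (α (b j')).2]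
  obtain ⟨g, hgiso, hgx⟩ := Cfsg.Agent.Lib.Helper8.witt_family (sympB (F := F) m)
    (sympB_nondegenerate m) (sympB_isAlt m) (k + 1) x y hx hy hgram
  have hgb : ∀ i, g ((b i : W) : Fin m ⊕ Fin m → F) = ((α (b i) : W) : Fin m ⊕ Fin m → F) := by
    intro i
    have := hgx i.castSucc
    simpa only [x, y, Fin.snoc_castSucc] using this
  have hgu : g u = u' := by
    have := hgx (Fin.last k)
    simpa only [x, y, Fin.snoc_last] using this
  have hgW : ∀ w : W, g (w : Fin m ⊕ Fin m → F) = ((α w : W) : Fin m ⊕ Fin m → F) := by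
    have : (g : (Fin m ⊕ Fin m → F) →ₗ[F] (Fin m ⊕ Fin m → F)).comp W.subtype =
        W.subtype.comp (α : W →ₗ[F] W) := by
      apply b.ext
      intro i
      simp only [LinearMap.comp_apply, Submodule.subtype_apply, LinearEquiv.coe_coe]
      exact hgb i
    intro w
    exact LinearMap.congr_fun this w
  refine ⟨glOfEquiv m g, ?_, ?_, ?_⟩
  · rw [mem_spGL_iff]
    intro a c
    rw [glOfEquiv_mulVec, glOfEquiv_mulVec, ← sympB_apply, ← sympB_apply]
    exact hgiso a c
  · apply mem_subspaceStabilizer_of_forall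
    intro w hw
    rw [glOfEquiv_mulVec]
    have := hgW ⟨w, hw⟩
    simp only at this
    rw [this]
    exact (α ⟨w, hw⟩).2
  · rw [glOfEquiv_mulVec]
    exact hgu

/-- The stabilizer of a nonzero totally isotropic subspace is maximal in the symplectic group. -/
theorem ti_stabilizer_isMaximalIn (W : Submodule F (Fin m ⊕ Fin m → F)) (hW0 : W ≠ ⊥)
    (hW : Cfsg.Geo.IsTotallySingularFor (Cfsg.sympForm m F) W) :
    Cfsg.Geo.IsMaximalIn (Cfsg.spGL m F) (Cfsg.Geo.subspaceStabilizer W ⊓ Cfsg.spGL m F) := by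
  obtain ⟨w, hwW, hw0⟩ := W.exists_mem_ne_zero_of_ne_bot hW0
  constructor
  · rw [lt_iff_le_and_ne]
    refine ⟨inf_le_right, fun heq => ?_⟩
    obtain ⟨u, hu⟩ := Helper13.exists_sympForm_ne_zero m w hw0
    have h1 : stv m u 1 ∈ Cfsg.spGL m F := stv_mem_spGL m u 1
    rw [← heq] at h1
    have h2 := ((mem_subspaceStabilizer_iff W _).mp h1.1 w).mp hwW
    rw [stv_mulVec, one_mul] at h2
    have h3 : (Cfsg.sympForm m F w u) • u ∈ W := by
      have : (Cfsg.sympForm m F w u) • u = (w + (Cfsg.sympForm m F w u) • u) - w := by abel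
      rw [this]
      exact W.sub_mem h2 hwW
    have h4 : u ∈ W := by
      have : u = (Cfsg.sympForm m F w u)⁻¹ • ((Cfsg.sympForm m F w u) • u) := by
        rw [smul_smul, inv_mul_cancel₀ hu, one_smul]
      rw [this]
      exact W.smul_mem _ h3
    exact hu (hW w hwW u h4)
  · intro M hPM hMS
    by_cases hMP : M ≤ Cfsg.Geo.subspaceStabilizer W ⊓ Cfsg.spGL m F
    · left
      exact le_antisymm hMP hPM
    · right
      obtain ⟨g, hgM, hgP⟩ := SetLike.not_le_iff_exists.mp hMP
      have hgS := hMS hgM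
      have hgW : g ∉ Cfsg.Geo.subspaceStabilizer W := fun h => hgP ⟨h, hgS⟩
      obtain ⟨w₀, hw₀, hgw₀⟩ : ∃ w₀ ∈ W,
          (g : Matrix (Fin m ⊕ Fin m) (Fin m ⊕ Fin m) F) *ᵥ w₀ ∉ W := by
        by_contra h
        push Not at h
        exact hgW (mem_subspaceStabilizer_of_forall W g h)
      have Z1 : ∀ u ∈ sperp m W, ∀ c, stv m u c ∈ M := by
        intro u hu c
        exact hPM ⟨stv_mem_stabilizer_of_perp m W u c ((mem_sperp m W u).mp hu),
          stv_mem_spGL m u c⟩
      have Z2 : ∀ h ∈ M, ∀ u, (∀ c, stv m u c ∈ M) → ∀ c,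
          stv m ((h : Matrix (Fin m ⊕ Fin m) (Fin m ⊕ Fin m) F) *ᵥ u) c ∈ M := by
        intro h hh u hu c
        rw [← conj_stv m h (hMS hh) u c]
        exact M.mul_mem (M.mul_mem hh (hu c)) (M.inv_mem hh)
      obtain ⟨u₁, hu₁, hgu₁⟩ : ∃ u₁ ∈ sperp m W,
          (g : Matrix (Fin m ⊕ Fin m) (Fin m ⊕ Fin m) F) *ᵥ u₁ ∉ sperp m W := by
        by_contra hcon
        push Not at hcon
        have hgst := mem_subspaceStabilizer_of_forall (sperp m W) g hcon
        apply hgw₀
        rw [← sperp_sperp m W, mem_sperp]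
        intro y hy
        have hy' : ((g⁻¹ : GL (Fin m ⊕ Fin m) F) :
            Matrix (Fin m ⊕ Fin m) (Fin m ⊕ Fin m) F) *ᵥ y ∈ sperp m W := by
          rw [(mem_subspaceStabilizer_iff (sperp m W) g).mp hgst, mulVec_inv_mulVec]
          exact hy
        have h1 := (mem_spGL_iff m g).mp hgS
          (((g⁻¹ : GL (Fin m ⊕ Fin m) F) :
            Matrix (Fin m ⊕ Fin m) (Fin m ⊕ Fin m) F) *ᵥ y) w₀
        rw [mulVec_inv_mulVec] at h1
        rw [h1, sympForm_swap']
        rw [(mem_sperp m W _).mp hy' w₀ hw₀, neg_zero]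
      apply eq_spGL_of_stv_mem m M hMS
      intro u c
      by_cases hu : u ∈ sperp m W
      · exact Z1 u hu c
      · obtain ⟨p, hpS, hpW, hpu⟩ := exists_stab_map_ti m W hW _ u hgu₁ hu
        have hpM : p ∈ M := hPM ⟨hpW, hpS⟩
        rw [← hpu]
        exact Z2 p hpM _ (Z2 g hgM u₁ (Z1 u₁ hu₁)) c

end ti

end Cfsg.Agent.Lib.Helper99
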