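import Cfsg.Agent.Lib.Helper99.UnitaryBase
import Cfsg.Agent.Lib.Helper99.SpMaxTI

set_option autoImplicit false

/-!
The stabilizer of a totally isotropic subspace is maximal in the special unitary group.
-/

namespace Cfsg.Agent.Lib.Helper99

open Matrix

section uti

variable {F : Type*} [Field F] [Fintype F] {q n : ℕ}

local notation "hh" => Cfsg.hermForm n F q

/-- Hilbert 90 for norm one elements. -/
theorem exists_hilbert90 (hF : Fintype.card F = q ^ 2) (δ : F) (hδ : δ ^ (q + 1) = 1) :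
    ∃ a : F, a ≠ 0 ∧ a ^ q = δ * a := by
  have hδ0 : δ ≠ 0 := by
    rintro rfl
    rw [zero_pow (by omega)] at hδ
    exact zero_ne_one hδ
  have hδq : δ ^ q = δ⁻¹ := by
    rw [pow_succ] at hδ
    exact eq_inv_of_mul_eq_one_left hδ
  by_cases h1 : δ = -1
  · obtain ⟨τ, hτ0, hτ⟩ := exists_trace_zero hF
    refine ⟨τ, hτ0, ?_⟩
    rw [h1, neg_one_mul]
    exact eq_neg_of_add_eq_zero_right hτ
  · refine ⟨1 + δ⁻¹, ?_, ?_⟩
    · intro h
      apply h1
      have h2 : δ⁻¹ = -1 := eq_neg_of_add_eq_zero_right h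
      rw [← inv_inv δ, h2]
      norm_num
    · rw [frob_add hF, one_pow, inv_pow, hδq, inv_inv, mul_add, mul_one, mul_inv_cancel₀ hδ0,
        add_comm]

/-- The subgroup generated by the unitary transvections. -/
def utvGroup (n q : ℕ) (F : Type*) [Field F] : Subgroup (GL (Fin n) F) :=
  Subgroup.closure {g | ∃ (u : Fin n → F) (c : F), Cfsg.hermForm n F q u u = 0 ∧ c + c ^ q = 0 ∧
    g = utv q u c}

theorem utv_mem_utvGroup (u : Fin n → F) (hu : hh u u = 0) (c : F) (hc : c + c ^ q = 0) :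
    utv q u c ∈ utvGroup n q F :=
  Subgroup.subset_closure ⟨u, c, hu, hc, rfl⟩

theorem utvGroup_le_suGL (hF : Fintype.card F = q ^ 2) : utvGroup n q F ≤ suGL (F := F) n q := by
  unfold utvGroup
  rw [Subgroup.closure_le]
  rintro g ⟨u, c, hu, hc, rfl⟩
  exact utv_mem_suGL hF u hu c hc

/-- Moving an isotropic vector to a multiple of a non-orthogonal isotropic vector by a transvection
fixing a given subspace orthogonal to both. -/
theorem exists_utv_move (hF : Fintype.card F = q ^ 2) (D : Submodule F (Fin n → F))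
    (p r : Fin n → F) (hp : hh p p = 0) (hr : hh r r = 0) (hpr : hh p r ≠ 0)
    (hDp : ∀ d ∈ D, hh d p = 0) (hDr : ∀ d ∈ D, hh d r = 0) :
    ∃ t ∈ utvGroup n q F, ∃ l : F, (∀ d ∈ D, (t : Matrix (Fin n) (Fin n) F) *ᵥ d = d) ∧
      (t : Matrix (Fin n) (Fin n) F) *ᵥ p = l • r := by
  obtain ⟨τ, hτ0, hτ⟩ := exists_trace_zero hF
  have hτq : τ ^ q = -τ := eq_neg_of_add_eq_zero_right hτ
  set l : F := (τ / hh p r) ^ q with hl
  have hlq : l ^ q = τ / hh p r := by rw [hl, Helper13.pow_q_pow_q hF]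
  have hrp : hh r p = (hh p r) ^ q := (Helper13.hermForm_conj hF n p r).symm
  set u : Fin n → F := p - l • r with hu
  have h1 : l ^ q * hh p r = τ := by rw [hlq, div_mul_cancel₀ _ hpr]
  have h2 : l * hh r p = τ ^ q := by
    rw [hl, hrp, ← mul_pow, div_mul_cancel₀ _ hpr]
  have hpu : hh p u = -τ := by
    rw [hu, hermForm_sub_right hF, hp, Helper13.hermForm_smul_right, h1, zero_sub]
  have huu : hh u u = 0 := by
    have : hh u u = hh p u - l * hh r u := by
      conv_lhs => rw [hu]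
      rw [hermForm_sub_left, Helper13.hermForm_smul_left]
    rw [this, hpu, hu, hermForm_sub_right hF, Helper13.hermForm_smul_right, hr, mul_zero, sub_zero,
      h2, hτq]
    ring
  have hc : τ⁻¹ + (τ⁻¹) ^ q = 0 := by
    rw [inv_pow, hτq, inv_neg, add_neg_cancel]
  refine ⟨utv q u τ⁻¹, utv_mem_utvGroup u huu _ hc, l, ?_, ?_⟩
  · intro d hd
    rw [utv_mulVec u huu]
    have : hh d u = 0 := by
      rw [hu, hermForm_sub_right hF, Helper13.hermForm_smul_right, hDp d hd, hDr d hd, mul_zero,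
        sub_zero]
    rw [this, mul_zero, zero_smul, add_zero]
  · rw [utv_mulVec u huu, hpu, mul_neg, inv_mul_cancel₀ hτ0, neg_one_smul, hu]
    abel

/-- The transvection group moves a totally isotropic subspace closer to another one. -/
theorem exists_utv_step (hF : Fintype.card F = q ^ 2) (W W' : Submodule F (Fin n → F))
    (hW : ∀ u ∈ W, ∀ v ∈ W, hh u v = 0) (hW' : ∀ u ∈ W', ∀ v ∈ W', hh u v = 0)
    (a a' : Fin n → F) (ha : a ∈ W) (haW' : a ∉ W') (ha' : a' ∈ W') (ha'W : a' ∉ W) :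
    ∃ t ∈ utvGroup n q F, ∃ a₁ ∈ W, a₁ ∉ W' ∧
      (∀ d ∈ W ⊓ W', (t : Matrix (Fin n) (Fin n) F) *ᵥ d = d) ∧
      (t : Matrix (Fin n) (Fin n) F) *ᵥ a₁ ∈ W' := by
  by_cases hcase : ∃ a₁ ∈ W, ∃ a₁' ∈ W', hh a₁ a₁' ≠ 0
  · obtain ⟨a₁, ha₁, a₁', ha₁', hne⟩ := hcase
    have ha₁W' : a₁ ∉ W' := fun h => hne (hW' a₁ h a₁' ha₁')
    obtain ⟨t, ht, l, htD, hta⟩ := exists_utv_move hF (W ⊓ W') a₁ a₁' (hW a₁ ha₁ a₁ ha₁)
      (hW' a₁' ha₁' a₁' ha₁') hne (fun d hd => hW d hd.1 a₁ ha₁) (fun d hd => hW' d hd.2 a₁' ha₁')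
    refine ⟨t, ht, a₁, ha₁, ha₁W', htD, ?_⟩
    rw [hta]
    exact W'.smul_mem _ ha₁'
  · push Not at hcase
    -- find an isotropic `b` orthogonal to `W ⊓ W'` and not orthogonal to `a`, `a'`
    have hX : a' ∉ (W ⊓ W') ⊔ Submodule.span F {a} := by
      intro h
      apply ha'W
      have hle : (W ⊓ W') ⊔ Submodule.span F {a} ≤ W :=
        sup_le inf_le_left ((Submodule.span_singleton_le_iff_mem a W).mpr ha)
      exact hle h
    have hX' : a ∉ (W ⊓ W') ⊔ Submodule.span F {a'} := by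
      intro h
      apply haW'
      have hle : (W ⊓ W') ⊔ Submodule.span F {a'} ≤ W' :=
        sup_le inf_le_right ((Submodule.span_singleton_le_iff_mem a' W').mpr ha')
      exact hle h
    obtain ⟨u₁, hu₁, hu₁a'⟩ := exists_hperp_not_orth hF _ a' hX
    obtain ⟨u₂, hu₂, hu₂a⟩ := exists_hperp_not_orth hF _ a hX'
    have hu₁D : ∀ d ∈ W ⊓ W', hh d u₁ = 0 := fun d hd =>
      (mem_hperp' hF _ u₁).mp hu₁ d (Submodule.mem_sup_left hd)
    have hu₂D : ∀ d ∈ W ⊓ W', hh d u₂ = 0 := fun d hd =>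
      (mem_hperp' hF _ u₂).mp hu₂ d (Submodule.mem_sup_left hd)
    have hu₁a : hh a u₁ = 0 :=
      (mem_hperp' hF _ u₁).mp hu₁ a (Submodule.mem_sup_right (Submodule.mem_span_singleton_self a))
    have hu₂a' : hh a' u₂ = 0 :=
      (mem_hperp' hF _ u₂).mp hu₂ a' (Submodule.mem_sup_right (Submodule.mem_span_singleton_self a'))
    set x₀ := u₁ + u₂ with hx₀
    have hax₀ : hh a x₀ ≠ 0 := by
      rw [hx₀, Helper13.hermForm_add_right hF, hu₁a, zero_add]
      exact hu₂a
    have ha'x₀ : hh a' x₀ ≠ 0 := by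
      rw [hx₀, Helper13.hermForm_add_right hF, hu₂a', add_zero]
      exact hu₁a'
    have haa : hh a a = 0 := hW a ha a ha
    have ha'a' : hh a' a' = 0 := hW' a' ha' a' ha'
    have haa' : hh a a' = 0 := hcase a ha a' ha'
    have ha'a : hh a' a = 0 := hermForm_eq_zero_comm hF haa'
    obtain ⟨μ, hμ⟩ := exists_isotropic_add hF x₀ a haa
      (fun h => hax₀ (hermForm_eq_zero_comm hF h))
    set b := x₀ + μ • a with hb
    have hab : hh a b ≠ 0 := by
      rw [hb, Helper13.hermForm_add_right hF, Helper13.hermForm_smul_right, haa, mul_zero, add_zero]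
      exact hax₀
    have ha'b : hh a' b ≠ 0 := by
      rw [hb, Helper13.hermForm_add_right hF, Helper13.hermForm_smul_right, ha'a, mul_zero,
        add_zero]
      exact ha'x₀
    have hDb : ∀ d ∈ W ⊓ W', hh d b = 0 := by
      intro d hd
      rw [hb, Helper13.hermForm_add_right hF, Helper13.hermForm_smul_right, hW d hd.1 a ha, hx₀,
        Helper13.hermForm_add_right hF, hu₁D d hd, hu₂D d hd]
      ring
    obtain ⟨t₁, ht₁, l₁, ht₁D, ht₁a⟩ := exists_utv_move hF (W ⊓ W') a b haa hμ hab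
      (fun d hd => hW d hd.1 a ha) hDb
    obtain ⟨t₂, ht₂, l₂, ht₂D, ht₂b⟩ := exists_utv_move hF (W ⊓ W') b a' hμ ha'a'
      (fun h => ha'b (hermForm_eq_zero_comm hF h)) hDb (fun d hd => hW' d hd.2 a' ha')
    refine ⟨t₂ * t₁, Subgroup.mul_mem _ ht₂ ht₁, a, ha, haW', ?_, ?_⟩
    · intro d hd
      rw [Units.val_mul, ← mulVec_mulVec, ht₁D d hd, ht₂D d hd]
    · rw [Units.val_mul, ← mulVec_mulVec, ht₁a, mulVec_smul, ht₂b]
      exact W'.smul_mem _ (W'.smul_mem _ ha')

theorem gl_map_finrank (g : GL (Fin n) F) (W : Submodule F (Fin n → F)) :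
    Module.finrank F (W.map (Matrix.toLin' (g : Matrix (Fin n) (Fin n) F))) =
      Module.finrank F W := by
  have hinj : Function.Injective (Matrix.toLin' (g : Matrix (Fin n) (Fin n) F)) := by
    intro x y hxy
    exact mulVec_injective_of_GL g (by simpa [Matrix.toLin'_apply] using hxy)
  exact LinearEquiv.finrank_eq (Submodule.equivMapOfInjective _ hinj _).symm

/-- The transvection group is transitive on totally isotropic subspaces of a given dimension. -/
theorem utv_transitive_ti (hF : Fintype.card F = q ^ 2) : ∀ (d : ℕ)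
    (W W' : Submodule F (Fin n → F)), (∀ u ∈ W, ∀ v ∈ W, hh u v = 0) →
    (∀ u ∈ W', ∀ v ∈ W', hh u v = 0) → Module.finrank F W = Module.finrank F W' →
    Module.finrank F W ≤ Module.finrank F (W ⊓ W' : Submodule F (Fin n → F)) + d →
    ∃ t ∈ utvGroup n q F, ∀ w ∈ W, (t : Matrix (Fin n) (Fin n) F) *ᵥ w ∈ W' := by
  intro d
  induction d with
  | zero =>
    intro W W' _ _ _ hle
    have h1 : W ⊓ W' = W := Submodule.eq_of_le_of_finrank_le inf_le_left (by omega)
    have h2 : W ≤ W' := by rw [← h1]; exact inf_le_right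
    refine ⟨1, Subgroup.one_mem _, fun w hw => ?_⟩
    rw [Units.val_one, one_mulVec]
    exact h2 hw
  | succ d ih =>
    intro W W' hW hW' hfr hle
    by_cases hWW' : W ≤ W'
    · refine ⟨1, Subgroup.one_mem _, fun w hw => ?_⟩
      rw [Units.val_one, one_mulVec]
      exact hWW' hw
    · obtain ⟨a, ha, haW'⟩ := SetLike.not_le_iff_exists.mp hWW'
      have hW'W : ¬ W' ≤ W := by
        intro h
        have : W' = W := Submodule.eq_of_le_of_finrank_le h (by omega)
        exact hWW' (by rw [this])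
      obtain ⟨a', ha', ha'W⟩ := SetLike.not_le_iff_exists.mp hW'W
      obtain ⟨t, ht, a₁, ha₁, ha₁W', htD, hta₁⟩ := exists_utv_step hF W W' hW hW' a a' ha haW'
        ha' ha'W
      have htG : t ∈ Cfsg.GU n F q := (utvGroup_le_suGL hF ht).1
      set W₁ := W.map (Matrix.toLin' (t : Matrix (Fin n) (Fin n) F)) with hW₁
      have hW₁ti : ∀ u ∈ W₁, ∀ v ∈ W₁, hh u v = 0 := by
        rintro _ ⟨u, hu, rfl⟩ _ ⟨v, hv, rfl⟩
        rw [Matrix.toLin'_apply, Matrix.toLin'_apply, GU_preserves htG]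
        exact hW u hu v hv
      have hfr₁ : Module.finrank F W₁ = Module.finrank F W := gl_map_finrank t W
      have hlt : W ⊓ W' < W₁ ⊓ W' := by
        rw [lt_iff_le_and_ne]
        constructor
        · intro x hx
          refine ⟨⟨x, hx.1, ?_⟩, hx.2⟩
          rw [Matrix.toLin'_apply]
          exact htD x hx
        · intro heq
          have h1 : (t : Matrix (Fin n) (Fin n) F) *ᵥ a₁ ∈ W₁ ⊓ W' :=
            ⟨⟨a₁, ha₁, Matrix.toLin'_apply _ _⟩, hta₁⟩
          rw [← heq] at h1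
          have h2 := htD _ h1
          have h3 : (t : Matrix (Fin n) (Fin n) F) *ᵥ a₁ = a₁ := mulVec_injective_of_GL t h2
          rw [h3] at h1
          exact ha₁W' h1.2
      have hfrlt := Submodule.finrank_lt_finrank_of_lt hlt
      obtain ⟨t', ht', ht'W⟩ := ih W₁ W' hW₁ti hW' (by omega) (by omega)
      refine ⟨t' * t, Subgroup.mul_mem _ ht' ht, fun w hw => ?_⟩
      rw [Units.val_mul, ← mulVec_mulVec]
      exact ht'W _ ⟨w, hw, Matrix.toLin'_apply _ _⟩

end uti

end Cfsg.Agent.Lib.Helper99
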