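import Cfsg.Agent.Lib.Helper99.UnitaryTI

set_option autoImplicit false

/-!
The stabilizer of a totally isotropic subspace is maximal in the special unitary group, part 2.
-/

namespace Cfsg.Agent.Lib.Helper99

open Matrix

section uti2

variable {F : Type*} [Field F] [Fintype F] {q n : ℕ}

local notation "hh" => Cfsg.hermForm n F q

/-- A torus element of `GU` stabilizing `W`, fixing the point `⟨u'⟩`, with prescribed determinant. -/
theorem exists_det_correction (hF : Fintype.card F = q ^ 2) (W : Submodule F (Fin n → F))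
    (hW : ∀ u ∈ W, ∀ v ∈ W, hh u v = 0) (u' : Fin n → F) (hu'0 : hh u' u' = 0)
    (hu' : u' ∉ hperp q W) (δ : F) (hδ : δ ^ (q + 1) = 1) :
    ∃ (d : GL (Fin n) F) (β : F), β ≠ 0 ∧ d ∈ Cfsg.GU n F q ∧
      (d : Matrix (Fin n) (Fin n) F).det = δ⁻¹ ∧
      (∀ x ∈ W, (d : Matrix (Fin n) (Fin n) F) *ᵥ x ∈ W) ∧
      (d : Matrix (Fin n) (Fin n) F) *ᵥ u' = β • u' := by
  obtain ⟨a, ha0, haq⟩ := exists_hilbert90 hF δ hδ
  have hδ0 : δ ≠ 0 := by
    rintro rfl
    rw [zero_pow (by omega)] at hδ
    exact zero_ne_one hδ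
  have haq0 : a ^ q ≠ 0 := pow_ne_zero _ ha0
  set b : F := (a ^ q)⁻¹ with hb
  have hb0 : b ≠ 0 := inv_ne_zero haq0
  have hbq : b ^ q = a⁻¹ := by rw [hb, inv_pow, Helper13.pow_q_pow_q hF]
  obtain ⟨w, hwW, hw⟩ : ∃ w ∈ W, hh w u' ≠ 0 := by
    by_contra hcon
    push Not at hcon
    exact hu' ((mem_hperp' hF W u').mpr hcon)
  set w₁ : Fin n → F := (hh w u')⁻¹ • w with hw₁
  have hw₁W : w₁ ∈ W := W.smul_mem _ hwW
  have h1 : hh w₁ u' = 1 := by
    rw [hw₁, Helper13.hermForm_smul_left, inv_mul_cancel₀ hw]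
  have h2 : hh u' w₁ = 1 := by
    rw [← Helper13.hermForm_conj hF n w₁ u', h1, one_pow]
  have h3 : hh w₁ w₁ = 0 := hW w₁ hw₁W w₁ hw₁W
  set d₁ : GL (Fin n) F := rk1GL w₁ (fun j => (a - 1) * (u' j) ^ q) with hd₁
  set d₂ : GL (Fin n) F := rk1GL u' (fun j => (b - 1) * (w₁ j) ^ q) with hd₂
  have hne₁ : 1 + (fun j => (a - 1) * (u' j) ^ q) ⬝ᵥ w₁ ≠ 0 := by
    rw [utv_dot, h1, mul_one, add_sub_cancel]
    exact ha0
  have hne₂ : 1 + (fun j => (b - 1) * (w₁ j) ^ q) ⬝ᵥ u' ≠ 0 := by
    rw [utv_dot, h2, mul_one, add_sub_cancel]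
    exact hb0
  have hd₁x : ∀ x, (d₁ : Matrix (Fin n) (Fin n) F) *ᵥ x = x + ((a - 1) * hh x u') • w₁ := by
    intro x
    rw [hd₁, coe_rk1GL _ _ hne₁, rk1_mulVec, utv_dot]
  have hd₂x : ∀ x, (d₂ : Matrix (Fin n) (Fin n) F) *ᵥ x = x + ((b - 1) * hh x w₁) • u' := by
    intro x
    rw [hd₂, coe_rk1GL _ _ hne₂, rk1_mulVec, utv_dot]
  have hdx : ∀ x, ((d₁ * d₂ : GL (Fin n) F) : Matrix (Fin n) (Fin n) F) *ᵥ x =
      x + ((b - 1) * hh x w₁) • u' + ((a - 1) * hh x u') • w₁ := by
    intro x
    rw [Units.val_mul, ← mulVec_mulVec, hd₂x, hd₁x, Helper13.hermForm_add_left,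
      Helper13.hermForm_smul_left, hu'0, mul_zero, add_zero]
  have hab1 : a * b ^ q = 1 := by rw [hbq, mul_inv_cancel₀ ha0]
  have hab2 : b * a ^ q = 1 := by rw [hb, inv_mul_cancel₀ haq0]
  refine ⟨d₁ * d₂, b, hb0, ?_, ?_, ?_, ?_⟩
  · rw [Helper13.mem_GU_iff]
    intro x y
    rw [hdx, hdx]
    simp only [Helper13.hermForm_add_left, Helper13.hermForm_add_right hF,
      Helper13.hermForm_smul_left, Helper13.hermForm_smul_right, hu'0, h1, h2, h3, mul_pow]
    have e1 : (hh y w₁) ^ q = hh w₁ y := Helper13.hermForm_conj hF n y w₁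
    have e2 : (hh y u') ^ q = hh u' y := Helper13.hermForm_conj hF n y u'
    rw [e1, e2, frob_sub hF, frob_sub hF, one_pow]
    linear_combination (hh x u' * hh w₁ y) * hab1 + (hh x w₁ * hh u' y) * hab2
  · rw [Units.val_mul, Matrix.det_mul, hd₁, hd₂, coe_rk1GL _ _ hne₁, coe_rk1GL _ _ hne₂, det_rk1,
      det_rk1, utv_dot, utv_dot, h1, h2, mul_one, mul_one, add_sub_cancel, add_sub_cancel, hb, haq]
    field_simp
  · intro x hx
    rw [hdx, hW x hx w₁ hw₁W, mul_zero, zero_smul, add_zero]
    exact W.add_mem hx (W.smul_mem _ hw₁W)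
  · rw [hdx, h2, hu'0, mul_one, mul_zero, zero_smul, add_zero]
    have : u' + (b - 1) • u' = b • u' := by
      rw [sub_smul, one_smul]
      abel
    exact this

/-- The stabilizer of a totally isotropic subspace `W` in `SU` is transitive on the isotropic
points outside the orthogonal complement of `W`. -/
theorem exists_stab_map_uti (hF : Fintype.card F = q ^ 2) (W : Submodule F (Fin n → F))
    (hW : ∀ u ∈ W, ∀ v ∈ W, hh u v = 0) (u u' : Fin n → F) (hu0 : hh u u = 0)
    (hu'0 : hh u' u' = 0) (hu : u ∉ hperp q W) (hu' : u' ∉ hperp q W) :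
    ∃ (p : GL (Fin n) F) (β : F), β ≠ 0 ∧ p ∈ suGL (F := F) n q ∧
      p ∈ Cfsg.Geo.subspaceStabilizer W ∧
      (p : Matrix (Fin n) (Fin n) F) *ᵥ u = β • u' := by
  have hWle : W ≤ hperp q W := by
    intro x hx
    rw [mem_hperp]
    intro w hw
    exact hW x hx w hw
  have huW : u ∉ W := fun h => hu (hWle h)
  have hu'W : u' ∉ W := fun h => hu' (hWle h)
  let l : Module.Dual F W := (hermB hF n u).comp W.subtype
  let l' : Module.Dual F W := (hermB hF n u').comp W.subtype
  have hl : ∀ w : W, l w = hh (w : Fin n → F) u := fun w => rfl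
  have hl' : ∀ w : W, l' w = hh (w : Fin n → F) u' := fun w => rfl
  have hl0 : l ≠ 0 := by
    intro h
    apply hu
    rw [mem_hperp' hF]
    intro w hw
    have := hl ⟨w, hw⟩
    rw [h] at this
    exact this.symm
  have hl'0 : l' ≠ 0 := by
    intro h
    apply hu'
    rw [mem_hperp' hF]
    intro w hw
    have := hl' ⟨w, hw⟩
    rw [h] at this
    exact this.symm
  obtain ⟨α, hα⟩ := exists_equiv_dual l l' hl0 hl'0
  set k := Module.finrank F W with hk
  let b : Module.Basis (Fin k) F W := Module.finBasis F W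
  let x : Fin (k + 1) → (Fin n → F) :=
    Fin.snoc (fun i => ((b i : W) : Fin n → F)) u
  let y : Fin (k + 1) → (Fin n → F) :=
    Fin.snoc (fun i => ((α (b i) : W) : Fin n → F)) u'
  have hspan : ∀ (c : Module.Basis (Fin k) F W),
      Submodule.span F (Set.range fun i => ((c i : W) : Fin n → F)) = W := by
    intro c
    have h1 : (Set.range fun i => ((c i : W) : Fin n → F)) =
        W.subtype '' (Set.range c) := by
      rw [← Set.range_comp]
      rfl
    rw [h1, ← Submodule.map_span, c.span_eq, Submodule.map_top, Submodule.range_subtype]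
  have hli : ∀ (c : Module.Basis (Fin k) F W),
      LinearIndependent F (fun i => ((c i : W) : Fin n → F)) := by
    intro c
    exact c.linearIndependent.map' W.subtype (Submodule.ker_subtype W)
  have hx : LinearIndependent F x := by
    rw [linearIndependent_finSnoc]
    refine ⟨hli b, ?_⟩
    rw [hspan b]
    exact huW
  have hy : LinearIndependent F y := by
    rw [linearIndependent_finSnoc]
    have := hli (b.map α)
    refine ⟨this, ?_⟩
    have h2 := hspan (b.map α)
    simp only [Module.Basis.map_apply] at h2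
    rw [h2]
    exact hu'W
  have hgram : ∀ i j, hermB hF n (y i) (y j) = hermB hF n (x i) (x j) := by
    intro i j
    rw [hermB_apply, hermB_apply]
    refine Fin.lastCases ?_ (fun i' => ?_) i <;> refine Fin.lastCases ?_ (fun j' => ?_) j
    · simp only [x, y, Fin.snoc_last]
      rw [hu0, hu'0]
    · simp only [x, y, Fin.snoc_last, Fin.snoc_castSucc]
      rw [← hl', ← hl, hα]
    · simp only [x, y, Fin.snoc_last, Fin.snoc_castSucc]
      rw [← Helper13.hermForm_conj hF n _ u', ← Helper13.hermForm_conj hF n _ u, ← hl', ← hl, hα]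
    · simp only [x, y, Fin.snoc_castSucc]
      rw [hW _ (b j').2 _ (b i').2, hW _ (α (b j')).2 _ (α (b i')).2]
  obtain ⟨g, hgiso, hgx⟩ := Helper8.witt_family_herm (frobU hF) (frobU_ne_id hF) (frobU_frobU hF)
    (hermB hF n) (hermB_isSymm hF) (hermB_nondegenerate hF) (k + 1) x y hx hy hgram
  have hgb : ∀ i, g ((b i : W) : Fin n → F) = ((α (b i) : W) : Fin n → F) := by
    intro i
    have := hgx i.castSucc
    simpa only [x, y, Fin.snoc_castSucc] using this
  have hgu : g u = u' := by
    have := hgx (Fin.last k)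
    simpa only [x, y, Fin.snoc_last] using this
  have hgW : ∀ w : W, g (w : Fin n → F) = ((α w : W) : Fin n → F) := by
    have : (g : (Fin n → F) →ₗ[F] (Fin n → F)).comp W.subtype =
        W.subtype.comp (α : W →ₗ[F] W) := by
      apply b.ext
      intro i
      simp only [LinearMap.comp_apply, Submodule.subtype_apply, LinearEquiv.coe_coe]
      exact hgb i
    intro w
    exact LinearMap.congr_fun this w
  have hg₀GU : glOfEquiv' g ∈ Cfsg.GU n F q := by
    rw [Helper13.mem_GU_iff]
    intro a c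
    rw [glOfEquiv'_mulVec, glOfEquiv'_mulVec]
    exact hgiso c a
  have hdet := Helper13.GU_det_pow hF n (glOfEquiv' g) hg₀GU
  obtain ⟨d, β, hβ0, hdGU, hddet, hdW, hdu'⟩ := exists_det_correction hF W hW u' hu'0 hu' _ hdet
  refine ⟨d * glOfEquiv' g, β, hβ0, ⟨Subgroup.mul_mem _ hdGU hg₀GU, ?_⟩, ?_, ?_⟩
  · show d * glOfEquiv' g ∈ Cfsg.Geo.specialLinear (Fin n) F
    rw [mem_specialLinear_iff, Units.val_mul, Matrix.det_mul, hddet]
    apply inv_mul_cancel₀
    intro h0
    rw [h0, zero_pow (by omega)] at hdet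
    exact zero_ne_one hdet
  · apply mem_subspaceStabilizer_of_forall
    intro w hw
    rw [Units.val_mul, ← mulVec_mulVec, glOfEquiv'_mulVec]
    apply hdW
    have := hgW ⟨w, hw⟩
    simp only at this
    rw [this]
    exact (α ⟨w, hw⟩).2
  · rw [Units.val_mul, ← mulVec_mulVec, glOfEquiv'_mulVec, hgu, hdu']

/-- The orthogonal complement of a totally isotropic subspace is spanned by its isotropic vectors
as soon as it contains an isotropic vector outside the subspace. -/
theorem span_isotropic_hperp (hF : Fintype.card F = q ^ 2) (W : Submodule F (Fin n → F))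
    (y : Fin n → F) (hy : y ∈ hperp q W) (hy0 : hh y y = 0) (hyW : y ∉ W) :
    ∀ x ∈ hperp q W, x ∈ Submodule.span F {z | z ∈ hperp q W ∧ hh z z = 0} := by
  set S := Submodule.span F {z | z ∈ hperp q W ∧ hh z z = 0} with hS
  have hyS : y ∈ S := Submodule.subset_span ⟨hy, hy0⟩
  have key : ∀ x ∈ hperp q W, hh x y ≠ 0 → x ∈ S := by
    intro x hx hxy
    obtain ⟨μ, hμ⟩ := exists_isotropic_add hF x y hy0 hxy
    have h1 : x + μ • y ∈ S :=
      Submodule.subset_span ⟨(hperp q W).add_mem hx ((hperp q W).smul_mem _ hy), hμ⟩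
    have : x = (x + μ • y) - μ • y := by abel
    rw [this]
    exact S.sub_mem h1 (S.smul_mem _ hyS)
  obtain ⟨z, hz, hzy⟩ := exists_hperp_not_orth hF W y hyW
  have hzy' : hh z y ≠ 0 := fun h => hzy (hermForm_eq_zero_comm hF h)
  have hzS : z ∈ S := key z hz hzy'
  intro x hx
  by_cases hxy : hh x y = 0
  · have h1 : x + z ∈ S := by
      apply key _ ((hperp q W).add_mem hx hz)
      rw [Helper13.hermForm_add_left, hxy, zero_add]
      exact hzy'
    have : x = (x + z) - z := by abel
    rw [this]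
    exact S.sub_mem h1 hzS
  · exact key x hx hxy

/-- The stabilizer of a nonzero totally isotropic subspace is maximal in the special unitary
group. -/
theorem uti_stabilizer_isMaximalIn (hF : Fintype.card F = q ^ 2) (W : Submodule F (Fin n → F))
    (hW0 : W ≠ ⊥) (hW : Cfsg.Geo.IsTotallySingularFor (Cfsg.hermForm n F q) W) :
    Cfsg.Geo.IsMaximalIn (Cfsg.GU n F q ⊓ Cfsg.Geo.specialLinear (Fin n) F)
      (Cfsg.Geo.subspaceStabilizer W ⊓ (Cfsg.GU n F q ⊓ Cfsg.Geo.specialLinear (Fin n) F)) := by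
  obtain ⟨w, hwW, hw0⟩ := W.exists_mem_ne_zero_of_ne_bot hW0
  have hWle : W ≤ hperp q W := by
    intro x hx
    rw [mem_hperp]
    intro w hw
    exact hW x hx w hw
  constructor
  · rw [lt_iff_le_and_ne]
    refine ⟨inf_le_right, fun heq => ?_⟩
    obtain ⟨x, hx⟩ : ∃ x, hh w x ≠ 0 := by
      by_contra hcon
      push Not at hcon
      exact hw0 (hermForm_nd_left hF hcon)
    have hxw : hh x w ≠ 0 := fun h => hx (hermForm_eq_zero_comm hF h)
    obtain ⟨μ, hμ⟩ := exists_isotropic_add hF x w (hW w hwW w hwW) hxw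
    set u := x + μ • w with hu
    have hwu : hh w u ≠ 0 := by
      rw [hu, Helper13.hermForm_add_right hF, Helper13.hermForm_smul_right, hW w hwW w hwW,
        mul_zero, add_zero]
      exact hx
    obtain ⟨τ, hτ0, hτ⟩ := exists_trace_zero hF
    have h1 : utv q u τ ∈ Cfsg.GU n F q ⊓ Cfsg.Geo.specialLinear (Fin n) F :=
      utv_mem_suGL hF u hμ τ hτ
    rw [← heq] at h1
    have h2 := ((mem_subspaceStabilizer_iff W _).mp h1.1 w).mp hwW
    rw [utv_mulVec u hμ] at h2
    have h3 : (τ * hh w u) • u ∈ W := by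
      have : (τ * hh w u) • u = (w + (τ * hh w u) • u) - w := by abel
      rw [this]
      exact W.sub_mem h2 hwW
    have hne : τ * hh w u ≠ 0 := mul_ne_zero hτ0 hwu
    have h4 : u ∈ W := by
      have : u = (τ * hh w u)⁻¹ • ((τ * hh w u) • u) := by
        rw [smul_smul, inv_mul_cancel₀ hne, one_smul]
      rw [this]
      exact W.smul_mem _ h3
    exact hwu (hW w hwW u h4)
  · intro M hPM hMS
    by_cases hMP : M ≤ Cfsg.Geo.subspaceStabilizer W ⊓
        (Cfsg.GU n F q ⊓ Cfsg.Geo.specialLinear (Fin n) F)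
    · left
      exact le_antisymm hMP hPM
    · right
      obtain ⟨g, hgM, hgP⟩ := SetLike.not_le_iff_exists.mp hMP
      have hgS := hMS hgM
      have hgGU : g ∈ Cfsg.GU n F q := hgS.1
      have hgW : g ∉ Cfsg.Geo.subspaceStabilizer W := fun h => hgP ⟨h, hgS⟩
      obtain ⟨w₀, hw₀, hgw₀⟩ : ∃ w₀ ∈ W,
          (g : Matrix (Fin n) (Fin n) F) *ᵥ w₀ ∉ W := by
        by_contra h
        push Not at h
        exact hgW (mem_subspaceStabilizer_of_forall W g h)
      -- the set `Z`
      have Z1 : ∀ u ∈ hperp q W, hh u u = 0 → ∀ c, c + c ^ q = 0 → utv q u c ∈ M := by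
        intro u hu hu0 c hc
        exact hPM ⟨utv_mem_stabilizer_of_perp W u hu0 c ((mem_hperp' hF W u).mp hu),
          utv_mem_suGL hF u hu0 c hc⟩
      have Z2 : ∀ h ∈ M, ∀ u, hh u u = 0 → (∀ c, c + c ^ q = 0 → utv q u c ∈ M) →
          ∀ c, c + c ^ q = 0 →
          utv q ((h : Matrix (Fin n) (Fin n) F) *ᵥ u) c ∈ M := by
        intro h hh' u hu0 hu c hc
        rw [← conj_utv h (hMS hh').1 u hu0 c]
        exact M.mul_mem (M.mul_mem hh' (hu c hc)) (M.inv_mem hh')
      have Z3 : ∀ (β : F), β ≠ 0 → ∀ u, hh u u = 0 →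
          (∀ c, c + c ^ q = 0 → utv q (β • u) c ∈ M) →
          ∀ c, c + c ^ q = 0 → utv q u c ∈ M := by
        intro β hβ u hu0 hu c hc
        have hN0 : β ^ (q + 1) ≠ 0 := pow_ne_zero _ hβ
        have hNq : (β ^ (q + 1)) ^ q = β ^ (q + 1) := by
          have e1 : (β ^ (q + 1)) ^ q = (β ^ q) ^ (q + 1) := by
            rw [← pow_mul, ← pow_mul, mul_comm]
          rw [e1, pow_succ (β ^ q), Helper13.pow_q_pow_q hF, pow_succ]
          ring
        have hc' : c * (β ^ (q + 1))⁻¹ + (c * (β ^ (q + 1))⁻¹) ^ q = 0 := by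
          rw [mul_pow, inv_pow, hNq, ← add_mul, hc, zero_mul]
        have := hu _ hc'
        rw [utv_smul u hu0, inv_mul_cancel_right₀ hN0] at this
        exact this
      -- an isotropic vector of `W^⊥` moved outside `W^⊥`
      obtain ⟨u₁, hu₁, hu₁0, hgu₁⟩ : ∃ u₁ ∈ hperp q W, hh u₁ u₁ = 0 ∧
          (g : Matrix (Fin n) (Fin n) F) *ᵥ u₁ ∉ hperp q W := by
        by_contra hcon
        push Not at hcon
        by_cases hcase : ∃ y ∈ hperp q W, hh y y = 0 ∧ y ∉ W
        · obtain ⟨y, hy, hy0, hyW⟩ := hcase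
          have hspan := span_isotropic_hperp hF W y hy hy0 hyW
          have hall : ∀ x ∈ hperp q W, (g : Matrix (Fin n) (Fin n) F) *ᵥ x ∈ hperp q W := by
            intro x hx
            have hle : Submodule.span F {z | z ∈ hperp q W ∧ hh z z = 0} ≤
                (hperp q W).comap (Matrix.toLin' (g : Matrix (Fin n) (Fin n) F)) := by
              rw [Submodule.span_le]
              rintro z ⟨hz, hz0⟩
              show Matrix.toLin' (g : Matrix (Fin n) (Fin n) F) z ∈ hperp q W
              rw [Matrix.toLin'_apply]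
              exact hcon z hz hz0
            have := hle (hspan x hx)
            rw [Submodule.mem_comap, Matrix.toLin'_apply] at this
            exact this
          have hgst := mem_subspaceStabilizer_of_forall (hperp q W) g hall
          apply hgw₀
          rw [← hperp_hperp hF W, mem_hperp]
          intro y' hy'
          have hy'' : ((g⁻¹ : GL (Fin n) F) : Matrix (Fin n) (Fin n) F) *ᵥ y' ∈ hperp q W := by
            rw [(mem_subspaceStabilizer_iff (hperp q W) g).mp hgst, gl_mulVec_inv_mulVec]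
            exact hy'
          have h1 := GU_preserves hgGU w₀
            (((g⁻¹ : GL (Fin n) F) : Matrix (Fin n) (Fin n) F) *ᵥ y')
          rw [gl_mulVec_inv_mulVec] at h1
          rw [h1]
          exact (mem_hperp' hF W _).mp hy'' w₀ hw₀
        · push Not at hcase
          apply hgw₀
          apply hcase
          · exact hcon w₀ (hWle hw₀) (hW w₀ hw₀ w₀ hw₀)
          · rw [GU_preserves hgGU]
            exact hW w₀ hw₀ w₀ hw₀
      have hgu₁0 : hh ((g : Matrix (Fin n) (Fin n) F) *ᵥ u₁)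
          ((g : Matrix (Fin n) (Fin n) F) *ᵥ u₁) = 0 := by
        rw [GU_preserves hgGU, hu₁0]
      have hall : ∀ u, hh u u = 0 → ∀ c, c + c ^ q = 0 → utv q u c ∈ M := by
        intro u hu0 c hc
        by_cases hu : u ∈ hperp q W
        · exact Z1 u hu hu0 c hc
        · obtain ⟨p, β, hβ0, hpS, hpW, hpu⟩ := exists_stab_map_uti hF W hW _ u hgu₁0 hu0 hgu₁ hu
          have hpM : p ∈ M := hPM ⟨hpW, hpS⟩
          apply Z3 β hβ0 u hu0 _ c hc
          intro c' hc'
          rw [← hpu]
          exact Z2 p hpM _ hgu₁0 (Z2 g hgM u₁ hu₁0 (Z1 u₁ hu₁ hu₁0)) c' hc'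
      have hTM : utvGroup n q F ≤ M := by
        unfold utvGroup
        rw [Subgroup.closure_le]
        rintro t ⟨u, c, hu0, hc, rfl⟩
        exact hall u hu0 c hc
      apply le_antisymm hMS
      intro x hx
      have hxGU : x ∈ Cfsg.GU n F q := hx.1
      set W' := W.map (Matrix.toLin' (x : Matrix (Fin n) (Fin n) F)) with hW'
      have hW'ti : ∀ u ∈ W', ∀ v ∈ W', hh u v = 0 := by
        rintro _ ⟨u, hu, rfl⟩ _ ⟨v, hv, rfl⟩
        rw [Matrix.toLin'_apply, Matrix.toLin'_apply, GU_preserves hxGU]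
        exact hW u hu v hv
      have hfr : Module.finrank F W' = Module.finrank F W := gl_map_finrank x W
      obtain ⟨t, ht, htW⟩ := utv_transitive_ti hF (Module.finrank F W') W' W hW'ti hW hfr
        (by omega)
      have htx : t * x ∈ Cfsg.Geo.subspaceStabilizer W ⊓
          (Cfsg.GU n F q ⊓ Cfsg.Geo.specialLinear (Fin n) F) := by
        refine ⟨?_, Subgroup.mul_mem _ (utvGroup_le_suGL hF ht) hx⟩
        apply mem_subspaceStabilizer_of_forall
        intro w hw
        rw [Units.val_mul, ← mulVec_mulVec]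
        exact htW _ ⟨w, hw, Matrix.toLin'_apply _ _⟩
      have : x = t⁻¹ * (t * x) := by group
      rw [this]
      exact M.mul_mem (M.inv_mem (hTM ht)) (hPM htx)

end uti2

end Cfsg.Agent.Lib.Helper99
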