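import Cfsg.Agent.Lib.Helper99.SympBlocks

set_option autoImplicit false

namespace Cfsg.Agent.Lib.Helper99

open Matrix

section Form

variable {F : Type*} [Field F] (d : ℕ)

theorem sympForm_expand (u v : Fin d ⊕ Fin d → F) :
    Cfsg.sympForm d F u v =
      ∑ i : Fin d, (u (Sum.inr i) * v (Sum.inl i) - u (Sum.inl i) * v (Sum.inr i)) := by
  unfold Cfsg.sympForm Matrix.J
  simp only [dotProduct, Fintype.sum_sum_type, mulVec, fromBlocks_apply₁₁, fromBlocks_apply₁₂,
    fromBlocks_apply₂₁, fromBlocks_apply₂₂, Matrix.zero_apply, Matrix.neg_apply, Matrix.one_apply,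
    zero_mul, Finset.sum_const_zero, zero_add, add_zero, ite_mul, one_mul, neg_mul,
    Finset.sum_neg_distrib, Finset.sum_ite_eq, Finset.mem_univ, if_true, mul_neg]
  rw [Finset.sum_sub_distrib]
  ring

/-- The symplectic form as a bilinear map. -/
noncomputable def sympB : (Fin d ⊕ Fin d → F) →ₗ[F] (Fin d ⊕ Fin d → F) →ₗ[F] F :=
  Matrix.toBilin' (Matrix.J (Fin d) F)

theorem sympB_apply (u v : Fin d ⊕ Fin d → F) : sympB d u v = Cfsg.sympForm d F u v := by
  unfold sympB Cfsg.sympForm
  rw [Matrix.toBilin'_apply']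

theorem sympB_self (v : Fin d ⊕ Fin d → F) : sympB d v v = 0 := by
  rw [sympB_apply, sympForm_expand]
  apply Finset.sum_eq_zero
  intro i _
  ring

theorem sympB_nd : Nd (sympB (F := F) d) ⊤ := by
  intro u _ hu
  ext i
  rcases i with i | i
  · have := hu (Pi.single (Sum.inr i) 1) Submodule.mem_top
    rw [sympB_apply, sympForm_expand] at this
    simp only [Pi.single_apply, reduceCtorEq, if_false, mul_zero, zero_sub, Sum.inr.injEq,
      mul_ite, mul_one, Finset.sum_neg_distrib, neg_eq_zero] at this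
    simpa using this
  · have := hu (Pi.single (Sum.inl i) 1) Submodule.mem_top
    rw [sympB_apply, sympForm_expand] at this
    simp only [Pi.single_apply, reduceCtorEq, if_false, mul_zero, sub_zero, Sum.inl.injEq,
      mul_ite, mul_one] at this
    simpa using this

theorem sympB_preserved (A : Matrix (Fin d ⊕ Fin d) (Fin d ⊕ Fin d) F)
    (hA : A ∈ Matrix.symplecticGroup (Fin d) F) (u v : Fin d ⊕ Fin d → F) :
    sympB d (Matrix.toLin' A u) (Matrix.toLin' A v) = sympB d u v := by
  rw [sympB_apply, sympB_apply, Matrix.toLin'_apply, Matrix.toLin'_apply]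
  rw [SymplecticGroup.mem_iff'] at hA
  unfold Cfsg.sympForm
  rw [mulVec_mulVec, dotProduct_mulVec, ← vecMul_transpose, vecMul_vecMul, ← Matrix.mul_assoc, hA,
    ← dotProduct_mulVec]

end Form

end Cfsg.Agent.Lib.Helper99
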