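import Cfsg.Agent.Lib.Helper99.SubspaceMax
import Cfsg.Agent.Lib.Helper99.SympForm
import Cfsg.Agent.Lib.Helper13.SympGen2
import Cfsg.Agent.Lib.Helper8.WittAlt

set_option autoImplicit false

/-!
Maximality of stabilizers of subspaces in the symplectic group: shared infrastructure.
-/

namespace Cfsg.Agent.Lib.Helper99

open Matrix

section sp

variable {F : Type*} [Field F] (m : ℕ)

/-- The symplectic group, mapped to `GL`. -/
noncomputable def spToGL : Matrix.symplecticGroup (Fin m) F →* GL (Fin m ⊕ Fin m) F :=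
  (Matrix.symplecticGroup (Fin m) F).subtype.toHomUnits

theorem coe_spToGL (A : Matrix.symplecticGroup (Fin m) F) :
    ((spToGL m A : GL (Fin m ⊕ Fin m) F) : Matrix (Fin m ⊕ Fin m) (Fin m ⊕ Fin m) F) =
      (A : Matrix (Fin m ⊕ Fin m) (Fin m ⊕ Fin m) F) := rfl

theorem mem_spGL_iff (g : GL (Fin m ⊕ Fin m) F) :
    g ∈ Cfsg.spGL m F ↔ ∀ u v, Cfsg.sympForm m F
      ((g : Matrix (Fin m ⊕ Fin m) (Fin m ⊕ Fin m) F) *ᵥ u)
      ((g : Matrix (Fin m ⊕ Fin m) (Fin m ⊕ Fin m) F) *ᵥ v) = Cfsg.sympForm m F u v := Iff.rfl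

theorem spToGL_mem (A : Matrix.symplecticGroup (Fin m) F) : spToGL m A ∈ Cfsg.spGL m F := by
  rw [mem_spGL_iff]
  intro u v
  rw [coe_spToGL]
  exact Helper13.preserves_of_mem_symplectic m _ A.2 u v

/-- A symplectic transvection, as an element of `GL`. -/
noncomputable def stv (u : Fin m ⊕ Fin m → F) (c : F) : GL (Fin m ⊕ Fin m) F :=
  spToGL m (Helper13.sympTransvElt m u c)

theorem stv_mulVec (u : Fin m ⊕ Fin m → F) (c : F) (x : Fin m ⊕ Fin m → F) :
    ((stv m u c : GL (Fin m ⊕ Fin m) F) : Matrix (Fin m ⊕ Fin m) (Fin m ⊕ Fin m) F) *ᵥ x =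
      x + (c * Cfsg.sympForm m F x u) • u := by
  unfold stv
  rw [coe_spToGL, Helper13.coe_sympTransvElt, Helper13.sympTransvection_mulVec]

theorem stv_mem_spGL (u : Fin m ⊕ Fin m → F) (c : F) : stv m u c ∈ Cfsg.spGL m F :=
  spToGL_mem m _

/-- A subgroup of `spGL` containing all symplectic transvections is `spGL`. -/
theorem eq_spGL_of_stv_mem (M : Subgroup (GL (Fin m ⊕ Fin m) F)) (hM : M ≤ Cfsg.spGL m F)
    (h : ∀ u c, stv m u c ∈ M) : M = Cfsg.spGL m F := by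
  apply le_antisymm hM
  have H : M.comap (spToGL m) = ⊤ := by
    rw [eq_top_iff, ← Helper13.sympTransvSubgroup_eq_top (F := F) m]
    unfold Helper13.sympTransvSubgroup
    rw [Subgroup.closure_le]
    rintro A ⟨w, c, hA⟩
    have : A = Helper13.sympTransvElt m w c := Subtype.ext hA
    rw [this]
    exact h w c
  intro x hx
  have hx' : (x : Matrix (Fin m ⊕ Fin m) (Fin m ⊕ Fin m) F) ∈
      Matrix.symplecticGroup (Fin m) F :=
    Helper13.mem_symplectic_of_preserves m _ ((mem_spGL_iff m x).mp hx)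
  let y : Matrix.symplecticGroup (Fin m) F := ⟨(x : Matrix _ _ F), hx'⟩
  have hxy : x = spToGL m y := Units.ext rfl
  rw [hxy]
  have hmem : y ∈ M.comap (spToGL m) := by rw [H]; trivial
  exact hmem

theorem inv_mulVec_mulVec (g : GL (Fin m ⊕ Fin m) F) (x : Fin m ⊕ Fin m → F) :
    ((g⁻¹ : GL (Fin m ⊕ Fin m) F) : Matrix (Fin m ⊕ Fin m) (Fin m ⊕ Fin m) F) *ᵥ
      ((g : Matrix (Fin m ⊕ Fin m) (Fin m ⊕ Fin m) F) *ᵥ x) = x := by
  rw [mulVec_mulVec, ← Units.val_mul, inv_mul_cancel, Units.val_one, one_mulVec]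

theorem mulVec_inv_mulVec (g : GL (Fin m ⊕ Fin m) F) (x : Fin m ⊕ Fin m → F) :
    (g : Matrix (Fin m ⊕ Fin m) (Fin m ⊕ Fin m) F) *ᵥ
      (((g⁻¹ : GL (Fin m ⊕ Fin m) F) : Matrix (Fin m ⊕ Fin m) (Fin m ⊕ Fin m) F) *ᵥ x) = x := by
  rw [mulVec_mulVec, ← Units.val_mul, mul_inv_cancel, Units.val_one, one_mulVec]

/-- Conjugating a symplectic transvection by an isometry. -/
theorem conj_stv (g : GL (Fin m ⊕ Fin m) F) (hg : g ∈ Cfsg.spGL m F) (u : Fin m ⊕ Fin m → F)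
    (c : F) :
    g * stv m u c * g⁻¹ =
      stv m ((g : Matrix (Fin m ⊕ Fin m) (Fin m ⊕ Fin m) F) *ᵥ u) c := by
  apply Units.ext
  rw [Matrix.ext_iff_mulVec]
  intro x
  rw [Units.val_mul, Units.val_mul, ← mulVec_mulVec, ← mulVec_mulVec, stv_mulVec, stv_mulVec,
    mulVec_add, mulVec_smul, mulVec_inv_mulVec]
  have h1 := (mem_spGL_iff m g).mp hg
      (((g⁻¹ : GL (Fin m ⊕ Fin m) F) : Matrix (Fin m ⊕ Fin m) (Fin m ⊕ Fin m) F) *ᵥ x) u
  rw [mulVec_inv_mulVec] at h1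
  rw [h1]

theorem stv_mem_stabilizer_of_mem (W : Submodule F (Fin m ⊕ Fin m → F))
    (u : Fin m ⊕ Fin m → F) (c : F) (hu : u ∈ W) :
    stv m u c ∈ Cfsg.Geo.subspaceStabilizer W := by
  apply mem_subspaceStabilizer_of_forall
  intro x hx
  rw [stv_mulVec]
  exact W.add_mem hx (W.smul_mem _ hu)

theorem stv_mem_stabilizer_of_perp (W : Submodule F (Fin m ⊕ Fin m → F))
    (u : Fin m ⊕ Fin m → F) (c : F) (hu : ∀ w ∈ W, Cfsg.sympForm m F w u = 0) :
    stv m u c ∈ Cfsg.Geo.subspaceStabilizer W := by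
  apply mem_subspaceStabilizer_of_forall
  intro x hx
  rw [stv_mulVec, hu x hx, mul_zero, zero_smul, add_zero]
  exact hx

/-- The element of `GL` attached to a linear equivalence. -/
noncomputable def glOfEquiv (e : (Fin m ⊕ Fin m → F) ≃ₗ[F] (Fin m ⊕ Fin m → F)) :
    GL (Fin m ⊕ Fin m) F :=
  ⟨LinearMap.toMatrix' e.toLinearMap, LinearMap.toMatrix' e.symm.toLinearMap, by
    rw [← LinearMap.toMatrix'_comp]
    simp, by
    rw [← LinearMap.toMatrix'_comp]
    simp⟩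

theorem glOfEquiv_mulVec (e : (Fin m ⊕ Fin m → F) ≃ₗ[F] (Fin m ⊕ Fin m → F))
    (x : Fin m ⊕ Fin m → F) :
    ((glOfEquiv m e : GL (Fin m ⊕ Fin m) F) : Matrix (Fin m ⊕ Fin m) (Fin m ⊕ Fin m) F) *ᵥ x =
      e x :=
  LinearMap.toMatrix'_mulVec _ _

theorem sympB_isAlt : (sympB (F := F) m).IsAlt := fun v => sympB_self m v

theorem sympB_isRefl : LinearMap.BilinForm.IsRefl (sympB (F := F) m) :=
  LinearMap.BilinForm.IsAlt.isRefl (sympB_isAlt m)

theorem sympB_nondegenerate : LinearMap.BilinForm.Nondegenerate (sympB (F := F) m) := by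
  have h1 : ∀ x : Fin m ⊕ Fin m → F, (∀ y, sympB m x y = 0) → x = 0 := by
    intro x hx
    exact sympB_nd m x Submodule.mem_top (fun v _ => hx v)
  refine ⟨h1, ?_⟩
  intro y hy
  apply h1
  intro x
  have := (sympB_isAlt (F := F) m).neg x y
  rw [← this, hy x, neg_zero]

/-- The orthogonal complement for the symplectic form. -/
noncomputable def sperp (W : Submodule F (Fin m ⊕ Fin m → F)) : Submodule F (Fin m ⊕ Fin m → F) :=
  LinearMap.BilinForm.orthogonal (sympB m) W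

theorem mem_sperp (W : Submodule F (Fin m ⊕ Fin m → F)) (x : Fin m ⊕ Fin m → F) :
    x ∈ sperp m W ↔ ∀ w ∈ W, Cfsg.sympForm m F w x = 0 := by
  unfold sperp
  rw [LinearMap.BilinForm.mem_orthogonal_iff]
  constructor
  · intro h w hw
    rw [← sympB_apply]
    exact h w hw
  · intro h w hw
    show sympB m w x = 0
    rw [sympB_apply]
    exact h w hw

theorem sperp_sperp (W : Submodule F (Fin m ⊕ Fin m → F)) : sperp m (sperp m W) = W :=
  LinearMap.BilinForm.orthogonal_orthogonal (sympB_nondegenerate m) (sympB_isRefl m) W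

end sp

end Cfsg.Agent.Lib.Helper99
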