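import Cfsg.Agent.Lib.Helper99.UnitaryTI2

set_option autoImplicit false

/-!
Nondegenerate subspaces of a finite unitary space: toolkit.
-/

namespace Cfsg.Agent.Lib.Helper99

open Matrix

section und1

variable {F : Type*} [Field F] [Fintype F] {q n : ℕ}

local notation "hh" => Cfsg.hermForm n F q

/-- One-sided nondegeneracy of the hermitian form on a subspace. -/
def NdOn (q : ℕ) (U : Submodule F (Fin n → F)) : Prop :=
  ∀ u ∈ U, u ≠ 0 → ∃ x ∈ U, Cfsg.hermForm n F q x u ≠ 0

theorem ndOn_of_isNondegenerateOn {U : Submodule F (Fin n → F)}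
    (h : Cfsg.Geo.IsNondegenerateOn (Cfsg.hermForm n F q) U) : NdOn q U :=
  fun u hu hu0 => (h u hu hu0).1

theorem NdOn.exists_right (hF : Fintype.card F = q ^ 2) {U : Submodule F (Fin n → F)}
    (h : NdOn q U) {u : Fin n → F} (hu : u ∈ U) (hu0 : u ≠ 0) : ∃ x ∈ U, hh u x ≠ 0 := by
  obtain ⟨x, hx, hne⟩ := h u hu hu0
  exact ⟨x, hx, fun h0 => hne (hermForm_eq_zero_comm hF h0)⟩

theorem nd_disjoint (hF : Fintype.card F = q ^ 2) {U : Submodule F (Fin n → F)}
    (h : NdOn q U) : Disjoint U (hperp q U) := by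
  rw [Submodule.disjoint_def]
  intro x hx hx'
  by_contra h0
  obtain ⟨y, hy, hne⟩ := h x hx h0
  exact hne ((mem_hperp' hF U x).mp hx' y hy)

theorem nd_decomp (hF : Fintype.card F = q ^ 2) {U : Submodule F (Fin n → F)}
    (h : NdOn q U) (v : Fin n → F) : ∃ a ∈ U, ∃ b ∈ hperp q U, a + b = v := by
  let BU : U →ₛₗ[frobU hF] U →ₗ[F] F := (hermB hF n).domRestrict₁₂ U U
  have hBU : ∀ x y : U, BU x y = hh (y : Fin n → F) (x : Fin n → F) := fun x y => rfl
  have hnd : BU.Nondegenerate := by
    constructor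
    · intro x hx
      by_contra hx0
      have hx0' : (x : Fin n → F) ≠ 0 := fun h => hx0 (Subtype.ext h)
      obtain ⟨y, hy, hne⟩ := h x x.2 hx0'
      exact hne (hx ⟨y, hy⟩)
    · intro y hy
      by_contra hy0
      have hy0' : (y : Fin n → F) ≠ 0 := fun h => hy0 (Subtype.ext h)
      obtain ⟨x, hx, hne⟩ := NdOn.exists_right hF h y.2 hy0'
      exact hne (hy ⟨x, hx⟩)
  let l : Module.Dual F U := (hermB hF n v).comp U.subtype
  obtain ⟨a, ha⟩ := Helper8.herm_riesz (frobU hF) (frobU_frobU hF) BU hnd l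
  refine ⟨a, a.2, v - a, ?_, by abel⟩
  rw [mem_hperp' hF]
  intro w hw
  have h1 : hh w (a : Fin n → F) = hh w v := ha ⟨w, hw⟩
  rw [hermForm_sub_right hF, h1, sub_self]

theorem nd_isCompl (hF : Fintype.card F = q ^ 2) {U : Submodule F (Fin n → F)}
    (h : NdOn q U) : IsCompl U (hperp q U) := by
  refine ⟨nd_disjoint hF h, ?_⟩
  rw [codisjoint_iff, eq_top_iff]
  intro v _
  obtain ⟨a, ha, b, hb, hab⟩ := nd_decomp hF h v
  rw [← hab]
  exact Submodule.add_mem_sup ha hb

theorem nd_finrank (hF : Fintype.card F = q ^ 2) {U : Submodule F (Fin n → F)}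
    (h : NdOn q U) : Module.finrank F U + Module.finrank F (hperp q U) = n := by
  rw [Submodule.finrank_add_eq_of_isCompl (nd_isCompl hF h), Module.finrank_fin_fun]

theorem nd_hperp (hF : Fintype.card F = q ^ 2) {U : Submodule F (Fin n → F)}
    (h : NdOn q U) : NdOn q (hperp q U) := by
  intro b hb hb0
  obtain ⟨x, hx⟩ : ∃ x, hh x b ≠ 0 := by
    by_contra hcon
    push Not at hcon
    exact hb0 (hermForm_nd_right hF hcon)
  obtain ⟨a, ha, b', hb', hab⟩ := nd_decomp hF h x
  refine ⟨b', hb', ?_⟩
  rw [← hab, Helper13.hermForm_add_left, (mem_hperp' hF U b).mp hb a ha, zero_add] at hx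
  exact hx

/-- Surjectivity of the norm onto the fixed field. -/
theorem exists_norm_eq (hF : Fintype.card F = q ^ 2) (s : F) (hs : s ^ q = s) :
    ∃ l : F, l ^ (q + 1) = s := by
  classical
  by_cases hs0 : s = 0
  · exact ⟨0, by rw [hs0, zero_pow (by omega)]⟩
  have hq := q_ge_two hF
  obtain ⟨g, hg⟩ := IsCyclic.exists_generator (α := Fˣ)
  have hord : orderOf g = q ^ 2 - 1 := by
    rw [orderOf_eq_card_of_forall_mem_zpowers hg, Nat.card_eq_fintype_card, Fintype.card_units, hF]
  let su : Fˣ := Units.mk0 s hs0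
  obtain ⟨j, hj⟩ : ∃ j : ℕ, g ^ j = su := by
    have := hg su
    rw [← mem_powers_iff_mem_zpowers] at this
    exact this
  have h1 : su ^ (q - 1) = 1 := by
    apply Units.ext
    rw [Units.val_pow_eq_pow_val, Units.val_one]
    show s ^ (q - 1) = 1
    have h3 : s ^ (q - 1) * s = s := by
      rw [← pow_succ, Nat.sub_add_cancel (by omega)]
      exact hs
    have h4 : (s ^ (q - 1) - 1) * s = 0 := by rw [sub_mul, h3, one_mul, sub_self]
    rcases mul_eq_zero.mp h4 with h | h
    · exact sub_eq_zero.mp h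
    · exact absurd h hs0
  have h2 : g ^ (j * (q - 1)) = 1 := by rw [pow_mul, hj, h1]
  have h3 : (q ^ 2 - 1) ∣ j * (q - 1) := by
    rw [← hord]
    exact orderOf_dvd_of_pow_eq_one h2
  have h4 : q ^ 2 - 1 = (q + 1) * (q - 1) := by
    obtain ⟨r, rfl⟩ : ∃ r, q = r + 1 := ⟨q - 1, by omega⟩
    have : (r + 1) ^ 2 = (r + 1 + 1) * r + 1 := by ring
    rw [this]
    simp
  rw [h4] at h3
  have h5 : (q + 1) ∣ j := Nat.dvd_of_mul_dvd_mul_right (by omega : 0 < q - 1) h3
  obtain ⟨m, rfl⟩ := h5
  refine ⟨((g ^ m : Fˣ) : F), ?_⟩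
  have h6 : (g ^ m) ^ (q + 1) = su := by rw [← pow_mul, mul_comm, hj]
  have h7 := congrArg Units.val h6
  rw [Units.val_pow_eq_pow_val] at h7
  exact h7

/-- A subspace all of whose vectors are isotropic is totally isotropic. -/
theorem ti_of_forall_isotropic (hF : Fintype.card F = q ^ 2) (Y : Submodule F (Fin n → F))
    (h : ∀ z ∈ Y, hh z z = 0) : ∀ u ∈ Y, ∀ v ∈ Y, hh u v = 0 := by
  intro u hu v hv
  obtain ⟨μ, hμ⟩ := exists_pow_q_ne (F := F) hF
  have key : ∀ l : F, l ^ q * hh u v + l * hh v u = 0 := by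
    intro l
    have h1 := h (u + l • v) (Y.add_mem hu (Y.smul_mem _ hv))
    rw [Helper13.hermForm_add_left, Helper13.hermForm_add_right hF, Helper13.hermForm_add_right hF,
      Helper13.hermForm_smul_left, Helper13.hermForm_smul_left, Helper13.hermForm_smul_right,
      Helper13.hermForm_smul_right, h u hu, h v hv] at h1
    linear_combination h1
  have h1 := key 1
  rw [one_pow, one_mul, one_mul] at h1
  have h2 := key μ
  have h3 : (μ ^ q - μ) * hh u v = 0 := by linear_combination h2 - μ * h1
  rcases mul_eq_zero.mp h3 with h4 | h4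
  · exact absurd (sub_eq_zero.mp h4) hμ
  · exact h4

theorem span_basis_eq (S : Submodule F (Fin n → F)) {k : ℕ} (c : Module.Basis (Fin k) F S) :
    Submodule.span F (Set.range fun i => ((c i : S) : Fin n → F)) = S := by
  have h1 : (Set.range fun i => ((c i : S) : Fin n → F)) = S.subtype '' (Set.range c) := by
    rw [← Set.range_comp]
    rfl
  rw [h1, ← Submodule.map_span, c.span_eq, Submodule.map_top, Submodule.range_subtype]

/-- Prescribing the inner products against a basis of a subspace. -/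
theorem exists_hermForm_eq (hF : Fintype.card F = q ^ 2) (S : Submodule F (Fin n → F)) {k : ℕ}
    (b : Module.Basis (Fin k) F S) (c : Fin k → F) :
    ∃ x : Fin n → F, ∀ i, hh x ((b i : S) : Fin n → F) = c i := by
  let l' : S →ₗ[F] F := b.constr F (fun i => (c i) ^ q)
  obtain ⟨l, hl⟩ := LinearMap.exists_extend l'
  obtain ⟨u, hu⟩ := Helper8.herm_riesz (frobU hF) (frobU_frobU hF) (hermB hF n)
    (hermB_nondegenerate hF) l
  refine ⟨u, fun i => ?_⟩
  have h1 : hh ((b i : S) : Fin n → F) u = (c i) ^ q := by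
    have h2 := hu ((b i : S) : Fin n → F)
    rw [hermB_apply] at h2
    rw [h2]
    have h3 : l ((b i : S) : Fin n → F) = (l.comp S.subtype) (b i) := rfl
    rw [h3, hl]
    exact b.constr_basis F _ i
  rw [← Helper13.hermForm_conj hF n _ u, h1, Helper13.pow_q_pow_q hF]

/-- The dimension of the orthogonal complement. -/
theorem finrank_hperp (hF : Fintype.card F = q ^ 2) (S : Submodule F (Fin n → F)) :
    Module.finrank F (hperp q S) + Module.finrank F S = n := by
  set k := Module.finrank F S with hk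
  let b : Module.Basis (Fin k) F S := Module.finBasis F S
  let L : (Fin n → F) →ₗ[F] (Fin k → F) :=
    LinearMap.pi (fun i => hermB hF n ((b i : S) : Fin n → F))
  have hL : ∀ x i, L x i = hh x ((b i : S) : Fin n → F) := fun x i => rfl
  have hker : LinearMap.ker L = hperp q S := by
    ext x
    rw [LinearMap.mem_ker, mem_hperp]
    constructor
    · intro hx w hw
      have key : ∀ w ∈ Submodule.span F (Set.range fun i => ((b i : S) : Fin n → F)),
          hh x w = 0 := by
        intro w hwspan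
        induction hwspan using Submodule.span_induction with
        | mem z hz =>
          obtain ⟨i, rfl⟩ := hz
          have := congrFun hx i
          rw [hL] at this
          exact this
        | zero => exact hermForm_zero_right hF x
        | add a c _ _ ha hc => rw [Helper13.hermForm_add_right hF, ha, hc, add_zero]
        | smul c a _ ha => rw [Helper13.hermForm_smul_right, ha, mul_zero]
      exact key w (by rw [span_basis_eq S b]; exact hw)
    · intro hx
      funext i
      rw [hL]
      exact hx _ (b i).2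
  have hrange : LinearMap.range L = ⊤ := by
    rw [eq_top_iff]
    intro c _
    obtain ⟨x, hx⟩ := exists_hermForm_eq hF S b c
    exact ⟨x, funext fun i => by rw [hL]; exact hx i⟩
  have := LinearMap.finrank_range_add_finrank_ker L
  rw [hrange, hker, finrank_top, Module.finrank_fin_fun, Module.finrank_fin_fun] at this
  omega

/-- A totally isotropic subspace of a nondegenerate subspace has at most half its dimension. -/
theorem ti_finrank_le (hF : Fintype.card F = q ^ 2) {U : Submodule F (Fin n → F)}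
    (h : NdOn q U) (Y : Submodule F (Fin n → F)) (hYU : Y ≤ U)
    (hY : ∀ u ∈ Y, ∀ v ∈ Y, hh u v = 0) : 2 * Module.finrank F Y ≤ Module.finrank F U := by
  have h1 : Y ⊔ hperp q U ≤ hperp q Y := by
    apply sup_le
    · intro y hy
      rw [mem_hperp]
      intro w hw
      exact hY y hy w hw
    · intro z hz
      rw [mem_hperp]
      intro w hw
      exact (mem_hperp U z).mp hz w (hYU hw)
  have h2 : Y ⊓ hperp q U = ⊥ := by
    rw [eq_bot_iff]
    intro x hx
    have := (Submodule.disjoint_def.mp (nd_disjoint hF h)) x (hYU hx.1) hx.2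
    rw [this]
    exact Submodule.zero_mem _
  have h3 := Submodule.finrank_sup_add_finrank_inf_eq Y (hperp q U)
  rw [h2, finrank_bot, add_zero] at h3
  have h4 := Submodule.finrank_mono h1
  have h5 := finrank_hperp hF Y
  have h6 := finrank_hperp hF U
  omega

/-- Room lemma: a nondegenerate subspace contains an anisotropic vector orthogonal to a given
small subspace. -/
theorem exists_anisotropic_room (hF : Fintype.card F = q ^ 2) {U : Submodule F (Fin n → F)}
    (h : NdOn q U) (S : Submodule F (Fin n → F))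
    (hS : 2 * Module.finrank F S < Module.finrank F U) :
    ∃ z ∈ U, z ∈ hperp q S ∧ hh z z ≠ 0 := by
  by_contra hcon
  push Not at hcon
  have hYti : ∀ u ∈ U ⊓ hperp q S, ∀ v ∈ U ⊓ hperp q S, hh u v = 0 :=
    ti_of_forall_isotropic hF (U ⊓ hperp q S) (fun z hz => hcon z hz.1 hz.2)
  have h1 := ti_finrank_le hF h (U ⊓ hperp q S) inf_le_left hYti
  have h2 := Submodule.finrank_sup_add_finrank_inf_eq U (hperp q S)
  have h3 : Module.finrank F (U ⊔ hperp q S : Submodule F (Fin n → F)) ≤ n := by
    have := Submodule.finrank_le (U ⊔ hperp q S)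
    rw [Module.finrank_fin_fun] at this
    exact this
  have h4 := finrank_hperp hF S
  omega

theorem exists_norm_vector_room (hF : Fintype.card F = q ^ 2) {U : Submodule F (Fin n → F)}
    (h : NdOn q U) (S : Submodule F (Fin n → F))
    (hS : 2 * Module.finrank F S < Module.finrank F U) (r : F) (hr : r ^ q = r) :
    ∃ z ∈ U, z ∈ hperp q S ∧ hh z z = r := by
  by_cases hr0 : r = 0
  · refine ⟨0, U.zero_mem, (hperp q S).zero_mem, ?_⟩
    rw [hr0]
    exact hermForm_zero_left 0
  obtain ⟨z₀, hz₀U, hz₀S, hz₀⟩ := exists_anisotropic_room hF h S hS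
  have hρ : (r / hh z₀ z₀) ^ q = r / hh z₀ z₀ := by
    rw [div_pow, hr, hermForm_self_pow hF]
  obtain ⟨l, hl⟩ := exists_norm_eq hF _ hρ
  refine ⟨l • z₀, U.smul_mem _ hz₀U, (hperp q S).smul_mem _ hz₀S, ?_⟩
  rw [Helper13.hermForm_smul_left, Helper13.hermForm_smul_right, ← mul_assoc, ← pow_succ', hl,
    div_mul_cancel₀ _ hz₀]

/-- A hyperbolic partner inside a nondegenerate subspace. -/
theorem exists_hyp_partner (hF : Fintype.card F = q ^ 2) {U : Submodule F (Fin n → F)}
    (h : NdOn q U) (a : Fin n → F) (ha : a ∈ U) (ha0 : a ≠ 0) (haa : hh a a = 0) (t : F) :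
    ∃ a' ∈ U, hh a' a' = 0 ∧ hh a a' = t := by
  obtain ⟨x, hx, hxa⟩ := h a ha ha0
  obtain ⟨μ, hμ⟩ := exists_isotropic_add hF x a haa hxa
  set x' := x + μ • a with hx'
  have hx'U : x' ∈ U := U.add_mem hx (U.smul_mem _ ha)
  have hax' : hh a x' ≠ 0 := by
    rw [hx', Helper13.hermForm_add_right hF, Helper13.hermForm_smul_right, haa, mul_zero, add_zero]
    exact fun h0 => hxa (hermForm_eq_zero_comm hF h0)
  refine ⟨(t / hh a x') ^ q • x', U.smul_mem _ hx'U, ?_, ?_⟩
  · rw [Helper13.hermForm_smul_left, Helper13.hermForm_smul_right, hμ, mul_zero, mul_zero]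
  · rw [Helper13.hermForm_smul_right, Helper13.pow_q_pow_q hF, div_mul_cancel₀ _ hax']

theorem finrank_span_singleton_le' (x : Fin n → F) :
    Module.finrank F (Submodule.span F {x} : Submodule F (Fin n → F)) ≤ 1 := by
  classical
  have := finrank_span_finset_le_card (R := F) ({x} : Finset (Fin n → F))
  rw [Finset.coe_singleton, Finset.card_singleton] at this
  exact this

theorem finrank_span_pair_le' (x y : Fin n → F) :
    Module.finrank F (Submodule.span F {x, y} : Submodule F (Fin n → F)) ≤ 2 := by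
  classical
  have := finrank_span_finset_le_card (R := F) ({x, y} : Finset (Fin n → F))
  have h2 : ({x, y} : Finset (Fin n → F)).card ≤ 2 := Finset.card_le_two
  have h3 : ((({x, y} : Finset (Fin n → F)) : Set (Fin n → F))) = {x, y} := by simp
  rw [h3] at this
  exact le_trans this h2

/-- A nondegenerate subspace of dimension at least 3 contains a nonzero isotropic vector. -/
theorem exists_isotropic_nd (hF : Fintype.card F = q ^ 2) {U : Submodule F (Fin n → F)}
    (h : NdOn q U) (hU : 3 ≤ Module.finrank F U) : ∃ y ∈ U, y ≠ 0 ∧ hh y y = 0 := by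
  obtain ⟨z₁, hz₁U, -, hz₁⟩ := exists_anisotropic_room hF h ⊥ (by rw [finrank_bot]; omega)
  obtain ⟨z₂, hz₂U, hz₂S, hz₂⟩ := exists_anisotropic_room hF h (Submodule.span F {z₁})
    (by have := finrank_span_singleton_le' z₁; omega)
  have h21 : hh z₂ z₁ = 0 := (mem_hperp _ z₂).mp hz₂S z₁ (Submodule.mem_span_singleton_self z₁)
  have h12 : hh z₁ z₂ = 0 := hermForm_eq_zero_comm hF h21
  have hρ : (-hh z₁ z₁ / hh z₂ z₂) ^ q = -hh z₁ z₁ / hh z₂ z₂ := by
    rw [div_pow, frob_neg hF, hermForm_self_pow hF, hermForm_self_pow hF]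
  obtain ⟨l, hl⟩ := exists_norm_eq hF _ hρ
  refine ⟨z₁ + l • z₂, U.add_mem hz₁U (U.smul_mem _ hz₂U), ?_, ?_⟩
  · intro h0
    have h1 : hh z₁ (z₁ + l • z₂) = hh z₁ z₁ := by
      rw [Helper13.hermForm_add_right hF, Helper13.hermForm_smul_right, h12, mul_zero, add_zero]
    rw [h0, hermForm_zero_right hF] at h1
    exact hz₁ h1.symm
  · rw [Helper13.hermForm_add_left, Helper13.hermForm_add_right hF, Helper13.hermForm_add_right hF,
      Helper13.hermForm_smul_left, Helper13.hermForm_smul_left, Helper13.hermForm_smul_right,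
      Helper13.hermForm_smul_right, h12, h21]
    have : l * (l ^ q * hh z₂ z₂) = l ^ (q + 1) * hh z₂ z₂ := by rw [pow_succ']; ring
    rw [this, hl, div_mul_cancel₀ _ hz₂]
    ring

/-- A nondegenerate subspace containing a nonzero isotropic vector is spanned by its isotropic
vectors. -/
theorem span_isotropic_nd (hF : Fintype.card F = q ^ 2) {U : Submodule F (Fin n → F)}
    (h : NdOn q U) (y : Fin n → F) (hy : y ∈ U) (hy0 : y ≠ 0) (hyy : hh y y = 0) :
    ∀ x ∈ U, x ∈ Submodule.span F {z | z ∈ U ∧ hh z z = 0} := by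
  set S := Submodule.span F {z | z ∈ U ∧ hh z z = 0} with hS
  have hyS : y ∈ S := Submodule.subset_span ⟨hy, hyy⟩
  have key : ∀ x ∈ U, hh x y ≠ 0 → x ∈ S := by
    intro x hx hxy
    obtain ⟨μ, hμ⟩ := exists_isotropic_add hF x y hyy hxy
    have h1 : x + μ • y ∈ S :=
      Submodule.subset_span ⟨U.add_mem hx (U.smul_mem _ hy), hμ⟩
    have : x = (x + μ • y) - μ • y := by abel
    rw [this]
    exact S.sub_mem h1 (S.smul_mem _ hyS)
  obtain ⟨z, hz, hzy⟩ := h y hy hy0
  have hzS : z ∈ S := key z hz hzy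
  intro x hx
  by_cases hxy : hh x y = 0
  · have h1 : x + z ∈ S := by
      apply key _ (U.add_mem hx hz)
      rw [Helper13.hermForm_add_left, hxy, zero_add]
      exact hzy
    have : x = (x + z) - z := by abel
    rw [this]
    exact S.sub_mem h1 hzS
  · exact key x hx hxy

end und1

end Cfsg.Agent.Lib.Helper99
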