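import Cfsg.Agent.Lib.Helper99.SURoot4
import Cfsg.Agent.Lib.Helper99.UnitaryND1

set_option autoImplicit false

/-!
Unitary transvection subgroups: the fixed field of Frobenius, and the final assembly.
-/

namespace Cfsg.Agent.Lib.Helper99.SURoot

open Matrix Cfsg.Agent.Lib.Helper99

variable {F : Type*} [Field F] [Fintype F] {q : ℕ}

/-- The trace map `x ↦ x + x ^ q`. -/
noncomputable def trAdd (hF : Fintype.card F = q ^ 2) : F →+ F :=
  AddMonoidHom.id F + (frobU hF).toAddMonoidHom

theorem trAdd_apply (hF : Fintype.card F = q ^ 2) (x : F) : trAdd hF x = x + x ^ q := by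
  unfold trAdd
  rw [AddMonoidHom.add_apply, AddMonoidHom.id_apply, RingHom.toAddMonoidHom_eq_coe,
    AddMonoidHom.coe_coe, frobU_apply]

/-- The fixed field of Frobenius has `q` elements. -/
theorem card_fixed (hF : Fintype.card F = q ^ 2) : Nat.card {x : F // x ^ q = x} = q := by
  obtain ⟨ε, hε0, hε⟩ := exists_trace_zero hF
  have hεq := trace_zero_pow ε hε
  have e1 : Nat.card (trAdd hF).ker * Nat.card (trAdd hF).range = q ^ 2 := by
    rw [← AddSubgroup.index_ker, AddSubgroup.card_mul_index, Nat.card_eq_fintype_card, hF]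
  have e2 : Nat.card (trAdd hF).range = Nat.card {x : F // x ^ q = x} := by
    apply Nat.card_congr
    apply Equiv.subtypeEquivRight
    intro x
    rw [AddMonoidHom.mem_range]
    constructor
    · rintro ⟨y, rfl⟩
      rw [trAdd_apply, frob_add hF, pow_q_pow_q hF, add_comm]
    · intro hx
      obtain ⟨c, hc⟩ := exists_trace_eq' hF x hx
      exact ⟨c, by rw [trAdd_apply, hc]⟩
  have e3 : Nat.card (trAdd hF).ker = Nat.card {x : F // x ^ q = x} := by
    symm
    apply Nat.card_congr
    refine Equiv.subtypeEquiv (Equiv.mulLeft₀ ε hε0) ?_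
    intro x
    rw [AddMonoidHom.mem_ker, trAdd_apply, Equiv.mulLeft₀_apply, mul_pow, hεq]
    constructor
    · intro hx
      rw [hx]; ring
    · intro hx
      have h1 : ε * (x - x ^ q) = 0 := by linear_combination hx
      rcases mul_eq_zero.mp h1 with h2 | h2
      · exact absurd h2 hε0
      · exact (sub_eq_zero.mp h2).symm
  rw [e2, e3, ← sq] at e1
  exact Nat.pow_left_injective (by norm_num : (2 : ℕ) ≠ 0) e1

/-- The fixed field of Frobenius. -/
noncomputable def fixedK (hF : Fintype.card F = q ^ 2) : Subfield F :=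
  (frobU hF).eqLocusField (RingHom.id F)

theorem mem_fixedK (hF : Fintype.card F = q ^ 2) (x : F) : x ∈ fixedK hF ↔ x ^ q = x := by
  unfold fixedK
  rw [RingHom.mem_eqLocusField, frobU_apply, RingHom.id_apply]

theorem card_fixedK (hF : Fintype.card F = q ^ 2) : Nat.card (fixedK hF) = q := by
  refine (Nat.card_congr ?_).trans (card_fixed hF)
  apply Equiv.subtypeEquivRight
  intro x
  exact mem_fixedK hF x

/-- The fixed field as a type in universe `0`. -/
abbrev FixL (hF : Fintype.card F = q ^ 2) : Type := Shrink.{0} ↥(fixedK hF)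

/-- The embedding of the small copy of the fixed field. -/
noncomputable def fixι (hF : Fintype.card F = q ^ 2) : FixL hF →+* F :=
  (fixedK hF).subtype.comp (Shrink.ringEquiv.{0, _} ↥(fixedK hF) : FixL hF ≃+* ↥(fixedK hF)).toRingHom

theorem fixι_pow (hF : Fintype.card F = q ^ 2) (a : FixL hF) : (fixι hF a) ^ q = fixι hF a := by
  unfold fixι
  rw [RingHom.comp_apply]
  exact (mem_fixedK hF _).mp (SetLike.coe_mem _)

theorem fixι_surj (hF : Fintype.card F = q ^ 2) (x : F) (hx : x ^ q = x) :
    ∃ a : FixL hF, fixι hF a = x := by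
  refine ⟨(Shrink.ringEquiv.{0, _} ↥(fixedK hF)).symm ⟨x, (mem_fixedK hF x).mpr hx⟩, ?_⟩
  unfold fixι
  rw [RingHom.comp_apply]
  simp

theorem card_FixL (hF : Fintype.card F = q ^ 2) : Nat.card (FixL hF) = q := by
  exact (Nat.card_congr (Shrink.ringEquiv.{0, _} ↥(fixedK hF)).toEquiv).trans (card_fixedK hF)

variable (n : ℕ)

/-- The root subgroups lie in the subgroup they generate, closed under its conjugation. -/
theorem rootSet_restr_isRootSubgroupSet (hF : Fintype.card F = q ^ 2) :
    Cfsg.IsRootSubgroupSet (RootRestrict.restr (rootSet F q n)) := by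
  apply RootRestrict.restr_isRootSubgroupSet
  · rintro A ⟨p, hp0, hp, rfl⟩
    exact root_commutative n hF p hp0 hp
  · rintro A ⟨p, hp0, hp, rfl⟩
    exact root_ne_bot n hF p hp0 hp
  · intro A hA g _
    exact conj_mem_rootSet n hF A hA g
  · rintro A ⟨p, hp0, hp, rfl⟩ B ⟨r, hr0, hr, rfl⟩
    by_cases h : Cfsg.hermForm n F q p r = 0
    · exact Or.inl (commutator_root_eq_bot n hF p r hp0 hr0 hp hr h)
    · exact Or.inr (isRankOnePair_root n hF p r hp0 hr0 hp hr h)

end Cfsg.Agent.Lib.Helper99.SURoot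

namespace Cfsg.Agent.Lib.Helper99.SURoot

open Matrix Cfsg.Agent.Lib.Helper99

variable {F : Type*} [Field F] [Fintype F] {q : ℕ} (n : ℕ)

/-- An isotropic non-zero vector in dimension at least two. -/
theorem exists_isotropic (hF : Fintype.card F = q ^ 2) :
    ∃ p : Fin (n + 2) → F, p ≠ 0 ∧ Cfsg.hermForm (n + 2) F q p p = 0 := by
  have hq : q ≠ 0 := by have := q_ge_two hF; omega
  obtain ⟨l, hl⟩ := exists_norm_eq hF (-1 : F) (by rw [frob_neg hF, one_pow])
  have h01 : (0 : Fin (n + 2)) ≠ 1 := by
    intro h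
    have := congrArg Fin.val h
    simp at this
  refine ⟨Pi.single 0 1 + l • Pi.single 1 1, ?_, ?_⟩
  · intro h
    have := congrFun h 0
    simp [Pi.single_eq_of_ne h01] at this
  · rw [hf_add_left, hf_add_right _ hF, hf_add_right _ hF, hf_smul_left, hf_smul_left,
      hf_smul_right, hf_smul_right, Helper13.hermForm_single_single _ _ hq,
      Helper13.hermForm_single_single _ _ hq, Helper13.hermForm_single_single _ _ hq,
      Helper13.hermForm_single_single _ _ hq, if_pos rfl, if_pos rfl, if_neg h01,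
      if_neg h01.symm]
    have : l * l ^ q = -1 := by rw [← hl, pow_succ, mul_comm]
    linear_combination this

theorem rootSet_nonempty (hF : Fintype.card F = q ^ 2) : (rootSet F q (n + 2)).Nonempty := by
  obtain ⟨p, hp0, hp⟩ := exists_isotropic n hF
  exact ⟨root (n + 2) q p, p, hp0, hp, rfl⟩

theorem rootSet_ne_bot (hF : Fintype.card F = q ^ 2) :
    ∀ A ∈ rootSet F q n, A ≠ ⊥ := by
  rintro A ⟨p, hp0, hp, rfl⟩
  exact root_ne_bot n hF p hp0 hp

/-- All four claims about the restricted family of unitary transvection subgroups. -/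
theorem main (hF : Fintype.card F = q ^ 2) :
    Cfsg.IsRootSubgroupClass (RootRestrict.restr (rootSet F q (n + 2))) ∧
    Cfsg.IsDegenerateRootSet (RootRestrict.restr (rootSet F q (n + 2))) ∧
    (∃ (L : Type) (_ : Field L) (_ : Fintype L), Fintype.card L = q ∧
      Cfsg.IsKRootSubgroupSet L (RootRestrict.restr (rootSet F q (n + 2)))) ∧
    Cfsg.IsConnectedFamily (Cfsg.FAdj (RootRestrict.restr (rootSet F q (n + 2))))
      (RootRestrict.restr (rootSet F q (n + 2))) := by
  have hroot := rootSet_restr_isRootSubgroupSet (n + 2) hF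
  have hconn := rootSet_connected (n + 2) hF
  refine ⟨⟨hroot, ?_⟩, ?_, ?_, ?_⟩
  · exact RootRestrict.restr_isConjClass _ (rootSet_nonempty n hF)
      (RootRestrict.conj_of_connected _ (rootSet_ne_bot (n + 2) hF) hconn)
  · exact RootRestrict.restr_degenerate _ (rootSet_no_commutator_case (n + 2) hF)
  · have hfin : Finite (FixL hF) :=
      Finite.of_equiv _ (Shrink.ringEquiv.{0, _} ↥(fixedK hF)).toEquiv.symm
    letI : Fintype (FixL hF) := Fintype.ofFinite _
    refine ⟨FixL hF, inferInstance, inferInstance, ?_, ?_⟩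
    · rw [← Nat.card_eq_fintype_card]
      exact card_FixL hF
    · apply RootRestrict.restr_isKRoot _ _ hroot
      rintro A ⟨p, hp0, hp, rfl⟩ B ⟨r, hr0, hr, rfl⟩ hpair
      exact isPSL2PairOver_root (n + 2) hF (fixι hF) (fixι_pow hF) (fixι_surj hF) p r hp0 hr0 hp hr
        (not_orth_of_isRankOnePair (n + 2) hF p r hp0 hr0 hp hr hpair)
  · exact RootRestrict.restr_connected _ hconn

end Cfsg.Agent.Lib.Helper99.SURoot
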