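import Cfsg.Agent.Lib.Helper99.UnitaryBase
import Cfsg.Prelude.Def_RootSubgroups

set_option autoImplicit false

/-!
Unitary transvection subgroups `T(p)` of `SU_n(q)`: basics.
-/

namespace Cfsg.Agent.Lib.Helper99.SURoot

open Matrix Cfsg.Agent.Lib.Helper99

variable {F : Type*} [Field F] [Fintype F] {q : ℕ} (n : ℕ)

/-- The matrix of an element of `SU`. -/
abbrev mat (g : ↥(Cfsg.SU n F q)) : Matrix (Fin n) (Fin n) F :=
  ((g : Matrix.SpecialLinearGroup (Fin n) F) : Matrix (Fin n) (Fin n) F)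

theorem su_ext {g h : ↥(Cfsg.SU n F q)}
    (H : ∀ v : Fin n → F, mat n g *ᵥ v = mat n h *ᵥ v) : g = h :=
  Subtype.ext (Subtype.ext (Matrix.ext_iff_mulVec.mpr H))

theorem su_mul_mulVec (g h : ↥(Cfsg.SU n F q)) (v : Fin n → F) :
    mat n (g * h) *ᵥ v = mat n g *ᵥ (mat n h *ᵥ v) := by
  unfold mat
  rw [Subgroup.coe_mul, Matrix.SpecialLinearGroup.coe_mul, mulVec_mulVec]

theorem su_one_mulVec (v : Fin n → F) : mat n (1 : ↥(Cfsg.SU n F q)) *ᵥ v = v := by
  unfold mat
  rw [Subgroup.coe_one, Matrix.SpecialLinearGroup.coe_one, one_mulVec]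

theorem su_inv_mulVec_mulVec (g : ↥(Cfsg.SU n F q)) (v : Fin n → F) :
    mat n g⁻¹ *ᵥ (mat n g *ᵥ v) = v := by
  rw [← su_mul_mulVec, inv_mul_cancel, su_one_mulVec]

theorem su_mulVec_inv_mulVec (g : ↥(Cfsg.SU n F q)) (v : Fin n → F) :
    mat n g *ᵥ (mat n g⁻¹ *ᵥ v) = v := by
  rw [← su_mul_mulVec, mul_inv_cancel, su_one_mulVec]

theorem su_preserves (g : ↥(Cfsg.SU n F q)) (u v : Fin n → F) :
    Cfsg.hermForm n F q (mat n g *ᵥ u) (mat n g *ᵥ v) = Cfsg.hermForm n F q u v :=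
  g.2 u v

theorem su_mulVec_eq_zero (g : ↥(Cfsg.SU n F q)) (v : Fin n → F) (h : mat n g *ᵥ v = 0) : v = 0 := by
  have := su_inv_mulVec_mulVec n g v
  rw [h, mulVec_zero] at this
  exact this.symm

/-- The unitary transvection `x ↦ x + c h(x,p) p` as an element of `SU` (junk `1` unless `p` is
isotropic and `c` has trace zero). -/
noncomputable def tvElt (hF : Fintype.card F = q ^ 2) (p : Fin n → F) (c : F) : ↥(Cfsg.SU n F q) :=
  haveI := Classical.dec (Cfsg.hermForm n F q p p = 0 ∧ c + c ^ q = 0)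
  if h : Cfsg.hermForm n F q p p = 0 ∧ c + c ^ q = 0 then
    ⟨⟨((utv q p c : GL (Fin n) F) : Matrix (Fin n) (Fin n) F),
      (mem_specialLinear_iff _).mp (utv_mem_SL p h.1 c)⟩,
      fun u v => (Helper13.mem_GU_iff n q _).mp (utv_mem_GU hF p h.1 c h.2) u v⟩
  else 1

theorem tvElt_mulVec (hF : Fintype.card F = q ^ 2) (p : Fin n → F)
    (hp : Cfsg.hermForm n F q p p = 0) (c : F) (hc : c + c ^ q = 0) (x : Fin n → F) :
    mat n (tvElt n hF p c) *ᵥ x = x + (c * Cfsg.hermForm n F q x p) • p := by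
  unfold tvElt
  rw [dif_pos ⟨hp, hc⟩]
  exact utv_mulVec p hp c x

/-! Shorthand for the sesquilinearity lemmas. -/

theorem hf_add_left (u u' v : Fin n → F) : Cfsg.hermForm n F q (u + u') v =
    Cfsg.hermForm n F q u v + Cfsg.hermForm n F q u' v := Helper13.hermForm_add_left n q u u' v

theorem hf_smul_left (a : F) (u v : Fin n → F) : Cfsg.hermForm n F q (a • u) v =
    a * Cfsg.hermForm n F q u v := Helper13.hermForm_smul_left n q a u v

theorem hf_add_right (hF : Fintype.card F = q ^ 2) (u v v' : Fin n → F) :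
    Cfsg.hermForm n F q u (v + v') = Cfsg.hermForm n F q u v + Cfsg.hermForm n F q u v' :=
  Helper13.hermForm_add_right hF n u v v'

theorem hf_smul_right (a : F) (u v : Fin n → F) : Cfsg.hermForm n F q u (a • v) =
    a ^ q * Cfsg.hermForm n F q u v := Helper13.hermForm_smul_right n q a u v

theorem hf_conj (hF : Fintype.card F = q ^ 2) (u v : Fin n → F) :
    Cfsg.hermForm n F q u v ^ q = Cfsg.hermForm n F q v u := Helper13.hermForm_conj hF n u v

theorem hf_sub_left (u u' v : Fin n → F) : Cfsg.hermForm n F q (u - u') v =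
    Cfsg.hermForm n F q u v - Cfsg.hermForm n F q u' v := hermForm_sub_left u u' v

theorem pow_q_pow_q (hF : Fintype.card F = q ^ 2) (a : F) : (a ^ q) ^ q = a :=
  Helper13.pow_q_pow_q hF a

theorem trace_zero_pow (c : F) (hc : c + c ^ q = 0) : c ^ q = -c :=
  eq_neg_of_add_eq_zero_right hc

theorem exists_not_orth (hF : Fintype.card F = q ^ 2) (p : Fin n → F) (hp : p ≠ 0) :
    ∃ v : Fin n → F, Cfsg.hermForm n F q v p ≠ 0 := by
  by_contra hcon
  push Not at hcon
  exact hp (hermForm_nd_right hF hcon)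

theorem exists_dual (hF : Fintype.card F = q ^ 2) (p : Fin n → F) (hp : p ≠ 0) :
    ∃ r : Fin n → F, Cfsg.hermForm n F q r p = 1 := by
  obtain ⟨v, hv⟩ := exists_not_orth n hF p hp
  exact ⟨(Cfsg.hermForm n F q v p)⁻¹ • v, by rw [hf_smul_left, inv_mul_cancel₀ hv]⟩

theorem elt_mul (hF : Fintype.card F = q ^ 2) (p : Fin n → F)
    (hp : Cfsg.hermForm n F q p p = 0) (c d : F) (hc : c + c ^ q = 0) (hd : d + d ^ q = 0) :
    tvElt n hF p c * tvElt n hF p d = tvElt n hF p (c + d) := by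
  have hcd : (c + d) + (c + d) ^ q = 0 := by
    rw [frob_add hF, trace_zero_pow c hc, trace_zero_pow d hd]; ring
  apply su_ext
  intro v
  rw [su_mul_mulVec, tvElt_mulVec n hF p hp c hc, tvElt_mulVec n hF p hp d hd,
    tvElt_mulVec n hF p hp _ hcd, hf_add_left, hf_smul_left, hp, mul_zero, add_zero, add_assoc,
    ← add_smul]
  congr 2
  ring

theorem elt_zero (hF : Fintype.card F = q ^ 2) (p : Fin n → F)
    (hp : Cfsg.hermForm n F q p p = 0) : tvElt n hF p (0 : F) = 1 := by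
  have h0 : (0 : F) + (0 : F) ^ q = 0 := by
    rw [zero_pow (by have := q_ge_two hF; omega), add_zero]
  apply su_ext
  intro v
  rw [tvElt_mulVec n hF p hp 0 h0, zero_mul, zero_smul, add_zero, su_one_mulVec]

theorem neg_trace_zero (hF : Fintype.card F = q ^ 2) (c : F) (hc : c + c ^ q = 0) :
    -c + (-c) ^ q = 0 := by
  rw [frob_neg hF, trace_zero_pow c hc]; ring

theorem elt_inv (hF : Fintype.card F = q ^ 2) (p : Fin n → F)
    (hp : Cfsg.hermForm n F q p p = 0) (c : F) (hc : c + c ^ q = 0) :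
    (tvElt n hF p c)⁻¹ = tvElt n hF p (-c) := by
  rw [inv_eq_iff_mul_eq_one, elt_mul n hF p hp c (-c) hc (neg_trace_zero hF c hc), add_neg_cancel,
    elt_zero n hF p hp]

theorem elt_eq_one_iff (hF : Fintype.card F = q ^ 2) (p : Fin n → F) (hp0 : p ≠ 0)
    (hp : Cfsg.hermForm n F q p p = 0) (c : F) (hc : c + c ^ q = 0) :
    tvElt n hF p c = 1 ↔ c = 0 := by
  constructor
  · intro h
    obtain ⟨r, hr⟩ := exists_dual n hF p hp0
    have h1 := tvElt_mulVec n hF p hp c hc r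
    rw [h, su_one_mulVec, hr, mul_one] at h1
    have h2 : c • p = 0 := by
      have := h1.symm
      rwa [add_eq_left] at this
    rcases smul_eq_zero.mp h2 with h3 | h3
    · exact h3
    · exact absurd h3 hp0
  · rintro rfl
    exact elt_zero n hF p hp

/-- The norm `l ^ (q+1)` is fixed by Frobenius. -/
theorem norm_pow (hF : Fintype.card F = q ^ 2) (l : F) : (l ^ (q + 1)) ^ q = l ^ (q + 1) := by
  rw [pow_succ, mul_pow, pow_q_pow_q hF, mul_comm]

theorem mul_norm_trace_zero (hF : Fintype.card F = q ^ 2) (c l : F) (hc : c + c ^ q = 0) :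
    c * l ^ (q + 1) + (c * l ^ (q + 1)) ^ q = 0 := by
  rw [mul_pow, norm_pow hF, trace_zero_pow c hc]; ring

theorem elt_smul (hF : Fintype.card F = q ^ 2) (l : F) (p : Fin n → F)
    (hp : Cfsg.hermForm n F q p p = 0) (c : F) (hc : c + c ^ q = 0) :
    tvElt n hF (l • p) c = tvElt n hF p (c * l ^ (q + 1)) := by
  have hp' : Cfsg.hermForm n F q (l • p) (l • p) = 0 := by
    rw [hf_smul_left, hf_smul_right, hp, mul_zero, mul_zero]
  apply su_ext
  intro v
  rw [tvElt_mulVec n hF _ hp' c hc, tvElt_mulVec n hF p hp _ (mul_norm_trace_zero hF c l hc),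
    hf_smul_right, smul_smul]
  congr 2
  ring

theorem conj_elt (hF : Fintype.card F = q ^ 2) (g : ↥(Cfsg.SU n F q)) (p : Fin n → F)
    (hp : Cfsg.hermForm n F q p p = 0) (c : F) (hc : c + c ^ q = 0) :
    g * tvElt n hF p c * g⁻¹ = tvElt n hF (mat n g *ᵥ p) c := by
  have hp' : Cfsg.hermForm n F q (mat n g *ᵥ p) (mat n g *ᵥ p) = 0 := by
    rw [su_preserves, hp]
  apply su_ext
  intro v
  rw [su_mul_mulVec, su_mul_mulVec, tvElt_mulVec n hF p hp c hc, tvElt_mulVec n hF _ hp' c hc,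
    mulVec_add, mulVec_smul, su_mulVec_inv_mulVec]
  congr 3
  rw [← su_preserves n g, su_mulVec_inv_mulVec]

/-- The generating set of the statement. -/
def rootGen (q : ℕ) (p : Fin n → F) : Set ↥(Cfsg.SU n F q) :=
  {g | (∀ v : Fin n → F, ∃ c : F,
      ((g : Matrix.SpecialLinearGroup (Fin n) F) : Matrix (Fin n) (Fin n) F) *ᵥ v = v + c • p) ∧
    ∀ v : Fin n → F, Cfsg.hermForm n F q v p = 0 →
      ((g : Matrix.SpecialLinearGroup (Fin n) F) : Matrix (Fin n) (Fin n) F) *ᵥ v = v}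

/-- The root subgroup `T(p)` of the statement. -/
def root (q : ℕ) (p : Fin n → F) : Subgroup ↥(Cfsg.SU n F q) := Subgroup.closure (rootGen n q p)

/-- The set of root subgroups of the statement. -/
def rootSet (F : Type*) [Field F] [Fintype F] (q n : ℕ) : Set (Subgroup ↥(Cfsg.SU n F q)) :=
  {A | ∃ p : Fin n → F, p ≠ 0 ∧ Cfsg.hermForm n F q p p = 0 ∧ A = root n q p}

theorem mem_rootGen_iff (hF : Fintype.card F = q ^ 2) (p : Fin n → F) (hp0 : p ≠ 0)
    (hp : Cfsg.hermForm n F q p p = 0) (g : ↥(Cfsg.SU n F q)) :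
    g ∈ rootGen n q p ↔ ∃ c : F, c + c ^ q = 0 ∧ g = tvElt n hF p c := by
  constructor
  · rintro ⟨h1, h2⟩
    obtain ⟨r, hr⟩ := exists_dual n hF p hp0
    obtain ⟨c, hc⟩ := h1 r
    have hpr : Cfsg.hermForm n F q p r = 1 := by rw [← hf_conj n hF, hr, one_pow]
    have hc0 : c + c ^ q = 0 := by
      have h3 := su_preserves n g r r
      change Cfsg.hermForm n F q
        (((g : Matrix.SpecialLinearGroup (Fin n) F) : Matrix (Fin n) (Fin n) F) *ᵥ r)
        (((g : Matrix.SpecialLinearGroup (Fin n) F) : Matrix (Fin n) (Fin n) F) *ᵥ r) = _ at h3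
      rw [hc, hf_add_left, hf_add_right n hF, hf_add_right n hF, hf_smul_left, hf_smul_left,
        hf_smul_right, hf_smul_right, hp, hr, hpr] at h3
      linear_combination h3
    refine ⟨c, hc0, su_ext n fun v => ?_⟩
    rw [tvElt_mulVec n hF p hp c hc0]
    have h4 := h2 (v - Cfsg.hermForm n F q v p • r) (by
      rw [hf_sub_left, hf_smul_left, hr, mul_one, sub_self])
    rw [mulVec_sub, mulVec_smul, hc] at h4
    have h5 : mat n g *ᵥ v = (v - Cfsg.hermForm n F q v p • r) +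
        Cfsg.hermForm n F q v p • (r + c • p) := by
      rw [← h4]; abel
    rw [h5, smul_add, smul_smul, mul_comm]
    abel
  · rintro ⟨c, hc, rfl⟩
    constructor
    · intro v
      exact ⟨c * Cfsg.hermForm n F q v p, tvElt_mulVec n hF p hp c hc v⟩
    · intro v hv
      have := tvElt_mulVec n hF p hp c hc v
      rw [hv, mul_zero, zero_smul, add_zero] at this
      exact this

/-- The transvection subgroup as an explicit subgroup. -/
def tvSub (hF : Fintype.card F = q ^ 2) (p : Fin n → F) (hp : Cfsg.hermForm n F q p p = 0) :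
    Subgroup ↥(Cfsg.SU n F q) where
  carrier := {g | ∃ c : F, c + c ^ q = 0 ∧ g = tvElt n hF p c}
  mul_mem' := by
    rintro _ _ ⟨c, hc, rfl⟩ ⟨d, hd, rfl⟩
    refine ⟨c + d, ?_, elt_mul n hF p hp c d hc hd⟩
    rw [frob_add hF, trace_zero_pow c hc, trace_zero_pow d hd]; ring
  one_mem' := ⟨0, by rw [zero_pow (by have := q_ge_two hF; omega), add_zero],
    (elt_zero n hF p hp).symm⟩
  inv_mem' := by
    rintro _ ⟨c, hc, rfl⟩
    exact ⟨-c, neg_trace_zero hF c hc, elt_inv n hF p hp c hc⟩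

theorem root_eq (hF : Fintype.card F = q ^ 2) (p : Fin n → F) (hp0 : p ≠ 0)
    (hp : Cfsg.hermForm n F q p p = 0) : root n q p = tvSub n hF p hp := by
  apply le_antisymm
  · rw [root, Subgroup.closure_le]
    intro g hg
    exact (mem_rootGen_iff n hF p hp0 hp g).mp hg
  · rintro g ⟨c, hc, rfl⟩
    exact Subgroup.subset_closure ((mem_rootGen_iff n hF p hp0 hp _).mpr ⟨c, hc, rfl⟩)

theorem mem_root_iff (hF : Fintype.card F = q ^ 2) (p : Fin n → F) (hp0 : p ≠ 0)
    (hp : Cfsg.hermForm n F q p p = 0) (g : ↥(Cfsg.SU n F q)) :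
    g ∈ root n q p ↔ ∃ c : F, c + c ^ q = 0 ∧ g = tvElt n hF p c := by
  rw [root_eq n hF p hp0 hp]; rfl

theorem elt_mem_root (hF : Fintype.card F = q ^ 2) (p : Fin n → F) (hp0 : p ≠ 0)
    (hp : Cfsg.hermForm n F q p p = 0) (c : F) (hc : c + c ^ q = 0) :
    tvElt n hF p c ∈ root n q p :=
  (mem_root_iff n hF p hp0 hp _).mpr ⟨c, hc, rfl⟩

end Cfsg.Agent.Lib.Helper99.SURoot
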