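import Mathlib

set_option autoImplicit false

/-!
Numerical invariants of (nilpotent) endomorphisms: `dker T k = dim ker (T ^ k)`.
Additivity over products, invariance under conjugation, concavity, and endomorphisms with
prescribed invariants (direct sums of nilpotent Jordan blocks).
-/

namespace Cfsg.Agent.Lib.Helper99

open Module

section dker

variable {F : Type*} [Field F]
variable {W : Type*} [AddCommGroup W] [Module F W]
variable {W' : Type*} [AddCommGroup W'] [Module F W']

/-- `dker T k` is the dimension of the kernel of `T ^ k`. -/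
noncomputable def dker (T : Module.End F W) (k : ℕ) : ℕ := finrank F (LinearMap.ker (T ^ k))

theorem dker_zero (T : Module.End F W) : dker T 0 = 0 := by
  unfold dker
  rw [pow_zero]
  have : LinearMap.ker (1 : Module.End F W) = ⊥ := LinearMap.ker_id
  rw [this, finrank_bot]

theorem pow_conj_apply (e : W ≃ₗ[F] W') (T : Module.End F W) (T' : Module.End F W')
    (h : ∀ w, T' (e w) = e (T w)) (k : ℕ) (w : W) : (T' ^ k) (e w) = e ((T ^ k) w) := by
  induction k generalizing w with
  | zero => simp
  | succ k ih => rw [pow_succ, pow_succ, Module.End.mul_apply, Module.End.mul_apply, h, ih]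

theorem dker_conj (e : W ≃ₗ[F] W') (T : Module.End F W) (T' : Module.End F W')
    (h : ∀ w, T' (e w) = e (T w)) (k : ℕ) : dker T' k = dker T k := by
  unfold dker
  have : LinearMap.ker (T' ^ k) = (LinearMap.ker (T ^ k)).map (e : W →ₗ[F] W') := by
    ext w'
    obtain ⟨w, rfl⟩ := e.surjective w'
    rw [LinearMap.mem_ker, pow_conj_apply e T T' h]
    constructor
    · intro hw
      exact ⟨w, by rw [SetLike.mem_coe, LinearMap.mem_ker]; exact e.injective (by rw [hw, map_zero]), rfl⟩
    · rintro ⟨w₁, hw₁, hw₁'⟩
      have : w₁ = w := e.injective hw₁'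
      subst this
      rw [SetLike.mem_coe, LinearMap.mem_ker] at hw₁
      rw [hw₁, map_zero]
  rw [this]
  exact LinearEquiv.finrank_map_eq e _

theorem prodMap_pow' (T : Module.End F W) (T' : Module.End F W') (k : ℕ) :
    (T.prodMap T' : Module.End F (W × W')) ^ k = (T ^ k).prodMap (T' ^ k) := by
  induction k with
  | zero => simp [LinearMap.prodMap_one]
  | succ k ih => rw [pow_succ, pow_succ, pow_succ, ih, LinearMap.prodMap_mul]

/-- The product of two submodules, as a module, is the product of the two modules. -/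
def prodSubEquiv (p : Submodule F W) (q : Submodule F W') : (p.prod q) ≃ₗ[F] (p × q) where
  toFun x := (⟨x.1.1, (Submodule.mem_prod.mp x.2).1⟩, ⟨x.1.2, (Submodule.mem_prod.mp x.2).2⟩)
  map_add' _ _ := rfl
  map_smul' _ _ := rfl
  invFun y := ⟨(y.1.1, y.2.1), Submodule.mem_prod.mpr ⟨y.1.2, y.2.2⟩⟩
  left_inv _ := rfl
  right_inv _ := rfl

theorem dker_prodMap [FiniteDimensional F W] [FiniteDimensional F W'] (T : Module.End F W)
    (T' : Module.End F W') (k : ℕ) :
    dker (T.prodMap T' : Module.End F (W × W')) k = dker T k + dker T' k := by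
  unfold dker
  rw [prodMap_pow', LinearMap.ker_prodMap]
  rw [LinearEquiv.finrank_eq (prodSubEquiv (LinearMap.ker (T ^ k)) (LinearMap.ker (T' ^ k))),
    Module.finrank_prod]

/-- Rank-nullity on a submodule. -/
theorem finrank_eq_map_add_inf_ker [FiniteDimensional F W] (f : W →ₗ[F] W') (P : Submodule F W) :
    finrank F P = finrank F (P.map f) + finrank F (P ⊓ LinearMap.ker f : Submodule F W) := by
  have h := LinearMap.finrank_range_add_finrank_ker (f.domRestrict P)
  rw [LinearMap.range_domRestrict, LinearMap.ker_domRestrict] at h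
  rw [← h]
  congr 1
  have : ((LinearMap.ker f).comap P.subtype).map P.subtype = P ⊓ LinearMap.ker f :=
    Submodule.map_comap_subtype P (LinearMap.ker f)
  rw [← this]
  exact (Submodule.finrank_map_subtype_eq P _).symm

theorem dker_add_finrank_range [FiniteDimensional F W] (T : Module.End F W) (k : ℕ) :
    finrank F (LinearMap.range (T ^ k)) + dker T k = finrank F W :=
  LinearMap.finrank_range_add_finrank_ker (T ^ k)

theorem dker_le [FiniteDimensional F W] (T : Module.End F W) (k : ℕ) : dker T k ≤ finrank F W :=
  Submodule.finrank_le _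

theorem dker_mono [FiniteDimensional F W] (T : Module.End F W) (k : ℕ) :
    dker T k ≤ dker T (k + 1) := by
  apply Submodule.finrank_mono
  intro w hw
  rw [LinearMap.mem_ker] at hw ⊢
  rw [pow_succ', Module.End.mul_apply, hw, map_zero]

theorem dker_eq_of_pow_eq_zero [FiniteDimensional F W] (T : Module.End F W) {K : ℕ}
    (hK : T ^ K = 0) (k : ℕ) (hk : K ≤ k) : dker T k = finrank F W := by
  unfold dker
  have : T ^ k = 0 := by
    obtain ⟨j, rfl⟩ := Nat.exists_eq_add_of_le hk
    rw [pow_add, hK, zero_mul]
  rw [this]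
  have : LinearMap.ker (0 : Module.End F W) = ⊤ := LinearMap.ker_zero
  rw [this, finrank_top]

theorem range_pow_succ (T : Module.End F W) (k : ℕ) :
    LinearMap.range (T ^ (k + 1)) = (LinearMap.range (T ^ k)).map T := by
  rw [pow_succ', Module.End.mul_eq_comp, LinearMap.range_comp]

/-- Concavity of `k ↦ dim ker T ^ k`. -/
theorem dker_concave [FiniteDimensional F W] (T : Module.End F W) (k : ℕ) :
    dker T (k + 2) + dker T k ≤ 2 * dker T (k + 1) := by
  have h0 := dker_add_finrank_range T k
  have h1 := dker_add_finrank_range T (k + 1)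
  have h2 := dker_add_finrank_range T (k + 2)
  have e1 := finrank_eq_map_add_inf_ker T (LinearMap.range (T ^ k))
  have e2 := finrank_eq_map_add_inf_ker T (LinearMap.range (T ^ (k + 1)))
  rw [← range_pow_succ] at e1 e2
  have hle : finrank F (LinearMap.range (T ^ (k + 1)) ⊓ LinearMap.ker T : Submodule F W) ≤
      finrank F (LinearMap.range (T ^ k) ⊓ LinearMap.ker T : Submodule F W) := by
    apply Submodule.finrank_mono
    apply inf_le_inf_right
    rw [range_pow_succ]
    rintro _ ⟨w, ⟨v, rfl⟩, rfl⟩
    refine ⟨T v, ?_⟩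
    show (T ^ k) (T v) = T ((T ^ k) v)
    rw [← Module.End.mul_apply, ← Module.End.mul_apply, ← pow_succ, ← pow_succ']
  have : k + 1 + 1 = k + 2 := rfl
  rw [this] at e2
  omega

end dker

section shift

variable (F : Type*) [Field F]

/-- The nilpotent Jordan block (shift) on `Fin b → F`. -/
def shiftEnd (b : ℕ) : Module.End F (Fin b → F) where
  toFun v i := if h : (i : ℕ) + 1 < b then v ⟨i + 1, h⟩ else 0
  map_add' v w := by
    ext i
    simp only [Pi.add_apply]
    split_ifs <;> simp
  map_smul' c v := by
    ext i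
    simp only [Pi.smul_apply, RingHom.id_apply]
    split_ifs <;> simp

theorem shiftEnd_apply (b : ℕ) (v : Fin b → F) (i : Fin b) :
    shiftEnd F b v i = if h : (i : ℕ) + 1 < b then v ⟨i + 1, h⟩ else 0 := rfl

theorem shiftEnd_pow_apply (b k : ℕ) (v : Fin b → F) (i : Fin b) :
    ((shiftEnd F b) ^ k) v i = if h : (i : ℕ) + k < b then v ⟨i + k, h⟩ else 0 := by
  induction k generalizing v with
  | zero => simp
  | succ k ih =>
    rw [pow_succ, Module.End.mul_apply, ih]
    by_cases h : (i : ℕ) + k < b
    · rw [dif_pos h, shiftEnd_apply]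
      by_cases h' : (i : ℕ) + (k + 1) < b
      · rw [dif_pos h', dif_pos (by simp only; omega)]
        rfl
      · rw [dif_neg h', dif_neg (by simp only; omega)]
    · rw [dif_neg h, dif_neg (by omega)]

theorem dker_shiftEnd (b k : ℕ) : dker (shiftEnd F b) k = min b k := by
  unfold dker
  let g : (Fin b → F) →ₗ[F] ({j : Fin b // k ≤ (j : ℕ)} → F) := LinearMap.funLeft F F Subtype.val
  have hker : LinearMap.ker ((shiftEnd F b) ^ k) = LinearMap.ker g := by
    ext v
    rw [LinearMap.mem_ker, LinearMap.mem_ker]
    constructor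
    · intro h
      ext ⟨j, hj⟩
      have hjb := j.2
      have := congrFun h ⟨(j : ℕ) - k, by omega⟩
      rw [shiftEnd_pow_apply] at this
      have hlt : (j : ℕ) - k + k < b := by omega
      rw [dif_pos hlt] at this
      show v j = 0
      have hj' : (⟨(j : ℕ) - k + k, hlt⟩ : Fin b) = j := by
        ext; simp only; omega
      rw [hj'] at this
      exact this
    · intro h
      ext i
      rw [shiftEnd_pow_apply]
      split_ifs with hi
      · exact congrFun h ⟨⟨i + k, hi⟩, by simp⟩
      · rfl
  have hsurj : LinearMap.range g = ⊤ :=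
    LinearMap.range_eq_top.mpr
      (LinearMap.funLeft_surjective_of_injective F F _ Subtype.val_injective)
  have h := LinearMap.finrank_range_add_finrank_ker g
  rw [hsurj, finrank_top, Module.finrank_fintype_fun_eq_card, Module.finrank_fintype_fun_eq_card,
    Fintype.card_fin] at h
  have hcard : Fintype.card {j : Fin b // k ≤ (j : ℕ)} = b - k := by
    rw [← Fintype.card_fin (b - k)]
    apply Fintype.card_congr
    exact
      { toFun := fun j => ⟨(j.1 : ℕ) - k, by have := j.1.2; have := j.2; omega⟩
        invFun := fun i => ⟨⟨(i : ℕ) + k, by have := i.2; omega⟩, by simp⟩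
        left_inv := fun j => by
          have := j.2
          ext; simp only; omega
        right_inv := fun i => by ext; simp }
  rw [hker]
  omega

/-- Endomorphisms with prescribed kernel dimensions (sums of nilpotent Jordan blocks). -/
theorem exists_end_of_multiset (μ : Multiset ℕ) :
    ∀ n, μ.sum = n → ∃ T : Module.End F (Fin n → F),
      ∀ k, dker T k = (μ.map (fun b => min b k)).sum := by
  induction μ using Multiset.induction_on with
  | empty =>
    intro n hn
    refine ⟨0, fun k => ?_⟩
    simp only [Multiset.sum_zero] at hn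
    subst hn
    have := dker_le (0 : Module.End F (Fin 0 → F)) k
    simpa using this
  | cons b μ ih =>
    intro n hn
    rw [Multiset.sum_cons] at hn
    obtain ⟨T', hT'⟩ := ih μ.sum rfl
    have hfr : finrank F ((Fin b → F) × (Fin μ.sum → F)) = finrank F (Fin n → F) := by
      simp [hn]
    let e : ((Fin b → F) × (Fin μ.sum → F)) ≃ₗ[F] (Fin n → F) := LinearEquiv.ofFinrankEq _ _ hfr
    refine ⟨e.conj ((shiftEnd F b).prodMap T'), fun k => ?_⟩
    rw [dker_conj e ((shiftEnd F b).prodMap T') _ (fun w => by simp [LinearEquiv.conj_apply]) k,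
      dker_prodMap, dker_shiftEnd, hT', Multiset.map_cons, Multiset.sum_cons]

end shift

section comb

/-- The multiplicity of `k` read off from the kernel dimensions. -/
def jmult (d : ℕ → ℕ) (k : ℕ) : ℕ := 2 * d k - (d (k - 1) + d (k + 1))

theorem jmult_add (d : ℕ → ℕ) (hd : ∀ k, d (k + 2) + d k ≤ 2 * d (k + 1)) (j : ℕ) (hj : 1 ≤ j) :
    d (j - 1) + d (j + 1) + jmult d j = 2 * d j := by
  obtain ⟨i, rfl⟩ : ∃ i, j = i + 1 := ⟨j - 1, by omega⟩
  have := hd i
  unfold jmult
  have h2 : i + 1 + 1 = i + 2 := rfl
  rw [h2]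
  simp only [Nat.add_sub_cancel]
  omega

theorem telescope (d : ℕ → ℤ) (K : ℕ) :
    ∑ i ∈ Finset.range K, ((i : ℤ) + 1) * (2 * d (i + 1) - d i - d (i + 2)) =
      d K - d 0 - K * (d (K + 1) - d K) := by
  induction K with
  | zero => simp
  | succ K ih =>
    rw [Finset.sum_range_succ, ih]
    push_cast
    ring

theorem sum_min_identity (μ : Multiset ℕ) (j : ℕ) (hj : 1 ≤ j) :
    (μ.map (fun b => min b (j - 1))).sum + (μ.map (fun b => min b (j + 1))).sum + μ.count j =
      2 * (μ.map (fun b => min b j)).sum := by
  induction μ using Multiset.induction_on with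
  | empty => simp
  | cons b μ ih =>
    simp only [Multiset.map_cons, Multiset.sum_cons, Multiset.count_cons]
    split_ifs with h <;> omega

/-- From the kernel dimensions of two complementary pieces to a sub-multiset. -/
theorem exists_submultiset (d d' : ℕ → ℕ) (μ : Multiset ℕ) (K a : ℕ)
    (hd : ∀ k, d (k + 2) + d k ≤ 2 * d (k + 1))
    (hd' : ∀ k, d' (k + 2) + d' k ≤ 2 * d' (k + 1))
    (hd0 : d 0 = 0) (hdK : ∀ k, K ≤ k → d k = a)
    (hsum : ∀ k, d k + d' k = (μ.map (fun b => min b k)).sum) :
    ∃ ν : Multiset ℕ, ν ≤ μ ∧ ν.sum = a := by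
  refine ⟨∑ i ∈ Finset.range K, jmult d (i + 1) • ({i + 1} : Multiset ℕ), ?_, ?_⟩
  · rw [Multiset.le_iff_count]
    intro j
    rw [Multiset.count_sum']
    simp only [Multiset.count_nsmul, Multiset.count_singleton]
    rcases Nat.eq_zero_or_pos j with hj | hj
    · subst hj
      simp
    · have h1 : ∀ i ∈ Finset.range K, jmult d (i + 1) * (if j = i + 1 then 1 else 0) =
          if i = j - 1 then jmult d j else 0 := by
        intro i _
        by_cases h : j = i + 1
        · subst h; simp
        · rw [if_neg h, if_neg (by omega), mul_zero]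
      rw [Finset.sum_congr rfl h1, Finset.sum_ite_eq']
      have h2 := jmult_add d hd j hj
      have h3 := jmult_add d' hd' j hj
      have h4 := sum_min_identity μ j hj
      rw [← hsum, ← hsum, ← hsum] at h4
      split_ifs <;> omega
  · have hcast : ∀ i, ((jmult d (i + 1) : ℕ) : ℤ) =
        2 * (d (i + 1) : ℤ) - (d i : ℤ) - (d (i + 2) : ℤ) := by
      intro i
      have := jmult_add d hd (i + 1) (by omega)
      simp only [Nat.add_sub_cancel] at this
      have h2 : i + 1 + 1 = i + 2 := rfl
      rw [h2] at this
      omega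
    have hsum' : ((∑ i ∈ Finset.range K, jmult d (i + 1) • ({i + 1} : Multiset ℕ)).sum : ℤ) =
        (a : ℤ) := by
      have h1 : (∑ i ∈ Finset.range K, jmult d (i + 1) • ({i + 1} : Multiset ℕ)).sum =
          ∑ i ∈ Finset.range K, jmult d (i + 1) * (i + 1) := by
        rw [← Multiset.coe_sumAddMonoidHom, map_sum]
        apply Finset.sum_congr rfl
        intro i _
        rw [Multiset.coe_sumAddMonoidHom, Multiset.sum_nsmul, Multiset.sum_singleton,
          smul_eq_mul]
      rw [h1]
      push_cast
      have h2 := telescope (fun k => (d k : ℤ)) K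
      rw [hdK K le_rfl, hdK (K + 1) (by omega), hd0] at h2
      simp only [hcast]
      have h3 : ((a : ℤ) - ((0 : ℕ) : ℤ) - (K : ℤ) * ((a : ℤ) - (a : ℤ))) = (a : ℤ) := by
        push_cast; ring
      rw [h3] at h2
      rw [← h2]
      apply Finset.sum_congr rfl
      intro i _
      ring
    exact_mod_cast hsum'

end comb

end Cfsg.Agent.Lib.Helper99
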