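import Mathlib

/-!
# Rx hive (S2113), leaf RX-W12 : `exists_w12`

The witness is `u = 1`: in characteristic 3, `1 + 1 = -1` and the exponent `3 ^ m * 3` is odd, so the
expression is `1 / ((-1) * (-1)) - 1 - 1 = -1 ≠ 0`.
-/

set_option autoImplicit false

namespace Cfsg.Agent.Lib.Helper12.Rx

section witnesses
variable {K : Type*} [Field K] [Fintype K] {m : ℕ}

theorem rxw12_three (hK : Fintype.card K = 3 ^ (2 * m + 1)) : (3 : K) = 0 := by
  have h := Nat.cast_card_eq_zero K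
  rw [hK] at h
  push_cast at h
  exact (pow_eq_zero_iff (by omega)).mp h

/-- RX-W12 -/
theorem exists_w12 (hm : 1 ≤ m) (hK : Fintype.card K = 3 ^ (2 * m + 1)) :
    ∃ u : K, u ≠ 0 ∧ u + 1 ≠ 0 ∧
      1 / ((u + 1) * (u + 1) ^ (3 ^ m * 3)) - 1 / (u * u ^ (3 ^ m * 3)) - 1 ≠ 0 := by
  have h3 : (3 : K) = 0 := rxw12_three hK
  have h2 : (1 + 1 : K) = -1 := by linear_combination h3
  have hodd : Odd (3 ^ m * 3) := (Odd.pow (by decide)).mul (by decide)
  refine ⟨1, one_ne_zero, ?_, ?_⟩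
  · rw [h2]
    exact neg_ne_zero.mpr one_ne_zero
  · rw [h2, hodd.neg_one_pow]
    simp

end witnesses

end Cfsg.Agent.Lib.Helper12.Rx
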