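import Mathlib

set_option autoImplicit false

/-! Definitions for the S2733 hive (helper99): local balance for `PΩ⁻`, graph involutions. -/

namespace Cfsg.Agent.Lib.Helper99.BM

universe u v

/-- (same as helper5's `Bal.OrthP`) odd-order (mod `±1`) normal subgroups of `O(V,B)` are central -/
def OrthP (K : Type u) [Field K] (V : Type v) [AddCommGroup V] [Module K V]
    (B : LinearMap.BilinForm K V) : Prop :=
  ∀ N : Subgroup (V ≃ₗ[K] V),
    (∀ f ∈ N, ∀ u w, B (f u) (f w) = B u w) →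
    (∀ h : V ≃ₗ[K] V, (∀ u w, B (h u) (h w) = B u w) → ∀ f ∈ N, h * f * h⁻¹ ∈ N) →
    (∀ f ∈ N, ∃ k : ℕ, Odd k ∧ (f ^ k = 1 ∨ f ^ k = LinearEquiv.neg K)) →
    ∀ f ∈ N, f = 1 ∨ f = LinearEquiv.neg K

end Cfsg.Agent.Lib.Helper99.BM
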