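import Cfsg.Agent.Lib.Helper99.UnitaryND3

set_option autoImplicit false

/-!
The stabilizer of a nondegenerate subspace is maximal in the special unitary group.
-/

namespace Cfsg.Agent.Lib.Helper99

open Matrix

section und4

variable {F : Type*} [Field F] [Fintype F] {q n : ℕ}

local notation "hh" => Cfsg.hermForm n F q

local notation "GG" => Cfsg.GU n F q ⊓ Cfsg.Geo.specialLinear (Fin n) F

theorem hermForm_mixed (hF : Fintype.card F = q ^ 2) (W : Submodule F (Fin n → F))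
    {a b a' b' : Fin n → F} (ha : a ∈ W) (hb : b ∈ hperp q W) (ha' : a' ∈ W)
    (hb' : b' ∈ hperp q W) : hh (a + b) (a' + b') = hh a a' + hh b b' := by
  rw [Helper13.hermForm_add_left, Helper13.hermForm_add_right hF, Helper13.hermForm_add_right hF,
    (mem_hperp' hF W b').mp hb' a ha, (mem_hperp W b).mp hb a' ha']
  ring

/-- All transvections with direction `u` lie in `M`. -/
def InZ (q : ℕ) (M : Subgroup (GL (Fin n) F)) (u : Fin n → F) : Prop :=
  ∀ c : F, c + c ^ q = 0 → utv q u c ∈ M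

variable (M : Subgroup (GL (Fin n) F))

theorem inZ_of_mem (hF : Fintype.card F = q ^ 2) (W : Submodule F (Fin n → F))
    (hPM : Cfsg.Geo.subspaceStabilizer W ⊓ GG ≤ M) (u : Fin n → F) (hu : u ∈ W)
    (hu0 : hh u u = 0) : InZ q M u :=
  fun c hc => hPM ⟨utv_mem_stabilizer_of_mem W u hu0 c hu, utv_mem_suGL hF u hu0 c hc⟩

theorem inZ_of_perp (hF : Fintype.card F = q ^ 2) (W : Submodule F (Fin n → F))
    (hPM : Cfsg.Geo.subspaceStabilizer W ⊓ GG ≤ M) (u : Fin n → F) (hu : u ∈ hperp q W)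
    (hu0 : hh u u = 0) : InZ q M u :=
  fun c hc => hPM ⟨utv_mem_stabilizer_of_perp W u hu0 c ((mem_hperp' hF W u).mp hu),
    utv_mem_suGL hF u hu0 c hc⟩

theorem inZ_map (hMS : M ≤ GG) (g : GL (Fin n) F) (hg : g ∈ M) (u : Fin n → F)
    (hu0 : hh u u = 0) (hu : InZ q M u) :
    InZ q M ((g : Matrix (Fin n) (Fin n) F) *ᵥ u) := by
  intro c hc
  rw [← conj_utv g (hMS hg).1 u hu0 c]
  exact M.mul_mem (M.mul_mem hg (hu c hc)) (M.inv_mem hg)

theorem norm_pow_q (hF : Fintype.card F = q ^ 2) (β : F) : (β ^ (q + 1)) ^ q = β ^ (q + 1) := by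
  have e1 : (β ^ (q + 1)) ^ q = (β ^ q) ^ (q + 1) := by
    rw [← pow_mul, ← pow_mul, mul_comm]
  rw [e1, pow_succ (β ^ q), Helper13.pow_q_pow_q hF, pow_succ]
  ring

theorem inZ_of_smul (hF : Fintype.card F = q ^ 2) (β : F) (hβ : β ≠ 0) (u : Fin n → F)
    (hu0 : hh u u = 0) (hu : InZ q M (β • u)) : InZ q M u := by
  intro c hc
  have hN0 : β ^ (q + 1) ≠ 0 := pow_ne_zero _ hβ
  have hc' : c * (β ^ (q + 1))⁻¹ + (c * (β ^ (q + 1))⁻¹) ^ q = 0 := by
    rw [mul_pow, inv_pow, norm_pow_q hF, ← add_mul, hc, zero_mul]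
  have := hu _ hc'
  rw [utv_smul u hu0, inv_mul_cancel_right₀ hN0] at this
  exact this

theorem inZ_smul (hF : Fintype.card F = q ^ 2) (β : F) (u : Fin n → F)
    (hu0 : hh u u = 0) (hu : InZ q M u) : InZ q M (β • u) := by
  intro c hc
  rw [utv_smul u hu0]
  apply hu
  rw [mul_pow, norm_pow_q hF, ← add_mul, hc, zero_mul]

variable {M}

/-- (3a) transfer along the stabilizer. -/
theorem inZ_transfer (hF : Fintype.card F = q ^ 2) {W : Submodule F (Fin n → F)}
    (h : NdOn q W) (hfr : 3 ≤ Module.finrank F (hperp q W))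
    (hPM : Cfsg.Geo.subspaceStabilizer W ⊓ GG ≤ M) (hMS : M ≤ GG)
    (a a' b b' : Fin n → F)
    (ha : a ∈ W) (ha' : a' ∈ W) (hb : b ∈ hperp q W) (hb' : b' ∈ hperp q W)
    (ha0 : a ≠ 0) (ha'0 : a' ≠ 0) (hb0 : b ≠ 0) (hb'0 : b' ≠ 0)
    (haa : hh a a = hh a' a') (hbb : hh b b = hh b' b') (hiso : hh a a + hh b b = 0)
    (hZ : InZ q M (a + b)) : InZ q M (a' + b') := by
  obtain ⟨p, hpS, hpW, hpu⟩ := exists_stab_map_und hF h hfr a a' b b' ha ha' hb hb' ha0 ha'0 hb0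
    hb'0 haa hbb
  have hpM : p ∈ M := hPM ⟨hpW, hpS⟩
  rw [← hpu]
  apply inZ_map M hMS p hpM _ _ hZ
  rw [hermForm_mixed hF W ha hb ha hb, hiso]

/-- (3b) scaling anisotropic mixed vectors. -/
theorem inZ_scale (hF : Fintype.card F = q ^ 2) {W : Submodule F (Fin n → F)}
    (h : NdOn q W) (hfr : 3 ≤ Module.finrank F (hperp q W))
    (hPM : Cfsg.Geo.subspaceStabilizer W ⊓ GG ≤ M) (hMS : M ≤ GG)
    (a b : Fin n → F) (ha : a ∈ W) (hb : b ∈ hperp q W) (haa : hh a a ≠ 0)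
    (hbb : hh b b = -hh a a) (hZ : InZ q M (a + b))
    (a' b' : Fin n → F) (ha' : a' ∈ W) (hb' : b' ∈ hperp q W) (ha'a' : hh a' a' ≠ 0)
    (hb'b' : hh b' b' = -hh a' a') : InZ q M (a' + b') := by
  have hρ : (hh a' a' / hh a a) ^ q = hh a' a' / hh a a := by
    rw [div_pow, hermForm_self_pow hF, hermForm_self_pow hF]
  obtain ⟨l, hl⟩ := exists_norm_eq hF _ hρ
  have hl0 : l ≠ 0 := by
    rintro rfl
    rw [zero_pow (by omega)] at hl
    exact (div_ne_zero ha'a' haa) hl.symm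
  have hne0 : ∀ v : Fin n → F, hh v v ≠ 0 → v ≠ 0 := by
    rintro v hv rfl
    exact hv (hermForm_zero_left 0)
  have hb0 : b ≠ 0 := hne0 b (by rw [hbb]; exact neg_ne_zero.mpr haa)
  have hb'0 : b' ≠ 0 := hne0 b' (by rw [hb'b']; exact neg_ne_zero.mpr ha'a')
  have hnorm : ∀ v : Fin n → F, hh (l • v) (l • v) = hh a' a' / hh a a * hh v v := by
    intro v
    rw [Helper13.hermForm_smul_left, Helper13.hermForm_smul_right, ← mul_assoc, ← pow_succ', hl]
  have hiso : hh (a + b) (a + b) = 0 := by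
    rw [hermForm_mixed hF W ha hb ha hb, hbb, add_neg_cancel]
  have hZ' : InZ q M (l • a + l • b) := by
    rw [← smul_add]
    exact inZ_smul M hF l _ hiso hZ
  apply inZ_transfer hF h hfr hPM hMS (l • a) a' (l • b) b' (W.smul_mem _ ha) ha'
    ((hperp q W).smul_mem _ hb) hb' (smul_ne_zero hl0 (hne0 a haa)) (hne0 a' ha'a')
    (smul_ne_zero hl0 hb0) hb'0 _ _ _ hZ'
  · rw [hnorm, div_mul_cancel₀ _ haa]
  · rw [hnorm, hbb, hb'b', mul_neg, div_mul_cancel₀ _ haa]
  · rw [hnorm, hnorm, hbb]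
    ring

/-- (3c) from a mixed vector with isotropic components to one with anisotropic components. -/
theorem inZ_C_to_D (hF : Fintype.card F = q ^ 2) {W : Submodule F (Fin n → F)}
    (h : NdOn q W) (hfr : 3 ≤ Module.finrank F (hperp q W))
    (hPM : Cfsg.Geo.subspaceStabilizer W ⊓ GG ≤ M) (hMS : M ≤ GG)
    (a b : Fin n → F) (ha : a ∈ W) (hb : b ∈ hperp q W) (ha0 : a ≠ 0) (hb0 : b ≠ 0)
    (haa : hh a a = 0) (hbb : hh b b = 0) (hZ : InZ q M (a + b)) :
    ∃ a'' b'' : Fin n → F, a'' ∈ W ∧ b'' ∈ hperp q W ∧ hh a'' a'' ≠ 0 ∧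
      hh b'' b'' = -hh a'' a'' ∧ InZ q M (a'' + b'') := by
  obtain ⟨β, hβ⟩ := exists_pow_q_ne (F := F) hF
  obtain ⟨τ, hτ0, hτ⟩ := exists_trace_zero hF
  have hτq : τ ^ q = -τ := eq_neg_of_add_eq_zero_right hτ
  obtain ⟨a', ha', ha'a', haa'⟩ := exists_hyp_partner hF h a ha ha0 haa 1
  obtain ⟨b', hb', hb'b', hbb'⟩ := exists_hyp_partner hF (nd_hperp hF h) b hb hb0 hbb β
  have hq0 : q ≠ 0 := by have := q_ge_two hF; omega
  have ha'0 : a' ≠ 0 := by
    rintro rfl
    rw [hermForm_zero_right hF] at haa'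
    exact zero_ne_one haa'
  have hβ0 : β ≠ 0 := by
    rintro rfl
    exact hβ (zero_pow hq0)
  have hb'0 : b' ≠ 0 := by
    rintro rfl
    rw [hermForm_zero_right hF] at hbb'
    exact hβ0 hbb'.symm
  have hZv : InZ q M (a' + b') :=
    inZ_transfer hF h hfr hPM hMS a a' b b' ha ha' hb hb' ha0 ha'0 hb0 hb'0
      (by rw [haa, ha'a']) (by rw [hbb, hb'b']) (by rw [haa, hbb, add_zero]) hZ
  have huu : hh (a + b) (a + b) = 0 := by
    rw [hermForm_mixed hF W ha hb ha hb, haa, hbb, add_zero]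
  have ha'a : hh a' a = 1 := by rw [← Helper13.hermForm_conj hF n a a', haa', one_pow]
  have hb'b : hh b' b = β ^ q := by rw [← Helper13.hermForm_conj hF n b b', hbb']
  have hvu : hh (a' + b') (a + b) = 1 + β ^ q := by
    rw [hermForm_mixed hF W ha' hb' ha hb, ha'a, hb'b]
  set κ : F := τ * (1 + β ^ q) with hκ
  have hκq : κ ^ q = -τ * (1 + β) := by
    rw [hκ, mul_pow, frob_add hF, one_pow, Helper13.pow_q_pow_q hF, hτq]
  have hMu : utv q (a + b) τ ∈ M := hZ τ hτ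
  have hZv' := inZ_map M hMS _ hMu (a' + b') (by
    rw [hermForm_mixed hF W ha' hb' ha' hb', ha'a', hb'b', add_zero]) hZv
  rw [utv_mulVec _ huu, hvu, ← hκ] at hZv'
  have hsplit : a' + b' + κ • (a + b) = (a' + κ • a) + (b' + κ • b) := by
    rw [smul_add]
    abel
  rw [hsplit] at hZv'
  have hA : hh (a' + κ • a) (a' + κ • a) = τ * (β ^ q - β) := by
    rw [Helper13.hermForm_add_left, Helper13.hermForm_add_right hF, Helper13.hermForm_add_right hF,
      Helper13.hermForm_smul_left, Helper13.hermForm_smul_left, Helper13.hermForm_smul_right,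
      Helper13.hermForm_smul_right, ha'a', haa, ha'a, haa', hκq, hκ]
    ring
  have hB : hh (b' + κ • b) (b' + κ • b) = -(τ * (β ^ q - β)) := by
    rw [Helper13.hermForm_add_left, Helper13.hermForm_add_right hF, Helper13.hermForm_add_right hF,
      Helper13.hermForm_smul_left, Helper13.hermForm_smul_left, Helper13.hermForm_smul_right,
      Helper13.hermForm_smul_right, hb'b', hbb, hb'b, hbb', hκq, hκ]
    ring
  refine ⟨a' + κ • a, b' + κ • b, W.add_mem ha' (W.smul_mem _ ha),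
    (hperp q W).add_mem hb' ((hperp q W).smul_mem _ hb), ?_, ?_, hZv'⟩
  · rw [hA]
    exact mul_ne_zero hτ0 (sub_ne_zero.mpr hβ)
  · rw [hA, hB]

/-- (3d) a mixed vector with isotropic components, from those with anisotropic components. -/
theorem inZ_C_of_D (hF : Fintype.card F = q ^ 2) {W : Submodule F (Fin n → F)}
    (h : NdOn q W) (hfr : 3 ≤ Module.finrank F (hperp q W)) (hMS : M ≤ GG)
    (hD : ∀ a b : Fin n → F, a ∈ W → b ∈ hperp q W → hh a a ≠ 0 → hh b b = -hh a a →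
      InZ q M (a + b))
    (a₀ b₀ : Fin n → F) (ha₀ : a₀ ∈ W) (hb₀ : b₀ ∈ hperp q W) (ha₀0 : a₀ ≠ 0)
    (ha₀a₀ : hh a₀ a₀ = 0) (hb₀b₀ : hh b₀ b₀ = 0) : InZ q M (a₀ + b₀) := by
  obtain ⟨τ, hτ0, hτ⟩ := exists_trace_zero hF
  have hτq : τ ^ q = -τ := eq_neg_of_add_eq_zero_right hτ
  obtain ⟨a₀', ha₀', ha₀'a₀', ha₀a₀'⟩ := exists_hyp_partner hF h a₀ ha₀ ha₀0 ha₀a₀ 1
  have ha₀'a₀ : hh a₀' a₀ = 1 := by
    rw [← Helper13.hermForm_conj hF n a₀ a₀', ha₀a₀', one_pow]
  obtain ⟨ρ, hρ⟩ := exists_trace_eq' hF (1 : F) (one_pow q)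
  obtain ⟨au, hau⟩ : ∃ au : Fin n → F, au = a₀' + ρ • a₀ := ⟨_, rfl⟩
  have hauW : au ∈ W := by rw [hau]; exact W.add_mem ha₀' (W.smul_mem _ ha₀)
  have hauau : hh au au = 1 := by
    rw [hau, Helper13.hermForm_add_left, Helper13.hermForm_add_right hF,
      Helper13.hermForm_add_right hF, Helper13.hermForm_smul_left, Helper13.hermForm_smul_left,
      Helper13.hermForm_smul_right, Helper13.hermForm_smul_right, ha₀'a₀', ha₀a₀, ha₀'a₀, ha₀a₀']
    linear_combination hρ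
  have ha₀au : hh a₀ au = 1 := by
    rw [hau, Helper13.hermForm_add_right hF, Helper13.hermForm_smul_right, ha₀a₀, ha₀a₀', mul_zero,
      add_zero]
  have haua₀ : hh au a₀ = 1 := by
    rw [← Helper13.hermForm_conj hF n a₀ au, ha₀au, one_pow]
  obtain ⟨bu, hbuW, hbuS, hbubu⟩ := exists_norm_vector_room hF (nd_hperp hF h)
    (Submodule.span F {b₀}) (by have := finrank_span_singleton_le' b₀; omega) (-1)
    (by rw [frob_neg hF, one_pow])
  have hbub₀ : hh bu b₀ = 0 :=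
    (mem_hperp _ bu).mp hbuS b₀ (Submodule.mem_span_singleton_self b₀)
  have hb₀bu : hh b₀ bu = 0 := hermForm_eq_zero_comm hF hbub₀
  -- `u` and `v`
  have hZu : InZ q M (au + bu) := hD au bu hauW hbuW (by rw [hauau]; exact one_ne_zero)
    (by rw [hbubu, hauau])
  have huu : hh (au + bu) (au + bu) = 0 := by
    rw [hermForm_mixed hF W hauW hbuW hauW hbuW, hauau, hbubu, add_neg_cancel]
  have hav : hh (au + τ • a₀) (au + τ • a₀) = 1 := by
    rw [Helper13.hermForm_add_left, Helper13.hermForm_add_right hF, Helper13.hermForm_add_right hF,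
      Helper13.hermForm_smul_left, Helper13.hermForm_smul_left, Helper13.hermForm_smul_right,
      Helper13.hermForm_smul_right, hauau, ha₀a₀, haua₀, ha₀au, hτq]
    ring
  have hbv : hh (bu + τ • b₀) (bu + τ • b₀) = -1 := by
    rw [Helper13.hermForm_add_left, Helper13.hermForm_add_right hF, Helper13.hermForm_add_right hF,
      Helper13.hermForm_smul_left, Helper13.hermForm_smul_left, Helper13.hermForm_smul_right,
      Helper13.hermForm_smul_right, hbubu, hb₀b₀, hbub₀, hb₀bu]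
    ring
  have hZv : InZ q M ((au + τ • a₀) + (bu + τ • b₀)) :=
    hD _ _ (W.add_mem hauW (W.smul_mem _ ha₀))
      ((hperp q W).add_mem hbuW ((hperp q W).smul_mem _ hb₀))
      (by rw [hav]; exact one_ne_zero) (by rw [hbv, hav])
  have hvv : hh ((au + τ • a₀) + (bu + τ • b₀)) ((au + τ • a₀) + (bu + τ • b₀)) = 0 := by
    rw [hermForm_mixed hF W (W.add_mem hauW (W.smul_mem _ ha₀))
      ((hperp q W).add_mem hbuW ((hperp q W).smul_mem _ hb₀))
      (W.add_mem hauW (W.smul_mem _ ha₀))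
      ((hperp q W).add_mem hbuW ((hperp q W).smul_mem _ hb₀)), hav, hbv, add_neg_cancel]
  have hvu : hh ((au + τ • a₀) + (bu + τ • b₀)) (au + bu) = τ := by
    rw [hermForm_mixed hF W (W.add_mem hauW (W.smul_mem _ ha₀))
      ((hperp q W).add_mem hbuW ((hperp q W).smul_mem _ hb₀)) hauW hbuW,
      Helper13.hermForm_add_left, Helper13.hermForm_add_left, Helper13.hermForm_smul_left,
      Helper13.hermForm_smul_left, hauau, hbubu, ha₀au, hb₀bu]
    ring
  have hc : (-τ)⁻¹ + ((-τ)⁻¹) ^ q = 0 := by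
    apply trace_zero_inv hF
    rw [frob_neg hF, hτq]
    ring
  have hMu : utv q (au + bu) (-τ)⁻¹ ∈ M := hZu _ hc
  have hZ' := inZ_map M hMS _ hMu _ hvv hZv
  rw [utv_mulVec _ huu, hvu] at hZ'
  have hfin : (au + τ • a₀) + (bu + τ • b₀) + ((-τ)⁻¹ * τ) • (au + bu) = τ • (a₀ + b₀) := by
    have : (-τ)⁻¹ * τ = -1 := by
      rw [inv_neg, neg_mul, inv_mul_cancel₀ hτ0]
    rw [this, neg_one_smul, smul_add]
    abel
  rw [hfin] at hZ'
  apply inZ_of_smul M hF τ hτ0 _ _ hZ'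
  rw [hermForm_mixed hF W ha₀ hb₀ ha₀ hb₀, ha₀a₀, hb₀b₀, add_zero]

end und4

end Cfsg.Agent.Lib.Helper99
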