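import Mathlib

set_option autoImplicit false
set_option linter.unusedSectionVars false
set_option linter.unusedVariables false

/-!
# Anisotropic binary quadratic forms over a finite field: normal form `x² + a x y + b y²`
-/

namespace Cfsg.Agent.Lib.Helper99.QuadStd

open Matrix Module QuadraticMap Polynomial

universe u

/-- an anisotropic binary quadratic form over a finite field represents `1` -/
theorem binary_rep_one {K : Type u} [Field K] [Finite K] (Q₁ : QuadraticForm K (Fin 2 → K))
    (haniso : ∀ x, Q₁ x = 0 → x = 0) : ∃ u, Q₁ u = 1 := by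
  classical
  let _ : Fintype K := Fintype.ofFinite K
  let e0 : Fin 2 → K := Pi.single 0 1
  let e1 : Fin 2 → K := Pi.single 1 1
  have he0 : e0 ≠ 0 := by
    intro h
    have := congrFun h 0
    simp [e0] at this
  have hα : Q₁ e0 ≠ 0 := fun h => he0 (haniso _ h)
  by_cases h2 : ringChar K = 2
  · obtain ⟨s, hs⟩ := FiniteField.isSquare_of_char_two h2 (Q₁ e0)⁻¹
    refine ⟨s • e0, ?_⟩
    rw [QuadraticMap.map_smul, smul_eq_mul, ← hs, inv_mul_cancel₀ hα]
  · have h2' : (2 : K) ≠ 0 := Ring.two_ne_zero h2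
    -- orthogonal vector
    let c : K := polar Q₁ e0 e1 / (2 * Q₁ e0)
    let w : Fin 2 → K := e1 - c • e0
    have hw0 : w ≠ 0 := by
      intro h
      have := congrFun h 1
      simp [w, e0, e1] at this
    have hδ : Q₁ w ≠ 0 := fun h => hw0 (haniso _ h)
    have hpol : polar Q₁ e0 w = 0 := by
      show polar Q₁ e0 (e1 - c • e0) = 0
      have hself : polar Q₁ e0 e0 = 2 * Q₁ e0 := by rw [polar_self, two_nsmul, two_mul]
      rw [polar_sub_right, polar_smul_right, hself, smul_eq_mul]
      show polar Q₁ e0 e1 - polar Q₁ e0 e1 / (2 * Q₁ e0) * (2 * Q₁ e0) = 0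
      rw [div_mul_cancel₀ _ (mul_ne_zero h2' hα), sub_self]
    have hK := FiniteField.odd_card_of_char_ne_two h2
    obtain ⟨s, t, hst⟩ := @FiniteField.exists_root_sum_quadratic K _ _ _
      (C (Q₁ e0) * X ^ 2 + C 0 * X + C 0) (C (Q₁ w) * X ^ 2 + C 0 * X + C (-1))
      (degree_quadratic hα) (degree_quadratic hδ) hK
    simp only [eval_add, eval_mul, eval_C, eval_pow, eval_X, zero_mul, add_zero] at hst
    refine ⟨s • e0 + t • w, ?_⟩
    rw [QuadraticMap.map_add Q₁ (s • e0) (t • w), QuadraticMap.map_smul, QuadraticMap.map_smul,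
      polar_smul_left, polar_smul_right, hpol, smul_eq_mul, smul_eq_mul, smul_eq_mul, smul_eq_mul]
    linear_combination hst

/-- a nonzero vector of `K²` can be completed to a basis -/
theorem exists_compl {K : Type u} [Field K] (u : Fin 2 → K) (hu : u ≠ 0) :
    ∃ v : Fin 2 → K, ∀ c0 c1 : K, c0 • u + c1 • v = 0 → c0 = 0 ∧ c1 = 0 := by
  by_cases h0 : u 0 = 0
  · have h1 : u 1 ≠ 0 := by
      intro h1
      apply hu
      funext i
      fin_cases i
      · exact h0
      · exact h1
    refine ⟨Pi.single 0 1, fun c0 c1 h => ?_⟩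
    have e1 := congrFun h 1
    have e0 := congrFun h 0
    simp at e0 e1
    have hc0 : c0 = 0 := by
      rcases e1 with h | h
      · exact h
      · exact absurd h h1
    subst hc0
    simp at e0
    exact ⟨rfl, e0⟩
  · refine ⟨Pi.single 1 1, fun c0 c1 h => ?_⟩
    have e1 := congrFun h 1
    have e0 := congrFun h 0
    simp at e0 e1
    have hc0 : c0 = 0 := by
      rcases e0 with h | h
      · exact h
      · exact absurd h h0
    subst hc0
    simp at e1
    exact ⟨rfl, e1⟩

/-- normal form of an anisotropic binary quadratic form over a finite field -/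
theorem binary_normal {K : Type u} [Field K] [Finite K] (Q₁ : QuadraticForm K (Fin 2 → K))
    (haniso : ∀ x, Q₁ x = 0 → x = 0) :
    ∃ (a b : K) (L : (Fin 2 → K) ≃ₗ[K] (Fin 2 → K)),
      (∀ x y : K, x ^ 2 + a * x * y + b * y ^ 2 = 0 → x = 0 ∧ y = 0) ∧
      ∀ v, Q₁ v = (L v 0) ^ 2 + a * L v 0 * L v 1 + b * (L v 1) ^ 2 := by
  classical
  obtain ⟨u, hu⟩ := binary_rep_one Q₁ haniso
  have hu0 : u ≠ 0 := by
    intro h
    rw [h, QuadraticMap.map_zero] at hu
    exact zero_ne_one hu
  obtain ⟨w, hw⟩ := exists_compl u hu0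
  let T : (Fin 2 → K) →ₗ[K] (Fin 2 → K) :=
    { toFun := fun c => c 0 • u + c 1 • w
      map_add' := by
        intro x y
        simp only [Pi.add_apply, add_smul]
        abel
      map_smul' := by
        intro r x
        simp only [Pi.smul_apply, smul_eq_mul, RingHom.id_apply, smul_add, smul_smul] }
  have hT : ∀ c, T c = c 0 • u + c 1 • w := fun c => rfl
  have hinj : Function.Injective T := by
    rw [← LinearMap.ker_eq_bot, LinearMap.ker_eq_bot']
    intro c hc
    rw [hT] at hc
    obtain ⟨h0, h1⟩ := hw _ _ hc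
    funext i
    fin_cases i
    · exact h0
    · exact h1
  let E : (Fin 2 → K) ≃ₗ[K] (Fin 2 → K) := LinearEquiv.ofInjectiveEndo T hinj
  have hE : ∀ c, E c = T c := fun c => rfl
  have hform : ∀ c, Q₁ (T c) = (c 0) ^ 2 + polar Q₁ u w * c 0 * c 1 + Q₁ w * (c 1) ^ 2 := by
    intro c
    rw [hT, QuadraticMap.map_add Q₁ (c 0 • u) (c 1 • w), QuadraticMap.map_smul,
      QuadraticMap.map_smul, polar_smul_left,
      polar_smul_right, hu, smul_eq_mul, smul_eq_mul, smul_eq_mul, smul_eq_mul]
    ring
  refine ⟨polar Q₁ u w, Q₁ w, E.symm, ?_, ?_⟩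
  · intro x y hxy
    have h1 := hform ![x, y]
    simp only [Matrix.cons_val_zero, Matrix.cons_val_one] at h1
    rw [hxy] at h1
    have h2 := haniso _ h1
    have h3 : (![x, y] : Fin 2 → K) = 0 := by
      apply hinj
      rw [h2, map_zero]
    have e0 := congrFun h3 0
    have e1 := congrFun h3 1
    simp at e0 e1
    exact ⟨e0, e1⟩
  · intro v
    have h1 := hform (E.symm v)
    rw [← hE, LinearEquiv.apply_symm_apply] at h1
    exact h1

end Cfsg.Agent.Lib.Helper99.QuadStd
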