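import Mathlib
import Cfsg.Agent.Lib.Helper37.OrthField5
import Cfsg.Agent.Lib.Helper99.QuadStd1

set_option autoImplicit false
set_option linter.unusedSectionVars false
set_option linter.unusedVariables false

/-!
# Classification of nondegenerate even-dimensional quadratic forms over a finite field
-/

namespace Cfsg.Agent.Lib.Helper99.QuadStd

open Matrix Module QuadraticMap

universe u

variable {ι : Type} [Fintype ι] [DecidableEq ι]

/-- the anisotropy condition on the binary part `z₁² + a z₁ z₂ + b z₂²` -/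
def Aniso {K : Type*} [Field K] (a b : K) : Prop :=
  ∀ x y : K, x ^ 2 + a * x * y + b * y ^ 2 = 0 → x = 0 ∧ y = 0

/-- replace the last block of coordinates by a linear change `L` -/
noncomputable def lastBlock {K : Type*} [Field K] {α β : Type} (L : (β → K) ≃ₗ[K] (β → K)) :
    (α ⊕ β → K) ≃ₗ[K] (α ⊕ β → K) :=
  (LinearEquiv.sumArrowLequivProdArrow α β K K).trans
    (((LinearEquiv.refl K (α → K)).prodCongr L).trans
      (LinearEquiv.sumArrowLequivProdArrow α β K K).symm)

theorem lastBlock_inl {K : Type*} [Field K] {α β : Type} (L : (β → K) ≃ₗ[K] (β → K))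
    (f : α ⊕ β → K) (x : α) : lastBlock L f (Sum.inl x) = f (Sum.inl x) := rfl

theorem lastBlock_inr {K : Type*} [Field K] {α β : Type} (L : (β → K) ≃ₗ[K] (β → K))
    (f : α ⊕ β → K) (t : β) : lastBlock L f (Sum.inr t) = L (fun s => f (Sum.inr s)) t := rfl

/-- **Classification of nondegenerate quadratic forms of even dimension `2m` over a finite field
(any characteristic), up to isometry**: plus type `quadFormPlus m`, or minus type
`quadFormMinus k a b` with `m = k + 1` and anisotropic binary part. -/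
theorem hcls_even {K : Type u} [Field K] [Finite K] (m : ℕ) (hcard : Fintype.card ι = 2 * m)
    (P : QuadraticForm K (ι → K)) (hP : (polarBilin P).Nondegenerate) :
    (∃ Θ : (ι → K) ≃ₗ[K] (Fin m ⊕ Fin m → K), ∀ v, P v = Cfsg.quadFormPlus m K (Θ v)) ∨
    (∃ (k : ℕ) (_ : m = k + 1) (a b : K) (Θ : (ι → K) ≃ₗ[K] ((Fin k ⊕ Fin k) ⊕ Fin 2 → K)),
      Aniso a b ∧ ∀ v, P v = Cfsg.quadFormMinus k K a b (Θ v)) := by
  classical
  obtain ⟨k, d, hd2, hc, Θ, Q₁, haniso, hform⟩ :=
    Cfsg.Agent.Lib.Helper37.OrthField.canon_form P hP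
  rw [hcard] at hc
  have hd : d = 0 ∨ d = 2 := by omega
  rcases hd with hd | hd
  · subst hd
    have hkm : k = m := by omega
    subst hkm
    left
    let e : Fin k ⊕ Fin k ≃ (Fin k ⊕ Fin k) ⊕ Fin 0 := (Equiv.sumEmpty (Fin k ⊕ Fin k) (Fin 0)).symm
    refine ⟨Θ.trans (LinearEquiv.funCongrLeft K K e), fun v => ?_⟩
    rw [hform v]
    have h0 : Q₁ (fun t => Θ v (Sum.inr t)) = 0 := by
      have : (fun t : Fin 0 => Θ v (Sum.inr t)) = 0 := Subsingleton.elim _ _
      rw [this, QuadraticMap.map_zero]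
    rw [h0, add_zero]
    rfl
  · subst hd
    have hkm : m = k + 1 := by omega
    right
    obtain ⟨a, b, L, hab, hL⟩ := binary_normal Q₁ haniso
    refine ⟨k, hkm, a, b, Θ.trans (lastBlock L), hab, fun v => ?_⟩
    rw [hform v, hL]
    rfl

/-- the same with `m - 1` -/
theorem hcls_even' {K : Type u} [Field K] [Finite K] (m : ℕ) (hcard : Fintype.card ι = 2 * m)
    (P : QuadraticForm K (ι → K)) (hP : (polarBilin P).Nondegenerate) :
    (∃ Θ : (ι → K) ≃ₗ[K] (Fin m ⊕ Fin m → K), ∀ v, P v = Cfsg.quadFormPlus m K (Θ v)) ∨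
    (1 ≤ m ∧ ∃ (a b : K) (Θ : (ι → K) ≃ₗ[K] ((Fin (m - 1) ⊕ Fin (m - 1)) ⊕ Fin 2 → K)),
      Aniso a b ∧ ∀ v, P v = Cfsg.quadFormMinus (m - 1) K a b (Θ v)) := by
  rcases hcls_even m hcard P hP with h | ⟨k, hk, a, b, Θ, hab, h⟩
  · exact Or.inl h
  · subst hk
    exact Or.inr ⟨by omega, a, b, Θ, hab, h⟩

end Cfsg.Agent.Lib.Helper99.QuadStd
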