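import Mathlib
import Cfsg.Prelude.Def_GeometricClasses
import Cfsg.Agent.Lib.Helper37.OrthField5
import Cfsg.Agent.Lib.Helper37.ParabolicBridge
import Cfsg.Agent.Lib.Helper99.QuadStd2

set_option autoImplicit false
set_option linter.unusedSectionVars false
set_option linter.unusedVariables false

/-!
# Standard forms for `quadSimilarityGroup Q`, `Q` a nondegenerate quadratic form on `F^n`, `F` finite
-/

namespace Cfsg.Agent.Lib.Helper99.QuadStd

open Matrix Module QuadraticMap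

universe u

/-- a form on `κ`-coordinates transported to `ι`-coordinates along `e : ι ≃ κ` -/
def reidx {ι κ : Type} {F : Type*} (e : ι ≃ κ) (Q₀ : (κ → F) → F) : (ι → F) → F :=
  fun v => Q₀ (fun k => v (e.symm k))

theorem reidx_apply {ι κ : Type} {F : Type*} (e : ι ≃ κ) (Q₀ : (κ → F) → F) (v : ι → F) :
    reidx e Q₀ v = Q₀ (fun k => v (e.symm k)) := rfl

variable {ι : Type} [Fintype ι] [DecidableEq ι] {F : Type u} [Field F]

/-- if `Q' ∘ B = l • Q` then `B` conjugates the similarity group of `Q` onto that of `Q'` -/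
theorem sim_iff_of_std (Q Q' : (ι → F) → F) (B : GL ι F) (l : Fˣ)
    (h : ∀ v, Q' ((B : Matrix ι ι F) *ᵥ v) = (l : F) * Q v) (g : GL ι F) :
    g ∈ Cfsg.Geo.quadSimilarityGroup Q ↔ B * g * B⁻¹ ∈ Cfsg.Geo.quadSimilarityGroup Q' := by
  have hBi : ∀ w, (B : Matrix ι ι F) *ᵥ (((B⁻¹ : GL ι F) : Matrix ι ι F) *ᵥ w) = w := by
    intro w
    rw [Matrix.mulVec_mulVec, ← Units.val_mul, mul_inv_cancel, Units.val_one, Matrix.one_mulVec]
  have hiB : ∀ w, ((B⁻¹ : GL ι F) : Matrix ι ι F) *ᵥ ((B : Matrix ι ι F) *ᵥ w) = w := by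
    intro w
    rw [Matrix.mulVec_mulVec, ← Units.val_mul, inv_mul_cancel, Units.val_one, Matrix.one_mulVec]
  have h' : ∀ w, Q' w = (l : F) * Q (((B⁻¹ : GL ι F) : Matrix ι ι F) *ᵥ w) := by
    intro w
    rw [← h, hBi]
  constructor
  · rintro ⟨c, hc⟩
    refine ⟨c, fun w => ?_⟩
    rw [Units.val_mul, Units.val_mul, ← Matrix.mulVec_mulVec, ← Matrix.mulVec_mulVec, h, hc, h' w]
    ring
  · rintro ⟨c, hc⟩
    refine ⟨c, fun v => ?_⟩
    have h1 := hc ((B : Matrix ι ι F) *ᵥ v)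
    rw [Units.val_mul, Units.val_mul, ← Matrix.mulVec_mulVec, ← Matrix.mulVec_mulVec, hiB, h, h] at h1
    have hl : (l : F) ≠ 0 := l.ne_zero
    apply mul_left_cancel₀ hl
    rw [h1]
    ring

/-- from a coordinate system `Θ` to a matrix `B` -/
theorem exists_B_of_coords {κ : Type} [Fintype κ] [DecidableEq κ] (e : ι ≃ κ)
    (Q : (ι → F) → F) (Q₀ : (κ → F) → F)
    (Θ : (ι → F) ≃ₗ[F] (κ → F)) (hΘ : ∀ v, Q v = Q₀ (Θ v)) :
    ∃ B : GL ι F, ∀ v, reidx e Q₀ ((B : Matrix ι ι F) *ᵥ v) = Q v := by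
  refine ⟨Cfsg.Agent.Lib.Helper37.OrthField.glOfEquiv (Θ.trans (LinearEquiv.funCongrLeft F F e)),
    fun v => ?_⟩
  rw [Cfsg.Agent.Lib.Helper37.OrthField.glOfEquiv_mulVec, hΘ, reidx_apply]
  congr 1
  funext k
  show Θ v (e (e.symm k)) = Θ v k
  rw [Equiv.apply_symm_apply]

/-- **Even dimension**: a nondegenerate quadratic form `Q` on `F^ι`, `|ι| = 2m`, `F` finite (any
characteristic), is isometric to the plus-type form or to a minus-type form (transported to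
`ι`-coordinates along ANY index bijection `e`). -/
theorem exists_std_even [Finite F] (m : ℕ) (hcard : Fintype.card ι = 2 * m)
    (Q : (ι → F) → F) (hQ : Cfsg.Geo.IsNondegenerateQuadraticForm Q) :
    (∀ e : ι ≃ Fin m ⊕ Fin m, ∃ B : GL ι F,
        ∀ v, reidx e (Cfsg.quadFormPlus m F) ((B : Matrix ι ι F) *ᵥ v) = Q v) ∨
    (∃ (k : ℕ) (_ : m = k + 1) (a b : F), Aniso a b ∧
      ∀ e : ι ≃ (Fin k ⊕ Fin k) ⊕ Fin 2, ∃ B : GL ι F,
        ∀ v, reidx e (Cfsg.quadFormMinus k F a b) ((B : Matrix ι ι F) *ᵥ v) = Q v) := by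
  rcases hcls_even m hcard (Cfsg.Agent.Lib.Helper37.toQF Q hQ)
    (Cfsg.Agent.Lib.Helper37.toQF_nondeg Q hQ) with ⟨Θ, hΘ⟩ | ⟨k, hk, a, b, Θ, hab, hΘ⟩
  · left
    intro e
    exact exists_B_of_coords e Q _ Θ hΘ
  · right
    refine ⟨k, hk, a, b, hab, fun e => ?_⟩
    exact exists_B_of_coords e Q _ Θ hΘ

/-- transfer-ready form of `exists_std_even` (same shape as `Helper74.UfWLOG.exists_std`) -/
theorem exists_std_even_sim [Finite F] (m : ℕ) (hcard : Fintype.card ι = 2 * m)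
    (Q : (ι → F) → F) (hQ : Cfsg.Geo.IsNondegenerateQuadraticForm Q) :
    (∀ e : ι ≃ Fin m ⊕ Fin m, ∃ B : GL ι F, ∀ g : GL ι F,
        g ∈ Cfsg.Geo.quadSimilarityGroup Q ↔
          B * g * B⁻¹ ∈ Cfsg.Geo.quadSimilarityGroup (reidx e (Cfsg.quadFormPlus m F))) ∨
    (∃ (k : ℕ) (_ : m = k + 1) (a b : F), Aniso a b ∧
      ∀ e : ι ≃ (Fin k ⊕ Fin k) ⊕ Fin 2, ∃ B : GL ι F, ∀ g : GL ι F,
        g ∈ Cfsg.Geo.quadSimilarityGroup Q ↔
          B * g * B⁻¹ ∈ Cfsg.Geo.quadSimilarityGroup (reidx e (Cfsg.quadFormMinus k F a b))) := by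
  rcases exists_std_even m hcard Q hQ with h | ⟨k, hk, a, b, hab, h⟩
  · left
    intro e
    obtain ⟨B, hB⟩ := h e
    exact ⟨B, fun g => sim_iff_of_std Q _ B 1 (fun v => by rw [hB, Units.val_one, one_mul]) g⟩
  · right
    refine ⟨k, hk, a, b, hab, fun e => ?_⟩
    obtain ⟨B, hB⟩ := h e
    exact ⟨B, fun g => sim_iff_of_std Q _ B 1 (fun v => by rw [hB, Units.val_one, one_mul]) g⟩

/-- reindexing a nondegenerate quadratic form -/
theorem nondeg_reidx {κ : Type} [Fintype κ] [DecidableEq κ] (e : κ ≃ ι)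
    (Q : (ι → F) → F) (hQ : Cfsg.Geo.IsNondegenerateQuadraticForm Q) :
    Cfsg.Geo.IsNondegenerateQuadraticForm (reidx e Q) := by
  have hpol : ∀ x y : κ → F, polar (reidx e Q) x y
      = polar Q (fun k => x (e.symm k)) (fun k => y (e.symm k)) := fun x y => rfl
  refine ⟨fun c v => ?_, ⟨?_, ?_, ?_, ?_⟩, ?_⟩
  · exact hQ.smul c _
  · intro x y v
    rw [hpol, hpol, hpol]
    exact hQ.polar_bilinear.add_left _ _ _
  · intro c x v
    rw [hpol, hpol]
    exact hQ.polar_bilinear.smul_left _ _ _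
  · intro v x y
    rw [hpol, hpol, hpol]
    exact hQ.polar_bilinear.add_right _ _ _
  · intro c v x
    rw [hpol, hpol]
    exact hQ.polar_bilinear.smul_right _ _ _
  · intro v hv
    have hv' : (fun k => v (e.symm k)) ≠ 0 := by
      intro h
      apply hv
      funext i
      have := congrFun h (e i)
      simpa using this
    obtain ⟨⟨x, hx⟩, ⟨y, hy⟩⟩ := hQ.nondegenerate _ hv'
    refine ⟨⟨fun i => x (e i), ?_⟩, ⟨fun i => y (e i), ?_⟩⟩
    · rw [hpol]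
      simpa using hx
    · rw [hpol]
      simpa using hy

/-- **Odd dimension**: a nondegenerate quadratic form `Q` on `F^ι`, `|ι| = 2m+1`, `F` finite, is
similar to `quadFormOdd m` (transported along any index bijection `e`). -/
theorem exists_std_odd [Finite F] (m : ℕ) (e : ι ≃ Unit ⊕ (Fin m ⊕ Fin m))
    (Q : (ι → F) → F) (hQ : Cfsg.Geo.IsNondegenerateQuadraticForm Q) :
    ∃ (B : GL ι F) (l : Fˣ),
      ∀ v, reidx e (Cfsg.quadFormOdd m F) ((B : Matrix ι ι F) *ᵥ v) = (l : F) * Q v := by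
  classical
  have hQ' := nondeg_reidx e.symm Q hQ
  obtain ⟨k₀, l, hk⟩ := Cfsg.Agent.Lib.Helper37.OrthField.hcls_odd m
    (Cfsg.Agent.Lib.Helper37.toQF _ hQ') (Cfsg.Agent.Lib.Helper37.toQF_nondeg _ hQ')
  -- the linear equivalence of `k₀⁻¹`
  let Lk : (Unit ⊕ (Fin m ⊕ Fin m) → F) ≃ₗ[F] (Unit ⊕ (Fin m ⊕ Fin m) → F) :=
    LinearEquiv.ofLinearMap (Matrix.mulVecLin ((k₀⁻¹ : GL (Unit ⊕ (Fin m ⊕ Fin m)) F) :
        Matrix (Unit ⊕ (Fin m ⊕ Fin m)) (Unit ⊕ (Fin m ⊕ Fin m)) F))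
      (Matrix.mulVecLin (k₀ : Matrix (Unit ⊕ (Fin m ⊕ Fin m)) (Unit ⊕ (Fin m ⊕ Fin m)) F))
      (by
        apply LinearMap.ext
        intro w
        simp only [LinearMap.comp_apply, Matrix.mulVecLin_apply, LinearMap.id_apply]
        rw [Matrix.mulVec_mulVec, ← Units.val_mul, inv_mul_cancel, Units.val_one,
          Matrix.one_mulVec])
      (by
        apply LinearMap.ext
        intro w
        simp only [LinearMap.comp_apply, Matrix.mulVecLin_apply, LinearMap.id_apply]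
        rw [Matrix.mulVec_mulVec, ← Units.val_mul, mul_inv_cancel, Units.val_one,
          Matrix.one_mulVec])
  have hLk : ∀ w, (k₀ : Matrix _ _ F) *ᵥ (Lk w) = w := by
    intro w
    show (k₀ : Matrix (Unit ⊕ (Fin m ⊕ Fin m)) (Unit ⊕ (Fin m ⊕ Fin m)) F) *ᵥ
      (((k₀⁻¹ : GL (Unit ⊕ (Fin m ⊕ Fin m)) F) :
        Matrix (Unit ⊕ (Fin m ⊕ Fin m)) (Unit ⊕ (Fin m ⊕ Fin m)) F) *ᵥ w) = w
    rw [Matrix.mulVec_mulVec, ← Units.val_mul, mul_inv_cancel, Units.val_one, Matrix.one_mulVec]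
  let L : (ι → F) ≃ₗ[F] (ι → F) :=
    ((LinearEquiv.funCongrLeft F F e.symm).trans Lk).trans (LinearEquiv.funCongrLeft F F e)
  refine ⟨Cfsg.Agent.Lib.Helper37.OrthField.glOfEquiv L, l⁻¹, fun v => ?_⟩
  rw [Cfsg.Agent.Lib.Helper37.OrthField.glOfEquiv_mulVec, reidx_apply]
  have h1 : (fun k => L v (e.symm k)) = Lk (fun k => v (e.symm k)) := by
    funext k
    show Lk (fun k => v (e.symm k)) (e (e.symm k)) = _
    rw [Equiv.apply_symm_apply]
  rw [h1]
  have h2 := hk (Lk (fun k => v (e.symm k)))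
  rw [hLk] at h2
  have h3 : (Cfsg.Agent.Lib.Helper37.toQF _ hQ') (fun k => v (e.symm k)) = Q v := by
    show Q (fun i => v (e.symm (e.symm.symm i))) = Q v
    congr 1
    funext i
    simp
  rw [h3] at h2
  rw [h2, Units.val_inv_eq_inv_val, ← mul_assoc, inv_mul_cancel₀ l.ne_zero, one_mul]

/-- transfer-ready form of `exists_std_odd` -/
theorem exists_std_odd_sim [Finite F] (m : ℕ) (e : ι ≃ Unit ⊕ (Fin m ⊕ Fin m))
    (Q : (ι → F) → F) (hQ : Cfsg.Geo.IsNondegenerateQuadraticForm Q) :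
    ∃ B : GL ι F, ∀ g : GL ι F,
      g ∈ Cfsg.Geo.quadSimilarityGroup Q ↔
        B * g * B⁻¹ ∈ Cfsg.Geo.quadSimilarityGroup (reidx e (Cfsg.quadFormOdd m F)) := by
  obtain ⟨B, l, h⟩ := exists_std_odd m e Q hQ
  exact ⟨B, fun g => sim_iff_of_std Q _ B l h g⟩

end Cfsg.Agent.Lib.Helper99.QuadStd
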