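import Mathlib
import Cfsg.Prelude.Def_ClassicalGeometry
import Cfsg.Agent.Lib.Helper4.NdDefs

set_option autoImplicit false
open Matrix
open Cfsg.Agent.Lib.Helper99 (Nd dker sympB)

/-! ND-A6 (S5956 hive of helper4) -/

namespace Cfsg.Agent.Lib.Helper4.NdH

universe u v

variable {F : Type u} [Field F] {V : Type v} [AddCommGroup V] [Module F V]

/-- ND-A6 (KERSPLIT) : kernels of powers split along an invariant decomposition. -/
theorem hasType_add_of_isCompl [FiniteDimensional F V] (T : Module.End F V) (W W' : Submodule F V)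
    (hc : IsCompl W W') (hW : ∀ w ∈ W, T w ∈ W) (hW' : ∀ w ∈ W', T w ∈ W') (μ μ' : Multiset ℕ)
    (h : HasType (T.restrict hW) μ) (h' : HasType (T.restrict hW') μ') : HasType T (μ + μ') := by
  intro k
  have hconj : dker T k
      = dker ((T.restrict hW : Module.End F W).prodMap (T.restrict hW' : Module.End F W')) k := by
    apply Cfsg.Agent.Lib.Helper99.dker_conj (Submodule.prodEquivOfIsCompl W W' hc)
    rintro ⟨w, w'⟩
    simp only [LinearMap.prodMap_apply, Submodule.coe_prodEquivOfIsCompl', map_add]
    rfl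
  rw [hconj, Cfsg.Agent.Lib.Helper99.dker_prodMap, h k, h' k, Multiset.map_add, Multiset.sum_add]

end Cfsg.Agent.Lib.Helper4.NdH
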