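import Cfsg.Agent.Lib.Helper99.JordanInv

set_option autoImplicit false

/-!
Unipotent elements of order `p` permuting the summands of a direct sum decomposition.
-/

namespace Cfsg.Agent.Lib.Helper99

open Module

section perm

variable {F : Type*} [Field F]
variable {V : Type*} [AddCommGroup V] [Module F V] [FiniteDimensional F V]

/-- If `L = 1 + T` has order `p`, permutes the independent subspaces `D j` (all of dimension `a`)
and `T ^ (p - 1)` has rank less than `a`, then `L` fixes every `D j`. -/
theorem sigma_fixed {t : ℕ} (p : ℕ) [hp : Fact p.Prime]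
    (D : Fin t → Submodule F V) (hind : iSupIndep D) (a : ℕ) (ha : 0 < a)
    (hfr : ∀ j, finrank F (D j) = a)
    (L T : Module.End F V) (hLT : ∀ v, L v = v + T v) (hLp : L ^ p = 1)
    (σ : Equiv.Perm (Fin t)) (hσ : ∀ j, (D j).map L = D (σ j))
    (hrank : finrank F (LinearMap.range (T ^ (p - 1))) < a) : ∀ j, σ j = j := by
  intro j₀
  by_contra hne
  have hDne : ∀ j, D j ≠ ⊥ := by
    intro j hj
    have := hfr j
    rw [hj, finrank_bot] at this
    omega
  have hDinj := hind.injective hDne
  have hpow : ∀ m j, (D j).map (L ^ m) = D ((σ ^ m) j) := by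
    intro m
    induction m with
    | zero =>
      intro j
      rw [pow_zero, pow_zero, Module.End.one_eq_id, Submodule.map_id]
      rfl
    | succ m ih =>
      intro j
      rw [pow_succ', pow_succ', Module.End.mul_eq_comp, Submodule.map_comp, ih, hσ]
      rfl
  have hσp : ∀ j, (σ ^ p) j = j := by
    intro j
    apply hDinj
    rw [← hpow, hLp, Module.End.one_eq_id, Submodule.map_id]
  have hper : Function.IsPeriodicPt σ p j₀ := by
    show (⇑σ)^[p] j₀ = j₀
    rw [Equiv.Perm.iterate_eq_pow]
    exact hσp j₀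
  have hmin : Function.minimalPeriod σ j₀ = p := by
    rcases (Nat.Prime.eq_one_or_self_of_dvd hp.out _ hper.minimalPeriod_dvd) with h | h
    · exfalso
      rw [Function.minimalPeriod_eq_one_iff_isFixedPt] at h
      exact hne h
    · exact h
  have hmne : ∀ m, 1 ≤ m → m < p → (σ ^ m) j₀ ≠ j₀ := by
    intro m hm1 hmp h
    have : Function.IsPeriodicPt σ m j₀ := by
      show (⇑σ)^[m] j₀ = j₀
      rw [Equiv.Perm.iterate_eq_pow]
      exact h
    exact Function.not_isPeriodicPt_of_pos_of_lt_minimalPeriod (by omega) (by rw [hmin]; exact hmp)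
      this
  set R : Submodule F V := ⨆ (j) (_ : j ≠ j₀), D j with hR
  have hdisj : Disjoint (D j₀) R := hind j₀
  let S : ℕ → Submodule F V := fun k => ⨆ (m : ℕ) (_ : 1 ≤ m ∧ m ≤ k), D ((σ ^ m) j₀)
  have hS_le : ∀ k m, 1 ≤ m → m ≤ k → D ((σ ^ m) j₀) ≤ S k := by
    intro k m h1 h2
    exact le_iSup₂_of_le m ⟨h1, h2⟩ le_rfl
  have hS_le_R : ∀ k, k ≤ p - 1 → S k ≤ R := by
    intro k hk
    apply iSup₂_le
    intro m hm
    have hp2 := hp.out.two_le
    exact le_iSup₂_of_le ((σ ^ m) j₀) (hmne m hm.1 (by omega)) le_rfl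
  have hS_mono : ∀ k, S k ≤ S (k + 1) := by
    intro k
    apply iSup₂_le
    intro m hm
    exact hS_le (k + 1) m hm.1 (by omega)
  have hS_map : ∀ k, (S k).map L ≤ S (k + 1) := by
    intro k
    rw [Submodule.map_le_iff_le_comap]
    apply iSup₂_le
    intro m hm
    rw [← Submodule.map_le_iff_le_comap, hσ]
    have : σ ((σ ^ m) j₀) = (σ ^ (m + 1)) j₀ := by
      rw [pow_succ']; rfl
    rw [this]
    exact hS_le (k + 1) (m + 1) (by omega) (by omega)
  have hTL : ∀ v, T v = L v - v := by
    intro v; rw [hLT]; abel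
  have key : ∀ k, ∀ u ∈ D j₀, ∃ w ∈ S k, (T ^ k) u = ((-1 : F) ^ k) • u + w := by
    intro k
    induction k with
    | zero =>
      intro u _
      exact ⟨0, Submodule.zero_mem _, by simp⟩
    | succ k ih =>
      intro u hu
      obtain ⟨w, hw, hwe⟩ := ih u hu
      refine ⟨((-1 : F) ^ k) • L u + L w - w, ?_, ?_⟩
      · apply Submodule.sub_mem
        · apply Submodule.add_mem
          · apply Submodule.smul_mem
            have h1 : L u ∈ (D j₀).map L := Submodule.mem_map_of_mem hu
            rw [hσ] at h1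
            have h2 : D (σ j₀) ≤ S (k + 1) := by
              have := hS_le (k + 1) 1 le_rfl (by omega)
              rwa [pow_one] at this
            exact h2 h1
          · exact hS_map k (Submodule.mem_map_of_mem hw)
        · exact hS_mono k hw
      · rw [pow_succ', Module.End.mul_apply, hwe, hTL, map_add, map_smul, pow_succ]
        module
  have hinj : D j₀ ⊓ LinearMap.ker (T ^ (p - 1)) = ⊥ := by
    rw [eq_bot_iff]
    rintro u ⟨hu, hku⟩
    rw [SetLike.mem_coe, LinearMap.mem_ker] at hku
    obtain ⟨w, hw, hwe⟩ := key (p - 1) u hu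
    rw [hku] at hwe
    have h1 : ((-1 : F) ^ (p - 1)) • u ∈ D j₀ := Submodule.smul_mem _ _ hu
    have h2 : ((-1 : F) ^ (p - 1)) • u ∈ R := by
      have : ((-1 : F) ^ (p - 1)) • u = -w := by
        rw [eq_neg_iff_add_eq_zero]; exact hwe.symm
      rw [this]
      exact Submodule.neg_mem _ (hS_le_R (p - 1) le_rfl hw)
    have h3 := (Submodule.disjoint_def.mp hdisj) _ h1 h2
    rw [smul_eq_zero] at h3
    rcases h3 with h3 | h3
    · exfalso
      exact pow_ne_zero _ (neg_ne_zero.mpr one_ne_zero) h3
    · rw [Submodule.mem_bot]; exact h3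
  have h1 := finrank_eq_map_add_inf_ker (T ^ (p - 1)) (D j₀)
  rw [hinj, finrank_bot, add_zero, hfr] at h1
  have h2 : finrank F ((D j₀).map (T ^ (p - 1))) ≤ finrank F (LinearMap.range (T ^ (p - 1))) := by
    apply Submodule.finrank_mono
    exact LinearMap.map_le_range
  omega

theorem restrict_pow_coe (T : Module.End F V) (U : Submodule F V) (hU : ∀ v ∈ U, T v ∈ U)
    (k : ℕ) (u : U) : (((T.restrict hU) ^ k) u : V) = (T ^ k) u := by
  induction k generalizing u with
  | zero => simp
  | succ k ih =>
    rw [pow_succ, pow_succ, Module.End.mul_apply, Module.End.mul_apply, ih]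
    rfl

/-- The Jordan type of the restriction to an invariant direct summand is a sub-multiset. -/
theorem exists_submultiset_of_invariant (T : Module.End F V) (p : ℕ) (hTp : T ^ p = 0)
    (U U' : Submodule F V) (hc : IsCompl U U') (hU : ∀ v ∈ U, T v ∈ U)
    (hU' : ∀ v ∈ U', T v ∈ U') (μ : Multiset ℕ)
    (hT : ∀ k, dker T k = (μ.map (fun b => min b k)).sum) (a : ℕ) (hUa : finrank F U = a) :
    ∃ ν : Multiset ℕ, ν ≤ μ ∧ ν.sum = a := by
  let e := Submodule.prodEquivOfIsCompl U U' hc
  have hconj : ∀ w, T (e w) = e (((T.restrict hU).prodMap (T.restrict hU')) w) := by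
    rintro ⟨u, u'⟩
    rw [Submodule.coe_prodEquivOfIsCompl', LinearMap.prodMap_apply,
      Submodule.coe_prodEquivOfIsCompl', map_add]
    rfl
  have hsum : ∀ k, dker (T.restrict hU) k + dker (T.restrict hU') k =
      (μ.map (fun b => min b k)).sum := by
    intro k
    rw [← hT, ← dker_prodMap, dker_conj e _ T hconj]
  have hUp : (T.restrict hU) ^ p = 0 := by
    ext u
    rw [restrict_pow_coe, hTp]
    rfl
  exact exists_submultiset (dker (T.restrict hU)) (dker (T.restrict hU')) μ p a
    (dker_concave _) (dker_concave _) (dker_zero _)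
    (fun k hk => by rw [dker_eq_of_pow_eq_zero _ hUp k hk, hUa]) hsum

end perm

end Cfsg.Agent.Lib.Helper99
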