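import Cfsg.Agent.Lib.Helper36.ChevGL
import Cfsg.Agent.S1025

/-!
# G2c mini-hive (S2180), leaf G2C-CONJ78, core

`(x_7(s) x_8(s')) x_9(1) (x_7(s) x_8(s'))⁻¹ = x_9(1) x_10(3 s) x_11(3 s')` in `G₂(F)` (any field; `3 ≠ 0` in
characteristic 2).  Stated for an arbitrary proof `hD` of the membership of `chevG2` in the list of types, so that the
file needs only `ChevGL` and `S1025`.
-/

set_option autoImplicit false

namespace Cfsg.Agent.Lib.Helper20.G2c

open Cfsg Cfsg.Lie Cfsg.Agent.Lib.Helper36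

/-- pure group theory -/
theorem g2cconj78_grp {G : Type*} [Group G] (a b c e10 e11 : G) (hA : b * c = c * b * e11)
    (hBC : b * e11 = e11 * b) (hB : a * c = c * a * e10) (hC : a * e10 = e10 * a)
    (hD : a * e11 = e11 * a) : (a * b) * c * (a * b)⁻¹ = c * e10 * e11 := by
  calc (a * b) * c * (a * b)⁻¹ = a * (b * c) * b⁻¹ * a⁻¹ := by group
    _ = a * (c * b * e11) * b⁻¹ * a⁻¹ := by rw [hA]
    _ = a * c * (b * e11) * b⁻¹ * a⁻¹ := by group
    _ = a * c * (e11 * b) * b⁻¹ * a⁻¹ := by rw [hBC]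
    _ = (a * c) * e11 * a⁻¹ := by group
    _ = (c * a * e10) * e11 * a⁻¹ := by rw [hB]
    _ = c * (a * e10) * e11 * a⁻¹ := by group
    _ = c * (e10 * a) * e11 * a⁻¹ := by rw [hC]
    _ = c * e10 * (a * e11) * a⁻¹ := by group
    _ = c * e10 * (e11 * a) * a⁻¹ := by rw [hD]
    _ = c * e10 * e11 := by group

section chev
variable (hD : chevG2 ∈ [chevG2, chevB2, chevD4, chevF4, chevE6, chevE7, chevE8])
  (F : Type*) [Field F]

/-- the commutator formula (S1025) in the general linear group -/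
theorem g2cconj78_comm (r s : ℕ) (hr : r < chevG2.nroots) (hs : s < chevG2.nroots) (hne1 : s ≠ r)
    (hne2 : s ≠ chevG2.neg r) (t u : F) :
    xGL chevG2 hD F s u * xGL chevG2 hD F r t =
      xGL chevG2 hD F r t * xGL chevG2 hD F s u * wordGL chevG2 hD F (chevG2.commWord F r s t u) := by
  apply Units.ext
  simp only [Units.val_mul, xGL_coe, wordGL_coe]
  exact Cfsg.Agent.S1025.result (F := F) chevG2 hD r s hr hs hne1 hne2 t u

/-- commuting root elements -/
theorem g2cconj78_comm_nil (r s : ℕ) (hr : r < chevG2.nroots) (hs : s < chevG2.nroots) (hne1 : s ≠ r)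
    (hne2 : s ≠ chevG2.neg r) (hnil : chevG2.commTerms r s = []) (t u : F) :
    xGL chevG2 hD F s u * xGL chevG2 hD F r t = xGL chevG2 hD F r t * xGL chevG2 hD F s u := by
  have h := g2cconj78_comm hD F r s hr hs hne1 hne2 t u
  have hw : wordGL chevG2 hD F (chevG2.commWord F r s t u) = 1 := by
    unfold ChevalleyDatum.commWord wordGL
    rw [hnil]
    simp
  rw [hw, mul_one] at h
  exact h

/-- a single term -/
theorem g2cconj78_comm_one (r s : ℕ) (hr : r < chevG2.nroots) (hs : s < chevG2.nroots) (hne1 : s ≠ r)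
    (hne2 : s ≠ chevG2.neg r) (g : ℕ) (c : ℤ) (hone : chevG2.commTerms r s = [(g, c, 1, 1)]) (t u : F) :
    xGL chevG2 hD F s u * xGL chevG2 hD F r t =
      xGL chevG2 hD F r t * xGL chevG2 hD F s u * xGL chevG2 hD F g ((c : F) * (-t) * u) := by
  have h := g2cconj78_comm hD F r s hr hs hne1 hne2 t u
  have hw : wordGL chevG2 hD F (chevG2.commWord F r s t u) = xGL chevG2 hD F g ((c : F) * (-t) * u) := by
    unfold ChevalleyDatum.commWord wordGL
    rw [hone]
    simp
  rw [hw] at h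
  exact h

/-- G2C-CONJ78, core -/
theorem g2cconj78_core [CharP F 2] : ∃ k₁ k₂ : F, k₁ ≠ 0 ∧ k₂ ≠ 0 ∧ ∀ s s' : F,
    (xGL chevG2 hD F 7 s * xGL chevG2 hD F 8 s') * xGL chevG2 hD F 9 1 *
        (xGL chevG2 hD F 7 s * xGL chevG2 hD F 8 s')⁻¹ =
      xGL chevG2 hD F 9 1 * xGL chevG2 hD F 10 (k₁ * s) * xGL chevG2 hD F 11 (k₂ * s') := by
  have h3 : (3 : F) ≠ 0 := by
    intro h
    have h' : ((3 : ℕ) : F) = 0 := by exact_mod_cast h
    have := (CharP.cast_eq_zero_iff F 2 3).mp h'
    omega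
  have hnr : chevG2.nroots = 12 := by decide
  refine ⟨3, 3, h3, h3, ?_⟩
  intro s s'
  apply g2cconj78_grp
  · -- x_8 x_9 = x_9 x_8 x_11(3 s')
    have h := g2cconj78_comm_one hD F 9 8 (by rw [hnr]; norm_num) (by rw [hnr]; norm_num) (by decide)
      (by decide) 11 (-3) (by decide) 1 s'
    rw [h]
    congr 2
    push_cast
    ring
  · exact g2cconj78_comm_nil hD F 11 8 (by rw [hnr]; norm_num) (by rw [hnr]; norm_num) (by decide)
      (by decide) (by decide) _ _
  · have h := g2cconj78_comm_one hD F 9 7 (by rw [hnr]; norm_num) (by rw [hnr]; norm_num) (by decide)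
      (by decide) 10 (-3) (by decide) 1 s
    rw [h]
    congr 2
    push_cast
    ring
  · exact g2cconj78_comm_nil hD F 10 7 (by rw [hnr]; norm_num) (by rw [hnr]; norm_num) (by decide)
      (by decide) (by decide) _ _
  · exact g2cconj78_comm_nil hD F 11 7 (by rw [hnr]; norm_num) (by rw [hnr]; norm_num) (by decide)
      (by decide) (by decide) _ _

end chev

end Cfsg.Agent.Lib.Helper20.G2c
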