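import Mathlib
import Cfsg.Agent.Lib.Helper90.PsuDefs

/-!
# Psu hive (S2412, helper90), leaf PSU-HEIS: the Heisenberg API.
-/

set_option autoImplicit false

namespace Cfsg.Agent.Lib.Helper90.Psu

open Matrix Cfsg.Agent.Lib.Helper99 Cfsg.Agent.Lib.Helper13

variable {F : Type*} [Field F] [Fintype F] {q n : ℕ}

local notation "hh" => Cfsg.hermForm n F q

omit [Fintype F] in
theorem heis_aux_dot (e x : Fin n → F) : (fun j => e j ^ q) ⬝ᵥ x = hh x e := by
  unfold Cfsg.hermForm dotProduct
  apply Finset.sum_congr rfl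
  intro j _
  ring

omit [Fintype F] in
/-- the action of the Heisenberg matrix (unconditional) -/
theorem heis_aux_M_mulVec (e r : Fin n → F) (β : F) (x : Fin n → F) :
    heisM q e r β *ᵥ x = x + hh x e • (r + β • e) - hh x r • e := by
  unfold heisM
  rw [sub_mulVec, add_mulVec, one_mulVec, vecMulVec_mulVec, vecMulVec_mulVec, op_smul_eq_smul,
    op_smul_eq_smul, heis_aux_dot, heis_aux_dot]

/-- composition of Heisenberg matrices -/
theorem heis_aux_M_mul (hF : Fintype.card F = q ^ 2) {e r r' : Fin n → F} {β β' : F}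
    (he : hh e e = 0) (hre : hh r e = 0) (hre' : hh r' e = 0) :
    heisM q e r β * heisM q e r' β' = heisM q e (r + r') (β + β' - hh r' r) := by
  have her : hh e r = 0 := hermForm_eq_zero_comm hF hre
  rw [Matrix.ext_iff_mulVec]
  intro x
  rw [← mulVec_mulVec, heis_aux_M_mulVec, heis_aux_M_mulVec, heis_aux_M_mulVec]
  have h1 : hh (x + hh x e • (r' + β' • e) - hh x r' • e) e = hh x e := by
    rw [hermForm_sub_left, hermForm_add_left, hermForm_smul_left, hermForm_smul_left,
      hermForm_add_left, hermForm_smul_left, he, hre']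
    ring
  have h2 : hh (x + hh x e • (r' + β' • e) - hh x r' • e) r = hh x r + hh x e * hh r' r := by
    rw [hermForm_sub_left, hermForm_add_left, hermForm_smul_left, hermForm_smul_left,
      hermForm_add_left, hermForm_smul_left, her]
    ring
  rw [h1, h2, hermForm_add_right hF]
  ext i
  simp only [Pi.add_apply, Pi.sub_apply, Pi.smul_apply, smul_eq_mul]
  ring

theorem heis_aux_M_zero (hF : Fintype.card F = q ^ 2) (e : Fin n → F) : heisM q e 0 0 = 1 := by
  rw [Matrix.ext_iff_mulVec]
  intro x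
  rw [heis_aux_M_mulVec, hermForm_zero_right hF]
  simp

/-- the Heisenberg matrix is invertible -/
theorem heis_aux_M_inv (hF : Fintype.card F = q ^ 2) {e r : Fin n → F} {β : F} (he : hh e e = 0)
    (hre : hh r e = 0) (hβ : β + β ^ q + hh r r = 0) :
    heisM q e r β * heisM q e (-r) (β ^ q) = 1 := by
  have hre' : hh (-r) e = 0 := by rw [hermForm_neg_left, hre, neg_zero]
  rw [heis_aux_M_mul hF he hre hre', add_neg_cancel, hermForm_neg_left]
  have : β + β ^ q - -hh r r = 0 := by rw [sub_neg_eq_add]; exact hβ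
  rw [this, heis_aux_M_zero hF]

theorem heis_aux_det_ne_zero (hF : Fintype.card F = q ^ 2) {e r : Fin n → F} {β : F}
    (he : hh e e = 0) (hre : hh r e = 0) (hβ : β + β ^ q + hh r r = 0) :
    (heisM q e r β).det ≠ 0 := by
  intro h
  have := congrArg Matrix.det (heis_aux_M_inv hF he hre hβ)
  rw [det_mul, h, zero_mul, det_one] at this
  exact zero_ne_one this

/-- the matrix of the Heisenberg element -/
theorem heis_aux_coe (hF : Fintype.card F = q ^ 2) {e r : Fin n → F} {β : F} (he : hh e e = 0)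
    (hre : hh r e = 0) (hβ : β + β ^ q + hh r r = 0) :
    ((heis q e r β : GL (Fin n) F) : Matrix (Fin n) (Fin n) F) = heisM q e r β := by
  unfold heis
  rw [dif_pos (heis_aux_det_ne_zero hF he hre hβ)]
  rfl

/-- PSU-HEIS -/
theorem heis_mulVec (hF : Fintype.card F = q ^ 2) {e r : Fin n → F} {β : F} (he : hh e e = 0)
    (hre : hh r e = 0) (hβ : β + β ^ q + hh r r = 0) (x : Fin n → F) :
    ((heis q e r β : GL (Fin n) F) : Matrix (Fin n) (Fin n) F) *ᵥ x =
      x + hh x e • (r + β • e) - hh x r • e := by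
  rw [heis_aux_coe hF he hre hβ, heis_aux_M_mulVec]

/-- the parameters of a product satisfy the Heisenberg condition -/
theorem heis_aux_cond_mul (hF : Fintype.card F = q ^ 2) {r r' : Fin n → F} {β β' : F}
    (hβ : β + β ^ q + hh r r = 0) (hβ' : β' + β' ^ q + hh r' r' = 0) :
    (β + β' - hh r' r) + (β + β' - hh r' r) ^ q + hh (r + r') (r + r') = 0 := by
  rw [frob_sub hF, frob_add hF, hermForm_conj hF, hermForm_add_left, hermForm_add_right hF,
    hermForm_add_right hF]
  linear_combination hβ + hβ'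

/-- PSU-HEIS -/
theorem heis_mul (hF : Fintype.card F = q ^ 2) {e r r' : Fin n → F} {β β' : F} (he : hh e e = 0)
    (hre : hh r e = 0) (hβ : β + β ^ q + hh r r = 0) (hre' : hh r' e = 0)
    (hβ' : β' + β' ^ q + hh r' r' = 0) :
    heis q e r β * heis q e r' β' = heis q e (r + r') (β + β' - hh r' r) := by
  have hre'' : hh (r + r') e = 0 := by rw [hermForm_add_left, hre, hre', add_zero]
  apply Units.ext
  rw [Units.val_mul, heis_aux_coe hF he hre hβ, heis_aux_coe hF he hre' hβ',
    heis_aux_coe hF he hre'' (heis_aux_cond_mul hF hβ hβ'), heis_aux_M_mul hF he hre hre']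

/-- PSU-HEIS -/
theorem heis_zero (hF : Fintype.card F = q ^ 2) {e : Fin n → F} (he : hh e e = 0) {c : F}
    (hc : c + c ^ q = 0) : heis q e 0 c = utv q e c := by
  have h0 : hh (0 : Fin n → F) e = 0 := hermForm_zero_left e
  have hc' : c + c ^ q + hh (0 : Fin n → F) 0 = 0 := by rw [hermForm_zero_left, add_zero]; exact hc
  apply Units.ext
  rw [Matrix.ext_iff_mulVec]
  intro x
  rw [heis_mulVec hF he h0 hc', utv_mulVec e he, hermForm_zero_right hF, zero_smul, sub_zero,
    zero_add, smul_smul, mul_comm]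

/-- the Heisenberg matrix is a product of two rank-one perturbations of determinant one -/
theorem heis_aux_det (hF : Fintype.card F = q ^ 2) {e r : Fin n → F} {β : F} (he : hh e e = 0)
    (hre : hh r e = 0) : (heisM q e r β).det = 1 := by
  have her : hh e r = 0 := hermForm_eq_zero_comm hF hre
  have hfac : heisM q e r β =
      rk1 (r + β • e) (fun j => e j ^ q) * rk1 (-e) (fun j => r j ^ q) := by
    rw [Matrix.ext_iff_mulVec]
    intro x
    rw [heis_aux_M_mulVec, ← mulVec_mulVec, rk1_mulVec, rk1_mulVec, heis_aux_dot, heis_aux_dot,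
      hermForm_add_left, hermForm_smul_left, hermForm_neg_left, he]
    ext i
    simp only [Pi.add_apply, Pi.sub_apply, Pi.smul_apply, Pi.neg_apply, smul_eq_mul]
    ring
  rw [hfac, det_mul, det_rk1, det_rk1, heis_aux_dot, heis_aux_dot, hermForm_add_left,
    hermForm_smul_left, hermForm_neg_left, he, hre, her]
  ring

/-- PSU-HEIS -/
theorem heis_mem_suGL (hF : Fintype.card F = q ^ 2) {e r : Fin n → F} {β : F} (he : hh e e = 0)
    (hre : hh r e = 0) (hβ : β + β ^ q + hh r r = 0) : heis q e r β ∈ suGL (F := F) n q := by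
  have her : hh e r = 0 := hermForm_eq_zero_comm hF hre
  have hGU : heis q e r β ∈ Cfsg.GU n F q := by
    rw [mem_GU_iff]
    intro x y
    rw [heis_mulVec hF he hre hβ, heis_mulVec hF he hre hβ]
    have hey : hh e y = hh y e ^ q := (hermForm_conj hF n y e).symm
    have hry : hh r y = hh y r ^ q := (hermForm_conj hF n y r).symm
    simp only [hermForm_sub_left, hermForm_add_left, hermForm_smul_left, hermForm_sub_right hF,
      hermForm_add_right hF, hermForm_smul_right, he, hre, her, hey, hry]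
    linear_combination (hh x e * hh y e ^ q) * hβ
  have hSL : heis q e r β ∈ Cfsg.Geo.specialLinear (Fin n) F := by
    rw [mem_specialLinear_iff, heis_aux_coe hF he hre hβ, heis_aux_det hF he hre]
  exact ⟨hGU, hSL⟩

/-- the Heisenberg condition for the inverse parameters -/
theorem heis_aux_cond_inv (hF : Fintype.card F = q ^ 2) {r : Fin n → F} {β : F}
    (hβ : β + β ^ q + hh r r = 0) : β ^ q + (β ^ q) ^ q + hh (-r) (-r) = 0 := by
  rw [pow_q_pow_q hF, hermForm_neg_left, hermForm_neg_right hF, neg_neg]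
  linear_combination hβ

/-- PSU-HEIS -/
theorem heis_inv (hF : Fintype.card F = q ^ 2) {e r : Fin n → F} {β : F} (he : hh e e = 0)
    (hre : hh r e = 0) (hβ : β + β ^ q + hh r r = 0) : (heis q e r β)⁻¹ = heis q e (-r) (β ^ q) := by
  have hre' : hh (-r) e = 0 := by rw [hermForm_neg_left, hre, neg_zero]
  apply inv_eq_of_mul_eq_one_right
  apply Units.ext
  rw [Units.val_mul, heis_aux_coe hF he hre hβ, heis_aux_coe hF he hre' (heis_aux_cond_inv hF hβ),
    heis_aux_M_inv hF he hre hβ]
  rfl

/-- PSU-HEIS -/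
theorem conj_heis (hF : Fintype.card F = q ^ 2) {e r : Fin n → F} {β : F} (he : hh e e = 0)
    (hre : hh r e = 0) (hβ : β + β ^ q + hh r r = 0) {g : GL (Fin n) F} (hg : g ∈ Cfsg.GU n F q) :
    g * heis q e r β * g⁻¹ = heis q ((g : Matrix (Fin n) (Fin n) F) *ᵥ e)
      ((g : Matrix (Fin n) (Fin n) F) *ᵥ r) β := by
  have he' : hh ((g : Matrix (Fin n) (Fin n) F) *ᵥ e) ((g : Matrix (Fin n) (Fin n) F) *ᵥ e) = 0 := by
    rw [GU_preserves hg, he]
  have hre' : hh ((g : Matrix (Fin n) (Fin n) F) *ᵥ r) ((g : Matrix (Fin n) (Fin n) F) *ᵥ e) = 0 := by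
    rw [GU_preserves hg, hre]
  have hβ' : β + β ^ q +
      hh ((g : Matrix (Fin n) (Fin n) F) *ᵥ r) ((g : Matrix (Fin n) (Fin n) F) *ᵥ r) = 0 := by
    rw [GU_preserves hg, hβ]
  apply Units.ext
  rw [Matrix.ext_iff_mulVec]
  intro x
  rw [Units.val_mul, Units.val_mul, ← mulVec_mulVec, ← mulVec_mulVec, heis_mulVec hF he hre hβ,
    heis_mulVec hF he' hre' hβ', mulVec_sub, mulVec_add, mulVec_smul, mulVec_smul, mulVec_add,
    mulVec_smul, gl_mulVec_inv_mulVec, GU_preserves_inv hg, GU_preserves_inv hg]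

/-- PSU-HEIS -/
theorem heis_smul (hF : Fintype.card F = q ^ 2) {e r : Fin n → F} {β : F} (he : hh e e = 0)
    (hre : hh r e = 0) (hβ : β + β ^ q + hh r r = 0) {l : F} (hl : l ≠ 0) :
    heis q (l • e) r β = heis q e (l ^ q • r) (l ^ (q + 1) * β) := by
  have hlq : (l ^ q) ^ q = l := pow_q_pow_q hF l
  have he1 : hh (l • e) (l • e) = 0 := by
    rw [hermForm_smul_left, hermForm_smul_right, he, mul_zero, mul_zero]
  have hre1 : hh r (l • e) = 0 := by rw [hermForm_smul_right, hre, mul_zero]
  have hre2 : hh (l ^ q • r) e = 0 := by rw [hermForm_smul_left, hre, mul_zero]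
  have hβ2 : l ^ (q + 1) * β + (l ^ (q + 1) * β) ^ q + hh (l ^ q • r) (l ^ q • r) = 0 := by
    rw [hermForm_smul_left, hermForm_smul_right, mul_pow, hlq]
    have h1 : (l ^ (q + 1)) ^ q = l ^ (q + 1) := by
      rw [pow_succ, mul_pow, hlq, mul_comm]
    rw [h1]
    linear_combination (l ^ (q + 1)) * hβ
  apply Units.ext
  rw [Matrix.ext_iff_mulVec]
  intro x
  rw [heis_mulVec hF he1 hre1 hβ, heis_mulVec hF he hre2 hβ2, hermForm_smul_right,
    hermForm_smul_right, hlq]
  ext i
  simp only [Pi.add_apply, Pi.sub_apply, Pi.smul_apply, smul_eq_mul]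
  ring

end Cfsg.Agent.Lib.Helper90.Psu
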