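import Cfsg.Agent.Lib.Helper99.F4cNRIGorb

/-! # F4c hive (S2179): leaf F4C-NRIG (helper99)

An element `n ∈ N` conjugating some `T a b c d e f`, `a ≠ 0`, `d ≠ 0`, to some `T a' b' c' d' e' f'` normalises the
group `Tgrp` generated by the six root subgroups.  Model: `Lib/Helper20/G2cNRIG.lean`. -/

set_option autoImplicit false

namespace Cfsg.Agent.Lib.Helper20.F4c

open Cfsg Cfsg.Lie Cfsg.Agent.Lib.Helper36 Cfsg.Agent.Lib.Helper18 Matrix

/-- the orbit of `(39,40,44,45,46,47)` under a word in the fundamental reflections -/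
theorem f4cnrig_orbit (l : List ℕ) (hl : ∀ i ∈ l, i < chevF4.rank) :
    f4cnrig_enc (wRoot chevF4 l 39) (wRoot chevF4 l 40) (wRoot chevF4 l 44) (wRoot chevF4 l 45)
      (wRoot chevF4 l 46) (wRoot chevF4 l 47) ∈ f4cnrig_O := by
  induction l with
  | nil => exact f4cnrig_base
  | cons i l ih =>
    have hl' : ∀ j ∈ l, j < chevF4.rank := fun j hj => hl j (List.mem_cons_of_mem _ hj)
    have hi : i < 4 := hl i (List.mem_cons_self ..)
    have ih' := ih hl'
    have b1 : wRoot chevF4 l 39 < 48 := wRoot_lt chevF4 hF4 l hl' 39 (by decide)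
    have b2 : wRoot chevF4 l 40 < 48 := wRoot_lt chevF4 hF4 l hl' 40 (by decide)
    have b3 : wRoot chevF4 l 44 < 48 := wRoot_lt chevF4 hF4 l hl' 44 (by decide)
    have b4 : wRoot chevF4 l 45 < 48 := wRoot_lt chevF4 hF4 l hl' 45 (by decide)
    have b5 : wRoot chevF4 l 46 < 48 := wRoot_lt chevF4 hF4 l hl' 46 (by decide)
    have b6 : wRoot chevF4 l 47 < 48 := wRoot_lt chevF4 hF4 l hl' 47 (by decide)
    have e : ∀ r, wRoot chevF4 (i :: l) r = chevF4.reflectRoot i (wRoot chevF4 l r) := fun r => rfl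
    rw [e, e, e, e, e, e]
    generalize wRoot chevF4 l 39 = s1 at *
    generalize wRoot chevF4 l 40 = s2 at *
    generalize wRoot chevF4 l 44 = s3 at *
    generalize wRoot chevF4 l 45 = s4 at *
    generalize wRoot chevF4 l 46 = s5 at *
    generalize wRoot chevF4 l 47 = s6 at *
    rw [f4cnrig_r_eq i hi s1 b1, f4cnrig_r_eq i hi s2 b2, f4cnrig_r_eq i hi s3 b3, f4cnrig_r_eq i hi s4 b4,
      f4cnrig_r_eq i hi s5 b5, f4cnrig_r_eq i hi s6 b6]
    have hc := List.all_eq_true.1 f4cnrig_closed _ ih'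
    have hi' : i ∈ [0, 1, 2, 3] := by
      interval_cases i <;> simp
    have hm := f4cnrig_memO_spec _ (List.all_eq_true.1 hc i hi')
    obtain ⟨d1, d2, d3, d4, d5, d6⟩ := f4cnrig_dig s1 s2 s3 s4 s5 s6 b1 b2 b3 b4 b5 b6
    unfold f4cnrig_act at hm
    rw [d1, d2, d3, d4, d5, d6] at hm
    exact hm

variable (F : Type*) [Field F]

/-- conjugation by `n` preserves a closure when it and its inverse preserve the generators -/
theorem f4cnrig_norm_of_gens {G : Type*} [Group G] (S : Set G) (n : G)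
    (h1 : ∀ g ∈ S, n * g * n⁻¹ ∈ Subgroup.closure S) (h2 : ∀ g ∈ S, n⁻¹ * g * n ∈ Subgroup.closure S) :
    n ∈ Subgroup.normalizer (Subgroup.closure S : Set G) := by
  have key : ∀ (m : G), (∀ g ∈ S, m * g * m⁻¹ ∈ Subgroup.closure S) →
      ∀ x ∈ Subgroup.closure S, m * x * m⁻¹ ∈ Subgroup.closure S := by
    intro m hm x hx
    induction hx using Subgroup.closure_induction with
    | mem g hg => exact hm g hg
    | one => simp
    | mul a b _ _ ha hb =>
      have : m * (a * b) * m⁻¹ = (m * a * m⁻¹) * (m * b * m⁻¹) := by group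
      rw [this]
      exact mul_mem ha hb
    | inv a _ ha =>
      have : m * a⁻¹ * m⁻¹ = (m * a * m⁻¹)⁻¹ := by group
      rw [this]
      exact inv_mem ha
  rw [Subgroup.mem_normalizer_iff]
  intro x
  constructor
  · exact key n h1 x
  · intro hx
    have := key n⁻¹ (fun g hg => by simpa using h2 g hg) _ hx
    have e : n⁻¹ * (n * x * n⁻¹) * n⁻¹⁻¹ = x := by group
    rwa [e] at this

/-- the key vanishing: a root `s` not occurring on the right has zero coefficient sum on the left -/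
theorem f4cnrig_entry (L L' : List (ℕ × F)) (hlt : ∀ p ∈ L, p.1 < chevF4.nroots)
    (hlt' : ∀ p ∈ L', p.1 < chevF4.nroots) (hfix : L.Pairwise fun p q => fixB p.1 q.1 = true)
    (hfix' : L'.Pairwise fun p q => fixB p.1 q.1 = true)
    (hmat : (L.map fun p => chevF4.x F p.1 p.2).prod = (L'.map fun p => chevF4.x F p.1 p.2).prod)
    (s : ℕ) (hs : s < chevF4.nroots) (hnot : ∀ p ∈ L', s ≠ p.1) (i : Fin chevF4.rank) :
    (L.map fun p => if s = p.1 then -((chevF4.cartan i p.1 : ℤ) : F) * p.2 else 0).sum = 0 := by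
  rw [← col_list_apply F L hlt hfix i s hs, hmat, col_list_apply F L' hlt' hfix' i s hs]
  apply List.sum_eq_zero
  intro x hx
  rw [List.mem_map] at hx
  obtain ⟨p, hp, rfl⟩ := hx
  rw [if_neg (hnot p hp)]

/-- a scalar killed by all Cartan integers of a root vanishes -/
theorem f4cnrig_zero_of_odd (r : ℕ) (hr : r < 48) (c : F)
    (hz : ∀ i : Fin chevF4.rank, -((chevF4.cartan i r : ℤ) : F) * c = 0) : c = 0 := by
  have h0 := hz ⟨0, by decide⟩
  have h1 := hz ⟨1, by decide⟩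
  have h2 := hz ⟨2, by decide⟩
  have h3 := hz ⟨3, by decide⟩
  simp only at h0 h1 h2 h3
  rcases f4cnrig_odd r hr with (h | h) | (h | h) | (h | h) | (h | h)
  · rw [h] at h0; simpa using h0
  · rw [h] at h0; simpa using h0
  · rw [h] at h1; simpa using h1
  · rw [h] at h1; simpa using h1
  · rw [h] at h2; simpa using h2
  · rw [h] at h2; simpa using h2
  · rw [h] at h3; simpa using h3
  · rw [h] at h3; simpa using h3

/-- the matrix of a product of six root elements -/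
theorem f4cnrig_prod_coe (s1 s2 s3 s4 s5 s6 : ℕ) (c1 c2 c3 c4 c5 c6 : F) :
    ((xf F s1 c1 * xf F s2 c2 * xf F s3 c3 * xf F s4 c4 * xf F s5 c5 * xf F s6 c6 : GL chevF4.Idx F) :
        Matrix chevF4.Idx chevF4.Idx F) =
      (([(s1, c1), (s2, c2), (s3, c3), (s4, c4), (s5, c5), (s6, c6)] : List (ℕ × F)).map
        fun p => chevF4.x F p.1 p.2).prod := by
  simp only [List.map_cons, List.map_nil, List.prod_cons, List.prod_nil, mul_one, Units.val_mul, xGL_coe, mul_assoc]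

theorem f4cnrig_lt6 (s1 s2 s3 s4 s5 s6 : ℕ) (c1 c2 c3 c4 c5 c6 : F) (h1 : s1 < 48) (h2 : s2 < 48) (h3 : s3 < 48)
    (h4 : s4 < 48) (h5 : s5 < 48) (h6 : s6 < 48) :
    ∀ p ∈ ([(s1, c1), (s2, c2), (s3, c3), (s4, c4), (s5, c5), (s6, c6)] : List (ℕ × F)), p.1 < chevF4.nroots := by
  intro p hp
  simp only [List.mem_cons, List.not_mem_nil, or_false] at hp
  rcases hp with rfl | rfl | rfl | rfl | rfl | rfl <;> assumption

theorem f4cnrig_pw6 (s1 s2 s3 s4 s5 s6 : ℕ) (c1 c2 c3 c4 c5 c6 : F)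
    (h : [s1, s2, s3, s4, s5, s6].Pairwise fun r s => fixB r s = true) :
    ([(s1, c1), (s2, c2), (s3, c3), (s4, c4), (s5, c5), (s6, c6)] : List (ℕ × F)).Pairwise
      fun p q => fixB p.1 q.1 = true := by
  have e : [s1, s2, s3, s4, s5, s6] =
      ([(s1, c1), (s2, c2), (s3, c3), (s4, c4), (s5, c5), (s6, c6)] : List (ℕ × F)).map Prod.fst := rfl
  rw [e, List.pairwise_map] at h
  exact h

theorem f4cnrig_fix_T : [39, 40, 44, 45, 46, 47].Pairwise (fun r s => fixB r s = true) := by decide +kernel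

/-- F4C-NRIG -/
theorem monomial_rigid (n : GL chevF4.Idx F) (hn : n ∈ chevF4.monomialSubgroup F)
    (a b c d e f a' b' c' d' e' f' : F) (ha : a ≠ 0) (hd : d ≠ 0)
    (h : n * T F a b c d e f * n⁻¹ = T F a' b' c' d' e' f') :
    n ∈ Subgroup.normalizer (Tgrp F : Set (GL chevF4.Idx F)) := by
  obtain ⟨l, hl, hact⟩ := exists_word_conj chevF4 hF4 F n hn
  have hO := f4cnrig_orbit l hl
  have hchk := List.all_eq_true.1 f4cnrig_chk_all _ hO
  have b1 : wRoot chevF4 l 39 < 48 := wRoot_lt chevF4 hF4 l hl 39 (by decide)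
  have b2 : wRoot chevF4 l 40 < 48 := wRoot_lt chevF4 hF4 l hl 40 (by decide)
  have b3 : wRoot chevF4 l 44 < 48 := wRoot_lt chevF4 hF4 l hl 44 (by decide)
  have b4 : wRoot chevF4 l 45 < 48 := wRoot_lt chevF4 hF4 l hl 45 (by decide)
  have b5 : wRoot chevF4 l 46 < 48 := wRoot_lt chevF4 hF4 l hl 46 (by decide)
  have b6 : wRoot chevF4 l 47 < 48 := wRoot_lt chevF4 hF4 l hl 47 (by decide)
  obtain ⟨k1, hk1, a1⟩ := hact 39 (by decide)
  obtain ⟨k2, hk2, a2⟩ := hact 40 (by decide)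
  obtain ⟨k3, hk3, a3⟩ := hact 44 (by decide)
  obtain ⟨k4, hk4, a4⟩ := hact 45 (by decide)
  obtain ⟨k5, hk5, a5⟩ := hact 46 (by decide)
  obtain ⟨k6, hk6, a6⟩ := hact 47 (by decide)
  generalize wRoot chevF4 l 39 = s1 at *
  generalize wRoot chevF4 l 40 = s2 at *
  generalize wRoot chevF4 l 44 = s3 at *
  generalize wRoot chevF4 l 45 = s4 at *
  generalize wRoot chevF4 l 46 = s5 at *
  generalize wRoot chevF4 l 47 = s6 at *
  rw [f4cnrig_chk_eq] at hchk
  obtain ⟨d1, d2, d3, d4, d5, d6⟩ := f4cnrig_dig s1 s2 s3 s4 s5 s6 b1 b2 b3 b4 b5 b6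
  rw [d1, d2, d3, d4, d5, d6] at hchk
  obtain ⟨-, hpw, ⟨n12, n13, n14, n15, n16, n42, n43, n45, n46⟩, hlast⟩ := f4cnrig_chk6_spec _ _ _ _ _ _ hchk
  have hconj : n * T F a b c d e f * n⁻¹ =
      xf F s1 (k1 * a) * xf F s2 (k2 * b) * xf F s3 (k3 * c) * xf F s4 (k4 * d) * xf F s5 (k5 * e) *
        xf F s6 (k6 * f) := by
    unfold T xf
    rw [← a1, ← a2, ← a3, ← a4, ← a5, ← a6]
    group
  have hmat := congrArg (fun g : GL chevF4.Idx F => (g : Matrix chevF4.Idx chevF4.Idx F)) (hconj.symm.trans h)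
  beta_reduce at hmat
  unfold T at hmat
  rw [f4cnrig_prod_coe, f4cnrig_prod_coe] at hmat
  have key := f4cnrig_entry F _ _ (f4cnrig_lt6 F s1 s2 s3 s4 s5 s6 _ _ _ _ _ _ b1 b2 b3 b4 b5 b6)
    (f4cnrig_lt6 F 39 40 44 45 46 47 a' b' c' d' e' f' (by decide) (by decide) (by decide) (by decide) (by decide)
      (by decide))
    (f4cnrig_pw6 F s1 s2 s3 s4 s5 s6 _ _ _ _ _ _ hpw) (f4cnrig_pw6 F 39 40 44 45 46 47 _ _ _ _ _ _ f4cnrig_fix_T) hmat
  have hnotT : ∀ s : ℕ, s ∉ troots →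
      ∀ p ∈ ([(39, a'), (40, b'), (44, c'), (45, d'), (46, e'), (47, f')] : List (ℕ × F)), s ≠ p.1 := by
    intro s hs p hp
    simp only [List.mem_cons, List.not_mem_nil, or_false] at hp
    intro e
    apply hs
    rcases hp with rfl | rfl | rfl | rfl | rfl | rfl <;> (rw [e]; simp [troots])
  have hs1 : s1 ∈ troots := by
    by_contra hne
    have hkc : k1 * a ≠ 0 := mul_ne_zero hk1 ha
    apply hkc
    apply f4cnrig_zero_of_odd F s1 b1
    intro i
    have := key s1 b1 (hnotT s1 hne) i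
    simpa only [List.map_cons, List.map_nil, List.sum_cons, List.sum_nil, if_pos, if_neg n12, if_neg n13,
      if_neg n14, if_neg n15, if_neg n16, add_zero] using this
  have hs4 : s4 ∈ troots := by
    by_contra hne
    have hkc : k4 * d ≠ 0 := mul_ne_zero hk4 hd
    apply hkc
    apply f4cnrig_zero_of_odd F s4 b4
    intro i
    have := key s4 b4 (hnotT s4 hne) i
    simpa only [List.map_cons, List.map_nil, List.sum_cons, List.sum_nil, if_pos, if_neg (Ne.symm n14),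
      if_neg n42, if_neg n43, if_neg n45, if_neg n46, add_zero, zero_add] using this
  obtain ⟨e1, e4, h23, h56⟩ := hlast hs1 hs4
  -- the action on the six roots
  have hperm : ∀ r ∈ troots, ∃ r' ∈ troots, ∃ k : F, k ≠ 0 ∧
      ∀ t : F, n * xf F r t * n⁻¹ = xf F r' (k * t) := by
    intro r hr
    simp only [troots, List.mem_cons, List.not_mem_nil, or_false] at hr
    rcases hr with rfl | rfl | rfl | rfl | rfl | rfl
    · exact ⟨s1, by simp [e1, troots], k1, hk1, a1⟩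
    · exact ⟨s2, by rcases h23 with ⟨e, -⟩ | ⟨e, -⟩ <;> simp [e, troots], k2, hk2, a2⟩
    · exact ⟨s3, by rcases h23 with ⟨-, e⟩ | ⟨-, e⟩ <;> simp [e, troots], k3, hk3, a3⟩
    · exact ⟨s4, by simp [e4, troots], k4, hk4, a4⟩
    · exact ⟨s5, by rcases h56 with ⟨e, -⟩ | ⟨e, -⟩ <;> simp [e, troots], k5, hk5, a5⟩
    · exact ⟨s6, by rcases h56 with ⟨-, e⟩ | ⟨-, e⟩ <;> simp [e, troots], k6, hk6, a6⟩
  -- surjectivity of the permutation
  have hsurj : ∀ r' ∈ troots, ∃ r ∈ troots, ∃ k : F, k ≠ 0 ∧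
      ∀ t : F, n * xf F r t * n⁻¹ = xf F r' (k * t) := by
    intro r' hr'
    simp only [troots, List.mem_cons, List.not_mem_nil, or_false] at hr'
    rcases hr' with rfl | rfl | rfl | rfl | rfl | rfl
    · exact ⟨39, by simp [troots], k1, hk1, fun t => by rw [a1 t, e1]⟩
    · rcases h23 with ⟨e, -⟩ | ⟨-, e⟩
      · exact ⟨40, by simp [troots], k2, hk2, fun t => by rw [a2 t, e]⟩
      · exact ⟨44, by simp [troots], k3, hk3, fun t => by rw [a3 t, e]⟩
    · rcases h23 with ⟨-, e⟩ | ⟨e, -⟩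
      · exact ⟨44, by simp [troots], k3, hk3, fun t => by rw [a3 t, e]⟩
      · exact ⟨40, by simp [troots], k2, hk2, fun t => by rw [a2 t, e]⟩
    · exact ⟨45, by simp [troots], k4, hk4, fun t => by rw [a4 t, e4]⟩
    · rcases h56 with ⟨e, -⟩ | ⟨-, e⟩
      · exact ⟨46, by simp [troots], k5, hk5, fun t => by rw [a5 t, e]⟩
      · exact ⟨47, by simp [troots], k6, hk6, fun t => by rw [a6 t, e]⟩
    · rcases h56 with ⟨-, e⟩ | ⟨e, -⟩
      · exact ⟨47, by simp [troots], k6, hk6, fun t => by rw [a6 t, e]⟩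
      · exact ⟨46, by simp [troots], k5, hk5, fun t => by rw [a5 t, e]⟩
  unfold Tgrp
  apply f4cnrig_norm_of_gens
  · rintro g ⟨r, hr, t, rfl⟩
    obtain ⟨r', hr', k, -, hk⟩ := hperm r hr
    rw [hk t]
    exact Subgroup.subset_closure ⟨r', hr', _, rfl⟩
  · rintro g ⟨r, hr, t, rfl⟩
    obtain ⟨r₀, hr₀, k, hk0, hk⟩ := hsurj r hr
    have e1 : xf F r t = n * xf F r₀ (t / k) * n⁻¹ := by
      rw [hk (t / k), mul_div_cancel₀ t hk0]
    rw [e1]
    have : n⁻¹ * (n * xf F r₀ (t / k) * n⁻¹) * n = xf F r₀ (t / k) := by group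
    rw [this]
    exact Subgroup.subset_closure ⟨r₀, hr₀, _, rfl⟩

end Cfsg.Agent.Lib.Helper20.F4c
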