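import Mathlib
import Cfsg.Agent.Lib.Helper20.SuMain
import Cfsg.Agent.Lib.Helper94.SuA
import Cfsg.Agent.Lib.Helper20.SqCore

set_option autoImplicit false
set_option linter.style.haveILetI false
set_option linter.unusedSimpArgs false
set_option linter.unusedSectionVars false

/-!
# SQ-PSU-A (`Sq` hive, S4625; sub-leaf of helper69's SQ-PSU): transport from the antidiagonal form

If, for every involution datum `I` of `F`, the unitriangular part `UU ⊓ SUJ I` of the special unitary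
group of the antidiagonal form has all its squares in its derived subgroup, then some Sylow
`2`-subgroup of `Cfsg.SU n F q` has the same property.
-/

namespace Cfsg.Agent.Lib.Helper20.Sq

open Matrix Subgroup Cfsg.Agent.Lib.Helper20.PslF Cfsg.Agent.Lib.Helper20.SuF
open Cfsg.Agent.Lib.Helper44 Cfsg.Agent.Lib.Helper44.SUReg

/-- the isomorphism `SUJ ≃* SU` given by a Witt matrix -/
noncomputable def psua_equiv {K : Type*} [Field K] [Fintype K] {q : ℕ}
    (hK : Fintype.card K = q ^ 2) {n : ℕ} (P P' : Matrix (Fin n) (Fin n) K)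
    (h : P * P' = 1) (h' : P' * P = 1) (hJ : dag q P * P = Jm K n) :
    ↥(SUJ (n := n) (a_Inv hK)) ≃* ↥(Cfsg.SU n K q) where
  toFun g := ⟨a_conj P P' h g.1, a_conj_mem_SU hK P P' h hJ g.2⟩
  invFun y := ⟨a_conj P' P h' y.1, a_conj_mem_SUJ hK P P' h h' hJ y.2⟩
  left_inv g := by
    apply Subtype.ext
    exact a_conj_conj P P' h h' g.1
  right_inv y := by
    apply Subtype.ext
    exact a_conj_conj P' P h' h y.1
  map_mul' g g' := by
    apply Subtype.ext
    show a_conj P P' h (g.1 * g'.1) = a_conj P P' h g.1 * a_conj P P' h g'.1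
    exact map_mul _ _ _

/-- `SqG` of the unitriangular part inside `SUJ`, from `SqG` of `UU ⊓ SUJ` in the ambient `SL_n` -/
theorem psua_sqG_UE {K : Type*} [Field K] [Fintype K] {n : ℕ} (I : SuF.Inv K)
    (hcore : ∀ x ∈ ((UU : Subgroup (SLn n K)) ⊓ SUJ I), x ^ 2 ∈
      ⁅((UU : Subgroup (SLn n K)) ⊓ SUJ I), ((UU : Subgroup (SLn n K)) ⊓ SUJ I)⁆) :
    SqG ↥(UE (n := n) I) := by
  have h1 : SqG ↥((UU : Subgroup (SLn n K)) ⊓ SUJ I) := (sqG_subgroup_iff _).mpr hcore
  have h2 : UE (n := n) I = ((UU : Subgroup (SLn n K)) ⊓ SUJ I).subgroupOf (SUJ I) := by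
    unfold UE
    rw [Subgroup.inf_subgroupOf_right]
  rw [h2]
  exact sqG_of_mulEquiv (Subgroup.subgroupOfEquivOfLe (inf_le_right)).symm h1

/-- SQ-PSU-A -/
theorem psu_transport (F : Type) [Field F] [Fintype F] [CharP F 2] (n q : ℕ)
    (hF : Fintype.card F = q ^ 2) (hn : 3 ≤ n)
    (hcore : ∀ (I : SuF.Inv F), ∀ x ∈ ((UU : Subgroup (SLn n F)) ⊓ SUJ I), x ^ 2 ∈
      ⁅((UU : Subgroup (SLn n F)) ⊓ SUJ I), ((UU : Subgroup (SLn n F)) ⊓ SUJ I)⁆) :
    SqD ↥(Cfsg.SU n F q) := by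
  obtain ⟨P, P', h, h', hJ⟩ := a_exists_witt hF n
  haveI : NeZero n := ⟨by omega⟩
  haveI : Fact (Nat.Prime 2) := ⟨Nat.prime_two⟩
  apply sqD_of_mulEquiv (psua_equiv hF P P' h h' hJ).symm
  refine ⟨UEs (a_Inv hF) 2, ?_⟩
  rw [coe_UEs]
  exact psua_sqG_UE (a_Inv hF) (hcore (a_Inv hF))

end Cfsg.Agent.Lib.Helper20.Sq
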