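import Cfsg.Agent.Lib.Helper99.SpRoot

set_option autoImplicit false

/-!
Symplectic transvection subgroups: degeneracy, and the `SL₂` attached to a hyperbolic pair.
-/

namespace Cfsg.Agent.Lib.Helper99.SpRoot

open Matrix Cfsg.Agent.Lib.Helper13

variable {F : Type*} [Field F] (m : ℕ)

/-- Elements moving every vector by an element of `W`. -/
def moveInto (W : Submodule F (Fin m ⊕ Fin m → F)) : Subgroup (Matrix.symplecticGroup (Fin m) F) where
  carrier := {g | ∀ v : Fin m ⊕ Fin m → F,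
    (g : Matrix (Fin m ⊕ Fin m) (Fin m ⊕ Fin m) F) *ᵥ v - v ∈ W}
  mul_mem' := by
    intro a b ha hb v
    rw [sp_mul_mulVec]
    have := W.add_mem (ha ((b : Matrix (Fin m ⊕ Fin m) (Fin m ⊕ Fin m) F) *ᵥ v)) (hb v)
    rwa [sub_add_sub_cancel] at this
  one_mem' := fun v => by
    rw [sp_one_mulVec, sub_self]; exact W.zero_mem
  inv_mem' := by
    intro a ha v
    have := W.neg_mem (ha (((a⁻¹ : Matrix.symplecticGroup (Fin m) F) :
      Matrix (Fin m ⊕ Fin m) (Fin m ⊕ Fin m) F) *ᵥ v))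
    rwa [sp_mulVec_inv_mulVec, neg_sub] at this

theorem mem_moveInto (W : Submodule F (Fin m ⊕ Fin m → F)) (g : Matrix.symplecticGroup (Fin m) F) :
    g ∈ moveInto m W ↔ ∀ v : Fin m ⊕ Fin m → F,
      (g : Matrix (Fin m ⊕ Fin m) (Fin m ⊕ Fin m) F) *ᵥ v - v ∈ W := Iff.rfl

theorem root_le_moveInto (W : Submodule F (Fin m ⊕ Fin m → F)) (p : Fin m ⊕ Fin m → F)
    (hp : p ∈ W) : root m p ≤ moveInto m W := by
  intro g hg
  obtain ⟨c, rfl⟩ := (mem_root_iff m p g).mp hg
  intro v
  rw [elt_mulVec, add_sub_cancel_left]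
  exact W.smul_mem _ hp

/-- Commuting transvections have orthogonal directions. -/
theorem orth_of_comm (s p : Fin m ⊕ Fin m → F) (hs : s ≠ 0)
    (hc : sympTransvElt m s (1 : F) * sympTransvElt m p 1 =
      sympTransvElt m p 1 * sympTransvElt m s 1) : Cfsg.sympForm m F s p = 0 := by
  have h2 := congrArg (fun g : Matrix.symplecticGroup (Fin m) F =>
    (g : Matrix (Fin m ⊕ Fin m) (Fin m ⊕ Fin m) F) *ᵥ s) hc
  simp only [sp_mul_mulVec, elt_mulVec, sympForm_self, mul_zero, zero_smul, add_zero, one_mul,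
    sympForm_add_left, sympForm_smul_left, zero_add] at h2
  rw [add_eq_left] at h2
  rcases smul_eq_zero.mp h2 with h3 | h3
  · rcases mul_eq_zero.mp h3 with h4 | h4
    · exact h4
    · rw [sympForm_swap, h4, neg_zero]
  · exact absurd h3 hs

theorem rootSet_degenerate : Cfsg.IsDegenerateRootSet (rootSet F m) := by
  rintro A ⟨p, hp, rfl⟩ B ⟨r, hr, rfl⟩ ⟨⟨s, hs, hEq⟩, hcentral, -, -⟩
  by_cases h : Cfsg.sympForm m F p r = 0
  · rw [commutator_root_eq_bot m p r h] at hEq
    exact root_ne_bot m s hs hEq.symm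
  · have hmem : sympTransvElt m s (1 : F) ∈ ⁅root m p, root m r⁆ := by
      rw [hEq]; exact elt_mem_root m s 1
    have c1 := hcentral _ hmem (sympTransvElt m p 1) (Subgroup.mem_sup_left (elt_mem_root m p 1))
    have c2 := hcentral _ hmem (sympTransvElt m r 1) (Subgroup.mem_sup_right (elt_mem_root m r 1))
    have o1 : Cfsg.sympForm m F s p = 0 := orth_of_comm m s p hs c1
    have o2 : Cfsg.sympForm m F s r = 0 := orth_of_comm m s r hs c2
    have hle : ⁅root m p, root m r⁆ ≤ moveInto m (Submodule.span F {p, r}) := by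
      rw [Subgroup.commutator_le]
      intro g₁ hg₁ g₂ hg₂
      have h1 : g₁ ∈ moveInto m (Submodule.span F {p, r}) :=
        root_le_moveInto m _ p (Submodule.subset_span (by simp)) hg₁
      have h2 : g₂ ∈ moveInto m (Submodule.span F {p, r}) :=
        root_le_moveInto m _ r (Submodule.subset_span (by simp)) hg₂
      rw [commutatorElement_def]
      exact Subgroup.mul_mem _ (Subgroup.mul_mem _ (Subgroup.mul_mem _ h1 h2)
        (Subgroup.inv_mem _ h1)) (Subgroup.inv_mem _ h2)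
    have h3 := hle hmem
    obtain ⟨a, ha⟩ := exists_sympForm_ne_zero m s hs
    have ha' : Cfsg.sympForm m F a s ≠ 0 := by
      rw [sympForm_swap]; exact neg_ne_zero.mpr ha
    have h4 := (mem_moveInto m _ _).mp h3 a
    rw [elt_mulVec, add_sub_cancel_left, one_mul,
      Submodule.smul_mem_iff _ ha', Submodule.mem_span_pair] at h4
    obtain ⟨x, y, hxy⟩ := h4
    have e1 : y * Cfsg.sympForm m F r p = 0 := by
      have := o1
      rw [← hxy, sympForm_add_left, sympForm_smul_left, sympForm_smul_left, sympForm_self,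
        mul_zero, zero_add] at this
      exact this
    have e2 : x * Cfsg.sympForm m F p r = 0 := by
      have := o2
      rw [← hxy, sympForm_add_left, sympForm_smul_left, sympForm_smul_left, sympForm_self,
        mul_zero, add_zero] at this
      exact this
    have hx : x = 0 := by
      rcases mul_eq_zero.mp e2 with h5 | h5
      · exact h5
      · exact absurd h5 h
    have hy : y = 0 := by
      rcases mul_eq_zero.mp e1 with h5 | h5
      · exact h5
      · exfalso; apply h; rw [sympForm_swap, h5, neg_zero]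
    apply hs
    rw [← hxy, hx, hy, zero_smul, zero_smul, add_zero]

/-! ### The `SL₂` of a hyperbolic pair -/

/-- The rank one matrix `x ↦ f(x, u) w`. -/
def r1 (w u : Fin m ⊕ Fin m → F) : Matrix (Fin m ⊕ Fin m) (Fin m ⊕ Fin m) F :=
  Matrix.vecMulVec w (Matrix.J (Fin m) F *ᵥ u)

theorem r1_mulVec (w u x : Fin m ⊕ Fin m → F) :
    r1 m w u *ᵥ x = Cfsg.sympForm m F x u • w := by
  unfold r1
  rw [vecMulVec_mulVec, sympForm_def, dotProduct_comm x]
  ext i
  simp [mul_comm]

/-- The matrix of the action of `!![a, b; c, d]` on the plane `⟨p, r⟩`, extended by the identity. -/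
def embMat (p r : Fin m ⊕ Fin m → F) (a b c d : F) : Matrix (Fin m ⊕ Fin m) (Fin m ⊕ Fin m) F :=
  1 + r1 m ((a - 1) • p + c • r) r - r1 m (b • p + (d - 1) • r) p

theorem embMat_mulVec (p r : Fin m ⊕ Fin m → F) (a b c d : F) (x : Fin m ⊕ Fin m → F) :
    embMat m p r a b c d *ᵥ x = x + Cfsg.sympForm m F x r • ((a - 1) • p + c • r) -
      Cfsg.sympForm m F x p • (b • p + (d - 1) • r) := by
  unfold embMat
  rw [sub_mulVec, add_mulVec, one_mulVec, r1_mulVec, r1_mulVec]

theorem embMat_p (p r : Fin m ⊕ Fin m → F) (hpr : Cfsg.sympForm m F p r = 1) (a b c d : F) :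
    embMat m p r a b c d *ᵥ p = a • p + c • r := by
  rw [embMat_mulVec, hpr, sympForm_self, zero_smul, sub_zero, one_smul]
  module

theorem embMat_r (p r : Fin m ⊕ Fin m → F) (hpr : Cfsg.sympForm m F p r = 1) (a b c d : F) :
    embMat m p r a b c d *ᵥ r = b • p + d • r := by
  have hrp : Cfsg.sympForm m F r p = -1 := by rw [sympForm_swap, hpr]
  rw [embMat_mulVec, hrp, sympForm_self, zero_smul, add_zero]
  module

theorem embMat_preserves (p r : Fin m ⊕ Fin m → F) (hpr : Cfsg.sympForm m F p r = 1)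
    (a b c d : F) (hdet : a * d - b * c = 1) (u v : Fin m ⊕ Fin m → F) :
    Cfsg.sympForm m F (embMat m p r a b c d *ᵥ u) (embMat m p r a b c d *ᵥ v) =
      Cfsg.sympForm m F u v := by
  have hrp : Cfsg.sympForm m F r p = -1 := by rw [sympForm_swap, hpr]
  have hpv : Cfsg.sympForm m F p v = - Cfsg.sympForm m F v p := sympForm_swap m p v
  have hrv : Cfsg.sympForm m F r v = - Cfsg.sympForm m F v r := sympForm_swap m r v
  rw [embMat_mulVec, embMat_mulVec]
  simp only [sympForm_add_left, sympForm_sub_left, sympForm_add_right, sympForm_sub_right,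
    sympForm_smul_left, sympForm_smul_right, sympForm_self, hpr, hrp, hpv, hrv]
  linear_combination (Cfsg.sympForm m F u p * Cfsg.sympForm m F v r -
    Cfsg.sympForm m F u r * Cfsg.sympForm m F v p) * hdet

theorem embMat_mul (p r : Fin m ⊕ Fin m → F) (hpr : Cfsg.sympForm m F p r = 1)
    (a b c d a' b' c' d' : F) :
    embMat m p r a b c d * embMat m p r a' b' c' d' =
      embMat m p r (a * a' + b * c') (a * b' + b * d') (c * a' + d * c') (c * b' + d * d') := by
  rw [Matrix.ext_iff_mulVec]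
  intro x
  rw [← mulVec_mulVec, embMat_mulVec m p r a' b' c' d' x, mulVec_sub, mulVec_add, mulVec_smul,
    mulVec_smul, mulVec_add, mulVec_add, mulVec_smul, mulVec_smul, mulVec_smul, mulVec_smul,
    embMat_p m p r hpr, embMat_r m p r hpr, embMat_mulVec, embMat_mulVec]
  module

theorem embMat_one (p r : Fin m ⊕ Fin m → F) : embMat m p r 1 0 0 1 = 1 := by
  rw [Matrix.ext_iff_mulVec]
  intro x
  rw [embMat_mulVec, one_mulVec]
  module

theorem sl2_det (g : Matrix.SpecialLinearGroup (Fin 2) F) :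
    (g : Matrix (Fin 2) (Fin 2) F) 0 0 * (g : Matrix (Fin 2) (Fin 2) F) 1 1 -
      (g : Matrix (Fin 2) (Fin 2) F) 0 1 * (g : Matrix (Fin 2) (Fin 2) F) 1 0 = 1 := by
  rw [← Matrix.det_fin_two, Matrix.SpecialLinearGroup.det_coe]

/-- The homomorphism `SL₂(F) → Sp` attached to a hyperbolic pair. -/
noncomputable def sl2Hom (p r : Fin m ⊕ Fin m → F) (hpr : Cfsg.sympForm m F p r = 1) :
    Matrix.SpecialLinearGroup (Fin 2) F →* Matrix.symplecticGroup (Fin m) F where
  toFun g := ⟨embMat m p r ((g : Matrix (Fin 2) (Fin 2) F) 0 0) ((g : Matrix (Fin 2) (Fin 2) F) 0 1)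
      ((g : Matrix (Fin 2) (Fin 2) F) 1 0) ((g : Matrix (Fin 2) (Fin 2) F) 1 1),
    mem_symplectic_of_preserves m _ (embMat_preserves m p r hpr _ _ _ _ (sl2_det g))⟩
  map_one' := by
    apply Subtype.ext
    simp only [Matrix.SpecialLinearGroup.coe_one, Matrix.one_apply_eq, ne_eq, zero_ne_one,
      not_false_eq_true, Matrix.one_apply_ne, one_ne_zero, Submonoid.coe_one]
    exact embMat_one m p r
  map_mul' g h := by
    apply Subtype.ext
    rw [Submonoid.coe_mul]
    simp only [Matrix.SpecialLinearGroup.coe_mul, Matrix.mul_apply, Fin.sum_univ_two]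
    exact (embMat_mul m p r hpr _ _ _ _ _ _ _ _).symm

theorem sl2Hom_coe (p r : Fin m ⊕ Fin m → F) (hpr : Cfsg.sympForm m F p r = 1)
    (g : Matrix.SpecialLinearGroup (Fin 2) F) :
    ((sl2Hom m p r hpr g : Matrix.symplecticGroup (Fin m) F) :
      Matrix (Fin m ⊕ Fin m) (Fin m ⊕ Fin m) F) =
      embMat m p r ((g : Matrix (Fin 2) (Fin 2) F) 0 0) ((g : Matrix (Fin 2) (Fin 2) F) 0 1)
      ((g : Matrix (Fin 2) (Fin 2) F) 1 0) ((g : Matrix (Fin 2) (Fin 2) F) 1 1) := rfl

theorem sl2Hom_upper (p r : Fin m ⊕ Fin m → F) (hpr : Cfsg.sympForm m F p r = 1)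
    (g : Matrix.SpecialLinearGroup (Fin 2) F) (h10 : (g : Matrix (Fin 2) (Fin 2) F) 1 0 = 0)
    (h00 : (g : Matrix (Fin 2) (Fin 2) F) 0 0 = 1) (h11 : (g : Matrix (Fin 2) (Fin 2) F) 1 1 = 1) :
    sl2Hom m p r hpr g = sympTransvElt m p (-(g : Matrix (Fin 2) (Fin 2) F) 0 1) := by
  apply sp_ext
  intro x
  rw [sl2Hom_coe, embMat_mulVec, elt_mulVec, h10, h00, h11]
  module

theorem sl2Hom_lower (p r : Fin m ⊕ Fin m → F) (hpr : Cfsg.sympForm m F p r = 1)
    (g : Matrix.SpecialLinearGroup (Fin 2) F) (h01 : (g : Matrix (Fin 2) (Fin 2) F) 0 1 = 0)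
    (h00 : (g : Matrix (Fin 2) (Fin 2) F) 0 0 = 1) (h11 : (g : Matrix (Fin 2) (Fin 2) F) 1 1 = 1) :
    sl2Hom m p r hpr g = sympTransvElt m r ((g : Matrix (Fin 2) (Fin 2) F) 1 0) := by
  apply sp_ext
  intro x
  rw [sl2Hom_coe, embMat_mulVec, elt_mulVec, h01, h00, h11]
  module

/-- Upper unitriangular element. -/
def upperElt (b : F) : Matrix.SpecialLinearGroup (Fin 2) F :=
  ⟨!![1, b; 0, 1], by simp [Matrix.det_fin_two]⟩

/-- Lower unitriangular element. -/
def lowerElt (c : F) : Matrix.SpecialLinearGroup (Fin 2) F :=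
  ⟨!![1, 0; c, 1], by simp [Matrix.det_fin_two]⟩

theorem upperElt_mem (b : F) : upperElt b ∈ Cfsg.upperUnipotentSL2 F :=
  Subgroup.subset_closure ⟨rfl, rfl, rfl⟩

theorem lowerElt_mem (c : F) : lowerElt c ∈ Cfsg.lowerUnipotentSL2 F :=
  Subgroup.subset_closure ⟨rfl, rfl, rfl⟩

theorem map_upper (p r : Fin m ⊕ Fin m → F) (hpr : Cfsg.sympForm m F p r = 1) :
    (Cfsg.upperUnipotentSL2 F).map (sl2Hom m p r hpr) = root m p := by
  apply le_antisymm
  · rw [Subgroup.map_le_iff_le_comap]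
    unfold Cfsg.upperUnipotentSL2
    rw [Subgroup.closure_le]
    rintro g ⟨h10, h00, h11⟩
    change sl2Hom m p r hpr g ∈ root m p
    rw [sl2Hom_upper m p r hpr g h10 h00 h11]
    exact elt_mem_root m p _
  · intro g hg
    obtain ⟨c, rfl⟩ := (mem_root_iff m p g).mp hg
    refine ⟨upperElt (-c), upperElt_mem _, ?_⟩
    rw [sl2Hom_upper m p r hpr _ (by simp [upperElt]) (by simp [upperElt]) (by simp [upperElt])]
    simp [upperElt]

theorem map_lower (p r : Fin m ⊕ Fin m → F) (hpr : Cfsg.sympForm m F p r = 1) :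
    (Cfsg.lowerUnipotentSL2 F).map (sl2Hom m p r hpr) = root m r := by
  apply le_antisymm
  · rw [Subgroup.map_le_iff_le_comap]
    unfold Cfsg.lowerUnipotentSL2
    rw [Subgroup.closure_le]
    rintro g ⟨h01, h00, h11⟩
    change sl2Hom m p r hpr g ∈ root m r
    rw [sl2Hom_lower m p r hpr g h01 h00 h11]
    exact elt_mem_root m r _
  · intro g hg
    obtain ⟨c, rfl⟩ := (mem_root_iff m r g).mp hg
    refine ⟨lowerElt c, lowerElt_mem _, ?_⟩
    rw [sl2Hom_lower m p r hpr _ (by simp [lowerElt]) (by simp [lowerElt]) (by simp [lowerElt])]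
    simp [lowerElt]

/-- `SL₂(F)` is generated by its two unitriangular subgroups. -/
theorem upper_sup_lower : Cfsg.upperUnipotentSL2 F ⊔ Cfsg.lowerUnipotentSL2 F = ⊤ := by
  apply SLGen.eq_top_of_transvection_mem
  intro i j hij c
  fin_cases i <;> fin_cases j
  · exact absurd rfl hij
  · apply Subgroup.mem_sup_left
    apply Subgroup.subset_closure
    simp [Matrix.SpecialLinearGroup.transvection_coe]
  · apply Subgroup.mem_sup_right
    apply Subgroup.subset_closure
    simp [Matrix.SpecialLinearGroup.transvection_coe]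
  · exact absurd rfl hij

theorem sl2Hom_range (p r : Fin m ⊕ Fin m → F) (hpr : Cfsg.sympForm m F p r = 1) :
    (sl2Hom m p r hpr).range = root m p ⊔ root m r := by
  rw [MonoidHom.range_eq_map, ← upper_sup_lower, Subgroup.map_sup, map_upper, map_lower]

theorem sl2Hom_ker (p r : Fin m ⊕ Fin m → F) (hpr : Cfsg.sympForm m F p r = 1) :
    (sl2Hom m p r hpr).ker = ⊥ := by
  have hrp : Cfsg.sympForm m F r p = -1 := by rw [sympForm_swap, hpr]
  rw [eq_bot_iff]
  intro g hg
  rw [MonoidHom.mem_ker] at hg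
  have hcoe := sl2Hom_coe m p r hpr g
  rw [hg, Submonoid.coe_one] at hcoe
  have e1 := embMat_p m p r hpr ((g : Matrix (Fin 2) (Fin 2) F) 0 0)
    ((g : Matrix (Fin 2) (Fin 2) F) 0 1) ((g : Matrix (Fin 2) (Fin 2) F) 1 0)
    ((g : Matrix (Fin 2) (Fin 2) F) 1 1)
  have e2 := embMat_r m p r hpr ((g : Matrix (Fin 2) (Fin 2) F) 0 0)
    ((g : Matrix (Fin 2) (Fin 2) F) 0 1) ((g : Matrix (Fin 2) (Fin 2) F) 1 0)
    ((g : Matrix (Fin 2) (Fin 2) F) 1 1)
  rw [← hcoe, one_mulVec] at e1 e2
  have a1 := congrArg (fun v => Cfsg.sympForm m F v r) e1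
  have a2 := congrArg (fun v => Cfsg.sympForm m F v p) e1
  have a3 := congrArg (fun v => Cfsg.sympForm m F v r) e2
  have a4 := congrArg (fun v => Cfsg.sympForm m F v p) e2
  simp only [sympForm_add_left, sympForm_smul_left, sympForm_self, hpr, hrp, mul_zero, add_zero,
    zero_add, mul_one, mul_neg, neg_inj] at a1 a2 a3 a4
  rw [Subgroup.mem_bot]
  apply Matrix.SpecialLinearGroup.ext
  intro i j
  fin_cases i <;> fin_cases j
  · simpa using a1.symm
  · simpa using a3.symm
  · simpa using (neg_eq_zero.mp a2.symm)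
  · simpa using a4.symm

/-- The pair of root subgroups attached to non-orthogonal directions is a `(P)SL₂(F)` pair. -/
theorem isPSL2PairOver_root (p r : Fin m ⊕ Fin m → F) (h : Cfsg.sympForm m F p r ≠ 0) :
    Cfsg.IsPSL2PairOver F (root m p) (root m r) := by
  have hpr : Cfsg.sympForm m F p ((Cfsg.sympForm m F p r)⁻¹ • r) = 1 := by
    rw [sympForm_smul_right, inv_mul_cancel₀ h]
  rw [← root_smul m _ (inv_ne_zero h) r]
  refine ⟨sl2Hom m p _ hpr, sl2Hom_range m p _ hpr, ?_, map_upper m p _ hpr, map_lower m p _ hpr⟩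
  rw [sl2Hom_ker]
  exact bot_le

theorem rootSet_isRootSubgroupSet : Cfsg.IsRootSubgroupSet (rootSet F m) where
  commutative := by
    rintro A ⟨p, -, rfl⟩
    exact root_commutative m p
  ne_bot := by
    rintro A ⟨p, hp, rfl⟩
    exact root_ne_bot m p hp
  generates := rootSet_generates m
  conj_mem := conj_mem_rootSet m
  pair := by
    rintro A ⟨p, hp, rfl⟩ B ⟨r, hr, rfl⟩
    by_cases h : Cfsg.sympForm m F p r = 0
    · exact Or.inl (commutator_root_eq_bot m p r h)
    · exact Or.inr (Or.inl (isRankOnePair_root m p r h))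

theorem rootSet_isKRoot : Cfsg.IsKRootSubgroupSet F (rootSet F m) := by
  refine ⟨rootSet_isRootSubgroupSet m, ?_⟩
  rintro A ⟨p, hp, rfl⟩ B ⟨r, hr, rfl⟩ hpair
  exact isPSL2PairOver_root m p r (not_orth_of_isRankOnePair m p r hp hpair)

theorem rootSet_isClass (hm : 0 < m) : Cfsg.IsRootSubgroupClass (rootSet F m) :=
  ⟨rootSet_isRootSubgroupSet m, rootSet_conjClass m hm⟩

end Cfsg.Agent.Lib.Helper99.SpRoot
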