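import Cfsg.Agent.Lib.Helper99.UnitaryND5

set_option autoImplicit false

/-!
Stabilizer of a pair of complementary totally isotropic subspaces in the special unitary group:
root elements.
-/

namespace Cfsg.Agent.Lib.Helper99

open Matrix

section upair1

variable {F : Type*} [Field F] [Fintype F] {q n : ℕ}

local notation "hh" => Cfsg.hermForm n F q

/-- A fixed nonzero trace-zero element. -/
noncomputable def tz (hF : Fintype.card F = q ^ 2) : F := Classical.choose (exists_trace_zero hF)

theorem tz_ne_zero (hF : Fintype.card F = q ^ 2) : tz hF ≠ 0 :=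
  (Classical.choose_spec (exists_trace_zero hF)).1

theorem tz_trace (hF : Fintype.card F = q ^ 2) : tz hF + tz hF ^ q = 0 :=
  (Classical.choose_spec (exists_trace_zero hF)).2

theorem tz_pow (hF : Fintype.card F = q ^ 2) : tz hF ^ q = - tz hF :=
  eq_neg_of_add_eq_zero_right (tz_trace hF)

theorem neg_tz_trace (hF : Fintype.card F = q ^ 2) : -tz hF + (-tz hF) ^ q = 0 := by
  rw [frob_neg hF, tz_pow hF]
  ring

/-- The root element `x ↦ x + τ (h(x,b) a + h(x,a) b)`. -/
noncomputable def rootU (hF : Fintype.card F = q ^ 2) (a b : Fin n → F) : GL (Fin n) F :=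
  utv q (a + b) (tz hF) * utv q a (-tz hF) * utv q b (-tz hF)

theorem isotropic_add (hF : Fintype.card F = q ^ 2) {a b : Fin n → F} (ha : hh a a = 0)
    (hb : hh b b = 0) (hab : hh a b = 0) : hh (a + b) (a + b) = 0 := by
  rw [Helper13.hermForm_add_left, Helper13.hermForm_add_right hF, Helper13.hermForm_add_right hF,
    ha, hb, hab, hermForm_eq_zero_comm hF hab]
  ring

theorem rootU_mem_suGL (hF : Fintype.card F = q ^ 2) {a b : Fin n → F} (ha : hh a a = 0)
    (hb : hh b b = 0) (hab : hh a b = 0) : rootU hF a b ∈ suGL (F := F) n q :=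
  Subgroup.mul_mem _ (Subgroup.mul_mem _
    (utv_mem_suGL hF _ (isotropic_add hF ha hb hab) _ (tz_trace hF))
    (utv_mem_suGL hF _ ha _ (neg_tz_trace hF))) (utv_mem_suGL hF _ hb _ (neg_tz_trace hF))

theorem rootU_mulVec (hF : Fintype.card F = q ^ 2) {a b : Fin n → F} (ha : hh a a = 0)
    (hb : hh b b = 0) (hab : hh a b = 0) (x : Fin n → F) :
    ((rootU hF a b : GL (Fin n) F) : Matrix (Fin n) (Fin n) F) *ᵥ x =
      x + (tz hF * hh x b) • a + (tz hF * hh x a) • b := by
  have hba : hh b a = 0 := hermForm_eq_zero_comm hF hab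
  unfold rootU
  rw [Units.val_mul, Units.val_mul, ← mulVec_mulVec, ← mulVec_mulVec, utv_mulVec b hb,
    utv_mulVec a ha, utv_mulVec (a + b) (isotropic_add hF ha hb hab)]
  simp only [Helper13.hermForm_add_left, Helper13.hermForm_add_right hF,
    Helper13.hermForm_smul_left, ha, hb, hab, hba]
  module

theorem rootU_symm (hF : Fintype.card F = q ^ 2) {a b : Fin n → F} (ha : hh a a = 0)
    (hb : hh b b = 0) (hab : hh a b = 0) : rootU hF a b = rootU hF b a := by
  have hba : hh b a = 0 := hermForm_eq_zero_comm hF hab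
  apply Units.ext
  rw [Matrix.ext_iff_mulVec]
  intro x
  rw [rootU_mulVec hF ha hb hab, rootU_mulVec hF hb ha hba]
  abel

theorem isotropic_smul {a : Fin n → F} (ha : hh a a = 0) (c : F) : hh (c • a) (c • a) = 0 := by
  rw [Helper13.hermForm_smul_left, Helper13.hermForm_smul_right, ha, mul_zero, mul_zero]

theorem rootU_self (hF : Fintype.card F = q ^ 2) {a : Fin n → F} (ha : hh a a = 0) (c : F) :
    rootU hF a (c • a) = utv q a (tz hF * (c + c ^ q)) := by
  have h1 : hh a (c • a) = 0 := by rw [Helper13.hermForm_smul_right, ha, mul_zero]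
  apply Units.ext
  rw [Matrix.ext_iff_mulVec]
  intro x
  rw [rootU_mulVec hF ha (isotropic_smul ha c) h1, utv_mulVec a ha,
    Helper13.hermForm_smul_right]
  module

theorem rootU_mul (hF : Fintype.card F = q ^ 2) {a b b' : Fin n → F} (ha : hh a a = 0)
    (hb : hh b b = 0) (hb' : hh b' b' = 0) (hab : hh a b = 0) (hab' : hh a b' = 0)
    (hbb' : hh b b' = 0) : rootU hF a b * rootU hF a b' = rootU hF a (b + b') := by
  have hba : hh b a = 0 := hermForm_eq_zero_comm hF hab
  have hb'a : hh b' a = 0 := hermForm_eq_zero_comm hF hab'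
  have hb'b : hh b' b = 0 := hermForm_eq_zero_comm hF hbb'
  have h3 : hh a (b + b') = 0 := by
    rw [Helper13.hermForm_add_right hF, hab, hab', add_zero]
  apply Units.ext
  rw [Matrix.ext_iff_mulVec]
  intro x
  rw [Units.val_mul, ← mulVec_mulVec, rootU_mulVec hF ha hb' hab', rootU_mulVec hF ha hb hab,
    rootU_mulVec hF ha (isotropic_add hF hb hb' hbb') h3]
  simp only [Helper13.hermForm_add_left, Helper13.hermForm_add_right hF,
    Helper13.hermForm_smul_left, ha, hab, hab', hba, hb'a, hb'b, hbb']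
  module

/-- The commutator of two root elements with the same first vector is a unitary transvection. -/
theorem rootU_commutator (hF : Fintype.card F = q ^ 2) {a b b' : Fin n → F} (ha : hh a a = 0)
    (hb : hh b b = 0) (hb' : hh b' b' = 0) (hab : hh a b = 0) (hab' : hh a b' = 0) :
    rootU hF a b * rootU hF a b' * (rootU hF a b)⁻¹ * (rootU hF a b')⁻¹ =
      utv q a (tz hF * tz hF * (hh b' b - hh b b')) := by
  have key : rootU hF a b * rootU hF a b' =
      utv q a (tz hF * tz hF * (hh b' b - hh b b')) * rootU hF a b' * rootU hF a b := by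
    have hba : hh b a = 0 := hermForm_eq_zero_comm hF hab
    have hb'a : hh b' a = 0 := hermForm_eq_zero_comm hF hab'
    apply Units.ext
    rw [Matrix.ext_iff_mulVec]
    intro x
    rw [Units.val_mul, Units.val_mul, Units.val_mul, ← mulVec_mulVec, ← mulVec_mulVec,
      ← mulVec_mulVec, rootU_mulVec hF ha hb' hab', rootU_mulVec hF ha hb hab,
      rootU_mulVec hF ha hb hab, rootU_mulVec hF ha hb' hab', utv_mulVec a ha]
    simp only [Helper13.hermForm_add_left, Helper13.hermForm_add_right hF,
      Helper13.hermForm_smul_left, ha, hab, hab', hba, hb'a, hb, hb']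
    module
  rw [key]
  group

theorem conj_rootU (hF : Fintype.card F = q ^ 2) (g : GL (Fin n) F) (hg : g ∈ Cfsg.GU n F q)
    {a b : Fin n → F} (ha : hh a a = 0) (hb : hh b b = 0) (hab : hh a b = 0) :
    g * rootU hF a b * g⁻¹ =
      rootU hF ((g : Matrix (Fin n) (Fin n) F) *ᵥ a) ((g : Matrix (Fin n) (Fin n) F) *ᵥ b) := by
  unfold rootU
  rw [← mulVec_add, ← conj_utv g hg _ (isotropic_add hF ha hb hab), ← conj_utv g hg _ ha,
    ← conj_utv g hg _ hb]
  group

/-- Every trace-zero element is of the form `τ (w + w^q)`. -/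
theorem exists_tz_mul_trace (hF : Fintype.card F = q ^ 2) (c : F) (hc : c + c ^ q = 0) :
    ∃ w : F, tz hF * (w + w ^ q) = c := by
  have hcq : c ^ q = -c := eq_neg_of_add_eq_zero_right hc
  have hr : (c / tz hF) ^ q = c / tz hF := by
    rw [div_pow, hcq, tz_pow hF, neg_div_neg_eq]
  obtain ⟨w, hw⟩ := exists_trace_eq' hF (c / tz hF) hr
  refine ⟨w, ?_⟩
  rw [hw, mul_div_cancel₀ _ (tz_ne_zero hF)]

/-- Every trace-zero element is of the form `τ² (z - z^q)`. -/
theorem exists_tz_sq_mul (hF : Fintype.card F = q ^ 2) (c : F) (hc : c + c ^ q = 0) :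
    ∃ z : F, tz hF * tz hF * (z - z ^ q) = c := by
  have hcq : c ^ q = -c := eq_neg_of_add_eq_zero_right hc
  have ht := tz_ne_zero hF
  have hr : (c / (tz hF * tz hF * tz hF)) ^ q = c / (tz hF * tz hF * tz hF) := by
    rw [div_pow, mul_pow, mul_pow, hcq, tz_pow hF]
    have : -tz hF * -tz hF * -tz hF = -(tz hF * tz hF * tz hF) := by ring
    rw [this, neg_div_neg_eq]
  obtain ⟨w, hw⟩ := exists_trace_eq' hF _ hr
  refine ⟨tz hF * w, ?_⟩
  rw [mul_pow, tz_pow hF]
  have : tz hF * w - -tz hF * w ^ q = tz hF * (w + w ^ q) := by ring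
  rw [this, hw]
  field_simp

/-- Two root elements with non-orthogonal second vectors produce all transvections in the
direction of the common vector. -/
theorem utv_of_root_pair (hF : Fintype.card F = q ^ 2) (M : Subgroup (GL (Fin n) F))
    {a b b' : Fin n → F} (ha : hh a a = 0) (hb : hh b b = 0) (hb' : hh b' b' = 0)
    (hab : hh a b = 0) (hab' : hh a b' = 0) (hM : ∀ μ : F, rootU hF a (μ • b) ∈ M)
    (hM' : rootU hF a b' ∈ M) (hne : hh b' b ≠ 0) : InZ q M a := by
  intro c hc
  obtain ⟨z, hz⟩ := exists_tz_sq_mul hF c hc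
  -- choose `μ` with `μ^q h(b',b) = z`
  set μ : F := (z / hh b' b) ^ q with hμ
  have hμq : μ ^ q = z / hh b' b := by rw [hμ, Helper13.pow_q_pow_q hF]
  have habμ : hh a (μ • b) = 0 := by rw [Helper13.hermForm_smul_right, hab, mul_zero]
  have h := rootU_commutator hF ha (isotropic_smul hb μ) hb' habμ hab'
  have e1 : hh b' (μ • b) = z := by
    rw [Helper13.hermForm_smul_right, hμq, div_mul_cancel₀ _ hne]
  have e2 : hh (μ • b) b' = z ^ q := by
    rw [← Helper13.hermForm_conj hF n b' (μ • b), e1]
  rw [e1, e2, hz] at h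
  rw [← h]
  exact M.mul_mem (M.mul_mem (M.mul_mem (hM _) hM') (M.inv_mem (hM _))) (M.inv_mem hM')

/-- Two root elements whose second vectors differ by a multiple of the common vector produce
all transvections in that direction. -/
theorem utv_of_root_shift (hF : Fintype.card F = q ^ 2) (M : Subgroup (GL (Fin n) F))
    {a b : Fin n → F} (ha : hh a a = 0) (hb : hh b b = 0) (hab : hh a b = 0) (l : F)
    (hl : l ≠ 0) (hM : ∀ μ : F, rootU hF a (μ • b) ∈ M)
    (hM' : ∀ μ : F, rootU hF a (μ • (b + l • a)) ∈ M) : InZ q M a := by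
  intro c hc
  obtain ⟨w, hw⟩ := exists_tz_mul_trace hF c hc
  set μ : F := w / l with hμ
  have hba : hh b a = 0 := hermForm_eq_zero_comm hF hab
  have i1 : hh ((-μ) • b) ((-μ) • b) = 0 := isotropic_smul hb _
  have hbla : hh (b + l • a) (b + l • a) = 0 := by
    apply isotropic_add hF hb (isotropic_smul ha l)
    rw [Helper13.hermForm_smul_right, hba, mul_zero]
  have i2 : hh (μ • (b + l • a)) (μ • (b + l • a)) = 0 := isotropic_smul hbla _
  have e1 : hh a ((-μ) • b) = 0 := by rw [Helper13.hermForm_smul_right, hab, mul_zero]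
  have e2 : hh a (μ • (b + l • a)) = 0 := by
    rw [Helper13.hermForm_smul_right, Helper13.hermForm_add_right hF,
      Helper13.hermForm_smul_right, hab, ha, mul_zero, add_zero, mul_zero]
  have e3 : hh ((-μ) • b) (μ • (b + l • a)) = 0 := by
    rw [Helper13.hermForm_smul_left, Helper13.hermForm_smul_right,
      Helper13.hermForm_add_right hF, Helper13.hermForm_smul_right, hb, hba, mul_zero, add_zero,
      mul_zero, mul_zero]
  have h := rootU_mul hF ha i1 i2 e1 e2 e3
  have e4 : (-μ) • b + μ • (b + l • a) = (μ * l) • a := by module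
  have e5 : μ * l = w := by rw [hμ, div_mul_cancel₀ _ hl]
  rw [e4, e5, rootU_self hF ha, hw] at h
  rw [← h]
  exact M.mul_mem (hM _) (hM' _)

end upair1

end Cfsg.Agent.Lib.Helper99
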