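import Mathlib

set_option autoImplicit false

/-!
# Stn hive (S2401), rank-one route to `hh_mul` (Steinberg, Lectures on Chevalley groups, Lemma 39 + Theorem 9)

Abstract setting: a group `G`, a field `K`, two families `x y : K → G` ("opposite root groups"),
`w t = x t * y (-t⁻¹) * x t`, `h t = w t * w (-1)`, with the relations
`x t * x u = x (t + u)`, `y t * y u = y (t + u)`,
`w t * x u * (w t)⁻¹ = y (-(t ^ 2)⁻¹ * u)`, `w t * y u * (w t)⁻¹ = x (-t ^ 2 * u)`  (`t ≠ 0`).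
If `K` is finite then `h t * h u = h (t * u)` for `t u ≠ 0`.  No third index, no centrality needed.
-/

namespace Cfsg.Agent.Lib.Helper41.Stn

section symr

variable {K : Type*} [Field K] {G : Type*} [Group G]

/-- rank one `w` -/
def symr_w (x y : K → G) (t : K) : G := x t * y (-t⁻¹) * x t

/-- rank one `h` -/
def symr_h (x y : K → G) (t : K) : G := symr_w x y t * symr_w x y (-1)

/-- rank one symbol -/
def symr_f (x y : K → G) (t u : K) : G := symr_h x y t * symr_h x y u * (symr_h x y (t * u))⁻¹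

/-- the rank one relations -/
structure SymrData (x y : K → G) : Prop where
  x_add : ∀ t u, x t * x u = x (t + u)
  y_add : ∀ t u, y t * y u = y (t + u)
  conj_x : ∀ t : K, t ≠ 0 → ∀ u, symr_w x y t * x u * (symr_w x y t)⁻¹ = y (-(t ^ 2)⁻¹ * u)
  conj_y : ∀ t : K, t ≠ 0 → ∀ u, symr_w x y t * y u * (symr_w x y t)⁻¹ = x (-t ^ 2 * u)

namespace SymrData

variable {x y : K → G}

theorem x_zero (D : SymrData x y) : x 0 = 1 := by
  have h := D.x_add 0 0
  rw [add_zero] at h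
  exact mul_left_cancel (a := x 0) (by rw [h, mul_one])

theorem y_zero (D : SymrData x y) : y 0 = 1 := by
  have h := D.y_add 0 0
  rw [add_zero] at h
  exact mul_left_cancel (a := y 0) (by rw [h, mul_one])

theorem x_inv (D : SymrData x y) (t : K) : (x t)⁻¹ = x (-t) := by
  apply inv_eq_of_mul_eq_one_right
  rw [D.x_add, add_neg_cancel, D.x_zero]

theorem y_inv (D : SymrData x y) (t : K) : (y t)⁻¹ = y (-t) := by
  apply inv_eq_of_mul_eq_one_right
  rw [D.y_add, add_neg_cancel, D.y_zero]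

theorem w_inv (D : SymrData x y) (t : K) : (symr_w x y t)⁻¹ = symr_w x y (-t) := by
  unfold symr_w
  rw [inv_neg, neg_neg, ← D.x_inv t, show y (t⁻¹) = (y (-t⁻¹))⁻¹ by rw [D.y_inv, neg_neg]]
  group

/-- moving `w` past `x` -/
theorem w_mv_x (D : SymrData x y) {t : K} (ht : t ≠ 0) (u : K) :
    symr_w x y t * x u = y (-(t ^ 2)⁻¹ * u) * symr_w x y t := by
  rw [← D.conj_x t ht u]
  group

/-- moving `w` past `y` -/
theorem w_mv_y (D : SymrData x y) {t : K} (ht : t ≠ 0) (u : K) :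
    symr_w x y t * y u = x (-t ^ 2 * u) * symr_w x y t := by
  rw [← D.conj_y t ht u]
  group

theorem h_conj_x (D : SymrData x y) {t : K} (ht : t ≠ 0) (u : K) :
    symr_h x y t * x u * (symr_h x y t)⁻¹ = x (t ^ 2 * u) := by
  have h1 : (-1 : K) ≠ 0 := neg_ne_zero.mpr one_ne_zero
  have e : -t ^ 2 * (-((-1 : K) ^ 2)⁻¹ * u) = t ^ 2 * u := by
    rw [neg_one_sq, inv_one]; ring
  unfold symr_h
  calc symr_w x y t * symr_w x y (-1) * x u * (symr_w x y t * symr_w x y (-1))⁻¹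
      = symr_w x y t * (symr_w x y (-1) * x u * (symr_w x y (-1))⁻¹) * (symr_w x y t)⁻¹ := by group
    _ = symr_w x y t * y (-((-1 : K) ^ 2)⁻¹ * u) * (symr_w x y t)⁻¹ := by rw [D.conj_x (-1) h1]
    _ = x (-t ^ 2 * (-((-1 : K) ^ 2)⁻¹ * u)) := D.conj_y t ht _
    _ = x (t ^ 2 * u) := by rw [e]

theorem h_conj_y (D : SymrData x y) {t : K} (ht : t ≠ 0) (u : K) :
    symr_h x y t * y u * (symr_h x y t)⁻¹ = y ((t ^ 2)⁻¹ * u) := by
  have h1 : (-1 : K) ≠ 0 := neg_ne_zero.mpr one_ne_zero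
  have e : -(t ^ 2)⁻¹ * (-(-1 : K) ^ 2 * u) = (t ^ 2)⁻¹ * u := by
    rw [neg_one_sq]; ring
  unfold symr_h
  calc symr_w x y t * symr_w x y (-1) * y u * (symr_w x y t * symr_w x y (-1))⁻¹
      = symr_w x y t * (symr_w x y (-1) * y u * (symr_w x y (-1))⁻¹) * (symr_w x y t)⁻¹ := by group
    _ = symr_w x y t * x (-(-1 : K) ^ 2 * u) * (symr_w x y t)⁻¹ := by rw [D.conj_y (-1) h1]
    _ = y (-(t ^ 2)⁻¹ * (-(-1 : K) ^ 2 * u)) := D.conj_x t ht _
    _ = y ((t ^ 2)⁻¹ * u) := by rw [e]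

theorem h_conj_w (D : SymrData x y) {t : K} (ht : t ≠ 0) {u : K} (hu : u ≠ 0) :
    symr_h x y t * symr_w x y u * (symr_h x y t)⁻¹ = symr_w x y (t ^ 2 * u) := by
  have e : (t ^ 2)⁻¹ * (-u⁻¹) = -(t ^ 2 * u)⁻¹ := by
    rw [mul_inv]; ring
  calc symr_h x y t * symr_w x y u * (symr_h x y t)⁻¹
      = (symr_h x y t * x u * (symr_h x y t)⁻¹) * (symr_h x y t * y (-u⁻¹) * (symr_h x y t)⁻¹) *
          (symr_h x y t * x u * (symr_h x y t)⁻¹) := by
        unfold symr_w; group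
    _ = symr_w x y (t ^ 2 * u) := by
        rw [D.h_conj_x ht, D.h_conj_y ht, e]
        rfl

theorem h_one (D : SymrData x y) : symr_h x y 1 = 1 := by
  unfold symr_h
  rw [← D.w_inv 1, mul_inv_cancel]

theorem w_mul_w (D : SymrData x y) (p r : K) :
    symr_w x y p * symr_w x y r = symr_h x y p * (symr_h x y (-r))⁻¹ := by
  unfold symr_h
  rw [mul_inv_rev, D.w_inv (-r), neg_neg]
  group

theorem h_conj_h (D : SymrData x y) {t : K} (ht : t ≠ 0) {u : K} (hu : u ≠ 0) :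
    symr_h x y t * symr_h x y u * (symr_h x y t)⁻¹ =
      symr_h x y (t ^ 2 * u) * (symr_h x y (t ^ 2))⁻¹ := by
  have h1 : (-1 : K) ≠ 0 := neg_ne_zero.mpr one_ne_zero
  have e : -(t ^ 2 * (-1 : K)) = t ^ 2 := by ring
  calc symr_h x y t * symr_h x y u * (symr_h x y t)⁻¹
      = (symr_h x y t * symr_w x y u * (symr_h x y t)⁻¹) *
          (symr_h x y t * symr_w x y (-1) * (symr_h x y t)⁻¹) := by
        conv_lhs => rw [show symr_h x y u = symr_w x y u * symr_w x y (-1) from rfl]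
        group
    _ = symr_w x y (t ^ 2 * u) * symr_w x y (t ^ 2 * (-1)) := by
        rw [D.h_conj_w ht hu, D.h_conj_w ht h1]
    _ = symr_h x y (t ^ 2 * u) * (symr_h x y (t ^ 2))⁻¹ := by
        rw [D.w_mul_w, e]

/-- moving `h` past `x` -/
theorem h_mv_x (D : SymrData x y) {t : K} (ht : t ≠ 0) (u : K) :
    symr_h x y t * x u = x (t ^ 2 * u) * symr_h x y t := by
  rw [← D.h_conj_x ht u]
  group

theorem h_mv_y (D : SymrData x y) {t : K} (ht : t ≠ 0) (u : K) :
    symr_h x y t * y u = y ((t ^ 2)⁻¹ * u) * symr_h x y t := by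
  rw [← D.h_conj_y ht u]
  group

theorem hinv_mv_x (D : SymrData x y) {t : K} (ht : t ≠ 0) (u : K) :
    (symr_h x y t)⁻¹ * x u = x ((t ^ 2)⁻¹ * u) * (symr_h x y t)⁻¹ := by
  have h := D.h_mv_x ht ((t ^ 2)⁻¹ * u)
  have e : t ^ 2 * ((t ^ 2)⁻¹ * u) = u := by
    rw [← mul_assoc, mul_inv_cancel₀ (pow_ne_zero 2 ht), one_mul]
  rw [e] at h
  calc (symr_h x y t)⁻¹ * x u = (symr_h x y t)⁻¹ * (x u * symr_h x y t) * (symr_h x y t)⁻¹ := by
        group
    _ = x ((t ^ 2)⁻¹ * u) * (symr_h x y t)⁻¹ := by rw [← h]; group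

theorem hinv_mv_y (D : SymrData x y) {t : K} (ht : t ≠ 0) (u : K) :
    (symr_h x y t)⁻¹ * y u = y (t ^ 2 * u) * (symr_h x y t)⁻¹ := by
  have h := D.h_mv_y ht (t ^ 2 * u)
  have e : (t ^ 2)⁻¹ * (t ^ 2 * u) = u := by
    rw [← mul_assoc, inv_mul_cancel₀ (pow_ne_zero 2 ht), one_mul]
  rw [e] at h
  calc (symr_h x y t)⁻¹ * y u = (symr_h x y t)⁻¹ * (y u * symr_h x y t) * (symr_h x y t)⁻¹ := by
        group
    _ = y (t ^ 2 * u) * (symr_h x y t)⁻¹ := by rw [← h]; group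

theorem f_comm_x (D : SymrData x y) {t u : K} (ht : t ≠ 0) (hu : u ≠ 0) (s : K) :
    Commute (symr_f x y t u) (x s) := by
  have htu : t * u ≠ 0 := mul_ne_zero ht hu
  have e1 := D.hinv_mv_x htu s
  have e2 := D.h_mv_x hu (((t * u) ^ 2)⁻¹ * s)
  have e3 := D.h_mv_x ht (u ^ 2 * (((t * u) ^ 2)⁻¹ * s))
  have e4 : t ^ 2 * (u ^ 2 * (((t * u) ^ 2)⁻¹ * s)) = s := by
    field_simp
  rw [e4] at e3
  show symr_f x y t u * x s = x s * symr_f x y t u
  unfold symr_f
  calc symr_h x y t * symr_h x y u * (symr_h x y (t * u))⁻¹ * x s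
      = symr_h x y t * symr_h x y u * ((symr_h x y (t * u))⁻¹ * x s) := by group
    _ = symr_h x y t * (symr_h x y u * x (((t * u) ^ 2)⁻¹ * s)) * (symr_h x y (t * u))⁻¹ := by
        rw [e1]; group
    _ = (symr_h x y t * x (u ^ 2 * (((t * u) ^ 2)⁻¹ * s))) * symr_h x y u *
          (symr_h x y (t * u))⁻¹ := by
        rw [e2]; group
    _ = x s * (symr_h x y t * symr_h x y u * (symr_h x y (t * u))⁻¹) := by
        rw [e3]; group

theorem f_comm_y (D : SymrData x y) {t u : K} (ht : t ≠ 0) (hu : u ≠ 0) (s : K) :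
    Commute (symr_f x y t u) (y s) := by
  have htu : t * u ≠ 0 := mul_ne_zero ht hu
  have e1 := D.hinv_mv_y htu s
  have e2 := D.h_mv_y hu ((t * u) ^ 2 * s)
  have e3 := D.h_mv_y ht ((u ^ 2)⁻¹ * ((t * u) ^ 2 * s))
  have e4 : (t ^ 2)⁻¹ * ((u ^ 2)⁻¹ * ((t * u) ^ 2 * s)) = s := by
    field_simp
  rw [e4] at e3
  show symr_f x y t u * y s = y s * symr_f x y t u
  unfold symr_f
  calc symr_h x y t * symr_h x y u * (symr_h x y (t * u))⁻¹ * y s
      = symr_h x y t * symr_h x y u * ((symr_h x y (t * u))⁻¹ * y s) := by group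
    _ = symr_h x y t * (symr_h x y u * y ((t * u) ^ 2 * s)) * (symr_h x y (t * u))⁻¹ := by
        rw [e1]; group
    _ = (symr_h x y t * y ((u ^ 2)⁻¹ * ((t * u) ^ 2 * s))) * symr_h x y u *
          (symr_h x y (t * u))⁻¹ := by
        rw [e2]; group
    _ = y s * (symr_h x y t * symr_h x y u * (symr_h x y (t * u))⁻¹) := by
        rw [e3]; group

theorem f_comm_w (D : SymrData x y) {t u : K} (ht : t ≠ 0) (hu : u ≠ 0) (s : K) :
    Commute (symr_f x y t u) (symr_w x y s) := by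
  unfold symr_w
  exact ((D.f_comm_x ht hu s).mul_right (D.f_comm_y ht hu _)).mul_right (D.f_comm_x ht hu s)

theorem f_comm_h (D : SymrData x y) {t u : K} (ht : t ≠ 0) (hu : u ≠ 0) (s : K) :
    Commute (symr_f x y t u) (symr_h x y s) := by
  unfold symr_h
  exact (D.f_comm_w ht hu s).mul_right (D.f_comm_w ht hu _)

/-- `f u (t ^ 2)` is the commutator of `h u` and `h t` -/
theorem f_eq_comm (D : SymrData x y) {t u : K} (ht : t ≠ 0) (hu : u ≠ 0) :
    symr_f x y u (t ^ 2) = symr_h x y u * symr_h x y t * (symr_h x y u)⁻¹ * (symr_h x y t)⁻¹ := by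
  have h1 := D.h_conj_h ht hu
  have h2 : symr_h x y (t ^ 2 * u) =
      symr_h x y t * symr_h x y u * (symr_h x y t)⁻¹ * symr_h x y (t ^ 2) := by
    rw [h1]; group
  unfold symr_f
  rw [mul_comm u (t ^ 2), h2]
  group

/-- the defining property of `f`, solved for `h (t * u)` -/
theorem h_mul_eq (x y : K → G) (t u : K) :
    symr_h x y (t * u) = (symr_f x y t u)⁻¹ * symr_h x y t * symr_h x y u := by
  unfold symr_f
  group

/-- `h (-t^2) = h t * h (-t)` -/
theorem h_neg_sq (D : SymrData x y) {t : K} (ht : t ≠ 0) :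
    symr_h x y (-t ^ 2) = symr_h x y t * symr_h x y (-t) := by
  have h1 : (-1 : K) ≠ 0 := neg_ne_zero.mpr one_ne_zero
  have e1 := D.h_conj_w ht h1
  have e2 : t ^ 2 * (-1 : K) = -t ^ 2 := by ring
  rw [e2] at e1
  have e3 : (symr_h x y t)⁻¹ = symr_w x y 1 * symr_w x y (-t) := by
    unfold symr_h
    rw [mul_inv_rev, D.w_inv t, D.w_inv (-1), neg_neg]
  have e4 : symr_w x y (-1) * symr_w x y 1 = 1 := by
    rw [← D.w_inv 1, inv_mul_cancel]
  calc symr_h x y (-t ^ 2) = symr_w x y (-t ^ 2) * symr_w x y (-1) := rfl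
    _ = symr_h x y t * symr_w x y (-1) * (symr_h x y t)⁻¹ * symr_w x y (-1) := by rw [e1]
    _ = symr_h x y t * (symr_w x y (-1) * symr_w x y 1) * (symr_w x y (-t) * symr_w x y (-1)) := by
        rw [e3]; group
    _ = symr_h x y t * symr_h x y (-t) := by
        rw [e4, mul_one]; rfl

/-- `y s = x s⁻¹ * w (-s⁻¹) * x s⁻¹` -/
theorem y_eq (D : SymrData x y) {s : K} (hs : s ≠ 0) :
    y s = x s⁻¹ * symr_w x y (-s⁻¹) * x s⁻¹ := by
  unfold symr_w
  rw [inv_neg, inv_inv, neg_neg, ← D.x_inv]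
  group

/-- the key relation: `a + b = 1` gives `w (-a) * w (-b) = w (-a^2) * w (-(a * b))` -/
theorem w_rel (D : SymrData x y) {a b : K} (ha : a ≠ 0) (hb : b ≠ 0) (hab : a + b = 1) :
    symr_w x y (-a) * symr_w x y (-b) = symr_w x y (-a ^ 2) * symr_w x y (-(a * b)) := by
  have hab0 : a * b ≠ 0 := mul_ne_zero ha hb
  have ha2 : a ^ 2 ≠ 0 := pow_ne_zero 2 ha
  -- step 1
  have s1 : y a⁻¹ * y b⁻¹ = y (a * b)⁻¹ := by
    rw [D.y_add]
    congr 1
    field_simp
    rw [add_comm]; exact hab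
  rw [D.y_eq (inv_ne_zero ha), D.y_eq (inv_ne_zero hb), D.y_eq (inv_ne_zero hab0),
    inv_inv, inv_inv, inv_inv] at s1
  -- step 3
  have s3 : symr_w x y (-a) * x 1 * symr_w x y (-b) =
      x (-a ^ 2) * symr_w x y (-(a * b)) * x (-b ^ 2) := by
    have e1 : x a * x b = x 1 := by rw [D.x_add, hab]
    have e2 : (x a)⁻¹ * x (a * b) = x (-a ^ 2) := by
      rw [D.x_inv, D.x_add]; congr 1
      have : b = 1 - a := by rw [← hab]; ring
      rw [this]; ring
    have e3 : x (a * b) * (x b)⁻¹ = x (-b ^ 2) := by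
      rw [D.x_inv, D.x_add]; congr 1
      have : a = 1 - b := by rw [← hab]; ring
      rw [this]; ring
    calc symr_w x y (-a) * x 1 * symr_w x y (-b)
        = (x a)⁻¹ * (x a * symr_w x y (-a) * x a * (x b * symr_w x y (-b) * x b)) * (x b)⁻¹ := by
          rw [← e1]; group
      _ = (x a)⁻¹ * (x (a * b) * symr_w x y (-(a * b)) * x (a * b)) * (x b)⁻¹ := by rw [s1]
      _ = ((x a)⁻¹ * x (a * b)) * symr_w x y (-(a * b)) * (x (a * b) * (x b)⁻¹) := by group
      _ = x (-a ^ 2) * symr_w x y (-(a * b)) * x (-b ^ 2) := by rw [e2, e3]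
  -- step 4
  have s4 : symr_w x y (-a) * x 1 = y (-(a ^ 2)⁻¹) * symr_w x y (-a) := by
    rw [D.w_mv_x (neg_ne_zero.mpr ha)]
    congr 2
    rw [neg_sq, mul_one]
  -- step 5
  have s5 : symr_w x y (-(a * b)) * x (-b ^ 2) = y ((a ^ 2)⁻¹) * symr_w x y (-(a * b)) := by
    rw [D.w_mv_x (neg_ne_zero.mpr hab0)]
    congr 2
    rw [neg_sq]
    field_simp
  -- step 6
  have s6 : y ((a ^ 2)⁻¹) * x (-a ^ 2) = x (a ^ 2) * symr_w x y (-a ^ 2) := by
    have : symr_w x y (-a ^ 2) = x (-a ^ 2) * y ((a ^ 2)⁻¹) * x (-a ^ 2) := by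
      unfold symr_w
      rw [inv_neg, neg_neg]
    rw [this, show x (a ^ 2) = (x (-a ^ 2))⁻¹ by rw [D.x_inv, neg_neg]]
    group
  have s7 : symr_w x y (-a ^ 2) * y ((a ^ 2)⁻¹) = x (-a ^ 2) * symr_w x y (-a ^ 2) := by
    rw [D.w_mv_y (neg_ne_zero.mpr ha2)]
    congr 2
    rw [neg_sq]
    field_simp
  have s8 : (y (-(a ^ 2)⁻¹))⁻¹ = y ((a ^ 2)⁻¹) := by rw [D.y_inv, neg_neg]
  have s9 : x (a ^ 2) * x (-a ^ 2) = 1 := by rw [D.x_add, add_neg_cancel, D.x_zero]
  calc symr_w x y (-a) * symr_w x y (-b)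
      = (y (-(a ^ 2)⁻¹))⁻¹ * (symr_w x y (-a) * x 1 * symr_w x y (-b)) := by
        rw [s4]; group
    _ = y ((a ^ 2)⁻¹) * x (-a ^ 2) * (symr_w x y (-(a * b)) * x (-b ^ 2)) := by
        rw [s3, s8]; group
    _ = x (a ^ 2) * (symr_w x y (-a ^ 2) * y ((a ^ 2)⁻¹)) * symr_w x y (-(a * b)) := by
        rw [s5, s6]; group
    _ = (x (a ^ 2) * x (-a ^ 2)) * symr_w x y (-a ^ 2) * symr_w x y (-(a * b)) := by
        rw [s7]; group
    _ = symr_w x y (-a ^ 2) * symr_w x y (-(a * b)) := by rw [s9, one_mul]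

end SymrData

end symr

section finite

variable {K : Type*} [Field K] [Finite K] {G : Type*} [Group G] {x y : K → G}

namespace SymrData

/-- over a finite field all the `h t` commute (`Kˣ` is cyclic) -/
theorem h_comm (D : SymrData x y) {t u : K} (ht : t ≠ 0) (hu : u ≠ 0) :
    Commute (symr_h x y t) (symr_h x y u) := by
  obtain ⟨v, hv⟩ := IsCyclic.exists_monoid_generator (α := Kˣ)
  have hg : (v : K) ≠ 0 := v.ne_zero
  have hgk : ∀ k : ℕ, (v : K) ^ k ≠ 0 := fun k => pow_ne_zero k hg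
  have hpow : ∀ k : ℕ, symr_h x y ((v : K) ^ (k + 1)) =
      (symr_f x y ((v : K) ^ k) v)⁻¹ * symr_h x y ((v : K) ^ k) * symr_h x y v := by
    intro k
    rw [pow_succ]
    exact h_mul_eq x y _ _
  have Q : ∀ l : ℕ, Commute (symr_h x y (v : K)) (symr_h x y ((v : K) ^ l)) := by
    intro l
    induction l with
    | zero => rw [pow_zero, D.h_one]; exact Commute.one_right _
    | succ l ih =>
      rw [hpow l]
      exact ((((D.f_comm_h (hgk l) hg v).symm).inv_right).mul_right ih).mul_right (Commute.refl _)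
  have P : ∀ k l : ℕ, Commute (symr_h x y ((v : K) ^ k)) (symr_h x y ((v : K) ^ l)) := by
    intro k l
    induction k with
    | zero => rw [pow_zero, D.h_one]; exact Commute.one_left _
    | succ k ih =>
      rw [hpow k]
      exact (((D.f_comm_h (hgk k) hg _).inv_left).mul_left ih).mul_left (Q l)
  obtain ⟨k, hk⟩ := (Submonoid.mem_powers_iff _ _).mp (hv (Units.mk0 t ht))
  obtain ⟨l, hl⟩ := (Submonoid.mem_powers_iff _ _).mp (hv (Units.mk0 u hu))
  have hk' : (v : K) ^ k = t := by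
    have := congrArg Units.val hk
    simpa using this
  have hl' : (v : K) ^ l = u := by
    have := congrArg Units.val hl
    simpa using this
  rw [← hk', ← hl']
  exact P k l

/-- multiplicativity against squares -/
theorem h_mul_sq (D : SymrData x y) {t u : K} (ht : t ≠ 0) (hu : u ≠ 0) :
    symr_h x y u * symr_h x y (t ^ 2) = symr_h x y (u * t ^ 2) := by
  have h1 := D.f_eq_comm ht hu
  have h2 : symr_h x y u * symr_h x y t * (symr_h x y u)⁻¹ * (symr_h x y t)⁻¹ = 1 := by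
    rw [(D.h_comm hu ht).eq]; group
  rw [h2] at h1
  unfold symr_f at h1
  exact mul_inv_eq_one.mp h1

/-- `a + b = 1` gives `h a * h b = h (a * b)` -/
theorem h_mul_of_add (D : SymrData x y) {a b : K} (ha : a ≠ 0) (hb : b ≠ 0) (hab : a + b = 1) :
    symr_h x y a * symr_h x y b = symr_h x y (a * b) := by
  have hna : -a ≠ 0 := neg_ne_zero.mpr ha
  have hab0 : a * b ≠ 0 := mul_ne_zero ha hb
  have E := D.w_rel ha hb hab
  rw [D.w_mul_w, D.w_mul_w, neg_neg, neg_neg, D.h_neg_sq ha] at E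
  -- E : h (-a) * (h b)⁻¹ = h a * h (-a) * (h (a * b))⁻¹
  have c1 := (D.h_comm ha hna).eq
  have e1 : (symr_h x y b)⁻¹ = symr_h x y a * (symr_h x y (a * b))⁻¹ := by
    apply mul_left_cancel (a := symr_h x y (-a))
    rw [E, c1]; group
  have e2 : symr_h x y (a * b) = symr_h x y b * symr_h x y a := by
    calc symr_h x y (a * b) = symr_h x y b * (symr_h x y b)⁻¹ * symr_h x y (a * b) := by group
      _ = symr_h x y b * symr_h x y a := by rw [e1]; group
  rw [e2, (D.h_comm ha hb).eq]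

end SymrData

/-- a finite field of odd characteristic contains nonsquares `a`, `b` with `a + b = 1` -/
theorem symr_exists_nonsquares (hF : ringChar K ≠ 2) :
    ∃ a b : K, ¬ IsSquare a ∧ ¬ IsSquare b ∧ a + b = 1 := by
  classical
  let _ := Fintype.ofFinite K
  obtain ⟨ν, hν⟩ := FiniteField.exists_nonsquare hF
  have hν0 : ν ≠ 0 := by
    rintro rfl
    exact hν ⟨0, by rw [mul_zero]⟩
  obtain ⟨p, q, hpq⟩ : ∃ p q : K, p ^ 2 + q ^ 2 = ν⁻¹ := by
    let f : Polynomial K := Polynomial.X ^ 2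
    let g : Polynomial K := Polynomial.X ^ 2 - Polynomial.C ν⁻¹
    obtain ⟨a, b, hab⟩ : ∃ a b, f.eval a + g.eval b = 0 :=
      FiniteField.exists_root_sum_quadratic (Polynomial.degree_X_pow 2)
        (Polynomial.degree_X_pow_sub_C (by decide) _) (FiniteField.odd_card_of_char_ne_two hF)
    refine ⟨a, b, ?_⟩
    rw [← sub_eq_zero]
    simpa only [f, g, Polynomial.eval_C, Polynomial.eval_X, Polynomial.eval_pow,
      Polynomial.eval_sub, ← add_sub_assoc] using hab
  have key : ∀ r s : K, r ^ 2 + s ^ 2 = ν⁻¹ → ¬ IsSquare (ν * r ^ 2) := by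
    intro r s hrs
    have hr : r ≠ 0 := by
      rintro rfl
      apply hν
      refine ⟨s⁻¹, ?_⟩
      have : ν⁻¹ = s ^ 2 := by rw [← hrs]; ring
      rw [← inv_inv ν, this]
      rw [sq, mul_inv]
    rintro ⟨c, hc⟩
    apply hν
    refine ⟨c / r, ?_⟩
    field_simp
    linear_combination hc
  refine ⟨ν * p ^ 2, ν * q ^ 2, key p q hpq, key q p (by rw [add_comm]; exact hpq), ?_⟩
  rw [← mul_add, hpq, mul_inv_cancel₀ hν0]

/-- in a finite field of odd characteristic two nonsquares differ by a nonzero square -/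
theorem symr_nonsquare_quot (hF : ringChar K ≠ 2) {t a : K} (ht : ¬ IsSquare t) (ha : ¬ IsSquare a) :
    ∃ r : K, r ≠ 0 ∧ t = a * r ^ 2 := by
  classical
  let _ := Fintype.ofFinite K
  have ht0 : t ≠ 0 := by
    rintro rfl
    exact ht ⟨0, by rw [mul_zero]⟩
  have ha0 : a ≠ 0 := by
    rintro rfl
    exact ha ⟨0, by rw [mul_zero]⟩
  have h1 : t ^ (Fintype.card K / 2) = -1 := by
    rcases FiniteField.pow_dichotomy hF ht0 with h | h
    · exact absurd ((FiniteField.isSquare_iff hF ht0).mpr h) ht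
    · exact h
  have h2 : a ^ (Fintype.card K / 2) = -1 := by
    rcases FiniteField.pow_dichotomy hF ha0 with h | h
    · exact absurd ((FiniteField.isSquare_iff hF ha0).mpr h) ha
    · exact h
  have hq0 : t / a ≠ 0 := div_ne_zero ht0 ha0
  have h3 : IsSquare (t / a) := by
    rw [FiniteField.isSquare_iff hF hq0, div_pow, h1, h2]
    rw [div_self (neg_ne_zero.mpr one_ne_zero)]
  obtain ⟨r, hr⟩ := h3
  have hr0 : r ≠ 0 := by
    rintro rfl
    rw [mul_zero] at hr
    exact hq0 hr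
  refine ⟨r, hr0, ?_⟩
  rw [sq, ← hr]
  field_simp

/-- **Steinberg, Theorem 9** in rank one: over a finite field `h` is multiplicative -/
theorem SymrData.h_mul (D : SymrData x y) {t u : K} (ht : t ≠ 0) (hu : u ≠ 0) :
    symr_h x y t * symr_h x y u = symr_h x y (t * u) := by
  -- multiplicativity when the second argument is a square
  have hsq : ∀ {t u : K}, t ≠ 0 → u ≠ 0 → IsSquare u →
      symr_h x y t * symr_h x y u = symr_h x y (t * u) := by
    intro t u ht hu hs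
    obtain ⟨s, rfl⟩ := hs
    have hs0 : s ≠ 0 := by
      rintro rfl
      exact hu (mul_zero 0)
    rw [← sq]
    exact D.h_mul_sq hs0 ht
  by_cases hu2 : IsSquare u
  · exact hsq ht hu hu2
  by_cases ht2 : IsSquare t
  · rw [(D.h_comm ht hu).eq, mul_comm t u]
    exact hsq hu ht ht2
  have hF : ringChar K ≠ 2 := fun h2 => hu2 (FiniteField.isSquare_of_char_two h2 u)
  obtain ⟨a, b, ha, hb, hab⟩ := symr_exists_nonsquares (K := K) hF
  have ha0 : a ≠ 0 := by
    rintro rfl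
    exact ha ⟨0, by rw [mul_zero]⟩
  have hb0 : b ≠ 0 := by
    rintro rfl
    exact hb ⟨0, by rw [mul_zero]⟩
  obtain ⟨r, hr0, rfl⟩ := symr_nonsquare_quot hF ht2 ha
  obtain ⟨s, hs0, rfl⟩ := symr_nonsquare_quot hF hu2 hb
  have hr2 : r ^ 2 ≠ 0 := pow_ne_zero 2 hr0
  have hs2 : s ^ 2 ≠ 0 := pow_ne_zero 2 hs0
  have e1 := D.h_mul_sq hr0 ha0
  have e2 := D.h_mul_sq hs0 hb0
  have e3 := D.h_mul_sq (mul_ne_zero hr0 hs0) (mul_ne_zero ha0 hb0)
  have e4 := D.h_mul_sq hs0 hr2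
  have e5 := D.h_mul_of_add ha0 hb0 hab
  have e6 : a * r ^ 2 * (b * s ^ 2) = a * b * (r * s) ^ 2 := by ring
  have e7 : (r * s) ^ 2 = r ^ 2 * s ^ 2 := by ring
  rw [e6, ← e1, ← e2, ← e3, e7, ← e4, ← e5]
  have c := (D.h_comm hr2 hb0).eq
  calc symr_h x y a * symr_h x y (r ^ 2) * (symr_h x y b * symr_h x y (s ^ 2))
      = symr_h x y a * (symr_h x y (r ^ 2) * symr_h x y b) * symr_h x y (s ^ 2) := by group
    _ = symr_h x y a * symr_h x y b * (symr_h x y (r ^ 2) * symr_h x y (s ^ 2)) := by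
        rw [c]; group

end finite

end Cfsg.Agent.Lib.Helper41.Stn
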