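import Cfsg.Agent.Lib.Helper41.StnDefs
import Cfsg.Agent.Lib.Helper80.Stn_BASIC
import Cfsg.Agent.Lib.Helper25.Stn_WPAIR
import Cfsg.Agent.Lib.Helper99.Stn_SYMR

set_option autoImplicit false

/-!
# Stn hive (S2401): `hh_mul` (Stn-SYM) by the rank-one route, complete

`symr_hh_mul` has EXACTLY the statement of `hh_mul` in `tools/helper41/StnSkelA.lean.txt`; it uses only
`xx_add` (Stn-BASIC, helper80) and `ww_conj_xx_pair` (Stn-WPAIR, helper25) and the abstract rank-one
theorem `SymrData.h_mul` (Steinberg's Lemma 39 / Theorem 9).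
-/

namespace Cfsg.Agent.Lib.Helper41.Stn

variable {K : Type*} [Field K] {n : ℕ}

/-- the rank one data of the pair of opposite root groups `x_ij`, `x_ji` -/
theorem symr_data (hn : 3 ≤ n) {i j : Fin n} (hij : i ≠ j) :
    SymrData (fun t : K => xx i j t) (fun t : K => xx j i t) where
  x_add t u := xx_add i j t u
  y_add t u := xx_add j i t u
  conj_x t ht u := (ww_conj_xx_pair hn hij ht u).1
  conj_y t ht u := (ww_conj_xx_pair hn hij ht u).2

theorem symr_h_eq (i j : Fin n) (t : K) :
    symr_h (fun t : K => xx i j t) (fun t : K => xx j i t) t = hh i j t := rfl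

/-- Stn-SYM, exact statement of `hh_mul` -/
theorem symr_hh_mul [Finite K] (hn : 3 ≤ n) {i j : Fin n} (hij : i ≠ j) {t u : K} (ht : t ≠ 0)
    (hu : u ≠ 0) : hh i j t * hh i j u = hh i j (t * u) :=
  (symr_data (K := K) hn hij).h_mul ht hu

end Cfsg.Agent.Lib.Helper41.Stn
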