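import Mathlib
import Cfsg.Prelude.Def_GeometricClasses
import Cfsg.Agent.Lib.Helper44.TnsDefs

set_option autoImplicit false
open scoped MatrixGroups Kronecker
open Matrix Polynomial

/-! TNS-K2 (helper99 for helper44's S5979 hive): a Kronecker product `A ⊗ B` with `A` nonscalar
and `B` invertible has `rank (A ⊗ B - c) ≥ b`. -/

namespace Cfsg.Agent.Lib.Helper44.Tns

universe v

variable {F : Type v} [Field F]

/-- a nonscalar matrix moves some vector off its line -/
theorem TNSK2_exists_vec {a : ℕ} (A : Matrix (Fin a) (Fin a) F)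
    (hA : ∀ z : F, A ≠ z • (1 : Matrix (Fin a) (Fin a) F)) :
    ∃ (v φ : Fin a → F), φ ⬝ᵥ v = 0 ∧ φ ⬝ᵥ (A *ᵥ v) = 1 := by
  classical
  by_contra hcon
  have hall : ∀ v : Fin a → F, ¬ LinearIndependent F ![v, (Matrix.toLin' A) v] := by
    intro v hli
    apply hcon
    have hnot : (Matrix.toLin' A) v ∉ Submodule.span F {v} := by
      intro hmem
      obtain ⟨t, ht⟩ := Submodule.mem_span_singleton.1 hmem
      have h := (LinearIndependent.pair_iff.1 hli) t (-1) (by rw [ht]; simp)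
      have h1 : (-1 : F) = 0 := h.2
      exact one_ne_zero (neg_eq_zero.1 h1)
    obtain ⟨f, hf, hmap⟩ := Submodule.exists_dual_map_eq_bot_of_notMem hnot inferInstance
    have hfv : f v = 0 := by
      have : f v ∈ Submodule.map f (Submodule.span F {v}) :=
        Submodule.mem_map_of_mem (Submodule.mem_span_singleton_self v)
      rw [hmap] at this
      exact (Submodule.mem_bot F).1 this
    -- represent `f` by a vector
    have hrep : ∀ u : Fin a → F,
        f u = (fun i => f (fun j => if i = j then (1 : F) else 0)) ⬝ᵥ u := by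
      intro u
      rw [LinearMap.pi_apply_eq_sum_univ f u]
      simp only [smul_eq_mul, dotProduct]
      exact Finset.sum_congr rfl (fun i _ => mul_comm _ _)
    refine ⟨v, (f ((Matrix.toLin' A) v))⁻¹ • (fun i => f (fun j => if i = j then (1 : F) else 0)), ?_, ?_⟩
    · rw [smul_dotProduct, ← hrep, hfv, smul_zero]
    · rw [smul_dotProduct, ← Matrix.toLin'_apply, ← hrep, smul_eq_mul, inv_mul_cancel₀ hf]
  obtain ⟨z, hz⟩ := LinearMap.exists_eq_smul_id_of_forall_notLinearIndependent hall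
  apply hA z
  have h1 : Matrix.toLin' A = Matrix.toLin' (z • (1 : Matrix (Fin a) (Fin a) F)) := by
    rw [hz, map_smul, Matrix.toLin'_one]
    rfl
  exact Matrix.toLin'.injective h1

/-- TNS-K2 -/
theorem le_rank_kronecker_sub {a b : ℕ} (A : Matrix (Fin a) (Fin a) F) (B : Matrix (Fin b) (Fin b) F)
    (hA : ∀ z : F, A ≠ z • (1 : Matrix (Fin a) (Fin a) F)) (hB : IsUnit B.det) (c : F) :
    b ≤ (A ⊗ₖ B - c • (1 : Matrix (Fin a × Fin b) (Fin a × Fin b) F)).rank := by
  classical
  obtain ⟨v, φ, h0, h1⟩ := TNSK2_exists_vec A hA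
  let L : Matrix (Unit × Fin b) (Fin a × Fin b) F :=
    (Matrix.replicateRow Unit φ) ⊗ₖ (1 : Matrix (Fin b) (Fin b) F)
  let R : Matrix (Fin a × Fin b) (Unit × Fin b) F :=
    (Matrix.replicateCol Unit v) ⊗ₖ B⁻¹
  have hLR : L * R = 0 := by
    show (Matrix.replicateRow Unit φ) ⊗ₖ (1 : Matrix (Fin b) (Fin b) F) *
      ((Matrix.replicateCol Unit v) ⊗ₖ B⁻¹) = 0
    rw [← Matrix.mul_kronecker_mul, Matrix.replicateRow_mul_replicateCol, h0]
    ext i j
    simp
  have hLAR : L * (A ⊗ₖ B) * R = 1 := by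
    show (Matrix.replicateRow Unit φ) ⊗ₖ (1 : Matrix (Fin b) (Fin b) F) * (A ⊗ₖ B) *
      ((Matrix.replicateCol Unit v) ⊗ₖ B⁻¹) = 1
    rw [← Matrix.mul_kronecker_mul, ← Matrix.mul_kronecker_mul, Matrix.one_mul,
      Matrix.mul_nonsing_inv B hB, Matrix.mul_assoc, ← Matrix.replicateCol_mulVec,
      Matrix.replicateRow_mul_replicateCol, h1]
    have : (Matrix.of fun (_ : Unit) (_ : Unit) => (1 : F)) = 1 := by
      ext i j
      simp
    rw [this, Matrix.one_kronecker_one]
  have hprod : L * (A ⊗ₖ B - c • (1 : Matrix (Fin a × Fin b) (Fin a × Fin b) F)) * R = 1 := by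
    rw [Matrix.mul_sub, Matrix.sub_mul, hLAR, Matrix.mul_smul, Matrix.mul_one, Matrix.smul_mul,
      hLR, smul_zero, sub_zero]
  have hrank : (1 : Matrix (Unit × Fin b) (Unit × Fin b) F).rank = b := by
    rw [Matrix.rank_one]
    simp
  calc b = (L * (A ⊗ₖ B - c • (1 : Matrix (Fin a × Fin b) (Fin a × Fin b) F)) * R).rank := by
        rw [hprod, hrank]
    _ ≤ (L * (A ⊗ₖ B - c • (1 : Matrix (Fin a × Fin b) (Fin a × Fin b) F))).rank :=
        Matrix.rank_mul_le_left _ _
    _ ≤ (A ⊗ₖ B - c • (1 : Matrix (Fin a × Fin b) (Fin a × Fin b) F)).rank :=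
        Matrix.rank_mul_le_right _ _

end Cfsg.Agent.Lib.Helper44.Tns
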