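import Cfsg.Agent.Lib.Helper99.SpSim2

set_option autoImplicit false

/-!
The similarity group of a symplectic form is maximal in the special linear group:
transitivity lemmas and the main theorem.
-/

namespace Cfsg.Agent.Lib.Helper99

open Matrix

section spsim3

variable {ι : Type} [Fintype ι] [DecidableEq ι] {F : Type*} [Field F]
variable (f : (ι → F) → (ι → F) → F)

theorem exists_perp_not_perp (hf : Cfsg.Geo.IsSymplecticForm f) (v w : ι → F)
    (hw : w ∉ Submodule.span F {v}) : ∃ a, f v a = 0 ∧ f w a ≠ 0 := by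
  have hb := hf.bilinear
  by_cases hv : v = 0
  · subst hv
    have hw0 : w ≠ 0 := by
      rintro rfl
      exact hw (Submodule.zero_mem _)
    obtain ⟨_, ⟨a, ha⟩⟩ := hf.nondegenerate w hw0
    exact ⟨a, sf_zero_left f hb a, ha⟩
  · by_contra hcon
    push Not at hcon
    obtain ⟨_, ⟨x₀, hx₀⟩⟩ := hf.nondegenerate v hv
    apply hw
    rw [Submodule.mem_span_singleton]
    refine ⟨f w x₀ / f v x₀, ?_⟩
    by_contra hne
    have hne' : w - (f w x₀ / f v x₀) • v ≠ 0 := by
      intro h0
      exact hne (sub_eq_zero.mp h0).symm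
    obtain ⟨_, ⟨a, ha⟩⟩ := hf.nondegenerate _ hne'
    apply ha
    have h1 : f v (a - (f v a / f v x₀) • x₀) = 0 := by
      rw [sf_sub_right f hb, hb.smul_right]
      field_simp
      ring
    have h2 := hcon _ h1
    rw [sf_sub_right f hb, hb.smul_right] at h2
    rw [sf_sub_left f hb, hb.smul_left]
    have h3 : f w a = f v a / f v x₀ * f w x₀ := sub_eq_zero.mp h2
    rw [h3]
    field_simp
    ring

theorem exists_connector (hf : Cfsg.Geo.IsSymplecticForm f) (v w w' : ι → F)
    (hw : w ∉ Submodule.span F {v}) (hw' : w' ∉ Submodule.span F {v}) :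
    ∃ c, f v c = 0 ∧ f w c ≠ 0 ∧ f c w' ≠ 0 := by
  have hb := hf.bilinear
  obtain ⟨a, hva, hwa⟩ := exists_perp_not_perp f hf v w hw
  obtain ⟨b, hvb, hwb⟩ := exists_perp_not_perp f hf v w' hw'
  by_cases h1 : f w' a ≠ 0
  · refine ⟨a, hva, hwa, ?_⟩
    rw [hf.skew]
    exact neg_ne_zero.mpr h1
  by_cases h2 : f w b ≠ 0
  · refine ⟨b, hvb, h2, ?_⟩
    rw [hf.skew]
    exact neg_ne_zero.mpr hwb
  push Not at h1 h2
  refine ⟨a + b, ?_, ?_, ?_⟩
  · rw [hb.add_right, hva, hvb, add_zero]
  · rw [hb.add_right, h2, add_zero]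
    exact hwa
  · rw [hf.skew, hb.add_right, h1, zero_add]
    exact neg_ne_zero.mpr hwb

theorem exists_fix_map_step (hf : Cfsg.Geo.IsSymplecticForm f) (v w w' : ι → F)
    (hvw : f v w = 0) (hvw' : f v w' = 0) (h : f w w' ≠ 0) :
    ∃ p : GL ι F, p ∈ Cfsg.Geo.similarityGroup f ⊓ Cfsg.Geo.specialLinear ι F ∧
      (∀ x y, f ((p : Matrix ι ι F) *ᵥ x) ((p : Matrix ι ι F) *ᵥ y) = f x y) ∧
      (p : Matrix ι ι F) *ᵥ v = v ∧ (p : Matrix ι ι F) *ᵥ w = w' := by
  have hb := hf.bilinear
  refine ⟨rk1GL (w - w') (flat f ((f w w')⁻¹ • (w - w'))), stvf_mem f hf _ _,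
    stvf_isometry f hf _ _, ?_, ?_⟩
  · rw [tvf_mulVec f hb _ _ _ (sf_self_smul f hf _ _), hb.smul_right, sf_sub_right f hb, hvw,
      hvw', sub_zero, mul_zero, zero_smul, add_zero]
  · rw [tvf_mulVec f hb _ _ _ (sf_self_smul f hf _ _), hb.smul_right, sf_sub_right f hb,
      hf.alternating, zero_sub, mul_neg, inv_mul_cancel₀ h, neg_smul, one_smul]
    abel

theorem exists_fix_map (hf : Cfsg.Geo.IsSymplecticForm f) (v w w' : ι → F)
    (hvw : f v w = 0) (hvw' : f v w' = 0) (hw : w ∉ Submodule.span F {v})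
    (hw' : w' ∉ Submodule.span F {v}) :
    ∃ p : GL ι F, p ∈ Cfsg.Geo.similarityGroup f ⊓ Cfsg.Geo.specialLinear ι F ∧
      (∀ x y, f ((p : Matrix ι ι F) *ᵥ x) ((p : Matrix ι ι F) *ᵥ y) = f x y) ∧
      (p : Matrix ι ι F) *ᵥ v = v ∧ (p : Matrix ι ι F) *ᵥ w = w' := by
  by_cases h : f w w' ≠ 0
  · exact exists_fix_map_step f hf v w w' hvw hvw' h
  · obtain ⟨c, hvc, hwc, hcw'⟩ := exists_connector f hf v w w' hw hw'
    obtain ⟨p₁, hp₁H, hp₁iso, hp₁v, hp₁w⟩ := exists_fix_map_step f hf v w c hvw hvc hwc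
    obtain ⟨p₂, hp₂H, hp₂iso, hp₂v, hp₂w⟩ := exists_fix_map_step f hf v c w' hvc hvw' hcw'
    refine ⟨p₂ * p₁, Subgroup.mul_mem _ hp₂H hp₁H, ?_, ?_, ?_⟩
    · intro x y
      rw [Units.val_mul, ← mulVec_mulVec, ← mulVec_mulVec, hp₂iso, hp₁iso]
    · rw [Units.val_mul, ← mulVec_mulVec, hp₁v, hp₂v]
    · rw [Units.val_mul, ← mulVec_mulVec, hp₁w, hp₂w]

/-- The similarity group of a symplectic form is a maximal subgroup of the special linear
group. -/
theorem sp_similarity_isMaximalIn (hf : Cfsg.Geo.IsSymplecticForm f)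
    (hcard : 3 ≤ Fintype.card ι) :
    Cfsg.Geo.IsMaximalIn (Cfsg.Geo.specialLinear ι F)
      (Cfsg.Geo.similarityGroup f ⊓ Cfsg.Geo.specialLinear ι F) := by
  classical
  have hb := hf.bilinear
  constructor
  · rw [lt_iff_le_and_ne]
    refine ⟨inf_le_right, fun heq => ?_⟩
    have hne : Nonempty ι := by
      rw [← Fintype.card_pos_iff]
      omega
    obtain ⟨i⟩ := hne
    let u : ι → F := Pi.single i 1
    have hu0 : u ≠ 0 := by
      intro h
      have := congrFun h i
      simp [u] at this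
    obtain ⟨_, ⟨x₀, hx₀⟩⟩ := hf.nondegenerate u hu0
    have hfr : Module.finrank F (Submodule.span F ({u, x₀} : Set (ι → F))) ≤ 2 := by
      have h1 : Module.finrank F
          (Submodule.span F (({u, x₀} : Finset (ι → F)) : Set (ι → F))) ≤
          ({u, x₀} : Finset (ι → F)).card :=
        finrank_span_finset_le_card (R := F) ({u, x₀} : Finset (ι → F))
      have h2 : ({u, x₀} : Finset (ι → F)).card ≤ 2 := Finset.card_le_two
      rw [Finset.coe_pair] at h1
      omega
    have hlt : Submodule.span F ({u, x₀} : Set (ι → F)) < ⊤ := by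
      rw [lt_top_iff_ne_top]
      intro h
      rw [h, finrank_top, Module.finrank_fintype_fun_eq_card] at hfr
      omega
    obtain ⟨z, _, hz⟩ := SetLike.exists_of_lt hlt
    let w : ι → F := z - (f u z / f u x₀) • x₀
    have huw : f u w = 0 := by
      show f u (z - (f u z / f u x₀) • x₀) = 0
      rw [sf_sub_right f hb, hb.smul_right]
      field_simp
      ring
    have hwspan : w ∉ Submodule.span F {u} := by
      intro h
      obtain ⟨c, hc⟩ := Submodule.mem_span_singleton.mp h
      apply hz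
      rw [Submodule.mem_span_pair]
      refine ⟨c, f u z / f u x₀, ?_⟩
      rw [hc]
      show z - (f u z / f u x₀) • x₀ + (f u z / f u x₀) • x₀ = z
      abel
    have h1 : rk1GL u (flat f w) ∈ Cfsg.Geo.specialLinear ι F :=
      tv_mem_specialLinear u _ (tvf_dot f hb u w huw)
    rw [← heq] at h1
    obtain ⟨c, hc⟩ := h1.1
    have hTu : ((rk1GL u (flat f w) : GL ι F) : Matrix ι ι F) *ᵥ u = u := by
      rw [tvf_mulVec f hb u w u huw, huw, zero_smul, add_zero]
    have hxu : f x₀ u ≠ 0 := by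
      rw [hf.skew]
      exact neg_ne_zero.mpr hx₀
    have hc1 : (c : F) = 1 := by
      have h2 := hc x₀ u
      rw [hTu, tvf_mulVec f hb u w x₀ huw, hb.add_left, hb.smul_left, hf.alternating, mul_zero,
        add_zero] at h2
      have h3 : ((c : F) - 1) * f x₀ u = 0 := by linear_combination -h2
      rcases mul_eq_zero.mp h3 with h4 | h4
      · exact sub_eq_zero.mp h4
      · exact absurd h4 hxu
    apply hwspan
    have hw' : f x₀ u • w - f x₀ w • u = 0 := by
      by_contra hne
      obtain ⟨⟨y, hy⟩, _⟩ := hf.nondegenerate _ hne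
      apply hy
      have h2 := hc x₀ y
      rw [hc1, one_mul, tvf_mulVec f hb u w x₀ huw, tvf_mulVec f hb u w y huw] at h2
      simp only [hb.add_left, hb.add_right, hb.smul_left, hb.smul_right, hf.alternating] at h2
      rw [sf_sub_right f hb, hb.smul_right, hb.smul_right]
      have h3 := hf.skew u y
      linear_combination h2 - (f x₀ w) * h3
    rw [Submodule.mem_span_singleton]
    refine ⟨f x₀ w / f x₀ u, ?_⟩
    have h5 : f x₀ u • w = f x₀ w • u := sub_eq_zero.mp hw'
    have h7 : (f x₀ w / f x₀ u) • u = (f x₀ u)⁻¹ • (f x₀ w • u) := by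
      rw [smul_smul, div_eq_inv_mul]
    rw [h7, ← h5, smul_smul, inv_mul_cancel₀ hxu, one_smul]
  · intro M hHM hMS
    by_cases hMH : M ≤ Cfsg.Geo.similarityGroup f ⊓ Cfsg.Geo.specialLinear ι F
    · left
      exact le_antisymm hMH hHM
    · right
      obtain ⟨g, hgM, hgH⟩ := SetLike.not_le_iff_exists.mp hMH
      have hgS := hMS hgM
      have hgsim : g ∉ Cfsg.Geo.similarityGroup f := fun h => hgH ⟨h, hgS⟩
      have hgi : ∀ x : ι → F,
          ((g⁻¹ : GL ι F) : Matrix ι ι F) *ᵥ ((g : Matrix ι ι F) *ᵥ x) = x := by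
        intro x
        rw [mulVec_mulVec, ← Units.val_mul, inv_mul_cancel, Units.val_one, one_mulVec]
      -- a transvection in `M` which is not symplectic
      obtain ⟨v', w₀, hv'0, hvw₀, hw₀span, hTM⟩ : ∃ v' w₀ : ι → F, v' ≠ 0 ∧ f v' w₀ = 0 ∧
          w₀ ∉ Submodule.span F {v'} ∧ rk1GL v' (flat f w₀) ∈ M := by
        by_contra hcon
        push Not at hcon
        apply hgsim
        apply similarity_of_local f hf g
        intro v
        by_cases hv0 : v = 0
        · refine ⟨0, fun x => ?_⟩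
          rw [hv0, sf_zero_right f hb, zero_mul]
        have hgv0 : (g : Matrix ι ι F) *ᵥ v ≠ 0 := by
          intro h0
          apply hv0
          apply mulVec_injective_of_GL g
          show (g : Matrix ι ι F) *ᵥ v = (g : Matrix ι ι F) *ᵥ 0
          rw [h0, mulVec_zero]
        obtain ⟨w, hw⟩ := flat_surjective f hf (flat f v ᵥ* ((g⁻¹ : GL ι F) : Matrix ι ι F))
        have hfw : ∀ x, f x w = f (((g⁻¹ : GL ι F) : Matrix ι ι F) *ᵥ x) v := by
          intro x
          rw [← flat_dot f hb w x, hw, ← dotProduct_mulVec, flat_dot f hb]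
        have hgvw : f ((g : Matrix ι ι F) *ᵥ v) w = 0 := by
          rw [hfw, hgi, hf.alternating]
        have hmem : rk1GL ((g : Matrix ι ι F) *ᵥ v) (flat f w) ∈ M := by
          rw [hw]
          have h1 := conj_tv g v (flat f v) (tvf_dot f hb v v (hf.alternating v))
          rw [← h1]
          have h2 := stvf_mem f hf v 1
          rw [one_smul] at h2
          exact M.mul_mem (M.mul_mem hgM (hHM h2)) (M.inv_mem hgM)
        have hwspan : w ∈ Submodule.span F {(g : Matrix ι ι F) *ᵥ v} := by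
          by_contra hns
          exact hcon _ w hgv0 hgvw hns hmem
        obtain ⟨μ, hμ⟩ := Submodule.mem_span_singleton.mp hwspan
        refine ⟨μ, fun x => ?_⟩
        rw [← hfw, ← hμ, hb.smul_right]
      -- all transvections with centre `v'`
      have hstep2 : ∀ w, f v' w = 0 → rk1GL v' (flat f w) ∈ M := by
        intro w hw
        by_cases hws : w ∈ Submodule.span F {v'}
        · obtain ⟨c, rfl⟩ := Submodule.mem_span_singleton.mp hws
          exact hHM (stvf_mem f hf v' c)
        · obtain ⟨p, hpH, hiso, hpv, hpw⟩ :=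
            exists_fix_map f hf v' w₀ w hvw₀ hw hw₀span hws
          have h1 := conj_tvf f hf p hiso v' w₀ hvw₀
          rw [hpv, hpw] at h1
          rw [← h1]
          exact M.mul_mem (M.mul_mem (hHM hpH) hTM) (M.inv_mem (hHM hpH))
      apply eq_specialLinear_of_tv_mem M hMS
      intro u φ hφu
      by_cases hu0 : u = 0
      · subst hu0
        rw [tv_zero_left]
        exact M.one_mem
      obtain ⟨w, rfl⟩ := flat_surjective f hf φ
      have huw : f u w = 0 := by
        rw [← flat_dot f hb w u]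
        exact hφu
      have hns : ∀ x : ι → F, x ≠ 0 → x ∉ Submodule.span F {(0 : ι → F)} := by
        intro x hx h
        rw [Submodule.span_zero_singleton, Submodule.mem_bot] at h
        exact hx h
      obtain ⟨p, hpH, hiso, _, hpv⟩ := exists_fix_map f hf 0 v' u (sf_zero_left f hb _)
        (sf_zero_left f hb _) (hns v' hv'0) (hns u hu0)
      have hpi : ∀ x : ι → F,
          (p : Matrix ι ι F) *ᵥ (((p⁻¹ : GL ι F) : Matrix ι ι F) *ᵥ x) = x := by
        intro x
        rw [mulVec_mulVec, ← Units.val_mul, mul_inv_cancel, Units.val_one, one_mulVec]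
      have hv'w : f v' (((p⁻¹ : GL ι F) : Matrix ι ι F) *ᵥ w) = 0 := by
        have h1 := hiso v' (((p⁻¹ : GL ι F) : Matrix ι ι F) *ᵥ w)
        rw [hpv, hpi] at h1
        rw [← h1]
        exact huw
      have h2 := conj_tvf f hf p hiso v' _ hv'w
      rw [hpv, hpi] at h2
      rw [← h2]
      exact M.mul_mem (M.mul_mem (hHM hpH) (hstep2 _ hv'w)) (M.inv_mem (hHM hpH))

end spsim3

end Cfsg.Agent.Lib.Helper99
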