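import Cfsg.Agent.Lib.Helper99.SpDecomp2
import Cfsg.Agent.Lib.Helper99.SpSim3

set_option autoImplicit false

/-!
Stabilizer of a pair of complementary Lagrangians in the symplectic group: root elements.
-/

namespace Cfsg.Agent.Lib.Helper99

open Matrix

section sppair1

variable {F : Type*} [Field F] (m : ℕ)

/-- The root element `x ↦ x + f(x,b) a + f(x,a) b` (for `f(a,b) = 0`). -/
noncomputable def rootElt (a b : Fin m ⊕ Fin m → F) : GL (Fin m ⊕ Fin m) F :=
  stv m (a + b) 1 * stv m a (-1) * stv m b (-1)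

theorem rootElt_mem_spGL (a b : Fin m ⊕ Fin m → F) : rootElt m a b ∈ Cfsg.spGL m F :=
  Subgroup.mul_mem _ (Subgroup.mul_mem _ (stv_mem_spGL m _ _) (stv_mem_spGL m _ _))
    (stv_mem_spGL m _ _)

theorem rootElt_mulVec (a b : Fin m ⊕ Fin m → F) (hab : Cfsg.sympForm m F a b = 0)
    (x : Fin m ⊕ Fin m → F) :
    ((rootElt m a b : GL (Fin m ⊕ Fin m) F) : Matrix (Fin m ⊕ Fin m) (Fin m ⊕ Fin m) F) *ᵥ x =
      x + Cfsg.sympForm m F x b • a + Cfsg.sympForm m F x a • b := by
  have hba : Cfsg.sympForm m F b a = 0 := by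
    rw [Helper13.sympForm_swap, hab, neg_zero]
  unfold rootElt
  rw [Units.val_mul, Units.val_mul, ← mulVec_mulVec, ← mulVec_mulVec, stv_mulVec, stv_mulVec,
    stv_mulVec]
  simp only [Helper13.sympForm_add_left, Helper13.sympForm_add_right,
    Helper13.sympForm_smul_left, Helper13.sympForm_self, hab, hba]
  module

theorem rootElt_symm (a b : Fin m ⊕ Fin m → F) (hab : Cfsg.sympForm m F a b = 0) :
    rootElt m a b = rootElt m b a := by
  have hba : Cfsg.sympForm m F b a = 0 := by
    rw [Helper13.sympForm_swap, hab, neg_zero]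
  apply Units.ext
  rw [Matrix.ext_iff_mulVec]
  intro x
  rw [rootElt_mulVec m a b hab, rootElt_mulVec m b a hba]
  abel

theorem rootElt_smul_swap (a b : Fin m ⊕ Fin m → F) (hab : Cfsg.sympForm m F a b = 0) (c : F) :
    rootElt m (c • a) b = rootElt m a (c • b) := by
  have h1 : Cfsg.sympForm m F (c • a) b = 0 := by
    rw [Helper13.sympForm_smul_left, hab, mul_zero]
  have h2 : Cfsg.sympForm m F a (c • b) = 0 := by
    rw [Helper13.sympForm_smul_right, hab, mul_zero]
  apply Units.ext
  rw [Matrix.ext_iff_mulVec]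
  intro x
  rw [rootElt_mulVec m _ _ h1, rootElt_mulVec m _ _ h2, Helper13.sympForm_smul_right,
    Helper13.sympForm_smul_right]
  module

theorem rootElt_self (a : Fin m ⊕ Fin m → F) (c : F) :
    rootElt m a (c • a) = stv m a (2 * c) := by
  have h : Cfsg.sympForm m F a (c • a) = 0 := by
    rw [Helper13.sympForm_smul_right, Helper13.sympForm_self, mul_zero]
  apply Units.ext
  rw [Matrix.ext_iff_mulVec]
  intro x
  rw [rootElt_mulVec m _ _ h, stv_mulVec, Helper13.sympForm_smul_right]
  module

theorem rootElt_mul (a b b' : Fin m ⊕ Fin m → F) (hab : Cfsg.sympForm m F a b = 0)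
    (hab' : Cfsg.sympForm m F a b' = 0) (hbb' : Cfsg.sympForm m F b b' = 0) :
    rootElt m a b * rootElt m a b' = rootElt m a (b + b') := by
  have h3 : Cfsg.sympForm m F a (b + b') = 0 := by
    rw [Helper13.sympForm_add_right, hab, hab', add_zero]
  have hb'b : Cfsg.sympForm m F b' b = 0 := by
    rw [Helper13.sympForm_swap, hbb', neg_zero]
  have hb'a : Cfsg.sympForm m F b' a = 0 := by
    rw [Helper13.sympForm_swap, hab', neg_zero]
  apply Units.ext
  rw [Matrix.ext_iff_mulVec]
  intro x
  rw [Units.val_mul, ← mulVec_mulVec, rootElt_mulVec m _ _ hab', rootElt_mulVec m _ _ hab,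
    rootElt_mulVec m _ _ h3]
  simp only [Helper13.sympForm_add_left, Helper13.sympForm_add_right,
    Helper13.sympForm_smul_left, Helper13.sympForm_self, hab, hb'b, hb'a]
  module

theorem rootElt_zero (a : Fin m ⊕ Fin m → F) : rootElt m a 0 = 1 := by
  have h : Cfsg.sympForm m F a 0 = 0 := Helper13.sympForm_zero_right m a
  apply Units.ext
  rw [Matrix.ext_iff_mulVec]
  intro x
  rw [rootElt_mulVec m _ _ h, Helper13.sympForm_zero_right, zero_smul, smul_zero, add_zero,
    add_zero, Units.val_one, one_mulVec]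

theorem rootElt_inv (a b : Fin m ⊕ Fin m → F) (hab : Cfsg.sympForm m F a b = 0) :
    (rootElt m a b)⁻¹ = rootElt m a (-b) := by
  have h2 : Cfsg.sympForm m F a (-b) = 0 := by
    rw [← neg_one_smul F b, Helper13.sympForm_smul_right, hab, mul_zero]
  have h3 : Cfsg.sympForm m F b (-b) = 0 := by
    rw [← neg_one_smul F b, Helper13.sympForm_smul_right, Helper13.sympForm_self, mul_zero]
  rw [inv_eq_iff_mul_eq_one, rootElt_mul m a b (-b) hab h2 h3, add_neg_cancel, rootElt_zero]

/-- The commutator of two root elements with the same first vector is a transvection. -/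
theorem rootElt_commutator (a b b' : Fin m ⊕ Fin m → F) (hab : Cfsg.sympForm m F a b = 0)
    (hab' : Cfsg.sympForm m F a b' = 0) :
    rootElt m a b * rootElt m a b' * (rootElt m a b)⁻¹ * (rootElt m a b')⁻¹ =
      stv m a (2 * Cfsg.sympForm m F b' b) := by
  have key : rootElt m a b * rootElt m a b' =
      stv m a (2 * Cfsg.sympForm m F b' b) * rootElt m a b' * rootElt m a b := by
    have hba : Cfsg.sympForm m F b a = 0 := by
      rw [Helper13.sympForm_swap, hab, neg_zero]
    have hb'a : Cfsg.sympForm m F b' a = 0 := by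
      rw [Helper13.sympForm_swap, hab', neg_zero]
    have hsw : Cfsg.sympForm m F b b' = - Cfsg.sympForm m F b' b := Helper13.sympForm_swap m b b'
    apply Units.ext
    rw [Matrix.ext_iff_mulVec]
    intro x
    rw [Units.val_mul, Units.val_mul, Units.val_mul, ← mulVec_mulVec, ← mulVec_mulVec,
      ← mulVec_mulVec, rootElt_mulVec m _ _ hab', rootElt_mulVec m _ _ hab,
      rootElt_mulVec m _ _ hab, rootElt_mulVec m _ _ hab', stv_mulVec]
    simp only [Helper13.sympForm_add_left, Helper13.sympForm_add_right,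
      Helper13.sympForm_smul_left, Helper13.sympForm_self, hab, hab', hba, hb'a, hsw]
    module
  rw [key]
  group

theorem conj_rootElt (g : GL (Fin m ⊕ Fin m) F) (hg : g ∈ Cfsg.spGL m F)
    (a b : Fin m ⊕ Fin m → F) :
    g * rootElt m a b * g⁻¹ =
      rootElt m ((g : Matrix (Fin m ⊕ Fin m) (Fin m ⊕ Fin m) F) *ᵥ a)
        ((g : Matrix (Fin m ⊕ Fin m) (Fin m ⊕ Fin m) F) *ᵥ b) := by
  unfold rootElt
  rw [← mulVec_add, ← conj_stv m g hg, ← conj_stv m g hg, ← conj_stv m g hg]
  group

/-- Two root elements with non-orthogonal second vectors produce all transvections in the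
direction of the common vector. -/
theorem tv_of_root_pair (h2 : (2 : F) ≠ 0) (M : Subgroup (GL (Fin m ⊕ Fin m) F))
    (a b b' : Fin m ⊕ Fin m → F) (hab : Cfsg.sympForm m F a b = 0)
    (hab' : Cfsg.sympForm m F a b' = 0) (hb : ∀ μ : F, rootElt m a (μ • b) ∈ M)
    (hb' : rootElt m a b' ∈ M) (hne : Cfsg.sympForm m F b' b ≠ 0) : a ∈ tvSet m M := by
  intro c
  have habμ : Cfsg.sympForm m F a ((c / (2 * Cfsg.sympForm m F b' b)) • b) = 0 := by
    rw [Helper13.sympForm_smul_right, hab, mul_zero]
  have h := rootElt_commutator m a ((c / (2 * Cfsg.sympForm m F b' b)) • b) b' habμ hab'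
  have hc : 2 * Cfsg.sympForm m F b' ((c / (2 * Cfsg.sympForm m F b' b)) • b) = c := by
    rw [Helper13.sympForm_smul_right]
    field_simp
  rw [hc] at h
  rw [← h]
  exact M.mul_mem (M.mul_mem (M.mul_mem (hb _) hb') (M.inv_mem (hb _))) (M.inv_mem hb')

/-- Two root elements whose second vectors differ by a multiple of the common vector produce
all transvections in that direction. -/
theorem tv_of_root_shift (h2 : (2 : F) ≠ 0) (M : Subgroup (GL (Fin m ⊕ Fin m) F))
    (a b : Fin m ⊕ Fin m → F) (l : F) (hl : l ≠ 0) (hab : Cfsg.sympForm m F a b = 0)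
    (hb : ∀ μ : F, rootElt m a (μ • b) ∈ M) (hb' : ∀ μ : F, rootElt m a (μ • (b + l • a)) ∈ M) :
    a ∈ tvSet m M := by
  intro c
  set μ : F := c / (2 * l) with hμ
  have e1 : Cfsg.sympForm m F a ((-μ) • b) = 0 := by
    rw [Helper13.sympForm_smul_right, hab, mul_zero]
  have e2 : Cfsg.sympForm m F a (μ • (b + l • a)) = 0 := by
    rw [Helper13.sympForm_smul_right, Helper13.sympForm_add_right, Helper13.sympForm_smul_right,
      hab, Helper13.sympForm_self, mul_zero, add_zero, mul_zero]
  have hba : Cfsg.sympForm m F b a = 0 := by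
    rw [Helper13.sympForm_swap, hab, neg_zero]
  have e3 : Cfsg.sympForm m F ((-μ) • b) (μ • (b + l • a)) = 0 := by
    rw [Helper13.sympForm_smul_left, Helper13.sympForm_smul_right, Helper13.sympForm_add_right,
      Helper13.sympForm_smul_right, Helper13.sympForm_self, hba, mul_zero, add_zero, mul_zero,
      mul_zero]
  have h := rootElt_mul m a _ _ e1 e2 e3
  have e4 : (-μ) • b + μ • (b + l • a) = (μ * l) • a := by module
  rw [e4, rootElt_self] at h
  have e5 : 2 * (μ * l) = c := by
    rw [hμ]
    field_simp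
  rw [e5] at h
  rw [← h]
  exact M.mul_mem (hb _) (hb' _)

end sppair1

end Cfsg.Agent.Lib.Helper99
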