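import Mathlib
import Cfsg.Prelude.Def_RootSubgroups

set_option autoImplicit false

/-!
Abstract root subgroups: passing from a family `S` of subgroups of `G` to the family
`(fun A => A.subgroupOf K) '' S` of subgroups of `K = ⨆ B ∈ S, B`.
-/

namespace Cfsg.Agent.Lib.Helper99.RootRestrict

open Cfsg

variable {G : Type*} [Group G]

/-- The family pulled back to the subgroup it generates. -/
def restr (S : Set (Subgroup G)) : Set (Subgroup ↥(⨆ B ∈ S, B)) :=
  (fun A : Subgroup G => A.subgroupOf (⨆ B ∈ S, B)) '' S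

theorem le_gen {S : Set (Subgroup G)} {A : Subgroup G} (hA : A ∈ S) : A ≤ ⨆ B ∈ S, B :=
  le_iSup₂ (f := fun (B : Subgroup G) (_ : B ∈ S) => B) A hA

section general

variable (K : Subgroup G)

theorem conjBy_le (A : Subgroup G) (hA : A ≤ K) (k : G) (hk : k ∈ K) : conjBy A k ≤ K := by
  rintro x ⟨a, ha, rfl⟩
  exact K.mul_mem (K.mul_mem hk (hA ha)) (K.inv_mem hk)

theorem mem_conjBy_iff (A : Subgroup G) (g x : G) : x ∈ conjBy A g ↔ ∃ a ∈ A, g * a * g⁻¹ = x := by
  rw [conjBy, Subgroup.mem_map]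
  rfl

theorem conjBy_subgroupOf (A : Subgroup G) (hA : A ≤ K) (k : K) :
    conjBy (A.subgroupOf K) k = (conjBy A (k : G)).subgroupOf K := by
  ext x
  rw [mem_conjBy_iff, Subgroup.mem_subgroupOf, mem_conjBy_iff]
  constructor
  · rintro ⟨a, ha, rfl⟩
    exact ⟨(a : G), Subgroup.mem_subgroupOf.mp ha, by simp⟩
  · rintro ⟨a, ha, hax⟩
    refine ⟨⟨a, hA ha⟩, Subgroup.mem_subgroupOf.mpr ha, Subtype.ext ?_⟩
    simpa using hax

theorem subgroupOf_eq_iff (A B : Subgroup G) (hA : A ≤ K) (hB : B ≤ K) :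
    A.subgroupOf K = B.subgroupOf K ↔ A = B := by
  rw [Subgroup.subgroupOf_inj, inf_eq_left.mpr hA, inf_eq_left.mpr hB]

theorem rankOneCondition_subgroupOf_iff (A B : Subgroup G) (hA : A ≤ K) (hB : B ≤ K) :
    RankOneCondition (A.subgroupOf K) (B.subgroupOf K) ↔ RankOneCondition A B := by
  constructor
  · intro h a ha ha1
    obtain ⟨b, hb, hb1, hEq⟩ := h ⟨a, hA ha⟩ (Subgroup.mem_subgroupOf.mpr ha)
      (fun h0 => ha1 (congrArg Subtype.val h0))
    refine ⟨(b : G), Subgroup.mem_subgroupOf.mp hb, fun h0 => hb1 (Subtype.ext h0), ?_⟩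
    rw [conjBy_subgroupOf K A hA, conjBy_subgroupOf K B hB,
      subgroupOf_eq_iff K _ _ (conjBy_le K A hA _ (SetLike.coe_mem _))
        (conjBy_le K B hB _ (SetLike.coe_mem _))] at hEq
    simpa using hEq
  · intro h a ha ha1
    obtain ⟨b, hb, hb1, hEq⟩ := h (a : G) (Subgroup.mem_subgroupOf.mp ha)
      (fun h0 => ha1 (Subtype.ext h0))
    refine ⟨⟨b, hB hb⟩, Subgroup.mem_subgroupOf.mpr hb, fun h0 => hb1 (congrArg Subtype.val h0), ?_⟩
    rw [conjBy_subgroupOf K A hA, conjBy_subgroupOf K B hB,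
      subgroupOf_eq_iff K _ _ (conjBy_le K A hA _ (SetLike.coe_mem _))
        (conjBy_le K B hB _ (SetLike.coe_mem _))]
    simpa using hEq

theorem isRankOnePair_subgroupOf_iff (A B : Subgroup G) (hA : A ≤ K) (hB : B ≤ K) :
    IsRankOnePair (A.subgroupOf K) (B.subgroupOf K) ↔ IsRankOnePair A B := by
  constructor
  · intro h
    exact ⟨fun hEq => h.ne (by rw [hEq]),
      @Group.nilpotent_of_mulEquiv _ _ _ _ h.nilpotent_left (Subgroup.subgroupOfEquivOfLe hA),
      @Group.nilpotent_of_mulEquiv _ _ _ _ h.nilpotent_right (Subgroup.subgroupOfEquivOfLe hB),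
      (rankOneCondition_subgroupOf_iff K A B hA hB).mp h.cond_left,
      (rankOneCondition_subgroupOf_iff K B A hB hA).mp h.cond_right⟩
  · intro h
    exact ⟨fun hEq => h.ne ((subgroupOf_eq_iff K A B hA hB).mp hEq),
      @Group.nilpotent_of_mulEquiv _ _ _ _ h.nilpotent_left (Subgroup.subgroupOfEquivOfLe hA).symm,
      @Group.nilpotent_of_mulEquiv _ _ _ _ h.nilpotent_right (Subgroup.subgroupOfEquivOfLe hB).symm,
      (rankOneCondition_subgroupOf_iff K A B hA hB).mpr h.cond_left,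
      (rankOneCondition_subgroupOf_iff K B A hB hA).mpr h.cond_right⟩

theorem commutator_le_of_le (A B : Subgroup G) (hA : A ≤ K) (hB : B ≤ K) : ⁅A, B⁆ ≤ K :=
  (Subgroup.commutator_mono hA hB).trans (Subgroup.commutator_le_self K)

theorem commutator_subgroupOf (A B : Subgroup G) (hA : A ≤ K) (hB : B ≤ K) :
    ⁅A.subgroupOf K, B.subgroupOf K⁆ = ⁅A, B⁆.subgroupOf K := by
  apply Subgroup.map_injective K.subtype_injective
  rw [Subgroup.map_commutator, Subgroup.map_subgroupOf_eq_of_le hA,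
    Subgroup.map_subgroupOf_eq_of_le hB,
    Subgroup.map_subgroupOf_eq_of_le (commutator_le_of_le K A B hA hB)]

theorem isPSL2PairOver_subgroupOf (k : Type*) [Field k] (A B : Subgroup G) (hA : A ≤ K)
    (hB : B ≤ K) (h : IsPSL2PairOver k A B) :
    IsPSL2PairOver k (A.subgroupOf K) (B.subgroupOf K) := by
  obtain ⟨φ, hrange, hker, hup, hlow⟩ := h
  have hφK : ∀ x, φ x ∈ K := fun x => by
    have : φ x ∈ φ.range := ⟨x, rfl⟩
    rw [hrange] at this
    exact (sup_le hA hB) this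
  have hcomp : K.subtype.comp (φ.codRestrict K hφK) = φ := by
    ext x; rfl
  refine ⟨φ.codRestrict K hφK, ?_, ?_, ?_, ?_⟩
  · apply Subgroup.map_injective K.subtype_injective
    rw [← Subgroup.subgroupOf_sup hA hB, Subgroup.map_subgroupOf_eq_of_le (sup_le hA hB), ← hrange,
      MonoidHom.range_eq_map, MonoidHom.range_eq_map, Subgroup.map_map, hcomp]
  · intro x hx
    apply hker
    rw [MonoidHom.mem_ker] at hx ⊢
    exact congrArg Subtype.val hx
  · apply Subgroup.map_injective K.subtype_injective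
    rw [Subgroup.map_map, hcomp, Subgroup.map_subgroupOf_eq_of_le hA, hup]
  · apply Subgroup.map_injective K.subtype_injective
    rw [Subgroup.map_map, hcomp, Subgroup.map_subgroupOf_eq_of_le hB, hlow]

end general

section family

variable (S : Set (Subgroup G))

theorem restr_generates : (⨆ A' ∈ restr S, A') = (⊤ : Subgroup ↥(⨆ B ∈ S, B)) := by
  apply Subgroup.map_injective (⨆ B ∈ S, B).subtype_injective
  unfold restr
  rw [iSup_image, Subgroup.map_iSup]
  simp_rw [Subgroup.map_iSup]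
  rw [← MonoidHom.range_eq_map, Subgroup.range_subtype]
  apply le_antisymm
  · apply iSup₂_le
    intro A hA
    rw [Subgroup.map_subgroupOf_eq_of_le (le_gen hA)]
    exact le_gen hA
  · apply iSup₂_le
    intro A hA
    have : A = Subgroup.map (⨆ B ∈ S, B).subtype (A.subgroupOf (⨆ B ∈ S, B)) :=
      (Subgroup.map_subgroupOf_eq_of_le (le_gen hA)).symm
    rw [this]
    exact le_iSup₂ (f := fun (A : Subgroup G) (_ : A ∈ S) =>
      Subgroup.map (⨆ B ∈ S, B).subtype (A.subgroupOf (⨆ B ∈ S, B))) A hA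

/-- Root subgroup set axioms for the restricted family (no commutator case). -/
theorem restr_isRootSubgroupSet
    (h1 : ∀ A ∈ S, IsMulCommutative A) (h2 : ∀ A ∈ S, A ≠ ⊥)
    (h3 : ∀ A ∈ S, ∀ g ∈ (⨆ B ∈ S, B), conjBy A g ∈ S)
    (h4 : ∀ A ∈ S, ∀ B ∈ S, ⁅A, B⁆ = ⊥ ∨ IsRankOnePair A B) :
    IsRootSubgroupSet (restr S) where
  commutative := by
    rintro A' ⟨A, hA, rfl⟩
    haveI := h1 A hA
    infer_instance
  ne_bot := by
    rintro A' ⟨A, hA, rfl⟩ h
    rw [Subgroup.subgroupOf_eq_bot] at h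
    exact h2 A hA (le_bot_iff.mp (h le_rfl (le_gen hA)))
  generates := restr_generates S
  conj_mem := by
    rintro A' ⟨A, hA, rfl⟩ g
    refine ⟨conjBy A (g : G), h3 A hA _ g.2, ?_⟩
    exact (conjBy_subgroupOf _ A (le_gen hA) g).symm
  pair := by
    rintro A' ⟨A, hA, rfl⟩ B' ⟨B, hB, rfl⟩
    rcases h4 A hA B hB with h | h
    · left
      rw [commutator_subgroupOf _ A B (le_gen hA) (le_gen hB), h]
      exact Subgroup.bot_subgroupOf _
    · right; left
      exact (isRankOnePair_subgroupOf_iff _ A B (le_gen hA) (le_gen hB)).mpr h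

theorem restr_isConjClass (hne : S.Nonempty)
    (h : ∀ A ∈ S, ∀ B ∈ S, ∃ g ∈ (⨆ B ∈ S, B), B = conjBy A g) :
    IsConjClassOfSubgroups (restr S) := by
  constructor
  · obtain ⟨A, hA⟩ := hne
    exact ⟨_, A, hA, rfl⟩
  · rintro A' ⟨A, hA, rfl⟩ B' ⟨B, hB, rfl⟩
    obtain ⟨g, hg, hEq⟩ := h A hA B hB
    refine ⟨⟨g, hg⟩, ?_⟩
    rw [conjBy_subgroupOf _ A (le_gen hA), hEq]

theorem restr_degenerate
    (hno : ∀ A ∈ S, ∀ B ∈ S,
      ¬ (⁅A, B⁆ ∈ S ∧ ∀ c ∈ ⁅A, B⁆, ∀ x ∈ A ⊔ B, c * x = x * c)) :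
    IsDegenerateRootSet (restr S) := by
  rintro A' ⟨A, hA, rfl⟩ B' ⟨B, hB, rfl⟩ ⟨⟨C, hC, hCeq⟩, hcentral, -, -⟩
  apply hno A hA B hB
  have hAK := le_gen hA
  have hBK := le_gen hB
  rw [commutator_subgroupOf _ A B hAK hBK] at hCeq hcentral
  have hCeq' : C = ⁅A, B⁆ :=
    (subgroupOf_eq_iff _ C ⁅A, B⁆ (le_gen hC) (commutator_le_of_le _ A B hAK hBK)).mp hCeq
  refine ⟨hCeq' ▸ hC, ?_⟩
  intro c hc x hx
  have hcK := commutator_le_of_le _ A B hAK hBK hc
  have hxK := (sup_le hAK hBK) hx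
  have := hcentral ⟨c, hcK⟩ (Subgroup.mem_subgroupOf.mpr hc) ⟨x, hxK⟩ (by
    rw [← Subgroup.subgroupOf_sup hAK hBK]
    exact Subgroup.mem_subgroupOf.mpr hx)
  exact congrArg Subtype.val this

theorem restr_isKRoot (k : Type*) [Field k] (hroot : IsRootSubgroupSet (restr S))
    (h : ∀ A ∈ S, ∀ B ∈ S, IsRankOnePair A B → IsPSL2PairOver k A B) :
    IsKRootSubgroupSet k (restr S) := by
  refine ⟨hroot, ?_⟩
  rintro A' ⟨A, hA, rfl⟩ B' ⟨B, hB, rfl⟩ hpair
  have hAK := le_gen hA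
  have hBK := le_gen hB
  exact isPSL2PairOver_subgroupOf _ k A B hAK hBK
    (h A hA B hB ((isRankOnePair_subgroupOf_iff _ A B hAK hBK).mp hpair))

theorem restr_connected (h : IsConnectedFamily (FAdj S) S) :
    IsConnectedFamily (FAdj (restr S)) (restr S) := by
  rintro A' ⟨A, hA, rfl⟩ B' ⟨B, hB, rfl⟩
  have key : ∀ X Y : Subgroup G, Relation.ReflTransGen (FAdj S) X Y → X ∈ S →
      Relation.ReflTransGen (FAdj (restr S)) (X.subgroupOf (⨆ B ∈ S, B))
        (Y.subgroupOf (⨆ B ∈ S, B)) := by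
    intro X Y hXY
    induction hXY with
    | refl => intro _; exact Relation.ReflTransGen.refl
    | tail _ hstep ih =>
      intro hX
      obtain ⟨hb, hc, hpair⟩ := hstep
      refine Relation.ReflTransGen.tail (ih hX) ⟨⟨_, hb, rfl⟩, ⟨_, hc, rfl⟩, ?_⟩
      exact (isRankOnePair_subgroupOf_iff _ _ _ (le_gen hb) (le_gen hc)).mpr hpair
  exact key A B (h A hA B hB) hA

end family

section conj

theorem conjBy_conjBy (A : Subgroup G) (x y : G) : conjBy (conjBy A x) y = conjBy A (y * x) := by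
  ext z
  rw [mem_conjBy_iff, mem_conjBy_iff]
  constructor
  · rintro ⟨a, ha, rfl⟩
    obtain ⟨b, hb, rfl⟩ := (mem_conjBy_iff A x a).mp ha
    exact ⟨b, hb, by group⟩
  · rintro ⟨b, hb, rfl⟩
    exact ⟨x * b * x⁻¹, (mem_conjBy_iff A x _).mpr ⟨b, hb, rfl⟩, by group⟩

theorem conjBy_one (A : Subgroup G) : conjBy A 1 = A := by
  ext z
  rw [mem_conjBy_iff]
  constructor
  · rintro ⟨a, ha, rfl⟩
    simpa using ha
  · intro hz
    exact ⟨z, hz, by simp⟩

/-- In a rank one pair with non-trivial first member, the second is a conjugate of the first under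
the group they generate. -/
theorem exists_conj_of_isRankOnePair (A B : Subgroup G) (hA : A ≠ ⊥) (h : IsRankOnePair A B) :
    ∃ g ∈ A ⊔ B, B = conjBy A g := by
  obtain ⟨a, ha1⟩ := (Subgroup.ne_bot_iff_exists_ne_one).mp hA
  have ha1' : (a : G) ≠ 1 := fun h0 => ha1 (Subtype.ext h0)
  obtain ⟨b, hb, -, hEq⟩ := h.cond_left (a : G) a.2 ha1'
  refine ⟨(a : G) * b⁻¹, Subgroup.mul_mem _ (Subgroup.mem_sup_left a.2)
    (Subgroup.inv_mem _ (Subgroup.mem_sup_right hb)), ?_⟩
  have := congrArg (fun X => conjBy X (a : G)) hEq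
  simp only [conjBy_conjBy, mul_inv_cancel, conjBy_one] at this
  exact this.symm

/-- A connected family of non-trivial subgroups (for the rank one graph) is a single conjugacy class
under the subgroup it generates. -/
theorem conj_of_connected (S : Set (Subgroup G)) (hne : ∀ A ∈ S, A ≠ ⊥)
    (hconn : IsConnectedFamily (FAdj S) S) :
    ∀ A ∈ S, ∀ B ∈ S, ∃ g ∈ (⨆ B ∈ S, B), B = conjBy A g := by
  intro A hA B hB
  have key : ∀ Y : Subgroup G, Relation.ReflTransGen (FAdj S) A Y →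
      ∃ g ∈ (⨆ B ∈ S, B), Y = conjBy A g := by
    intro Y hY
    induction hY with
    | refl => exact ⟨1, Subgroup.one_mem _, (conjBy_one A).symm⟩
    | tail _ hstep ih =>
      obtain ⟨g, hg, hEq⟩ := ih
      obtain ⟨hb, hc, hpair⟩ := hstep
      obtain ⟨k, hk, hEq2⟩ := exists_conj_of_isRankOnePair _ _ (hne _ hb) hpair
      refine ⟨k * g, Subgroup.mul_mem _ ((sup_le (le_gen hb) (le_gen hc)) hk) hg, ?_⟩
      rw [hEq2, hEq, conjBy_conjBy]
  exact key B (hconn A hA B hB)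

end conj

end Cfsg.Agent.Lib.Helper99.RootRestrict
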