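import Mathlib
import Cfsg.Prelude.Def_ClassicalGeometry
import Cfsg.Agent.Lib.Helper4.NdDefs

set_option autoImplicit false
set_option linter.unusedVariables false
open Matrix
open Cfsg.Agent.Lib.Helper99 (Nd dker sympB)

/-! ND-A3 (S5956 hive of helper4) -/

namespace Cfsg.Agent.Lib.Helper4.NdH

universe u v

variable {F : Type u} [Field F] {V : Type v} [AddCommGroup V] [Module F V]

theorem a3_finrank_biSup [FiniteDimensional F V] {ι : Type*} (Q : ι → Submodule F V)
    (hQ : iSupIndep Q) (J : Finset ι) :
    Module.finrank F ↥(⨆ j ∈ J, Q j) = ∑ j ∈ J, Module.finrank F (Q j) := by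
  classical
  induction J using Finset.induction_on with
  | empty => simp
  | insert a J ha ih =>
    rw [Finset.iSup_insert, Finset.sum_insert ha, ← ih]
    have hdisj : Disjoint (Q a) (⨆ j ∈ J, Q j) :=
      hQ.disjoint_biSup (y := (J : Set ι)) (by simpa using ha)
    have h1 := Submodule.finrank_sup_add_finrank_inf_eq (Q a) (⨆ j ∈ J, Q j)
    rw [hdisj.eq_bot, finrank_bot, add_zero] at h1
    exact h1

theorem a3_sum_pc {t : ℕ} (e : Fin t → ℕ) (k : ℕ) (J : Finset (Fin t)) :
    ((∑ j ∈ J, pc (e j)).map (fun b => min b k)).sum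
      = ∑ j ∈ J, (if Even (e j) then min (e j) k else 2 * min (e j) k) := by
  classical
  induction J using Finset.induction_on with
  | empty => simp
  | insert a J ha ih =>
    rw [Finset.sum_insert ha, Finset.sum_insert ha, Multiset.map_add, Multiset.sum_add, ih]
    congr 1
    unfold pc
    split_ifs with hev
    · simp
    · simp [two_mul]

/-- ND-A3 (FACTS) : `ker T^k = ⨁ (P j ⊓ ker T^k)` for an independent invariant family with supremum `⊤`. -/
theorem pieces_facts [FiniteDimensional F V] (B : V →ₗ[F] V →ₗ[F] F) (hB : Alt B) (hV : Nd B ⊤)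
    (u : V →ₗ[F] V) (K : ℕ) (hK : (u - 1 : Module.End F V) ^ K = 0)
    {t : ℕ} {P : Fin t → Submodule F V} {e : Fin t → ℕ} (h : Pieces B u t P e) :
    HasType (u - 1 : Module.End F V) (∑ j, pc (e j)) ∧
      (∀ j, Module.finrank F (P j) = pdim (e j)) ∧ (∀ j, Nd B (P j)) := by
  classical
  have hinvT : ∀ j, ∀ w ∈ P j, (u - 1 : Module.End F V) w ∈ P j := by
    intro j w hw
    have h1 := h.inv j w hw
    have h2 : (u - 1 : Module.End F V) w = u w - w := by
      rw [LinearMap.sub_apply, Module.End.one_apply]
    rw [h2]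
    exact (P j).sub_mem h1 hw
  have hinvTk : ∀ j k, ∀ w ∈ P j, ((u - 1 : Module.End F V) ^ k) w ∈ P j := by
    intro j k
    induction k with
    | zero =>
      intro w hw
      simpa using hw
    | succ k ih =>
      intro w hw
      rw [pow_succ, Module.End.mul_apply]
      exact ih _ (hinvT j w hw)
  have htop : (⨆ j ∈ (Finset.univ : Finset (Fin t)), P j) = ⊤ := by
    rw [← h.top]
    simp
  have hker : ∀ k, LinearMap.ker ((u - 1 : Module.End F V) ^ k)
      = ⨆ j ∈ (Finset.univ : Finset (Fin t)),
          (P j ⊓ LinearMap.ker ((u - 1 : Module.End F V) ^ k)) := by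
    intro k
    apply le_antisymm
    · intro v hv
      have hvtop : v ∈ ⨆ j ∈ (Finset.univ : Finset (Fin t)), P j := by
        rw [htop]
        trivial
      obtain ⟨μ, hμ⟩ := (Submodule.mem_iSup_finset_iff_exists_sum P v).1 hvtop
      have hz : ∑ j ∈ (Finset.univ : Finset (Fin t)),
          ((u - 1 : Module.End F V) ^ k) (μ j : V) = 0 := by
        rw [← map_sum, hμ]
        exact hv
      have hind := (iSupIndep_iff_finsetSum_eq_zero_imp_eq_zero P).1 h.indep Finset.univ
        (fun j => ((u - 1 : Module.End F V) ^ k) (μ j : V))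
        (fun j _ => hinvTk j k _ (μ j).2) hz
      rw [← hμ]
      apply Submodule.sum_mem
      intro j hj
      have hle : P j ⊓ LinearMap.ker ((u - 1 : Module.End F V) ^ k)
          ≤ ⨆ j ∈ (Finset.univ : Finset (Fin t)),
            (P j ⊓ LinearMap.ker ((u - 1 : Module.End F V) ^ k)) :=
        le_biSup (fun j => P j ⊓ LinearMap.ker ((u - 1 : Module.End F V) ^ k)) hj
      apply hle
      exact ⟨(μ j).2, hind j hj⟩
    · apply iSup₂_le
      intro j _
      exact inf_le_right
  have hindQ : ∀ k, iSupIndep (fun j => P j ⊓ LinearMap.ker ((u - 1 : Module.End F V) ^ k)) :=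
    fun k => h.indep.mono (fun j => inf_le_left)
  have hKtop : ∀ k, K ≤ k → LinearMap.ker ((u - 1 : Module.End F V) ^ k) = ⊤ := by
    intro k hk
    obtain ⟨c, rfl⟩ := Nat.exists_eq_add_of_le hk
    rw [pow_add, hK, zero_mul]
    exact LinearMap.ker_zero
  refine ⟨?_, ?_, ?_⟩
  · intro k
    show Module.finrank F (LinearMap.ker ((u - 1 : Module.End F V) ^ k)) = _
    rw [hker k, a3_finrank_biSup _ (hindQ k) Finset.univ, a3_sum_pc e k Finset.univ]
    apply Finset.sum_congr rfl
    intro j _
    exact h.ker j k
  · intro j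
    have h1 := h.ker j K
    have h2 := h.ker j (K + 1)
    rw [hKtop K le_rfl] at h1
    rw [hKtop (K + 1) (by omega)] at h2
    rw [inf_top_eq] at h1 h2
    unfold pdim
    split_ifs at h1 h2 ⊢ with hev
    · rw [h1] at h2 ⊢
      have : e j ≤ K := by
        by_contra hlt
        rw [min_eq_right (by omega), min_eq_right (by omega)] at h2
        omega
      exact min_eq_left this
    · rw [h1] at h2 ⊢
      have : e j ≤ K := by
        by_contra hlt
        rw [min_eq_right (by omega), min_eq_right (by omega)] at h2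
        omega
      rw [min_eq_left this]
  · intro j x hx hxP
    apply hV x trivial
    intro w _
    have hw : w ∈ ⨆ i, P i := by
      rw [h.top]
      trivial
    refine Submodule.iSup_induction P (motive := fun w => B x w = 0) hw ?_ ?_ ?_
    · intro i y hy
      by_cases hij : i = j
      · subst hij
        exact hxP y hy
      · exact h.perp j i (fun hji => hij hji.symm) x hx y hy
    · exact map_zero _
    · intro y z hy hz
      rw [map_add, hy, hz, add_zero]

end Cfsg.Agent.Lib.Helper4.NdH
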