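import Mathlib
import Cfsg.Prelude.Def_Steinberg
import Cfsg.Prelude.Def_ChevStructure
import Cfsg.Prelude.Def_ChevG2

/-!
# Gt hive (S2734), leaf GT-BHAT : `mem_Bhat` (stated with the copy `bhat_Bhat` of `Bhat`)

`borelSubgroup = posUnipotent ⊔ diagonalSubgroup`; both are closures of `θ`-images of generators of `Bhat`
(`IsPosRoot` for `chevG2` ⇔ `6 ≤ r < 12`), and `θ` is injective.  Mathlib + Prelude only.
-/

set_option autoImplicit false
set_option linter.unusedSectionVars false
set_option linter.unusedVariables false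

namespace Cfsg.Agent.Lib.Helper37.Gt

open Cfsg Cfsg.Lie

variable {F : Type*} [Field F]

/-- the subgroup of the presented group generated by the positive root elements and the `ĥ_s(t)`:
a verbatim copy (definitionally equal) of `Bhat` of `Helper37.GtDefs2`, under a private name so that this
file needs only Mathlib and the Prelude -/
def bhat_Bhat (F : Type*) [Field F] : Subgroup (chevG2.SteinbergGroup F) :=
  Subgroup.closure ({x | ∃ s, 6 ≤ s ∧ s < 12 ∧ ∃ t : F, x = chevG2.stGen F s t} ∪
    {x | ∃ s < 12, ∃ t : F, t ≠ 0 ∧ x = PresentedGroup.mk (chevG2.steinbergRels F) (chevG2.stH s t)})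

/-- the image of a word -/
theorem bhat_word (θ : chevG2.SteinbergGroup F →* ↥(chevG2.group F))
    (hθ : ∀ (r : ℕ) (t : F), r < 12 →
      ((θ (chevG2.stGen F r t) : GL chevG2.Idx F) : Matrix chevG2.Idx chevG2.Idx F) = chevG2.x F r t)
    (w : List (ℕ × F)) (hw : ∀ p ∈ w, p.1 < 12) :
    ((θ (PresentedGroup.mk (chevG2.steinbergRels F) (chevG2.stWord w)) : GL chevG2.Idx F) :
      Matrix chevG2.Idx chevG2.Idx F) = chevG2.wordMat F w := by
  induction w with
  | nil =>
    unfold ChevalleyDatum.stWord ChevalleyDatum.wordMat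
    simp
  | cons p w ih =>
    have h1 : chevG2.stWord (p :: w) = chevG2.stX p.1 p.2 * chevG2.stWord w := by
      unfold ChevalleyDatum.stWord
      rw [List.map_cons, List.prod_cons]
    have h2 : chevG2.wordMat F (p :: w) = chevG2.x F p.1 p.2 * chevG2.wordMat F w := by
      unfold ChevalleyDatum.wordMat
      rw [List.map_cons, List.prod_cons]
    rw [h1, h2, map_mul, map_mul, Subgroup.coe_mul, Units.val_mul,
      ih (fun q hq => hw q (List.mem_cons_of_mem _ hq))]
    congr 1
    exact hθ p.1 p.2 (hw p List.mem_cons_self)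

theorem bhat_isPosRoot (r : ℕ) (h : chevG2.IsPosRoot r) : 6 ≤ r ∧ r < 12 := by
  have hr : r < 12 := by
    have := h.1
    have hnr : chevG2.nroots = 12 := by decide
    omega
  have hall : ∀ s < 12, chevG2.IsPosRoot s → 6 ≤ s := by decide
  exact ⟨hall r hr h, hr⟩

theorem bhat_neg_lt (r : ℕ) (hr : r < 12) : chevG2.neg r < 12 := by
  have hall : ∀ s < 12, chevG2.neg s < 12 := by decide
  exact hall r hr

/-- GT-BHAT -/
theorem mem_Bhat (θ : chevG2.SteinbergGroup F →* ↥(chevG2.group F)) (hinj : Function.Injective θ)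
    (hθ : ∀ (r : ℕ) (t : F), r < 12 →
      ((θ (chevG2.stGen F r t) : GL chevG2.Idx F) : Matrix chevG2.Idx chevG2.Idx F) = chevG2.x F r t)
    (y : chevG2.SteinbergGroup F) (hy : (θ y : GL chevG2.Idx F) ∈ chevG2.borelSubgroup F) : y ∈ bhat_Bhat F := by
  -- the composite homomorphism to `GL`
  obtain ⟨θ', hθ'⟩ : ∃ θ' : chevG2.SteinbergGroup F →* GL chevG2.Idx F,
      ∀ x, θ' x = (θ x : GL chevG2.Idx F) := ⟨(chevG2.group F).subtype.comp θ, fun _ => rfl⟩
  have hinj' : Function.Injective θ' := by
    intro a b hab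
    rw [hθ', hθ'] at hab
    exact hinj (Subtype.ext hab)
  have hle : chevG2.borelSubgroup F ≤ (bhat_Bhat F).map θ' := by
    unfold ChevalleyDatum.borelSubgroup
    apply sup_le
    · unfold ChevalleyDatum.posUnipotent
      rw [Subgroup.closure_le]
      rintro g ⟨r, t, hr, hg⟩
      obtain ⟨h6, h12⟩ := bhat_isPosRoot r hr
      refine ⟨chevG2.stGen F r t, ?_, ?_⟩
      · exact Subgroup.subset_closure (Or.inl ⟨r, h6, h12, t, rfl⟩)
      · apply Units.ext
        rw [hθ', hθ r t h12, hg]
    · unfold ChevalleyDatum.diagonalSubgroup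
      rw [Subgroup.closure_le]
      rintro g ⟨r, t, hr, ht, hg⟩
      have hnr : chevG2.nroots = 12 := by decide
      have h12 : r < 12 := by omega
      refine ⟨PresentedGroup.mk (chevG2.steinbergRels F) (chevG2.stH r t), ?_, ?_⟩
      · exact Subgroup.subset_closure (Or.inr ⟨r, h12, t, ht, rfl⟩)
      · apply Units.ext
        rw [hθ', hg]
        unfold ChevalleyDatum.stH ChevalleyDatum.hMat
        apply bhat_word θ hθ
        intro p hp
        unfold ChevalleyDatum.hWord ChevalleyDatum.nWord at hp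
        have hneg := bhat_neg_lt r h12
        simp only [List.cons_append, List.nil_append, List.mem_cons, List.not_mem_nil,
          or_false] at hp
        rcases hp with rfl | rfl | rfl | rfl | rfl | rfl <;> assumption
  obtain ⟨b, hb, hbe⟩ := hle hy
  rw [← hθ'] at hbe
  rw [← hinj' hbe]
  exact hb

end Cfsg.Agent.Lib.Helper37.Gt
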