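import Mathlib
import Cfsg.Prelude.Def_Steinberg
import Cfsg.Prelude.Def_ChevG2

/-!
# Gt hive (S2734), leaf GT-GEN : `st_closure`

The presented group `St(G₂, F)` is generated by the `x̄_s(t)`, `s < 12`.
-/

set_option autoImplicit false
set_option linter.unusedSectionVars false
set_option linter.unusedVariables false

namespace Cfsg.Agent.Lib.Helper37.Gt

open Cfsg Cfsg.Lie

variable {F : Type*} [Field F]

/-- GT-GEN -/
theorem st_closure : Subgroup.closure {x : Cfsg.Lie.chevG2.SteinbergGroup F |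
    ∃ s < 12, ∃ t : F, x = Cfsg.Lie.chevG2.stGen F s t} = ⊤ := by
  have hnr : chevG2.nroots = 12 := by decide
  rw [eq_top_iff, ← PresentedGroup.closure_range_of (chevG2.steinbergRels F)]
  apply Subgroup.closure_mono
  rintro x ⟨⟨r, t⟩, rfl⟩
  refine ⟨r.val, by rw [← hnr]; exact r.isLt, t, ?_⟩
  unfold ChevalleyDatum.stGen ChevalleyDatum.stX
  rw [dif_pos r.isLt]
  rfl

end Cfsg.Agent.Lib.Helper37.Gt
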