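import Mathlib
import Cfsg.Prelude.Def_GeometricClasses
import Cfsg.Agent.Lib.Helper37.OmegaWitt
import Cfsg.Agent.Lib.Helper37.OmegaFrames
import Cfsg.Agent.Lib.Helper37.SpinorNorm
import Cfsg.Agent.Lib.Helper37.CartanDieudonne
import Cfsg.Agent.Lib.Helper37.OrthStruct
import Cfsg.Agent.Lib.Helper8.OrthIndexTwo
import Cfsg.Agent.Lib.Helper8.OmegaTransitive

set_option autoImplicit false

/-!
# Automorphisms of odd-dimensional orthogonal groups: reflections, the spinor criterion and the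
involutions `-r_v`
-/

namespace Cfsg.Agent.Lib.Helper99.AutO

open Matrix Module QuadraticMap
open Cfsg.Agent.Lib.Helper8 Cfsg.Agent.Lib.Helper13 Cfsg.Agent.Lib.Helper37

variable {ι : Type} [Fintype ι] [DecidableEq ι] {F : Type*} [Field F]

/-- the spinor norm criterion for products of reflections, for quadratic forms -/
theorem reflList_mem_omega_iff [Fintype F] (h2 : (2 : F) ≠ 0) (Q : QuadraticForm F (ι → F))
    (g : ↥(Cfsg.isometryGroup F ⇑Q)) (vs : List (ι → F)) (hvs : ∀ v ∈ vs, Q v ≠ 0)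
    (hg : ((g : GL ι F) : Matrix ι ι F) =
      (vs.map (fun v => Cfsg.reflectionMatrix ⇑Q v)).prod) :
    g ∈ Cfsg.Omega F ⇑Q ↔ (Even vs.length ∧ IsSquare (vs.map (fun v => Q v)).prod) :=
  mem_omega_iff (isGram_of_quadraticForm h2 Q) g vs hvs hg

theorem refl2_mem_omega_iff [Fintype F] (h2 : (2 : F) ≠ 0) (Q : QuadraticForm F (ι → F))
    (v w : ι → F) (hv : Q v ≠ 0) (hw : Q w ≠ 0) :
    reflElt Q v hv * reflElt Q w hw ∈ Cfsg.Omega F ⇑Q ↔ IsSquare (Q v * Q w) := by
  rw [reflList_mem_omega_iff h2 Q _ [v, w] (by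
    intro x hx
    simp only [List.mem_cons, List.not_mem_nil, or_false] at hx
    rcases hx with rfl | rfl
    · exact hv
    · exact hw) (by
    simp only [List.map_cons, List.map_nil, List.prod_cons, List.prod_nil, mul_one]
    rw [Subgroup.coe_mul, Units.val_mul, coe_reflElt, coe_reflElt])]
  simp only [List.length_cons, List.length_nil, List.map_cons, List.map_nil, List.prod_cons,
    List.prod_nil, mul_one]
  constructor
  · exact fun h => h.2
  · exact fun h => ⟨⟨1, rfl⟩, h⟩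

theorem refl4_mem_omega [Fintype F] (h2 : (2 : F) ≠ 0) (Q : QuadraticForm F (ι → F))
    (v1 v2 v3 v4 : ι → F) (h1 : Q v1 ≠ 0) (h2' : Q v2 ≠ 0) (h3 : Q v3 ≠ 0) (h4 : Q v4 ≠ 0)
    (hsq : IsSquare (Q v1 * Q v2 * Q v3 * Q v4)) :
    reflElt Q v1 h1 * reflElt Q v2 h2' * reflElt Q v3 h3 * reflElt Q v4 h4
      ∈ Cfsg.Omega F ⇑Q := by
  rw [reflList_mem_omega_iff h2 Q _ [v1, v2, v3, v4] (by
    intro x hx
    simp only [List.mem_cons, List.not_mem_nil, or_false] at hx
    rcases hx with rfl | rfl | rfl | rfl <;> assumption) (by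
    simp only [List.map_cons, List.map_nil, List.prod_cons, List.prod_nil, mul_one]
    rw [Subgroup.coe_mul, Units.val_mul, Subgroup.coe_mul, Units.val_mul, Subgroup.coe_mul,
      Units.val_mul, coe_reflElt, coe_reflElt, coe_reflElt, coe_reflElt]
    simp only [Matrix.mul_assoc])]
  simp only [List.length_cons, List.length_nil, List.map_cons, List.map_nil, List.prod_cons,
    List.prod_nil, mul_one]
  refine ⟨⟨2, rfl⟩, ?_⟩
  have : Q v1 * (Q v2 * (Q v3 * Q v4)) = Q v1 * Q v2 * Q v3 * Q v4 := by ring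
  rw [this]
  exact hsq

/-- elements of `Ω` have determinant one -/
theorem det_of_mem_omega [Fintype F] (h2 : (2 : F) ≠ 0) (Q : QuadraticForm F (ι → F))
    (hQ : (QuadraticMap.polarBilin Q).Nondegenerate)
    (g : ↥(Cfsg.isometryGroup F ⇑Q)) (hg : g ∈ Cfsg.Omega F ⇑Q) :
    (((g : GL ι F) : Matrix ι ι F)).det = 1 := by
  have hG := isGram_of_quadraticForm h2 Q
  obtain ⟨vs, hvs, hvs2⟩ := hG.cartan_dieudonne (det_ne_zero_of_nondegenerate Q hQ) g
  have h1 := (reflList_mem_omega_iff h2 Q g vs hvs hvs2).1 hg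
  have h3 : ((g : GL ι F) : Matrix ι ι F) = toMat (⇑Q) g := rfl
  rw [h3, hvs2, hG.det_list vs hvs]
  exact h1.1.neg_one_pow

/-- two isometries of determinant one outside `Ω` have their product in `Ω` -/
theorem mul_mem_omega_of_not_mem [Fintype F] (h2 : (2 : F) ≠ 0) (Q : QuadraticForm F (ι → F))
    (hQ : (QuadraticMap.polarBilin Q).Nondegenerate)
    (x y : ↥(Cfsg.isometryGroup F ⇑Q))
    (hx1 : (((x : GL ι F) : Matrix ι ι F)).det = 1) (hy1 : (((y : GL ι F) : Matrix ι ι F)).det = 1)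
    (hx : x ∉ Cfsg.Omega F ⇑Q) (hy : y ∉ Cfsg.Omega F ⇑Q) : x * y ∈ Cfsg.Omega F ⇑Q := by
  classical
  have hG := isGram_of_quadraticForm h2 Q
  have hdet := det_ne_zero_of_nondegenerate Q hQ
  obtain ⟨l1, hl1, e1⟩ := hG.cartan_dieudonne hdet x
  obtain ⟨l2, hl2, e2⟩ := hG.cartan_dieudonne hdet y
  have hm1 : (-1 : F) ≠ 1 := by
    intro h
    apply h2
    have : (2 : F) = 1 - (-1) := by ring
    rw [this, h, sub_self]
  have ev1 : Even l1.length := by
    have h3 : ((x : GL ι F) : Matrix ι ι F) = toMat (⇑Q) x := rfl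
    rw [h3, e1, hG.det_list l1 hl1] at hx1
    rcases Nat.even_or_odd l1.length with h | h
    · exact h
    · rw [h.neg_one_pow] at hx1
      exact absurd hx1 hm1
  have ev2 : Even l2.length := by
    have h3 : ((y : GL ι F) : Matrix ι ι F) = toMat (⇑Q) y := rfl
    rw [h3, e2, hG.det_list l2 hl2] at hy1
    rcases Nat.even_or_odd l2.length with h | h
    · exact h
    · rw [h.neg_one_pow] at hy1
      exact absurd hy1 hm1
  have ns1 : ¬ IsSquare (l1.map (fun v => Q v)).prod := by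
    intro h
    exact hx ((reflList_mem_omega_iff h2 Q x l1 hl1 e1).2 ⟨ev1, h⟩)
  have ns2 : ¬ IsSquare (l2.map (fun v => Q v)).prod := by
    intro h
    exact hy ((reflList_mem_omega_iff h2 Q y l2 hl2 e2).2 ⟨ev2, h⟩)
  rw [reflList_mem_omega_iff h2 Q (x * y) (l1 ++ l2) (by
    intro v hv
    rcases List.mem_append.1 hv with h | h
    · exact hl1 v h
    · exact hl2 v h) (by
    rw [List.map_append, List.prod_append, Subgroup.coe_mul, Units.val_mul]
    have h3 : ((x : GL ι F) : Matrix ι ι F) = toMat (⇑Q) x := rfl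
    have h4 : ((y : GL ι F) : Matrix ι ι F) = toMat (⇑Q) y := rfl
    rw [h3, h4, e1, e2])]
  refine ⟨?_, ?_⟩
  · rw [List.length_append]
    exact ev1.add ev2
  · rw [List.map_append, List.prod_append]
    have hc2 : ringChar F ≠ 2 := ringChar_ne_two_of_two_ne_zero h2
    have hp1 : (l1.map (fun v => Q v)).prod ≠ 0 := by
      apply List.prod_ne_zero
      intro h0
      obtain ⟨w, hw, hw0⟩ := List.mem_map.mp h0
      exact hl1 w hw hw0
    have hp2 : (l2.map (fun v => Q v)).prod ≠ 0 := by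
      apply List.prod_ne_zero
      intro h0
      obtain ⟨w, hw, hw0⟩ := List.mem_map.mp h0
      exact hl2 w hw hw0
    rw [← quadraticChar_one_iff_isSquare (mul_ne_zero hp1 hp2), map_mul,
      (quadraticChar_neg_one_iff_not_isSquare).2 ns1,
      (quadraticChar_neg_one_iff_not_isSquare).2 ns2]
    norm_num

/-! ### the central element `-1` and the involutions `-r_v` -/

/-- the isometry `-1` -/
noncomputable def negO (Q : QuadraticForm F (ι → F)) : ↥(Cfsg.isometryGroup F ⇑Q) :=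
  ⟨-1, by
    rw [mem_isometryGroup_iff]
    intro x
    rw [Units.val_neg, Units.val_one, Matrix.neg_mulVec, Matrix.one_mulVec]
    exact QuadraticMap.map_neg Q x⟩

theorem act_negO (Q : QuadraticForm F (ι → F)) (x : ι → F) : act Q (negO Q) x = -x := by
  unfold act negO
  simp [Matrix.neg_mulVec]

theorem negO_mul_self (Q : QuadraticForm F (ι → F)) : negO Q * negO Q = 1 := by
  apply reflElt_ext
  intro x
  rw [act_mul, act_negO, act_negO, act_one, neg_neg]

theorem negO_comm (Q : QuadraticForm F (ι → F)) (g : ↥(Cfsg.isometryGroup F ⇑Q)) :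
    negO Q * g = g * negO Q := by
  apply reflElt_ext
  intro x
  rw [act_mul, act_mul, act_negO, act_negO]
  unfold act
  rw [Matrix.mulVec_neg]

/-- the involution `-r_v` -/
noncomputable def tElt (Q : QuadraticForm F (ι → F)) (v : ι → F) (hv : Q v ≠ 0) :
    ↥(Cfsg.isometryGroup F ⇑Q) := negO Q * reflElt Q v hv

theorem act_tElt (Q : QuadraticForm F (ι → F)) (v : ι → F) (hv : Q v ≠ 0) (x : ι → F) :
    act Q (tElt Q v hv) x = ((Q v)⁻¹ * polar ⇑Q v x) • v - x := by
  unfold tElt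
  rw [act_mul, act_negO, act_refl, neg_sub]

theorem tElt_mul_self (Q : QuadraticForm F (ι → F)) (v : ι → F) (hv : Q v ≠ 0) :
    tElt Q v hv * tElt Q v hv = 1 := by
  unfold tElt
  rw [mul_assoc, ← mul_assoc (reflElt Q v hv), ← negO_comm, mul_assoc,
    Helper8.reflElt_mul_self, mul_one, negO_mul_self]

theorem tElt_mul_tElt (Q : QuadraticForm F (ι → F)) (v w : ι → F) (hv : Q v ≠ 0) (hw : Q w ≠ 0) :
    tElt Q v hv * tElt Q w hw = reflElt Q v hv * reflElt Q w hw := by
  unfold tElt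
  rw [mul_assoc, ← mul_assoc (reflElt Q v hv), ← negO_comm, mul_assoc, ← mul_assoc,
    negO_mul_self, one_mul]

theorem tElt_smul (Q : QuadraticForm F (ι → F)) (v : ι → F) (hv : Q v ≠ 0) (t : F) (ht : t ≠ 0)
    (htv : Q (t • v) ≠ 0) : tElt Q (t • v) htv = tElt Q v hv := by
  unfold tElt
  rw [reflElt_smul Q v hv t ht htv]

theorem conj_tElt (Q : QuadraticForm F (ι → F)) (g : ↥(Cfsg.isometryGroup F ⇑Q)) (v : ι → F)
    (hv : Q v ≠ 0) :
    g * tElt Q v hv * g⁻¹ = tElt Q (act Q g v) (by rw [Q_act]; exact hv) := by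
  unfold tElt
  rw [← mul_assoc, ← negO_comm, mul_assoc, mul_assoc, ← mul_assoc g, conj_reflElt]
  rfl

/-- `v` is a good vector: `-r_v` lies in `Ω` -/
def IsGood (Q : QuadraticForm F (ι → F)) (v : ι → F) : Prop :=
  ∃ hv : Q v ≠ 0, tElt Q v hv ∈ Cfsg.Omega F ⇑Q

theorem IsGood.ne (Q : QuadraticForm F (ι → F)) {v : ι → F} (h : IsGood Q v) : Q v ≠ 0 := h.1

theorem isGood_iff_of_isGood [Fintype F] (h2 : (2 : F) ≠ 0) (Q : QuadraticForm F (ι → F))
    {v : ι → F} (hv : IsGood Q v) (w : ι → F) (hw : Q w ≠ 0) :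
    IsGood Q w ↔ IsSquare (Q v * Q w) := by
  obtain ⟨hv0, hvΩ⟩ := hv
  rw [← refl2_mem_omega_iff h2 Q v w hv0 hw, ← tElt_mul_tElt]
  constructor
  · rintro ⟨_, hwΩ⟩
    exact Subgroup.mul_mem _ hvΩ hwΩ
  · intro h
    refine ⟨hw, ?_⟩
    have : tElt Q w hw = tElt Q v hv0 * (tElt Q v hv0 * tElt Q w hw) := by
      rw [← mul_assoc, tElt_mul_self, one_mul]
    rw [this]
    exact Subgroup.mul_mem _ hvΩ h

theorem IsGood.smul [Fintype F] (h2 : (2 : F) ≠ 0) (Q : QuadraticForm F (ι → F))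
    {v : ι → F} (hv : IsGood Q v) (t : F) (ht : t ≠ 0) : IsGood Q (t • v) := by
  have h0 : Q (t • v) ≠ 0 := by
    rw [QuadraticMap.map_smul]
    exact mul_ne_zero (mul_ne_zero ht ht) hv.1
  rw [isGood_iff_of_isGood h2 Q hv _ h0, QuadraticMap.map_smul]
  exact ⟨t * Q v, by simp only [smul_eq_mul]; ring⟩

theorem IsGood.of_Q_eq [Fintype F] (h2 : (2 : F) ≠ 0) (Q : QuadraticForm F (ι → F))
    {v w : ι → F} (hv : IsGood Q v) (h : Q w = Q v) : IsGood Q w := by
  have h0 : Q w ≠ 0 := by rw [h]; exact hv.1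
  rw [isGood_iff_of_isGood h2 Q hv _ h0, h]
  exact ⟨Q v, rfl⟩

theorem det_tElt (Q : QuadraticForm F (ι → F)) (hodd : Odd (Fintype.card ι))
    (v : ι → F) (hv : Q v ≠ 0) :
    (((tElt Q v hv : ↥(Cfsg.isometryGroup F ⇑Q)) : GL ι F) : Matrix ι ι F).det = 1 := by
  unfold tElt
  rw [Subgroup.coe_mul, Units.val_mul, Matrix.det_mul, coe_reflElt, reflectionMatrix_det Q v hv]
  have : (((negO Q : ↥(Cfsg.isometryGroup F ⇑Q)) : GL ι F) : Matrix ι ι F) = -1 := rfl
  rw [this, Matrix.det_neg, Matrix.det_one, hodd.neg_one_pow]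
  ring

/-- good vectors exist in odd dimension -/
theorem exists_isGood [Fintype F] (h2 : (2 : F) ≠ 0) (Q : QuadraticForm F (ι → F))
    (hQ : (QuadraticMap.polarBilin Q).Nondegenerate) (hodd : Odd (Fintype.card ι))
    (hn : 2 ≤ Fintype.card ι) : ∃ v, IsGood Q v := by
  classical
  have hG := isGram_of_quadraticForm h2 Q
  have hdet := det_ne_zero_of_nondegenerate Q hQ
  obtain ⟨α, hα⟩ := FiniteField.exists_nonsquare (ringChar_ne_two_of_two_ne_zero h2) (F := F)
  obtain ⟨v, hv⟩ := hG.universal hdet hn 1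
  obtain ⟨w, hw⟩ := hG.universal hdet hn α
  have hv0 : Q v ≠ 0 := by
    show (⇑Q) v ≠ 0
    rw [hv]; exact one_ne_zero
  have hα0 : α ≠ 0 := by
    rintro rfl
    exact hα ⟨0, by simp⟩
  have hw0 : Q w ≠ 0 := by
    show (⇑Q) w ≠ 0
    rw [hw]; exact hα0
  by_contra hcon
  push Not at hcon
  have hv' : tElt Q v hv0 ∉ Cfsg.Omega F ⇑Q := fun h => hcon v ⟨hv0, h⟩
  have hw' : tElt Q w hw0 ∉ Cfsg.Omega F ⇑Q := fun h => hcon w ⟨hw0, h⟩
  have h3 := mul_mem_omega_of_not_mem h2 Q hQ _ _ (det_tElt Q hodd v hv0) (det_tElt Q hodd w hw0)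
    hv' hw'
  rw [tElt_mul_tElt, refl2_mem_omega_iff h2 Q] at h3
  have e1 : Q v = 1 := hv
  have e2 : Q w = α := hw
  rw [e1, e2, one_mul] at h3
  exact hα h3

end Cfsg.Agent.Lib.Helper99.AutO
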