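import Mathlib
import Cfsg.Agent.Lib.Helper99.AutOA
import Cfsg.Agent.Lib.Helper8.Eichler2

set_option autoImplicit false

/-!
# The group-theoretic property of the involutions `-r_v`, first half
-/

namespace Cfsg.Agent.Lib.Helper99.AutO

open Matrix Module QuadraticMap
open Cfsg.Agent.Lib.Helper8 Cfsg.Agent.Lib.Helper13 Cfsg.Agent.Lib.Helper37

variable {ι : Type} [Fintype ι] [DecidableEq ι] {F : Type*} [Field F]

theorem act_neg (Q : QuadraticForm F (ι → F)) (g : ↥(Cfsg.isometryGroup F ⇑Q)) (x : ι → F) :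
    act Q g (-x) = -act Q g x := by
  unfold act
  rw [Matrix.mulVec_neg]

theorem act_sub (Q : QuadraticForm F (ι → F)) (g : ↥(Cfsg.isometryGroup F ⇑Q)) (x y : ι → F) :
    act Q g (x - y) = act Q g x - act Q g y := by
  unfold act
  rw [Matrix.mulVec_sub]

theorem act_inv_act (Q : QuadraticForm F (ι → F)) (g : ↥(Cfsg.isometryGroup F ⇑Q)) (x : ι → F) :
    act Q g⁻¹ (act Q g x) = x := by
  rw [← act_mul, inv_mul_cancel, act_one]

theorem act_act_inv (Q : QuadraticForm F (ι → F)) (g : ↥(Cfsg.isometryGroup F ⇑Q)) (x : ι → F) :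
    act Q g (act Q g⁻¹ x) = x := by
  rw [← act_mul, mul_inv_cancel, act_one]

/-- a vector of prescribed norm orthogonal to a small family -/
theorem exists_perp_norm [Fintype F] (h2 : (2 : F) ≠ 0) (Q : QuadraticForm F (ι → F))
    (hQ : (QuadraticMap.polarBilin Q).Nondegenerate) {k : ℕ} (w : Fin k → ι → F)
    (hk : 2 * k + 2 < finrank F (ι → F)) (c : F) :
    ∃ a : ι → F, Q a = c ∧ ∀ i, polar (⇑Q) a (w i) = 0 := by
  obtain ⟨v1, hv1, hv1w⟩ := exists_nonsingular_orth_family Q hQ w (by omega)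
  obtain ⟨v2, hv2, hv2w⟩ := exists_nonsingular_orth_family Q hQ (Fin.cons v1 w : Fin (k + 1) → ι → F)
    (by omega)
  have h21 : polar (⇑Q) v2 v1 = 0 := by simpa using hv2w 0
  have h2w : ∀ i, polar (⇑Q) v2 (w i) = 0 := fun i => by simpa using hv2w i.succ
  obtain ⟨x, y, hxy⟩ := exists_sq_add_sq_fin h2 (Q v1) (Q v2) c hv1 hv2
  refine ⟨x • v1 + y • v2, ?_, ?_⟩
  · rw [QuadraticMap.map_add Q, QuadraticMap.map_smul, QuadraticMap.map_smul, polar_smul_left,
      polar_smul_right, polar_comm, h21]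
    simp only [smul_eq_mul, mul_zero, add_zero]
    exact hxy
  · intro i
    rw [polar_add_left, polar_smul_left, polar_smul_left, hv1w, h2w]
    simp

/-- the group-theoretic property characterising the involutions `-r_v` -/
def TProp {G : Type*} [Group G] (t : G) : Prop :=
  t * t = 1 ∧ t ≠ 1 ∧ ∀ s s' : G, (∃ g, s = g * t * g⁻¹) → (∃ g, s' = g * t * g⁻¹) →
    s ≠ t → s' ≠ t → s * t = t * s → s' * t = t * s' → ∃ g, s' * t = g * (s * t) * g⁻¹

theorem TProp.map {G : Type*} [Group G] (β : G ≃* G) {t : G} (h : TProp t) : TProp (β t) := by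
  obtain ⟨h1, h2, h3⟩ := h
  refine ⟨by rw [← map_mul, h1, map_one], fun h => h2 (by simpa using h), ?_⟩
  intro s s' hs hs' hst hs't hc hc'
  obtain ⟨g, hg⟩ := hs
  obtain ⟨g', hg'⟩ := hs'
  have e1 : β.symm s = β.symm g * t * (β.symm g)⁻¹ := by
    rw [hg]; simp
  have e2 : β.symm s' = β.symm g' * t * (β.symm g')⁻¹ := by
    rw [hg']; simp
  obtain ⟨k, hk⟩ := h3 (β.symm s) (β.symm s') ⟨_, e1⟩ ⟨_, e2⟩
    (fun h => hst (by rw [← h]; simp)) (fun h => hs't (by rw [← h]; simp))
    (by
      apply β.injective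
      simp only [map_mul, MulEquiv.apply_symm_apply]
      exact hc)
    (by
      apply β.injective
      simp only [map_mul, MulEquiv.apply_symm_apply]
      exact hc')
  refine ⟨β k, ?_⟩
  have := congrArg β hk
  simpa using this

theorem reflElt_congr' (Q : QuadraticForm F (ι → F)) (v w : ι → F) (hv : Q v ≠ 0) (hw : Q w ≠ 0)
    (h : v = w) : reflElt Q v hv = reflElt Q w hw := by
  subst h
  rfl

theorem tElt_congr (Q : QuadraticForm F (ι → F)) (v w : ι → F) (hv : Q v ≠ 0) (hw : Q w ≠ 0)
    (h : v = w) : tElt Q v hv = tElt Q w hw := by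
  subst h
  rfl

/-- commuting involutions `-r_v`, `-r_w` -/
theorem polar_eq_zero_of_tElt_comm (Q : QuadraticForm F (ι → F))
    (hQ : (QuadraticMap.polarBilin Q).Nondegenerate)
    (v w : ι → F) (hv : Q v ≠ 0) (hw : Q w ≠ 0)
    (hc : tElt Q w hw * tElt Q v hv = tElt Q v hv * tElt Q w hw)
    (hne : tElt Q w hw ≠ tElt Q v hv) : polar (⇑Q) v w = 0 := by
  by_contra hp
  apply hne
  rw [tElt_mul_tElt, tElt_mul_tElt] at hc
  have h1 : reflElt Q v hv * reflElt Q w hw * (reflElt Q v hv)⁻¹ = reflElt Q w hw := by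
    rw [← hc, mul_assoc, mul_inv_cancel, mul_one]
  rw [conj_reflElt] at h1
  obtain ⟨t, ht⟩ := exists_smul_of_reflElt_eq Q hQ _ _ _ hw h1
  have e1 : ((reflElt Q v hv : ↥(Cfsg.isometryGroup F ⇑Q)) : GL ι F).1 *ᵥ w
      = w - ((Q v)⁻¹ * polar (⇑Q) v w) • v := act_refl Q v hv w
  rw [e1] at ht
  set c := (Q v)⁻¹ * polar (⇑Q) v w with hcdef
  have hc0 : c ≠ 0 := mul_ne_zero (inv_ne_zero hv) hp
  have hv0 : v ≠ 0 := by
    rintro rfl
    exact hv (map_zero Q)
  have hw0 : w ≠ 0 := by
    rintro rfl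
    exact hw (map_zero Q)
  have h3 : (1 - t) • w = (-(t * c)) • v := by
    have : (1 - t) • w = w - t • w := by rw [sub_smul, one_smul]
    rw [this]
    nth_rewrite 1 [ht]
    rw [smul_sub, smul_smul, neg_smul]
    abel
  by_cases ht1 : t = 1
  · exfalso
    rw [ht1, sub_self, zero_smul, one_mul] at h3
    have := h3.symm
    rw [neg_smul, neg_eq_zero, smul_eq_zero] at this
    rcases this with h | h
    · exact hc0 h
    · exact hv0 h
  · have h1t : (1 - t) ≠ 0 := sub_ne_zero.mpr (Ne.symm ht1)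
    have h4 : w = ((1 - t)⁻¹ * (-(t * c))) • v := by
      rw [← smul_smul, ← h3, smul_smul, inv_mul_cancel₀ h1t, one_smul]
    have hμ : (1 - t)⁻¹ * (-(t * c)) ≠ 0 := by
      intro h0
      rw [h0, zero_smul] at h4
      exact hw0 h4
    have hw' : Q (((1 - t)⁻¹ * (-(t * c))) • v) ≠ 0 := by rw [← h4]; exact hw
    rw [tElt_congr Q w _ hw hw' h4]
    exact tElt_smul Q v hv _ hμ hw'

/-- the involutions `-r_v` in `Ω` have the property `TProp` -/
theorem tprop_tElt [Fintype F] (h2 : (2 : F) ≠ 0) (Q : QuadraticForm F (ι → F))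
    (hQ : (QuadraticMap.polarBilin Q).Nondegenerate) (hn : 7 ≤ finrank F (ι → F))
    (v : ι → F) (hv : Q v ≠ 0) (hmem : tElt Q v hv ∈ Cfsg.Omega F ⇑Q) :
    TProp (⟨tElt Q v hv, hmem⟩ : ↥(Cfsg.Omega F ⇑Q)) := by
  refine ⟨?_, ?_, ?_⟩
  · apply Subtype.ext
    exact tElt_mul_self Q v hv
  · intro h
    obtain ⟨a, ha, hav⟩ := exists_perp_norm h2 Q hQ (k := 1) (fun _ => v) (by omega) 1
    have h3 := congrArg (fun g : ↥(Cfsg.Omega F ⇑Q) => act Q g.1 a) h
    simp only [OneMemClass.coe_one, act_one, act_tElt] at h3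
    rw [polar_comm, hav 0, mul_zero, zero_smul, zero_sub] at h3
    have ha0 : a ≠ 0 := by
      rintro rfl
      rw [map_zero] at ha
      exact zero_ne_one ha
    have : (2 : F) • a = 0 := by
      rw [two_smul]
      nth_rewrite 1 [← h3]
      exact neg_add_cancel a
    rw [smul_eq_zero] at this
    rcases this with h | h
    · exact h2 h
    · exact ha0 h
  · intro s s' hs hs' hst hs't hc hc'
    obtain ⟨g, hg⟩ := hs
    obtain ⟨g', hg'⟩ := hs'
    have es : (s : ↥(Cfsg.isometryGroup F ⇑Q)) = tElt Q (act Q g.1 v) (by rw [Q_act]; exact hv) := by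
      rw [hg]
      exact conj_tElt Q g.1 v hv
    have es' : (s' : ↥(Cfsg.isometryGroup F ⇑Q))
        = tElt Q (act Q g'.1 v) (by rw [Q_act]; exact hv) := by
      rw [hg']
      exact conj_tElt Q g'.1 v hv
    set w := act Q g.1 v with hw
    set w' := act Q g'.1 v with hw'
    have hQw : Q w = Q v := Q_act Q _ _
    have hQw' : Q w' = Q v := Q_act Q _ _
    have hw0 : Q w ≠ 0 := by rw [hQw]; exact hv
    have hw'0 : Q w' ≠ 0 := by rw [hQw']; exact hv
    have p1 : polar (⇑Q) v w = 0 := by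
      apply polar_eq_zero_of_tElt_comm Q hQ v w hv hw0
      · have := congrArg Subtype.val hc
        simp only [Subgroup.coe_mul] at this
        rw [es] at this
        exact this
      · intro h
        apply hst
        apply Subtype.ext
        rw [es]
        exact h
    have p2 : polar (⇑Q) v w' = 0 := by
      apply polar_eq_zero_of_tElt_comm Q hQ v w' hv hw'0
      · have := congrArg Subtype.val hc'
        simp only [Subgroup.coe_mul] at this
        rw [es'] at this
        exact this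
      · intro h
        apply hs't
        apply Subtype.ext
        rw [es']
        exact h
    -- Witt
    have hli : ∀ z : ι → F, Q z = Q v → polar (⇑Q) v z = 0 → LinearIndependent F ![v, z] := by
      intro z hz hvz
      rw [LinearIndependent.pair_iff]
      intro a b hab
      have h1 := congrArg (fun x => polar (⇑Q) v x) hab
      have h3 := congrArg (fun x => polar (⇑Q) z x) hab
      simp only [polar_add_right, polar_smul_right, polar_self, hvz, polar_zero_right,
        smul_eq_mul, mul_zero, add_zero, zero_add] at h1 h3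
      rw [polar_comm, hvz] at h3
      simp only [mul_zero, zero_add, hz] at h3
      have e2 : (2 • Q v : F) ≠ 0 := by
        rw [nsmul_eq_mul]
        exact mul_ne_zero (by exact_mod_cast h2) hv
      exact ⟨(mul_eq_zero.1 h1).resolve_right e2, (mul_eq_zero.1 h3).resolve_right e2⟩
    obtain ⟨k, hkΩ, hk⟩ := omega_witt_frame Q hQ (Or.inr (by omega)) 2 ![v, w] ![v, w']
      (hli w hQw p1) (hli w' hQw' p2)
      (by
        intro i
        fin_cases i
        · rfl
        · simp [hQw, hQw'])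
      (by
        intro i j
        fin_cases i <;> fin_cases j
        · rfl
        · simp [p1, p2]
        · simp only [Fin.mk_one, Fin.isValue, Matrix.cons_val_one, Matrix.cons_val_fin_one,
            Fin.zero_eta, Matrix.cons_val_zero]
          rw [polar_comm, p2, polar_comm, p1]
        · simp [polar_self, hQw, hQw'])
      (by
        intro c _
        obtain ⟨a, ha, hav⟩ := exists_perp_norm h2 Q hQ (k := 2) ![v, w'] (by omega) c
        exact ⟨a, ha, hav⟩)
    refine ⟨⟨k, hkΩ⟩, ?_⟩
    apply Subtype.ext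
    simp only [Subgroup.coe_mul, InvMemClass.coe_inv]
    rw [es, es']
    have hkv : act Q k v = v := hk 0
    have hkw : act Q k w = w' := hk 1
    rw [tElt_mul_tElt, tElt_mul_tElt]
    have e3 : k * (reflElt Q w hw0 * reflElt Q v hv) * k⁻¹
        = (k * reflElt Q w hw0 * k⁻¹) * (k * reflElt Q v hv * k⁻¹) := by group
    rw [e3, conj_reflElt, conj_reflElt]
    congr 1
    · exact reflElt_congr' Q _ _ _ _ hkw.symm
    · exact reflElt_congr' Q _ _ _ _ hkv.symm

end Cfsg.Agent.Lib.Helper99.AutO
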