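import Mathlib
import Cfsg.Agent.Lib.Helper99.AutOB

set_option autoImplicit false

/-!
# Eigenspaces of involutions in orthogonal groups of odd characteristic
-/

namespace Cfsg.Agent.Lib.Helper99.AutO

open Matrix Module QuadraticMap
open Cfsg.Agent.Lib.Helper8 Cfsg.Agent.Lib.Helper13 Cfsg.Agent.Lib.Helper37

variable {ι : Type} [Fintype ι] [DecidableEq ι] {F : Type*} [Field F]

/-- the fixed space of an isometry -/
def fixSp (Q : QuadraticForm F (ι → F)) (t : ↥(Cfsg.isometryGroup F ⇑Q)) :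
    Submodule F (ι → F) where
  carrier := {x | act Q t x = x}
  add_mem' := by
    intro a b ha hb
    show act Q t (a + b) = a + b
    rw [act_add, ha, hb]
  zero_mem' := act_zero Q t
  smul_mem' := by
    intro c x hx
    show act Q t (c • x) = c • x
    rw [act_smul, hx]

/-- the `-1`-eigenspace of an isometry -/
def negSp (Q : QuadraticForm F (ι → F)) (t : ↥(Cfsg.isometryGroup F ⇑Q)) :
    Submodule F (ι → F) where
  carrier := {x | act Q t x = -x}
  add_mem' := by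
    intro a b ha hb
    show act Q t (a + b) = -(a + b)
    rw [act_add, ha, hb, neg_add]
  zero_mem' := by
    show act Q t 0 = -0
    rw [act_zero, neg_zero]
  smul_mem' := by
    intro c x hx
    show act Q t (c • x) = -(c • x)
    rw [act_smul, hx, smul_neg]

theorem mem_fixSp (Q : QuadraticForm F (ι → F)) (t : ↥(Cfsg.isometryGroup F ⇑Q)) (x : ι → F) :
    x ∈ fixSp Q t ↔ act Q t x = x := Iff.rfl

theorem mem_negSp (Q : QuadraticForm F (ι → F)) (t : ↥(Cfsg.isometryGroup F ⇑Q)) (x : ι → F) :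
    x ∈ negSp Q t ↔ act Q t x = -x := Iff.rfl

section invol

variable (Q : QuadraticForm F (ι → F)) (t : ↥(Cfsg.isometryGroup F ⇑Q)) (h1 : t * t = 1)
  (h2 : (2 : F) ≠ 0)

include h1 in
theorem act_act_self (x : ι → F) : act Q t (act Q t x) = x := by
  rw [← act_mul, h1, act_one]

/-- projection on the fixed space -/
noncomputable def pp (x : ι → F) : ι → F := (2⁻¹ : F) • (x + act Q t x)

/-- projection on the `-1`-eigenspace -/
noncomputable def pm (x : ι → F) : ι → F := (2⁻¹ : F) • (x - act Q t x)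

include h1 in
theorem pp_mem (x : ι → F) : pp Q t x ∈ fixSp Q t := by
  show act Q t (pp Q t x) = pp Q t x
  unfold pp
  rw [act_smul, act_add, act_act_self Q t h1, add_comm]

include h1 in
theorem pm_mem (x : ι → F) : pm Q t x ∈ negSp Q t := by
  show act Q t (pm Q t x) = -pm Q t x
  unfold pm
  rw [act_smul, act_sub, act_act_self Q t h1, ← smul_neg, neg_sub]

include h2 in
theorem pp_add_pm (x : ι → F) : pp Q t x + pm Q t x = x := by
  unfold pp pm
  rw [← smul_add]
  have : x + act Q t x + (x - act Q t x) = (2 : F) • x := by rw [two_smul]; abel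
  rw [this, smul_smul, inv_mul_cancel₀ h2, one_smul]

include h2 in
theorem polar_fix_neg {x y : ι → F} (hx : x ∈ fixSp Q t) (hy : y ∈ negSp Q t) :
    polar (⇑Q) x y = 0 := by
  have h3 := polar_act Q t x y
  rw [(mem_fixSp Q t x).1 hx, (mem_negSp Q t y).1 hy, polar_neg_right] at h3
  have h4 : (2 : F) * polar (⇑Q) x y = 0 := by linear_combination -h3
  exact (mul_eq_zero.1 h4).resolve_left h2

include h2 in
theorem pp_of_mem_fix {x : ι → F} (hx : x ∈ fixSp Q t) : pp Q t x = x := by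
  unfold pp
  rw [(mem_fixSp Q t x).1 hx, ← two_smul F x, smul_smul, inv_mul_cancel₀ h2, one_smul]

include h2 in
theorem pm_of_mem_neg {x : ι → F} (hx : x ∈ negSp Q t) : pm Q t x = x := by
  unfold pm
  rw [(mem_negSp Q t x).1 hx, sub_neg_eq_add, ← two_smul F x, smul_smul, inv_mul_cancel₀ h2,
    one_smul]

include h1 h2 in
theorem act_eq_pp_sub_pm (x : ι → F) : act Q t x = pp Q t x - pm Q t x := by
  have h3 := (mem_fixSp Q t _).1 (pp_mem Q t h1 x)
  have h4 := (mem_negSp Q t _).1 (pm_mem Q t h1 x)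
  nth_rewrite 1 [← pp_add_pm Q t h2 x]
  rw [act_add, h3, h4, sub_eq_add_neg]

end invol

/-- a subspace on which the polar form is nondegenerate, in elementwise form -/
def SelfND (Q : QuadraticForm F (ι → F)) (X : Submodule F (ι → F)) : Prop :=
  ∀ y ∈ X, y ≠ 0 → ∃ z ∈ X, polar (⇑Q) y z ≠ 0

theorem selfND_fixSp (Q : QuadraticForm F (ι → F)) (hQ : (QuadraticMap.polarBilin Q).Nondegenerate)
    (t : ↥(Cfsg.isometryGroup F ⇑Q)) (h1 : t * t = 1) (h2 : (2 : F) ≠ 0) :
    SelfND Q (fixSp Q t) := by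
  intro y hy hy0
  obtain ⟨z, hz⟩ : ∃ z, polar (⇑Q) y z ≠ 0 := by
    by_contra hcon
    push Not at hcon
    exact hy0 (hQ.1 y hcon)
  refine ⟨pp Q t z, pp_mem Q t h1 z, ?_⟩
  have h3 : polar (⇑Q) y z = polar (⇑Q) y (pp Q t z) + polar (⇑Q) y (pm Q t z) := by
    rw [← polar_add_right, pp_add_pm Q t h2]
  rw [polar_fix_neg Q t h2 hy (pm_mem Q t h1 z), add_zero] at h3
  rw [← h3]
  exact hz

theorem selfND_negSp (Q : QuadraticForm F (ι → F)) (hQ : (QuadraticMap.polarBilin Q).Nondegenerate)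
    (t : ↥(Cfsg.isometryGroup F ⇑Q)) (h1 : t * t = 1) (h2 : (2 : F) ≠ 0) :
    SelfND Q (negSp Q t) := by
  intro y hy hy0
  obtain ⟨z, hz⟩ : ∃ z, polar (⇑Q) y z ≠ 0 := by
    by_contra hcon
    push Not at hcon
    exact hy0 (hQ.1 y hcon)
  refine ⟨pm Q t z, pm_mem Q t h1 z, ?_⟩
  have h3 : polar (⇑Q) y z = polar (⇑Q) y (pp Q t z) + polar (⇑Q) y (pm Q t z) := by
    rw [← polar_add_right, pp_add_pm Q t h2]
  rw [polar_comm (⇑Q) y (pp Q t z), polar_fix_neg Q t h2 (pp_mem Q t h1 z) hy, zero_add] at h3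
  rw [← h3]
  exact hz

/-- a nonzero self-nondegenerate subspace contains a nonsingular vector -/
theorem SelfND.exists_nonsingular {Q : QuadraticForm F (ι → F)} {X : Submodule F (ι → F)}
    (hX : SelfND Q X) (hne : X ≠ ⊥) : ∃ u ∈ X, Q u ≠ 0 := by
  obtain ⟨y, hy, hy0⟩ := Submodule.exists_mem_ne_zero_of_ne_bot hne
  obtain ⟨z, hz, hyz⟩ := hX y hy hy0
  by_cases h1 : Q y = 0
  · by_cases h3 : Q z = 0
    · refine ⟨y + z, X.add_mem hy hz, ?_⟩
      rw [QuadraticMap.map_add Q, h1, h3, zero_add, zero_add]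
      exact hyz
    · exact ⟨z, hz, h3⟩
  · exact ⟨y, hy, h1⟩

theorem mem_inf_ker_iff (Q : QuadraticForm F (ι → F)) (X : Submodule F (ι → F)) (u y : ι → F) :
    y ∈ X ⊓ LinearMap.ker (QuadraticMap.polarBilin Q u) ↔ y ∈ X ∧ polar (⇑Q) u y = 0 := by
  rw [Submodule.mem_inf, LinearMap.mem_ker, QuadraticMap.polarBilin_apply_apply]

/-- splitting off a nonsingular vector -/
theorem sub_smul_mem_inf_ker (h2 : (2 : F) ≠ 0) (Q : QuadraticForm F (ι → F))
    (X : Submodule F (ι → F)) {u y : ι → F} (hu : u ∈ X) (hQu : Q u ≠ 0) (hy : y ∈ X) :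
    y - ((2 * Q u)⁻¹ * polar (⇑Q) u y) • u
      ∈ X ⊓ LinearMap.ker (QuadraticMap.polarBilin Q u) := by
  rw [mem_inf_ker_iff]
  refine ⟨X.sub_mem hy (X.smul_mem _ hu), ?_⟩
  rw [polar_sub_right, polar_smul_right,
    polar_self, smul_eq_mul, nsmul_eq_mul]
  have : (2 * Q u) ≠ 0 := mul_ne_zero h2 hQu
  push_cast
  field_simp
  ring

theorem SelfND.inf_ker (h2 : (2 : F) ≠ 0) {Q : QuadraticForm F (ι → F)} {X : Submodule F (ι → F)}
    (hX : SelfND Q X) {u : ι → F} (hu : u ∈ X) (hQu : Q u ≠ 0) :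
    SelfND Q (X ⊓ LinearMap.ker (QuadraticMap.polarBilin Q u)) := by
  intro y hy hy0
  rw [mem_inf_ker_iff] at hy
  obtain ⟨z, hz, hyz⟩ := hX y hy.1 hy0
  refine ⟨_, sub_smul_mem_inf_ker h2 Q X hu hQu hz, ?_⟩
  have hyu : polar (⇑Q) u y = 0 := hy.2
  rw [polar_sub_right, polar_smul_right, polar_comm (⇑Q) y u, hyu, smul_zero, sub_zero]
  exact hyz

/-- if the complement of `u` in `X` is trivial, `X` is spanned by `u` -/
theorem eq_smul_of_inf_ker_eq_bot (h2 : (2 : F) ≠ 0) (Q : QuadraticForm F (ι → F))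
    (X : Submodule F (ι → F)) {u y : ι → F} (hu : u ∈ X) (hQu : Q u ≠ 0) (hy : y ∈ X)
    (hbot : X ⊓ LinearMap.ker (QuadraticMap.polarBilin Q u) = ⊥) :
    y = ((2 * Q u)⁻¹ * polar (⇑Q) u y) • u := by
  have := sub_smul_mem_inf_ker h2 Q X hu hQu hy
  rw [hbot, Submodule.mem_bot, sub_eq_zero] at this
  exact this

end Cfsg.Agent.Lib.Helper99.AutO
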