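import Mathlib
import Cfsg.Agent.Lib.Helper99.AutOC

set_option autoImplicit false

/-!
# Involutions with small eigenspaces, commuting reflections and traces
-/

namespace Cfsg.Agent.Lib.Helper99.AutO

open Matrix Module QuadraticMap
open Cfsg.Agent.Lib.Helper8 Cfsg.Agent.Lib.Helper13 Cfsg.Agent.Lib.Helper37

variable {ι : Type} [Fintype ι] [DecidableEq ι] {F : Type*} [Field F]

section structure_lemmas

variable (Q : QuadraticForm F (ι → F)) (t : ↥(Cfsg.isometryGroup F ⇑Q)) (h1 : t * t = 1)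
  (h2 : (2 : F) ≠ 0)

include h1 h2 in
theorem polar_fix_eq {x₁ : ι → F} (hx₁ : x₁ ∈ fixSp Q t) (x : ι → F) :
    polar (⇑Q) x₁ x = polar (⇑Q) x₁ (pp Q t x) := by
  nth_rewrite 1 [← pp_add_pm Q t h2 x]
  rw [polar_add_right, polar_fix_neg Q t h2 hx₁ (pm_mem Q t h1 x), add_zero]

include h1 h2 in
theorem polar_neg_eq {u₁ : ι → F} (hu₁ : u₁ ∈ negSp Q t) (x : ι → F) :
    polar (⇑Q) u₁ x = polar (⇑Q) u₁ (pm Q t x) := by
  nth_rewrite 1 [← pp_add_pm Q t h2 x]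
  rw [polar_add_right, polar_comm (⇑Q) u₁ (pp Q t x),
    polar_fix_neg Q t h2 (pp_mem Q t h1 x) hu₁, zero_add]

include h1 h2 in
/-- one-dimensional `-1`-eigenspace: a reflection -/
theorem eq_reflElt_of_negSp {u₁ : ι → F} (hu₁ : u₁ ∈ negSp Q t) (hQu : Q u₁ ≠ 0)
    (hbot : negSp Q t ⊓ LinearMap.ker (QuadraticMap.polarBilin Q u₁) = ⊥) :
    t = reflElt Q u₁ hQu := by
  apply reflElt_ext
  intro x
  rw [act_eq_pp_sub_pm Q t h1 h2, act_refl, polar_neg_eq Q t h1 h2 hu₁]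
  have h3 := eq_smul_of_inf_ker_eq_bot h2 Q (negSp Q t) hu₁ hQu (pm_mem Q t h1 x) hbot
  have hx := pp_add_pm Q t h2 x
  generalize pp Q t x = P at *
  generalize pm Q t x = M at *
  generalize hc : polar (⇑Q) u₁ M = c at *
  have h5 : ((Q u₁)⁻¹ * c) • u₁ = (2 : F) • M := by
    rw [h3, smul_smul]
    congr 1
    have : (2 * Q u₁) ≠ 0 := mul_ne_zero h2 hQu
    field_simp
  rw [h5, ← hx, two_smul]
  abel

include h1 h2 in
/-- trivial fixed space: `-1` -/
theorem eq_negO_of_fixSp (hbot : fixSp Q t = ⊥) : t = negO Q := by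
  apply reflElt_ext
  intro x
  rw [act_eq_pp_sub_pm Q t h1 h2, act_negO]
  have h3 : pp Q t x = 0 := by
    have := pp_mem Q t h1 x
    rwa [hbot, Submodule.mem_bot] at this
  have hx := pp_add_pm Q t h2 x
  generalize pp Q t x = P at *
  generalize pm Q t x = M at *
  rw [← hx, h3]
  abel

include h1 h2 in
/-- one-dimensional fixed space: `-r_v` -/
theorem eq_tElt_of_fixSp {x₁ : ι → F} (hx₁ : x₁ ∈ fixSp Q t) (hQx : Q x₁ ≠ 0)
    (hbot : fixSp Q t ⊓ LinearMap.ker (QuadraticMap.polarBilin Q x₁) = ⊥) :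
    t = tElt Q x₁ hQx := by
  apply reflElt_ext
  intro x
  rw [act_eq_pp_sub_pm Q t h1 h2, act_tElt, polar_fix_eq Q t h1 h2 hx₁]
  have h3 := eq_smul_of_inf_ker_eq_bot h2 Q (fixSp Q t) hx₁ hQx (pp_mem Q t h1 x) hbot
  have hx := pp_add_pm Q t h2 x
  generalize pp Q t x = P at *
  generalize pm Q t x = M at *
  generalize hc : polar (⇑Q) x₁ P = c at *
  have h5 : ((Q x₁)⁻¹ * c) • x₁ = (2 : F) • P := by
    rw [h3, smul_smul]
    congr 1
    have : (2 * Q x₁) ≠ 0 := mul_ne_zero h2 hQx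
    field_simp
  rw [h5, ← hx, two_smul]
  abel

include h1 h2 in
/-- two-dimensional fixed space: `-r_x r_y` -/
theorem eq_negO_mul_of_fixSp {x₁ x₂ : ι → F} (hx₁ : x₁ ∈ fixSp Q t) (hQx₁ : Q x₁ ≠ 0)
    (hx₂ : x₂ ∈ fixSp Q t) (hQx₂ : Q x₂ ≠ 0) (h12 : polar (⇑Q) x₁ x₂ = 0)
    (hbot : fixSp Q t ⊓ LinearMap.ker (QuadraticMap.polarBilin Q x₁)
      ⊓ LinearMap.ker (QuadraticMap.polarBilin Q x₂) = ⊥) :
    t = negO Q * reflElt Q x₁ hQx₁ * reflElt Q x₂ hQx₂ := by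
  apply reflElt_ext
  intro x
  rw [act_eq_pp_sub_pm Q t h1 h2, act_mul, act_mul, act_negO, act_refl, act_refl]
  have hx₂' : x₂ ∈ fixSp Q t ⊓ LinearMap.ker (QuadraticMap.polarBilin Q x₁) := by
    rw [mem_inf_ker_iff]
    exact ⟨hx₂, h12⟩
  have hy := sub_smul_mem_inf_ker h2 Q (fixSp Q t) hx₁ hQx₁ (pp_mem Q t h1 x)
  have h3 := eq_smul_of_inf_ker_eq_bot h2 Q _ hx₂' hQx₂ hy hbot
  rw [polar_sub_right, polar_smul_right, polar_comm (⇑Q) x₂ x₁, h12, smul_zero, sub_zero] at h3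
  rw [polar_sub_right, polar_smul_right, h12, smul_zero, sub_zero,
    polar_fix_eq Q t h1 h2 hx₁, polar_fix_eq Q t h1 h2 hx₂]
  have hx := pp_add_pm Q t h2 x
  clear hy
  generalize pp Q t x = P at *
  generalize pm Q t x = M at *
  generalize hc₁ : polar (⇑Q) x₁ P = c₁ at *
  generalize hc₂ : polar (⇑Q) x₂ P = c₂ at *
  have h4 : P = ((2 * Q x₁)⁻¹ * c₁) • x₁ + ((2 * Q x₂)⁻¹ * c₂) • x₂ := by
    rw [← h3]; abel
  have h5 : ((Q x₁)⁻¹ * c₁) • x₁ = (2 : F) • (((2 * Q x₁)⁻¹ * c₁) • x₁) := by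
    rw [smul_smul]
    congr 1
    have : (2 * Q x₁) ≠ 0 := mul_ne_zero h2 hQx₁
    field_simp
  have h6 : ((Q x₂)⁻¹ * c₂) • x₂ = (2 : F) • (((2 * Q x₂)⁻¹ * c₂) • x₂) := by
    rw [smul_smul]
    congr 1
    have : (2 * Q x₂) ≠ 0 := mul_ne_zero h2 hQx₂
    field_simp
  rw [h5, h6, ← hx]
  generalize ((2 * Q x₁)⁻¹ * c₁) • x₁ = A at *
  generalize ((2 * Q x₂)⁻¹ * c₂) • x₂ = B at *
  subst h4
  rw [two_smul, two_smul]
  abel

end structure_lemmas

/-! ### commuting reflections -/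

theorem reflElt_comm_of_orth (Q : QuadraticForm F (ι → F)) (a b : ι → F) (ha : Q a ≠ 0)
    (hb : Q b ≠ 0) (hab : polar (⇑Q) a b = 0) :
    reflElt Q a ha * reflElt Q b hb = reflElt Q b hb * reflElt Q a ha := by
  have h1 := conj_reflElt Q (reflElt Q a ha) b hb
  have e1 : ((reflElt Q a ha : ↥(Cfsg.isometryGroup F ⇑Q)) : GL ι F).1 *ᵥ b = b := by
    have := act_refl Q a ha b
    rw [hab, mul_zero, zero_smul, sub_zero] at this
    exact this
  rw [reflElt_congr' Q _ b _ hb e1, mul_inv_eq_iff_eq_mul] at h1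
  exact h1

/-- `t r_a t⁻¹ = r_{t a}` in the form `t r_a = r_{t a} t` -/
theorem mul_reflElt (Q : QuadraticForm F (ι → F)) (t : ↥(Cfsg.isometryGroup F ⇑Q)) (a : ι → F)
    (ha : Q a ≠ 0) :
    t * reflElt Q a ha = reflElt Q (act Q t a) (by rw [Q_act]; exact ha) * t := by
  have h1 := conj_reflElt Q t a ha
  have : reflElt Q (act Q t a) (by rw [Q_act]; exact ha) = t * reflElt Q a ha * t⁻¹ := h1.symm
  rw [this]
  group

/-! ### traces -/

/-- the rank one part of a reflection matrix -/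
noncomputable def pMat (Q : QuadraticForm F (ι → F)) (a : ι → F) : Matrix ι ι F :=
  (Q a)⁻¹ • Matrix.vecMulVec a (Cfsg.polarVec (⇑Q) a)

theorem reflectionMatrix_eq (Q : QuadraticForm F (ι → F)) (a : ι → F) :
    Cfsg.reflectionMatrix (⇑Q) a = 1 - pMat Q a := rfl

theorem pMat_mul_pMat (Q : QuadraticForm F (ι → F)) (a b : ι → F) (hab : polar (⇑Q) a b = 0) :
    pMat Q a * pMat Q b = 0 := by
  unfold pMat
  rw [Matrix.smul_mul, Matrix.mul_smul, Matrix.vecMulVec_mul_vecMulVec, polarVec_dotProduct, hab]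
  simp

theorem trace_pMat (Q : QuadraticForm F (ι → F)) (a : ι → F) (ha : Q a ≠ 0) :
    (pMat Q a).trace = 2 := by
  unfold pMat
  rw [Matrix.trace_smul, Matrix.trace_vecMulVec, dotProduct_comm, polarVec_dotProduct, polar_self,
    smul_eq_mul, nsmul_eq_mul]
  push_cast
  field_simp

theorem trace_refl2 (Q : QuadraticForm F (ι → F)) (a b : ι → F) (ha : Q a ≠ 0) (hb : Q b ≠ 0)
    (hab : polar (⇑Q) a b = 0) :
    (Cfsg.reflectionMatrix (⇑Q) a * Cfsg.reflectionMatrix (⇑Q) b).trace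
      = (Fintype.card ι : F) - 4 := by
  rw [reflectionMatrix_eq, reflectionMatrix_eq]
  have : (1 - pMat Q a) * (1 - pMat Q b) = 1 - pMat Q a - pMat Q b + pMat Q a * pMat Q b := by
    noncomm_ring
  rw [this, pMat_mul_pMat Q a b hab, add_zero, Matrix.trace_sub, Matrix.trace_sub,
    Matrix.trace_one, trace_pMat Q a ha, trace_pMat Q b hb]
  ring

theorem trace_refl4 (Q : QuadraticForm F (ι → F)) (a b c d : ι → F) (ha : Q a ≠ 0)
    (hb : Q b ≠ 0) (hc : Q c ≠ 0) (hd : Q d ≠ 0)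
    (hab : polar (⇑Q) a b = 0) (hac : polar (⇑Q) a c = 0) (had : polar (⇑Q) a d = 0)
    (hbc : polar (⇑Q) b c = 0) (hbd : polar (⇑Q) b d = 0) (hcd : polar (⇑Q) c d = 0) :
    (Cfsg.reflectionMatrix (⇑Q) a * Cfsg.reflectionMatrix (⇑Q) b *
      Cfsg.reflectionMatrix (⇑Q) c * Cfsg.reflectionMatrix (⇑Q) d).trace
      = (Fintype.card ι : F) - 8 := by
  rw [reflectionMatrix_eq, reflectionMatrix_eq, reflectionMatrix_eq, reflectionMatrix_eq]
  have e1 : (1 - pMat Q a) * (1 - pMat Q b) = 1 - pMat Q a - pMat Q b := by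
    have : (1 - pMat Q a) * (1 - pMat Q b)
        = 1 - pMat Q a - pMat Q b + pMat Q a * pMat Q b := by noncomm_ring
    rw [this, pMat_mul_pMat Q a b hab, add_zero]
  have e2 : (1 - pMat Q a - pMat Q b) * (1 - pMat Q c)
      = 1 - pMat Q a - pMat Q b - pMat Q c := by
    have : (1 - pMat Q a - pMat Q b) * (1 - pMat Q c)
        = 1 - pMat Q a - pMat Q b - pMat Q c + pMat Q a * pMat Q c + pMat Q b * pMat Q c := by
      noncomm_ring
    rw [this, pMat_mul_pMat Q a c hac, pMat_mul_pMat Q b c hbc, add_zero, add_zero]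
  have e3 : (1 - pMat Q a - pMat Q b - pMat Q c) * (1 - pMat Q d)
      = 1 - pMat Q a - pMat Q b - pMat Q c - pMat Q d := by
    have : (1 - pMat Q a - pMat Q b - pMat Q c) * (1 - pMat Q d)
        = 1 - pMat Q a - pMat Q b - pMat Q c - pMat Q d + pMat Q a * pMat Q d
          + pMat Q b * pMat Q d + pMat Q c * pMat Q d := by
      noncomm_ring
    rw [this, pMat_mul_pMat Q a d had, pMat_mul_pMat Q b d hbd, pMat_mul_pMat Q c d hcd,
      add_zero, add_zero, add_zero]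
  rw [e1, e2, e3, Matrix.trace_sub, Matrix.trace_sub, Matrix.trace_sub, Matrix.trace_sub,
    Matrix.trace_one, trace_pMat Q a ha, trace_pMat Q b hb, trace_pMat Q c hc, trace_pMat Q d hd]
  ring

end Cfsg.Agent.Lib.Helper99.AutO
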