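import Mathlib
import Cfsg.Agent.Lib.Helper99.AutOD

set_option autoImplicit false

/-!
# The group-theoretic property of the involutions `-r_v`, second half
-/

namespace Cfsg.Agent.Lib.Helper99.AutO

open Matrix Module QuadraticMap
open Cfsg.Agent.Lib.Helper8 Cfsg.Agent.Lib.Helper13 Cfsg.Agent.Lib.Helper37

variable {ι : Type} [Fintype ι] [DecidableEq ι] {F : Type*} [Field F]

theorem conj_aux2 {G : Type*} [Group G] (t ra rz rb : G) (h1 : ra * ra = 1)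
    (h3 : t * rz = rz * t) (h4 : t * ra = rb * t) :
    (ra * rz) * t * (ra * rz)⁻¹ = ra * rb * t := by
  have e1 : rz * t * rz⁻¹ = t := by rw [← h3, mul_inv_cancel_right]
  have e2 : ra⁻¹ = ra := inv_eq_of_mul_eq_one_left h1
  calc (ra * rz) * t * (ra * rz)⁻¹ = ra * (rz * t * rz⁻¹) * ra⁻¹ := by group
    _ = ra * (t * ra) := by rw [e1, e2, mul_assoc]
    _ = ra * rb * t := by rw [h4, mul_assoc]

theorem conj_aux4 {G : Type*} [Group G] (t ra1 ra2 rz1 rz2 rb1 rb2 : G) (h1 : ra1 * ra1 = 1)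
    (h2 : ra2 * ra2 = 1)
    (h3 : t * rz1 = rz1 * t) (h3' : t * rz2 = rz2 * t) (h4 : t * ra1 = rb1 * t)
    (h4' : t * ra2 = rb2 * t) :
    (ra1 * ra2 * rz1 * rz2) * t * (ra1 * ra2 * rz1 * rz2)⁻¹ = ra1 * ra2 * rb2 * rb1 * t := by
  have e1 : rz1 * t * rz1⁻¹ = t := by rw [← h3, mul_inv_cancel_right]
  have e1' : rz2 * t * rz2⁻¹ = t := by rw [← h3', mul_inv_cancel_right]
  have e2 : ra1⁻¹ = ra1 := inv_eq_of_mul_eq_one_left h1
  have e2' : ra2⁻¹ = ra2 := inv_eq_of_mul_eq_one_left h2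
  calc (ra1 * ra2 * rz1 * rz2) * t * (ra1 * ra2 * rz1 * rz2)⁻¹
      = ra1 * (ra2 * (rz1 * (rz2 * t * rz2⁻¹) * rz1⁻¹) * ra2⁻¹) * ra1⁻¹ := by group
    _ = ra1 * (ra2 * (t * ra2)) * ra1 := by rw [e1', e1, e2, e2', mul_assoc ra2]
    _ = ra1 * ra2 * rb2 * (t * ra1) := by rw [h4']; simp only [mul_assoc]
    _ = ra1 * ra2 * rb2 * rb1 * t := by rw [h4]; simp only [mul_assoc]

theorem comm_aux2 {G : Type*} [Group G] (t ra rb : G)
    (h4 : t * ra = rb * t) (h5 : t * rb = ra * t) (hc : ra * rb = rb * ra) :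
    Commute t (ra * rb) := by
  show t * (ra * rb) = ra * rb * t
  calc t * (ra * rb) = (t * ra) * rb := by rw [mul_assoc]
    _ = rb * (t * rb) := by rw [h4, mul_assoc]
    _ = ra * rb * t := by rw [h5, ← mul_assoc, ← hc]

theorem refl2_ne_one (h2 : (2 : F) ≠ 0) (Q : QuadraticForm F (ι → F)) (a b : ι → F)
    (ha : Q a ≠ 0) (hb : Q b ≠ 0) (hab : polar (⇑Q) a b = 0) :
    reflElt Q a ha * reflElt Q b hb ≠ 1 := by
  intro h
  have h3 := congrArg (fun g : ↥(Cfsg.isometryGroup F ⇑Q) =>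
    ((g : GL ι F) : Matrix ι ι F).trace) h
  simp only [Subgroup.coe_mul, Units.val_mul, coe_reflElt, OneMemClass.coe_one, Units.val_one,
    Matrix.trace_one] at h3
  rw [trace_refl2 Q a b ha hb hab] at h3
  have : (4 : F) = 0 := by linear_combination -h3
  have h4 : (4 : F) = 2 * 2 := by norm_num
  rw [h4] at this
  exact h2 ((mul_self_eq_zero).1 this)

theorem refl4_ne_one (h2 : (2 : F) ≠ 0) (Q : QuadraticForm F (ι → F)) (a b c d : ι → F)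
    (ha : Q a ≠ 0) (hb : Q b ≠ 0) (hc : Q c ≠ 0) (hd : Q d ≠ 0)
    (hab : polar (⇑Q) a b = 0) (hac : polar (⇑Q) a c = 0) (had : polar (⇑Q) a d = 0)
    (hbc : polar (⇑Q) b c = 0) (hbd : polar (⇑Q) b d = 0) (hcd : polar (⇑Q) c d = 0) :
    reflElt Q a ha * reflElt Q b hb * reflElt Q c hc * reflElt Q d hd ≠ 1 := by
  intro h
  have h3 := congrArg (fun g : ↥(Cfsg.isometryGroup F ⇑Q) =>
    ((g : GL ι F) : Matrix ι ι F).trace) h
  simp only [Subgroup.coe_mul, Units.val_mul, coe_reflElt, OneMemClass.coe_one, Units.val_one,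
    Matrix.trace_one] at h3
  rw [trace_refl4 Q a b c d ha hb hc hd hab hac had hbc hbd hcd] at h3
  have : (8 : F) = 0 := by linear_combination -h3
  have h4 : (8 : F) = 2 * (2 * 2) := by norm_num
  rw [h4] at this
  rcases mul_eq_zero.1 this with h | h
  · exact h2 h
  · exact h2 ((mul_self_eq_zero).1 h)

theorem refl4_not_conj_refl2 (h2 : (2 : F) ≠ 0) (Q : QuadraticForm F (ι → F))
    (a b c d e f : ι → F)
    (ha : Q a ≠ 0) (hb : Q b ≠ 0) (hc : Q c ≠ 0) (hd : Q d ≠ 0) (he : Q e ≠ 0) (hf : Q f ≠ 0)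
    (hab : polar (⇑Q) a b = 0) (hac : polar (⇑Q) a c = 0) (had : polar (⇑Q) a d = 0)
    (hbc : polar (⇑Q) b c = 0) (hbd : polar (⇑Q) b d = 0) (hcd : polar (⇑Q) c d = 0)
    (hef : polar (⇑Q) e f = 0) (k : ↥(Cfsg.isometryGroup F ⇑Q)) :
    reflElt Q a ha * reflElt Q b hb * reflElt Q c hc * reflElt Q d hd
      ≠ k * (reflElt Q e he * reflElt Q f hf) * k⁻¹ := by
  intro h
  have h3 := congrArg (fun g : ↥(Cfsg.isometryGroup F ⇑Q) =>
    ((g : GL ι F) : Matrix ι ι F).trace) h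
  simp only [Subgroup.coe_mul, Units.val_mul, coe_reflElt] at h3
  rw [trace_refl4 Q a b c d ha hb hc hd hab hac had hbc hbd hcd, Matrix.trace_mul_comm,
    ← Matrix.mul_assoc, ← Units.val_mul, ← Subgroup.coe_mul, inv_mul_cancel] at h3
  simp only [OneMemClass.coe_one, Units.val_one, Matrix.one_mul] at h3
  rw [trace_refl2 Q e f he hf hef] at h3
  have : (4 : F) = 0 := by linear_combination -h3
  have h4 : (4 : F) = 2 * 2 := by norm_num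
  rw [h4] at this
  exact h2 ((mul_self_eq_zero).1 this)

/-- the core of the converse: an involution with the given configuration of vectors fails `TProp` -/
theorem not_tprop_core [Fintype F] (h2 : (2 : F) ≠ 0) (Q : QuadraticForm F (ι → F))
    (t : ↥(Cfsg.isometryGroup F ⇑Q)) (ht : t ∈ Cfsg.Omega F ⇑Q) (h1 : t * t = 1)
    (a₁ a₂ b₁ b₂ z₁ z₂ : ι → F)
    (hb₁ : act Q t a₁ = b₁) (hb₂ : act Q t a₂ = b₂) (hz₁ : act Q t z₁ = z₁)
    (hz₂ : act Q t z₂ = z₂)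
    (ha₁ : Q a₁ ≠ 0) (ha₂ : Q a₂ ≠ 0) (hQz₁ : Q z₁ ≠ 0) (hQz₂ : Q z₂ ≠ 0)
    (hsq₁ : IsSquare (Q a₁ * Q z₁)) (hsq₂ : IsSquare (Q a₁ * Q a₂ * Q z₁ * Q z₂))
    (o1 : polar (⇑Q) a₁ b₁ = 0) (o2 : polar (⇑Q) a₂ b₂ = 0) (o3 : polar (⇑Q) a₁ a₂ = 0)
    (o4 : polar (⇑Q) a₁ b₂ = 0) (o5 : polar (⇑Q) b₁ a₂ = 0) :
    ¬ TProp (⟨t, ht⟩ : ↥(Cfsg.Omega F ⇑Q)) := by
  rintro ⟨-, -, h3⟩
  have hQb₁ : Q b₁ ≠ 0 := by rw [← hb₁, Q_act]; exact ha₁
  have hQb₂ : Q b₂ ≠ 0 := by rw [← hb₂, Q_act]; exact ha₂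
  have o6 : polar (⇑Q) b₁ b₂ = 0 := by rw [← hb₁, ← hb₂, polar_act]; exact o3
  have hb₁' : act Q t b₁ = a₁ := by rw [← hb₁, act_act_self Q t h1]
  have hb₂' : act Q t b₂ = a₂ := by rw [← hb₂, act_act_self Q t h1]
  have hg := (refl2_mem_omega_iff h2 Q a₁ z₁ ha₁ hQz₁).2 hsq₁
  have hg' := refl4_mem_omega h2 Q a₁ a₂ z₁ z₂ ha₁ ha₂ hQz₁ hQz₂ hsq₂
  have hne1 := refl2_ne_one h2 Q a₁ b₁ ha₁ hQb₁ o1
  have hne2 := refl4_ne_one h2 Q a₁ a₂ b₂ b₁ ha₁ ha₂ hQb₂ hQb₁ o3 o4 o1 o2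
    (by rw [polar_comm]; exact o5) (by rw [polar_comm]; exact o6)
  have hnc := refl4_not_conj_refl2 h2 Q a₁ a₂ b₂ b₁ a₁ b₁ ha₁ ha₂ hQb₂ hQb₁ ha₁ hQb₁ o3 o4 o1 o2
    (by rw [polar_comm]; exact o5) (by rw [polar_comm]; exact o6) o1
  have iA₁ := Helper8.reflElt_mul_self Q a₁ ha₁
  have iA₂ := Helper8.reflElt_mul_self Q a₂ ha₂
  have tA₁ : t * reflElt Q a₁ ha₁ = reflElt Q b₁ hQb₁ * t := by
    rw [mul_reflElt]
    congr 1
    exact reflElt_congr' Q _ _ _ _ hb₁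
  have tA₂ : t * reflElt Q a₂ ha₂ = reflElt Q b₂ hQb₂ * t := by
    rw [mul_reflElt]
    congr 1
    exact reflElt_congr' Q _ _ _ _ hb₂
  have tB₁ : t * reflElt Q b₁ hQb₁ = reflElt Q a₁ ha₁ * t := by
    rw [mul_reflElt]
    congr 1
    exact reflElt_congr' Q _ _ _ _ hb₁'
  have tB₂ : t * reflElt Q b₂ hQb₂ = reflElt Q a₂ ha₂ * t := by
    rw [mul_reflElt]
    congr 1
    exact reflElt_congr' Q _ _ _ _ hb₂'
  have tZ₁ : t * reflElt Q z₁ hQz₁ = reflElt Q z₁ hQz₁ * t := by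
    rw [mul_reflElt]
    congr 1
    exact reflElt_congr' Q _ _ _ _ hz₁
  have tZ₂ : t * reflElt Q z₂ hQz₂ = reflElt Q z₂ hQz₂ * t := by
    rw [mul_reflElt]
    congr 1
    exact reflElt_congr' Q _ _ _ _ hz₂
  have c1 := reflElt_comm_of_orth Q a₁ b₁ ha₁ hQb₁ o1
  have c2 := reflElt_comm_of_orth Q a₂ b₂ ha₂ hQb₂ o2
  have c3 := reflElt_comm_of_orth Q b₂ b₁ hQb₂ hQb₁ (by rw [polar_comm]; exact o6)
  have c4 := reflElt_comm_of_orth Q a₂ b₁ ha₂ hQb₁ (by rw [polar_comm]; exact o5)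
  have es := conj_aux2 t _ _ _ iA₁ tZ₁ tA₁
  have es' := conj_aux4 t _ _ _ _ _ _ iA₁ iA₂ tZ₁ tZ₂ tA₁ tA₂
  have cm₁ := comm_aux2 t _ _ tA₁ tB₁ c1
  have cm₂ := comm_aux2 t _ _ tA₂ tB₂ c2
  generalize reflElt Q a₁ ha₁ = A₁ at *
  generalize reflElt Q a₂ ha₂ = A₂ at *
  generalize reflElt Q b₁ hQb₁ = B₁ at *
  generalize reflElt Q b₂ hQb₂ = B₂ at *
  generalize reflElt Q z₁ hQz₁ = Z₁ at *
  generalize reflElt Q z₂ hQz₂ = Z₂ at *
  have em : A₁ * A₂ * B₂ * B₁ = (A₁ * B₁) * (A₂ * B₂) := by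
    calc A₁ * A₂ * B₂ * B₁ = A₁ * A₂ * (B₂ * B₁) := by rw [mul_assoc]
      _ = A₁ * (A₂ * B₁) * B₂ := by rw [c3]; simp only [mul_assoc]
      _ = (A₁ * B₁) * (A₂ * B₂) := by rw [c4]; simp only [mul_assoc]
  have cm : Commute t (A₁ * A₂ * B₂ * B₁) := by
    rw [em]
    exact cm₁.mul_right cm₂
  obtain ⟨k, hk⟩ := h3 ((⟨A₁ * Z₁, hg⟩ : ↥(Cfsg.Omega F ⇑Q)) * ⟨t, ht⟩ * ⟨A₁ * Z₁, hg⟩⁻¹)
    ((⟨A₁ * A₂ * Z₁ * Z₂, hg'⟩ : ↥(Cfsg.Omega F ⇑Q)) * ⟨t, ht⟩ * ⟨A₁ * A₂ * Z₁ * Z₂, hg'⟩⁻¹)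
    ⟨_, rfl⟩ ⟨_, rfl⟩
    (by
      intro h
      have := congrArg Subtype.val h
      simp only [Subgroup.coe_mul, InvMemClass.coe_inv] at this
      rw [es] at this
      exact hne1 (mul_eq_right.1 this))
    (by
      intro h
      have := congrArg Subtype.val h
      simp only [Subgroup.coe_mul, InvMemClass.coe_inv] at this
      rw [es'] at this
      exact hne2 (mul_eq_right.1 this))
    (by
      apply Subtype.ext
      simp only [Subgroup.coe_mul, InvMemClass.coe_inv]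
      rw [es]
      exact ((cm₁.symm.mul_left (Commute.refl t))).eq)
    (by
      apply Subtype.ext
      simp only [Subgroup.coe_mul, InvMemClass.coe_inv]
      rw [es']
      exact ((cm.symm.mul_left (Commute.refl t))).eq)
  have hk' := congrArg Subtype.val hk
  simp only [Subgroup.coe_mul, InvMemClass.coe_inv] at hk'
  rw [es, es', mul_assoc _ t t, h1, mul_one, mul_assoc _ t t, h1, mul_one] at hk'
  exact hnc k.1 hk'

end Cfsg.Agent.Lib.Helper99.AutO
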