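import Mathlib
import Cfsg.Agent.Lib.Helper99.AutOE

set_option autoImplicit false

/-!
# The group-theoretic characterisation of the involutions `-r_v` in `Ω`
-/

namespace Cfsg.Agent.Lib.Helper99.AutO

open Matrix Module QuadraticMap
open Cfsg.Agent.Lib.Helper8 Cfsg.Agent.Lib.Helper13 Cfsg.Agent.Lib.Helper37

variable {ι : Type} [Fintype ι] [DecidableEq ι] {F : Type*} [Field F]

theorem Q_sub_of_orth (Q : QuadraticForm F (ι → F)) (x y : ι → F) (h : polar (⇑Q) x y = 0) :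
    Q (x - y) = Q x + Q y := by
  rw [sub_eq_add_neg, QuadraticMap.map_add Q, QuadraticMap.map_neg, polar_neg_right, h, neg_zero,
    add_zero]

section

variable (Q : QuadraticForm F (ι → F)) (t : ↥(Cfsg.isometryGroup F ⇑Q)) (h1 : t * t = 1)
  (h2 : (2 : F) ≠ 0)

include h1 h2 in
theorem eq_one_of_negSp (hbot : negSp Q t = ⊥) : t = 1 := by
  apply reflElt_ext
  intro x
  rw [act_eq_pp_sub_pm Q t h1 h2, act_one]
  have h3 : pm Q t x = 0 := by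
    have := pm_mem Q t h1 x
    rwa [hbot, Submodule.mem_bot] at this
  have hx := pp_add_pm Q t h2 x
  generalize pp Q t x = P at *
  generalize pm Q t x = M at *
  rw [← hx, h3]
  abel

include h1 h2 in
theorem exists_neg_pair (hQ : (QuadraticMap.polarBilin Q).Nondegenerate)
    (hdet : (((t : GL ι F) : Matrix ι ι F)).det = 1) (hne : t ≠ 1) :
    ∃ u₁ ∈ negSp Q t, ∃ u₂ ∈ negSp Q t, Q u₁ ≠ 0 ∧ Q u₂ ≠ 0 ∧ polar (⇑Q) u₁ u₂ = 0 := by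
  have hN := selfND_negSp Q hQ t h1 h2
  have hne1 : negSp Q t ≠ ⊥ := fun h => hne (eq_one_of_negSp Q t h1 h2 h)
  obtain ⟨u₁, hu₁, hQu₁⟩ := hN.exists_nonsingular hne1
  have hN2 := hN.inf_ker h2 hu₁ hQu₁
  have hne2 : negSp Q t ⊓ LinearMap.ker (QuadraticMap.polarBilin Q u₁) ≠ ⊥ := by
    intro h
    have := eq_reflElt_of_negSp Q t h1 h2 hu₁ hQu₁ h
    rw [this, coe_reflElt, reflectionMatrix_det Q u₁ hQu₁] at hdet
    apply h2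
    linear_combination -hdet
  obtain ⟨u₂, hu₂, hQu₂⟩ := hN2.exists_nonsingular hne2
  rw [mem_inf_ker_iff] at hu₂
  exact ⟨u₁, hu₁, u₂, hu₂.1, hQu₁, hQu₂, hu₂.2⟩

include h1 h2 in
theorem exists_fix_triple (hQ : (QuadraticMap.polarBilin Q).Nondegenerate)
    (hodd : Odd (Fintype.card ι))
    (hdet : (((t : GL ι F) : Matrix ι ι F)).det = 1)
    (hnot : ∀ v, ∀ hv : Q v ≠ 0, t ≠ tElt Q v hv) :
    ∃ x₁ ∈ fixSp Q t, ∃ x₂ ∈ fixSp Q t, ∃ x₃ ∈ fixSp Q t, Q x₁ ≠ 0 ∧ Q x₂ ≠ 0 ∧ Q x₃ ≠ 0 ∧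
      polar (⇑Q) x₁ x₂ = 0 ∧ polar (⇑Q) x₁ x₃ = 0 ∧ polar (⇑Q) x₂ x₃ = 0 := by
  have hnegdet : (((negO Q : ↥(Cfsg.isometryGroup F ⇑Q)) : GL ι F) : Matrix ι ι F).det = -1 := by
    have : (((negO Q : ↥(Cfsg.isometryGroup F ⇑Q)) : GL ι F) : Matrix ι ι F) = -1 := rfl
    rw [this, Matrix.det_neg, Matrix.det_one, hodd.neg_one_pow, mul_one]
  have hN := selfND_fixSp Q hQ t h1 h2
  have hne1 : fixSp Q t ≠ ⊥ := by
    intro h
    have := eq_negO_of_fixSp Q t h1 h2 h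
    rw [this, hnegdet] at hdet
    apply h2
    linear_combination -hdet
  obtain ⟨x₁, hx₁, hQx₁⟩ := hN.exists_nonsingular hne1
  have hN2 := hN.inf_ker h2 hx₁ hQx₁
  have hne2 : fixSp Q t ⊓ LinearMap.ker (QuadraticMap.polarBilin Q x₁) ≠ ⊥ := by
    intro h
    exact hnot x₁ hQx₁ (eq_tElt_of_fixSp Q t h1 h2 hx₁ hQx₁ h)
  obtain ⟨x₂, hx₂, hQx₂⟩ := hN2.exists_nonsingular hne2
  have hN3 := hN2.inf_ker h2 hx₂ hQx₂
  rw [mem_inf_ker_iff] at hx₂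
  have hne3 : fixSp Q t ⊓ LinearMap.ker (QuadraticMap.polarBilin Q x₁)
      ⊓ LinearMap.ker (QuadraticMap.polarBilin Q x₂) ≠ ⊥ := by
    intro h
    have := eq_negO_mul_of_fixSp Q t h1 h2 hx₁ hQx₁ hx₂.1 hQx₂ hx₂.2 h
    rw [this, Subgroup.coe_mul, Subgroup.coe_mul, Units.val_mul, Units.val_mul, Matrix.det_mul,
      Matrix.det_mul, hnegdet, coe_reflElt, coe_reflElt, reflectionMatrix_det Q x₁ hQx₁,
      reflectionMatrix_det Q x₂ hQx₂] at hdet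
    apply h2
    linear_combination -hdet
  obtain ⟨x₃, hx₃, hQx₃⟩ := hN3.exists_nonsingular hne3
  rw [mem_inf_ker_iff, mem_inf_ker_iff] at hx₃
  exact ⟨x₁, hx₁, x₂, hx₂.1, x₃, hx₃.1.1, hQx₁, hQx₂, hQx₃, hx₂.2, hx₃.1.2, hx₃.2⟩

end

theorem exists_orth_pair_norms [Fintype F] (h2 : (2 : F) ≠ 0) (Q : QuadraticForm F (ι → F))
    (X : Submodule F (ι → F)) {x₁ x₂ x₃ : ι → F} (hx₁ : x₁ ∈ X) (hx₂ : x₂ ∈ X) (hx₃ : x₃ ∈ X)
    (hQ₁ : Q x₁ ≠ 0) (hQ₂ : Q x₂ ≠ 0) (hQ₃ : Q x₃ ≠ 0) (h12 : polar (⇑Q) x₁ x₂ = 0)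
    (h13 : polar (⇑Q) x₁ x₃ = 0) (h23 : polar (⇑Q) x₂ x₃ = 0) (c₁ c₂ : F) (hc₁ : c₁ ≠ 0) :
    ∃ y₁ ∈ X, ∃ y₂ ∈ X, Q y₁ = c₁ ∧ Q y₂ = c₂ ∧ polar (⇑Q) y₁ y₂ = 0 := by
  obtain ⟨α, β, hαβ⟩ := exists_sq_add_sq_fin h2 (Q x₁) (Q x₂) c₁ hQ₁ hQ₂
  have hQy₁ : Q (α • x₁ + β • x₂) = c₁ := by
    rw [QuadraticMap.map_add Q, QuadraticMap.map_smul, QuadraticMap.map_smul, polar_smul_left,
      polar_smul_right, h12]
    simp only [smul_eq_mul, mul_zero, add_zero]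
    exact hαβ
  have hQw : Q ((-(β * Q x₂)) • x₁ + (α * Q x₁) • x₂) = Q x₁ * Q x₂ * c₁ := by
    rw [QuadraticMap.map_add Q, QuadraticMap.map_smul, QuadraticMap.map_smul, polar_smul_left,
      polar_smul_right, h12]
    simp only [smul_eq_mul, mul_zero, add_zero]
    rw [← hαβ]
    ring
  have hy₁w : polar (⇑Q) (α • x₁ + β • x₂) ((-(β * Q x₂)) • x₁ + (α * Q x₁) • x₂) = 0 := by
    simp only [polar_add_left, polar_add_right, polar_smul_left, polar_smul_right, polar_self, h12,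
      polar_comm (⇑Q) x₂ x₁, smul_eq_mul, nsmul_eq_mul]
    push_cast
    ring
  have hwx₃ : polar (⇑Q) ((-(β * Q x₂)) • x₁ + (α * Q x₁) • x₂) x₃ = 0 := by
    simp only [polar_add_left, polar_smul_left, h13, h23, smul_eq_mul, mul_zero, add_zero]
  have hy₁x₃ : polar (⇑Q) (α • x₁ + β • x₂) x₃ = 0 := by
    simp only [polar_add_left, polar_smul_left, h13, h23, smul_eq_mul, mul_zero, add_zero]
  have hQw0 : Q ((-(β * Q x₂)) • x₁ + (α * Q x₁) • x₂) ≠ 0 := by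
    rw [hQw]
    exact mul_ne_zero (mul_ne_zero hQ₁ hQ₂) hc₁
  have hy₁X : α • x₁ + β • x₂ ∈ X := X.add_mem (X.smul_mem _ hx₁) (X.smul_mem _ hx₂)
  have hwX : (-(β * Q x₂)) • x₁ + (α * Q x₁) • x₂ ∈ X :=
    X.add_mem (X.smul_mem _ hx₁) (X.smul_mem _ hx₂)
  generalize α • x₁ + β • x₂ = y₁ at *
  generalize (-(β * Q x₂)) • x₁ + (α * Q x₁) • x₂ = w at *
  obtain ⟨γ, δ, hγδ⟩ := exists_sq_add_sq_fin h2 (Q w) (Q x₃) c₂ hQw0 hQ₃
  refine ⟨y₁, hy₁X, γ • w + δ • x₃, X.add_mem (X.smul_mem _ hwX) (X.smul_mem _ hx₃), hQy₁, ?_, ?_⟩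
  · rw [QuadraticMap.map_add Q, QuadraticMap.map_smul, QuadraticMap.map_smul, polar_smul_left,
      polar_smul_right, hwx₃]
    simp only [smul_eq_mul, mul_zero, add_zero]
    exact hγδ
  · rw [polar_add_right, polar_smul_right, polar_smul_right, hy₁w, hy₁x₃]
    simp

/-- **The involutions with property `TProp` are the `-r_v`.** -/
theorem exists_eq_tElt_of_tprop [Fintype F] (h2 : (2 : F) ≠ 0) (Q : QuadraticForm F (ι → F))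
    (hQ : (QuadraticMap.polarBilin Q).Nondegenerate) (hodd : Odd (Fintype.card ι))
    (t : ↥(Cfsg.Omega F ⇑Q)) (ht : TProp t) :
    ∃ v, ∃ hv : Q v ≠ 0, (t : ↥(Cfsg.isometryGroup F ⇑Q)) = tElt Q v hv := by
  by_contra hcon
  push Not at hcon
  obtain ⟨t, htΩ⟩ := t
  have h1 : t * t = 1 := congrArg Subtype.val ht.1
  have hne : t ≠ 1 := fun h => ht.2.1 (Subtype.ext h)
  have hdet := det_of_mem_omega h2 Q hQ t htΩ
  obtain ⟨u₁, hu₁, u₂, hu₂, hQu₁, hQu₂, hu12⟩ := exists_neg_pair Q t h1 h2 hQ hdet hne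
  obtain ⟨x₁, hx₁, x₂, hx₂, x₃, hx₃, hQx₁, hQx₂, hQx₃, h12, h13, h23⟩ :=
    exists_fix_triple Q t h1 h2 hQ hodd hdet hcon
  obtain ⟨y₁, hy₁, y₂, hy₂, hQy₁, hQy₂, hy12⟩ := exists_orth_pair_norms h2 Q (fixSp Q t)
    hx₁ hx₂ hx₃ hQx₁ hQx₂ hQx₃ h12 h13 h23 (Q u₁) (Q u₂) hQu₁
  obtain ⟨α₁, β₁, hz₁⟩ := exists_sq_add_sq_fin h2 (Q x₁) (Q x₂) (2 * Q u₁) hQx₁ hQx₂
  obtain ⟨α₂, β₂, hz₂⟩ := exists_sq_add_sq_fin h2 (Q x₁) (Q x₂) (2 * Q u₂) hQx₁ hQx₂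
  have hQz₁ : Q (α₁ • x₁ + β₁ • x₂) = 2 * Q u₁ := by
    rw [QuadraticMap.map_add Q, QuadraticMap.map_smul, QuadraticMap.map_smul, polar_smul_left,
      polar_smul_right, h12]
    simp only [smul_eq_mul, mul_zero, add_zero]
    exact hz₁
  have hQz₂ : Q (α₂ • x₁ + β₂ • x₂) = 2 * Q u₂ := by
    rw [QuadraticMap.map_add Q, QuadraticMap.map_smul, QuadraticMap.map_smul, polar_smul_left,
      polar_smul_right, h12]
    simp only [smul_eq_mul, mul_zero, add_zero]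
    exact hz₂
  have hz₁X : α₁ • x₁ + β₁ • x₂ ∈ fixSp Q t :=
    (fixSp Q t).add_mem ((fixSp Q t).smul_mem _ hx₁) ((fixSp Q t).smul_mem _ hx₂)
  have hz₂X : α₂ • x₁ + β₂ • x₂ ∈ fixSp Q t :=
    (fixSp Q t).add_mem ((fixSp Q t).smul_mem _ hx₁) ((fixSp Q t).smul_mem _ hx₂)
  generalize α₁ • x₁ + β₁ • x₂ = z₁ at *
  generalize α₂ • x₁ + β₂ • x₂ = z₂ at *
  have p11 : polar (⇑Q) u₁ y₁ = 0 := by
    rw [polar_comm]; exact polar_fix_neg Q t h2 hy₁ hu₁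
  have p12 : polar (⇑Q) u₁ y₂ = 0 := by
    rw [polar_comm]; exact polar_fix_neg Q t h2 hy₂ hu₁
  have p21 : polar (⇑Q) u₂ y₁ = 0 := by
    rw [polar_comm]; exact polar_fix_neg Q t h2 hy₁ hu₂
  have p22 : polar (⇑Q) u₂ y₂ = 0 := by
    rw [polar_comm]; exact polar_fix_neg Q t h2 hy₂ hu₂
  have hQa₁ : Q (u₁ - y₁) = 2 * Q u₁ := by rw [Q_sub_of_orth Q _ _ p11, hQy₁]; ring
  have hQa₂ : Q (u₂ - y₂) = 2 * Q u₂ := by rw [Q_sub_of_orth Q _ _ p22, hQy₂]; ring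
  have h2u₁ : 2 * Q u₁ ≠ 0 := mul_ne_zero h2 hQu₁
  have h2u₂ : 2 * Q u₂ ≠ 0 := mul_ne_zero h2 hQu₂
  refine not_tprop_core h2 Q t htΩ h1 (u₁ - y₁) (u₂ - y₂) (-u₁ - y₁) (-u₂ - y₂) z₁ z₂
    ?_ ?_ hz₁X hz₂X ?_ ?_ ?_ ?_ ?_ ?_ ?_ ?_ ?_ ?_ ?_ ht
  · rw [act_sub, (mem_negSp Q t u₁).1 hu₁, (mem_fixSp Q t y₁).1 hy₁]
  · rw [act_sub, (mem_negSp Q t u₂).1 hu₂, (mem_fixSp Q t y₂).1 hy₂]
  · rw [hQa₁]; exact h2u₁
  · rw [hQa₂]; exact h2u₂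
  · rw [hQz₁]; exact h2u₁
  · rw [hQz₂]; exact h2u₂
  · rw [hQa₁, hQz₁]
    exact ⟨_, rfl⟩
  · rw [hQa₁, hQz₁, hQa₂, hQz₂]
    exact ⟨2 * Q u₁ * (2 * Q u₂), by ring⟩
  · simp only [polar_sub_left, polar_sub_right, polar_neg_right, polar_self, p11,
      polar_comm (⇑Q) y₁ u₁, hQy₁, nsmul_eq_mul]
    push_cast
    ring
  · simp only [polar_sub_left, polar_sub_right, polar_neg_right, polar_self, p22,
      polar_comm (⇑Q) y₂ u₂, hQy₂, nsmul_eq_mul]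
    push_cast
    ring
  · simp only [polar_sub_left, polar_sub_right, hu12, p12, polar_comm (⇑Q) y₁ u₂, p21, hy12]
    ring
  · simp only [polar_sub_left, polar_sub_right, polar_neg_right, hu12, p12,
      polar_comm (⇑Q) y₁ u₂, p21, hy12]
    ring
  · simp only [polar_sub_left, polar_sub_right, polar_neg_left, hu12, p12,
      polar_comm (⇑Q) y₁ u₂, p21, hy12]
    ring

/-- the involutions `-r_v` of `Ω` are characterised group-theoretically -/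
theorem tprop_iff [Fintype F] (h2 : (2 : F) ≠ 0) (Q : QuadraticForm F (ι → F))
    (hQ : (QuadraticMap.polarBilin Q).Nondegenerate) (hodd : Odd (Fintype.card ι))
    (hn : 7 ≤ finrank F (ι → F)) (t : ↥(Cfsg.Omega F ⇑Q)) :
    TProp t ↔ ∃ v, ∃ hv : Q v ≠ 0, (t : ↥(Cfsg.isometryGroup F ⇑Q)) = tElt Q v hv := by
  constructor
  · exact exists_eq_tElt_of_tprop h2 Q hQ hodd t
  · rintro ⟨v, hv, hvt⟩
    have hmem : tElt Q v hv ∈ Cfsg.Omega F ⇑Q := by rw [← hvt]; exact t.2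
    have := tprop_tElt h2 Q hQ hn v hv hmem
    have e : t = ⟨tElt Q v hv, hmem⟩ := Subtype.ext hvt
    rw [e]
    exact this

end Cfsg.Agent.Lib.Helper99.AutO
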