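import Mathlib
import Cfsg.Agent.Lib.Helper99.AutOF

set_option autoImplicit false

/-!
# Short root elements: basic computations
-/

namespace Cfsg.Agent.Lib.Helper99.AutO

open Matrix Module QuadraticMap
open Cfsg.Agent.Lib.Helper8 Cfsg.Agent.Lib.Helper13 Cfsg.Agent.Lib.Helper37

variable {ι : Type} [Fintype ι] [DecidableEq ι] {F : Type*} [Field F]

theorem act_eichler (Q : QuadraticForm F (ι → F)) (hQ : (QuadraticMap.polarBilin Q).Nondegenerate)
    (u v : ι → F) (hu : Q u = 0) (huv : polar (⇑Q) u v = 0) (x : ι → F) :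
    act Q (eichlerElt Q hQ u v hu huv) x
      = x + polar (⇑Q) u x • v - polar (⇑Q) v x • u - (Q v * polar (⇑Q) u x) • u :=
  eichlerElt_mulVec Q hQ u v hu huv x

theorem eichlerElt_mem_omega [Fintype F] (h2 : (2 : F) ≠ 0) (Q : QuadraticForm F (ι → F))
    (hQ : (QuadraticMap.polarBilin Q).Nondegenerate) (hn : 5 ≤ finrank F (ι → F))
    (u v : ι → F) (hu : Q u = 0) (huv : polar (⇑Q) u v = 0) :
    eichlerElt Q hQ u v hu huv ∈ Cfsg.Omega F ⇑Q := by
  show eichlerElt Q hQ u v hu huv ∈ commutator ↥(Cfsg.isometryGroup F ⇑Q)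
  rw [omega_eq_closure_longRoot Q hQ hn (fun h => absurd h h2)]
  exact eichlerElt_mem_closure_longRoot Q hQ hn (fun h => absurd h h2) u v hu huv

theorem eichlerElt_pow (Q : QuadraticForm F (ι → F))
    (hQ : (QuadraticMap.polarBilin Q).Nondegenerate)
    (u v : ι → F) (hu : Q u = 0) (huv : polar (⇑Q) u v = 0) (k : ℕ) :
    (eichlerElt Q hQ u v hu huv) ^ k
      = eichlerElt Q hQ u ((k : F) • v) hu (by rw [polar_smul_right, huv, smul_zero]) := by
  induction k with
  | zero =>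
    rw [pow_zero]
    rw [eichlerElt_congr Q hQ u (((0 : ℕ) : F) • v) u 0 hu _ hu (by simp) rfl (by simp)]
    exact (eichlerElt_zero Q hQ u hu).symm
  | succ k ih =>
    rw [pow_succ, ih, eichlerElt_mul]
    apply eichlerElt_congr
    · rfl
    · push_cast
      rw [add_smul, one_smul]

theorem exists_perp_not_perp (Q : QuadraticForm F (ι → F))
    (hQ : (QuadraticMap.polarBilin Q).Nondegenerate) (a c : ι → F) (hc : ∀ μ : F, c ≠ μ • a) :
    ∃ z, polar (⇑Q) a z = 0 ∧ polar (⇑Q) c z ≠ 0 := by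
  by_contra hcon
  push Not at hcon
  have := mem_span_pair_of_orth Q hQ a a c (fun x h1 _ => hcon x h1)
  rw [Set.pair_eq_singleton, Submodule.mem_span_singleton] at this
  obtain ⟨μ, hμ⟩ := this
  exact hc μ hμ.symm

theorem eichlerElt_eq_one_imp (Q : QuadraticForm F (ι → F))
    (hQ : (QuadraticMap.polarBilin Q).Nondegenerate) (a w : ι → F) (ha : Q a = 0)
    (haw : polar (⇑Q) a w = 0) (ha0 : a ≠ 0) (h : eichlerElt Q hQ a w ha haw = 1) :
    ∃ μ : F, w = μ • a := by
  obtain ⟨z, hz⟩ := exists_polar_ne_zero Q hQ a ha0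
  have h3 := congrArg (fun g => act Q g z) h
  simp only [act_eichler, act_one] at h3
  refine ⟨(polar (⇑Q) a z)⁻¹ * (polar (⇑Q) w z + Q w * polar (⇑Q) a z), ?_⟩
  have h4 : polar (⇑Q) a z • w = (polar (⇑Q) w z + Q w * polar (⇑Q) a z) • a := by
    rw [add_smul]
    have h5 := sub_eq_zero.2 h3
    rw [← sub_eq_zero, ← h5]
    abel
  rw [← smul_smul, ← h4, smul_smul, inv_mul_cancel₀ hz, one_smul]

theorem trace_pMat_mul (Q : QuadraticForm F (ι → F)) (a b : ι → F) :
    (pMat Q a * pMat Q b).trace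
      = (Q a)⁻¹ * (Q b)⁻¹ * (polar (⇑Q) a b * polar (⇑Q) a b) := by
  unfold pMat
  rw [Matrix.smul_mul, Matrix.mul_smul, Matrix.vecMulVec_mul_vecMulVec, polarVec_dotProduct,
    Matrix.trace_smul, Matrix.trace_smul, Matrix.trace_vecMulVec, dotProduct_smul,
    dotProduct_comm, polarVec_dotProduct, polar_comm (⇑Q) b a]
  simp only [smul_eq_mul]
  ring

theorem trace_refl_mul (Q : QuadraticForm F (ι → F)) (a b : ι → F) (ha : Q a ≠ 0) (hb : Q b ≠ 0) :
    (Cfsg.reflectionMatrix (⇑Q) a * Cfsg.reflectionMatrix (⇑Q) b).trace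
      = (Fintype.card ι : F) - 4 + (Q a)⁻¹ * (Q b)⁻¹ * (polar (⇑Q) a b * polar (⇑Q) a b) := by
  rw [reflectionMatrix_eq, reflectionMatrix_eq]
  have : (1 - pMat Q a) * (1 - pMat Q b) = 1 - pMat Q a - pMat Q b + pMat Q a * pMat Q b := by
    noncomm_ring
  rw [this, Matrix.trace_add, Matrix.trace_sub, Matrix.trace_sub,
    Matrix.trace_one, trace_pMat Q a ha, trace_pMat Q b hb, trace_pMat_mul]
  ring

theorem trace_eq_card_of_pow_char (X : Matrix ι ι F) (p : ℕ) [Fact p.Prime] [CharP F p]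
    [Nonempty ι] (h : X ^ p = 1) : X.trace = (Fintype.card ι : F) := by
  have h1 : (X - 1) ^ p = 0 := by
    rw [sub_pow_char_of_commute p (Commute.one_right X), h, one_pow, sub_self]
  have h2 : IsNilpotent (X - 1) := ⟨p, h1⟩
  have h3 := Matrix.isNilpotent_trace_of_isNilpotent h2
  have h4 : (X - 1).trace = 0 := h3.eq_zero
  rw [Matrix.trace_sub, Matrix.trace_one, sub_eq_zero] at h4
  exact h4

theorem refl_mul_refl_eq_eichler (Q : QuadraticForm F (ι → F))
    (hQ : (QuadraticMap.polarBilin Q).Nondegenerate) (v a : ι → F) (hv : Q v ≠ 0) (ha : Q a = 0)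
    (hav : polar (⇑Q) a v = 0) (s : F) (hvs : Q (v + s • a) ≠ 0) :
    reflElt Q v hv * reflElt Q (v + s • a) hvs
      = eichlerElt Q hQ a ((s * (Q v)⁻¹) • v) ha (by rw [polar_smul_right, hav, smul_zero]) := by
  apply reflElt_ext
  intro y
  rw [act_mul, act_refl, act_refl, act_eichler]
  have hQvs : Q (v + s • a) = Q v := by
    rw [quad_add_smul, ha, polar_comm, hav]; ring
  rw [hQvs]
  simp only [polar_add_left, polar_add_right, polar_smul_left, polar_smul_right, polar_sub_right,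
    QuadraticMap.map_smul, polar_self, hav, polar_comm (⇑Q) v a, smul_eq_mul, nsmul_eq_mul]
  ext i
  simp only [Pi.add_apply, Pi.sub_apply, Pi.smul_apply, smul_eq_mul]
  push_cast
  field_simp
  ring

end Cfsg.Agent.Lib.Helper99.AutO
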