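import Mathlib
import Cfsg.Agent.Lib.Helper99.AutOG

set_option autoImplicit false

/-!
# Short root elements: the group-theoretic characterisation
-/

namespace Cfsg.Agent.Lib.Helper99.AutO

open Matrix Module QuadraticMap
open Cfsg.Agent.Lib.Helper8 Cfsg.Agent.Lib.Helper13 Cfsg.Agent.Lib.Helper37

variable {ι : Type} [Fintype ι] [DecidableEq ι] {F : Type*} [Field F]

/-- the group-theoretic property characterising (half of) the short root elements -/
def SProp {G : Type*} [Group G] (p : ℕ) (x : G) : Prop :=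
  x ≠ 1 ∧ x ^ p = 1 ∧ ∃ t t' : G, TProp t ∧ TProp t' ∧ x = t * t'

theorem SProp.map {G : Type*} [Group G] (β : G ≃* G) {p : ℕ} {x : G} (h : SProp p x) :
    SProp p (β x) := by
  obtain ⟨h1, h2, t, t', ht, ht', hx⟩ := h
  refine ⟨fun h => h1 (by simpa using h), by rw [← map_pow, h2, map_one], β t, β t', ht.map β,
    ht'.map β, by rw [hx, map_mul]⟩

theorem exists_eichler_of_sprop [Fintype F] (h2 : (2 : F) ≠ 0) (Q : QuadraticForm F (ι → F))
    (hQ : (QuadraticMap.polarBilin Q).Nondegenerate) (hodd : Odd (Fintype.card ι))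
    (x : ↥(Cfsg.Omega F ⇑Q)) (hx : SProp (ringChar F) x) :
    ∃ (a v : ι → F) (ha : Q a = 0) (hav : polar (⇑Q) a v = 0), a ≠ 0 ∧ IsGood Q v ∧
      (x : ↥(Cfsg.isometryGroup F ⇑Q)) = eichlerElt Q hQ a v ha hav := by
  obtain ⟨hx1, hxp, t, t', ht, ht', rfl⟩ := hx
  obtain ⟨v, hv, htv⟩ := exists_eq_tElt_of_tprop h2 Q hQ hodd t ht
  obtain ⟨w, hw, htw⟩ := exists_eq_tElt_of_tprop h2 Q hQ hodd t' ht'
  have hgv : IsGood Q v := ⟨hv, by rw [← htv]; exact t.2⟩
  have hne : Nonempty ι := by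
    rw [← Fintype.card_pos_iff]
    exact hodd.pos
  have : Fact (ringChar F).Prime := ⟨CharP.char_is_prime F (ringChar F)⟩
  have ex : ((t * t' : ↥(Cfsg.Omega F ⇑Q)) : ↥(Cfsg.isometryGroup F ⇑Q))
      = reflElt Q v hv * reflElt Q w hw := by
    rw [Subgroup.coe_mul, htv, htw, tElt_mul_tElt]
  have hne1 : reflElt Q v hv * reflElt Q w hw ≠ 1 := by
    intro h
    apply hx1
    apply Subtype.ext
    rw [ex, h]
    rfl
  have hp1 : (reflElt Q v hv * reflElt Q w hw) ^ (ringChar F) = 1 := by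
    rw [← ex, ← Subgroup.coe_pow, hxp]
    rfl
  have hp2 : (Cfsg.reflectionMatrix (⇑Q) v * Cfsg.reflectionMatrix (⇑Q) w) ^ (ringChar F) = 1 := by
    have := congrArg (fun g : ↥(Cfsg.isometryGroup F ⇑Q) => ((g : GL ι F) : Matrix ι ι F)) hp1
    simpa only [Subgroup.coe_pow, Units.val_pow_eq_pow_val, Subgroup.coe_mul, Units.val_mul,
      coe_reflElt, OneMemClass.coe_one, Units.val_one] using this
  have htr := trace_eq_card_of_pow_char _ (ringChar F) hp2
  rw [trace_refl_mul Q v w hv hw] at htr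
  set b := polar (⇑Q) v w with hb
  have hb2 : b * b = 4 * Q v * Q w := by
    have h4 : (Q v)⁻¹ * (Q w)⁻¹ * (b * b) = 4 := by linear_combination htr
    field_simp at h4
    linear_combination h4
  have h4 : (4 : F) ≠ 0 := by
    have : (4 : F) = 2 * 2 := by norm_num
    rw [this]
    exact mul_ne_zero h2 h2
  have hb0 : b ≠ 0 := by
    intro h0
    rw [h0, mul_zero] at hb2
    exact mul_ne_zero (mul_ne_zero h4 hv) hw hb2.symm
  have h2v : 2 * Q v ≠ 0 := mul_ne_zero h2 hv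
  set l := b * (2 * Q v)⁻¹ with hl
  have hl0 : l ≠ 0 := mul_ne_zero hb0 (inv_ne_zero h2v)
  have hQa : Q (w - l • v) = 0 := by
    rw [sub_eq_add_neg, ← neg_smul, quad_add_smul, polar_comm (⇑Q) w v, ← hb, hl]
    field_simp
    linear_combination -hb2
  have hav : polar (⇑Q) (w - l • v) v = 0 := by
    rw [polar_sub_left, polar_smul_left, polar_comm (⇑Q) w v, ← hb, polar_self, hl, smul_eq_mul,
      nsmul_eq_mul]
    push_cast
    field_simp
    ring
  have hw' : w = l • (v + l⁻¹ • (w - l • v)) := by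
    rw [smul_add, smul_smul, mul_inv_cancel₀ hl0, one_smul]
    abel
  have ha0 : w - l • v ≠ 0 := by
    intro h0
    apply hne1
    have hwv : w = l • v := sub_eq_zero.1 h0
    have hlv : Q (l • v) ≠ 0 := by rw [← hwv]; exact hw
    rw [reflElt_congr' Q w (l • v) hw hlv hwv, reflElt_smul Q v hv l hl0 hlv,
      Helper8.reflElt_mul_self]
  have hQ1 : Q (v + l⁻¹ • (w - l • v)) ≠ 0 := by
    rw [quad_add_smul, hQa, polar_comm, hav]
    simpa using hv
  have hQ2 : Q (l • (v + l⁻¹ • (w - l • v))) ≠ 0 := by rw [← hw']; exact hw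
  refine ⟨w - l • v, (l⁻¹ * (Q v)⁻¹) • v, hQa, by rw [polar_smul_right, hav, smul_zero], ha0,
    hgv.smul h2 Q _ (mul_ne_zero (inv_ne_zero hl0) (inv_ne_zero hv)), ?_⟩
  rw [ex, reflElt_congr' Q w _ hw hQ2 hw', reflElt_smul Q _ hQ1 l hl0 hQ2,
    refl_mul_refl_eq_eichler Q hQ v (w - l • v) hv hQa hav l⁻¹ hQ1]

theorem sprop_of_eichler [Fintype F] (h2 : (2 : F) ≠ 0) (Q : QuadraticForm F (ι → F))
    (hQ : (QuadraticMap.polarBilin Q).Nondegenerate) (hn : 7 ≤ finrank F (ι → F))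
    (x : ↥(Cfsg.Omega F ⇑Q)) (a v : ι → F) (ha : Q a = 0) (hav : polar (⇑Q) a v = 0)
    (ha0 : a ≠ 0) (hv : IsGood Q v)
    (hx : (x : ↥(Cfsg.isometryGroup F ⇑Q)) = eichlerElt Q hQ a v ha hav) :
    SProp (ringChar F) x := by
  obtain ⟨hv0, hvΩ⟩ := hv
  refine ⟨?_, ?_, ?_⟩
  · intro h1
    have h3 : eichlerElt Q hQ a v ha hav = 1 := by rw [← hx, h1]; rfl
    obtain ⟨μ, hμ⟩ := eichlerElt_eq_one_imp Q hQ a v ha hav ha0 h3
    apply hv0
    rw [hμ, QuadraticMap.map_smul, ha, smul_zero]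
  · apply Subtype.ext
    rw [Subgroup.coe_pow, hx, eichlerElt_pow]
    rw [eichlerElt_congr Q hQ a (((ringChar F : ℕ) : F) • v) a 0 ha _ ha (by simp) rfl
      (by rw [CharP.cast_eq_zero, zero_smul])]
    exact eichlerElt_zero Q hQ a ha
  · have hQ1 : Q (v + Q v • a) = Q v := by
      rw [quad_add_smul, ha, polar_comm, hav]; ring
    have hQ1' : Q (v + Q v • a) ≠ 0 := by rw [hQ1]; exact hv0
    have hg2 : IsGood Q (v + Q v • a) := IsGood.of_Q_eq h2 Q ⟨hv0, hvΩ⟩ hQ1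
    obtain ⟨_, hvΩ'⟩ := hg2
    refine ⟨⟨tElt Q v hv0, hvΩ⟩, ⟨tElt Q (v + Q v • a) hQ1', hvΩ'⟩,
      tprop_tElt h2 Q hQ hn v hv0 hvΩ, tprop_tElt h2 Q hQ hn _ hQ1' hvΩ', ?_⟩
    apply Subtype.ext
    rw [Subgroup.coe_mul, hx]
    show _ = tElt Q v hv0 * tElt Q (v + Q v • a) hQ1'
    rw [tElt_mul_tElt, refl_mul_refl_eq_eichler Q hQ v a hv0 ha hav (Q v) hQ1']
    apply eichlerElt_congr
    · rfl
    · rw [mul_inv_cancel₀ hv0, one_smul]

end Cfsg.Agent.Lib.Helper99.AutO
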