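import Mathlib
import Cfsg.Agent.Lib.Helper99.AutOH

set_option autoImplicit false

/-!
# Commuting short root elements
-/

namespace Cfsg.Agent.Lib.Helper99.AutO

open Matrix Module QuadraticMap
open Cfsg.Agent.Lib.Helper8 Cfsg.Agent.Lib.Helper13 Cfsg.Agent.Lib.Helper37

variable {ι : Type} [Fintype ι] [DecidableEq ι] {F : Type*} [Field F]

/-- `g - 1` applied to a vector -/
def nil (Q : QuadraticForm F (ι → F)) (g : ↥(Cfsg.isometryGroup F ⇑Q)) (z : ι → F) : ι → F :=
  act Q g z - z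

theorem nil_add (Q : QuadraticForm F (ι → F)) (g : ↥(Cfsg.isometryGroup F ⇑Q)) (x y : ι → F) :
    nil Q g (x + y) = nil Q g x + nil Q g y := by
  unfold nil
  rw [act_add]
  abel

theorem nil_mul (Q : QuadraticForm F (ι → F)) (g h : ↥(Cfsg.isometryGroup F ⇑Q)) (z : ι → F) :
    nil Q (g * h) z = nil Q g z + nil Q h z + nil Q g (nil Q h z) := by
  unfold nil
  rw [act_mul, act_sub]
  abel

theorem nil_eichler (Q : QuadraticForm F (ι → F)) (hQ : (QuadraticMap.polarBilin Q).Nondegenerate)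
    (a v : ι → F) (ha : Q a = 0) (hav : polar (⇑Q) a v = 0) (z : ι → F) :
    nil Q (eichlerElt Q hQ a v ha hav) z
      = polar (⇑Q) a z • v - (polar (⇑Q) v z + Q v * polar (⇑Q) a z) • a := by
  unfold nil
  rw [act_eichler, add_smul]
  abel

theorem nil_eichler_of_perp (Q : QuadraticForm F (ι → F))
    (hQ : (QuadraticMap.polarBilin Q).Nondegenerate)
    (a v : ι → F) (ha : Q a = 0) (hav : polar (⇑Q) a v = 0) (z : ι → F)
    (h1 : polar (⇑Q) a z = 0) (h2 : polar (⇑Q) v z = 0) :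
    nil Q (eichlerElt Q hQ a v ha hav) z = 0 := by
  rw [nil_eichler, h1, h2]
  simp

theorem nil_nil_eichler (Q : QuadraticForm F (ι → F))
    (hQ : (QuadraticMap.polarBilin Q).Nondegenerate)
    (a v : ι → F) (ha : Q a = 0) (hav : polar (⇑Q) a v = 0) (z : ι → F) :
    nil Q (eichlerElt Q hQ a v ha hav) (nil Q (eichlerElt Q hQ a v ha hav) z)
      = -((2 * Q v * polar (⇑Q) a z) • a) := by
  rw [nil_eichler Q hQ a v ha hav z, nil_eichler]
  have haa : polar (⇑Q) a a = 0 := by rw [polar_self, ha, smul_zero]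
  simp only [polar_sub_right, polar_smul_right, hav, haa, polar_comm (⇑Q) v a, polar_self,
    smul_eq_mul, nsmul_eq_mul, mul_zero, sub_zero, zero_smul, zero_sub]
  push_cast
  congr 2
  ring

/-- the singular point of a short root element is determined by the element -/
theorem eichler_point_of_eq (h2 : (2 : F) ≠ 0) (Q : QuadraticForm F (ι → F))
    (hQ : (QuadraticMap.polarBilin Q).Nondegenerate)
    (a₁ v₁ a₂ v₂ : ι → F) (ha₁ : Q a₁ = 0) (hav₁ : polar (⇑Q) a₁ v₁ = 0)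
    (ha₂ : Q a₂ = 0) (hav₂ : polar (⇑Q) a₂ v₂ = 0) (h0 : a₁ ≠ 0) (hv₁ : Q v₁ ≠ 0)
    (h : eichlerElt Q hQ a₁ v₁ ha₁ hav₁ = eichlerElt Q hQ a₂ v₂ ha₂ hav₂) :
    ∃ μ : F, a₁ = μ • a₂ := by
  obtain ⟨z, hz⟩ := exists_polar_ne_zero Q hQ a₁ h0
  have h3 := nil_nil_eichler Q hQ a₁ v₁ ha₁ hav₁ z
  rw [h, nil_nil_eichler, neg_inj] at h3
  have hc : 2 * Q v₁ * polar (⇑Q) a₁ z ≠ 0 := mul_ne_zero (mul_ne_zero h2 hv₁) hz
  refine ⟨(2 * Q v₁ * polar (⇑Q) a₁ z)⁻¹ * (2 * Q v₂ * polar (⇑Q) a₂ z), ?_⟩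
  rw [← smul_smul, h3, smul_smul, inv_mul_cancel₀ hc, one_smul]

/-- a short root element fixing a singular point up to scalars -/
theorem eichler_fix_point (h2 : (2 : F) ≠ 0) (Q : QuadraticForm F (ι → F))
    (hQ : (QuadraticMap.polarBilin Q).Nondegenerate)
    (a a' v' : ι → F) (ha' : Q a' = 0) (hav' : polar (⇑Q) a' v' = 0) (hv' : Q v' ≠ 0)
    (μ : F) (h : act Q (eichlerElt Q hQ a' v' ha' hav') a = μ • a) :
    polar (⇑Q) a' a = 0 ∧ (polar (⇑Q) v' a = 0 ∨ ∃ ν : F, a' = ν • a) := by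
  rw [act_eichler] at h
  have haa : polar (⇑Q) a' a' = 0 := by rw [polar_self, ha', smul_zero]
  have e1 := congrArg (fun x => polar (⇑Q) a' x) h
  have e2 := congrArg (fun x => polar (⇑Q) v' x) h
  simp only [polar_add_right, polar_sub_right, polar_smul_right, hav', haa, polar_comm (⇑Q) v' a',
    polar_self, smul_eq_mul, nsmul_eq_mul, mul_zero, sub_zero, add_zero] at e1 e2
  push_cast at e2
  have h0 : polar (⇑Q) a' a = 0 := by
    by_contra hne
    have hμ : μ = 1 := by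
      have : polar (⇑Q) a' a * (μ - 1) = 0 := by linear_combination -e1
      rcases mul_eq_zero.1 this with h | h
      · exact absurd h hne
      · linear_combination h
    rw [hμ] at e2
    have : polar (⇑Q) a' a * (2 * Q v') = 0 := by linear_combination e2
    rcases mul_eq_zero.1 this with h | h
    · exact hne h
    · exact mul_ne_zero h2 hv' h
  refine ⟨h0, ?_⟩
  by_cases hb : polar (⇑Q) v' a = 0
  · exact Or.inl hb
  · right
    rw [h0] at h
    simp only [zero_smul, add_zero, mul_zero, sub_zero] at h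
    refine ⟨(polar (⇑Q) v' a)⁻¹ * (1 - μ), ?_⟩
    have h5 : polar (⇑Q) v' a • a' = (1 - μ) • a := by
      rw [sub_smul, one_smul, ← h]
      abel
    rw [← smul_smul, ← h5, smul_smul, inv_mul_cancel₀ hb, one_smul]

theorem conj_eichler_act (Q : QuadraticForm F (ι → F))
    (hQ : (QuadraticMap.polarBilin Q).Nondegenerate) (g : ↥(Cfsg.isometryGroup F ⇑Q))
    (u v : ι → F) (hu : Q u = 0) (huv : polar (⇑Q) u v = 0) :
    g * eichlerElt Q hQ u v hu huv * g⁻¹
      = eichlerElt Q hQ (act Q g u) (act Q g v) (by rw [Q_act]; exact hu)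
          (by rw [polar_act]; exact huv) :=
  conj_eichlerElt Q hQ g u v hu huv

/-- conjugation invariance gives a fixed singular point -/
theorem fix_point_of_conj (h2 : (2 : F) ≠ 0) (Q : QuadraticForm F (ι → F))
    (hQ : (QuadraticMap.polarBilin Q).Nondegenerate) (y : ↥(Cfsg.isometryGroup F ⇑Q))
    (a v : ι → F) (ha : Q a = 0) (hav : polar (⇑Q) a v = 0) (ha0 : a ≠ 0) (hv : Q v ≠ 0)
    (h : y * eichlerElt Q hQ a v ha hav * y⁻¹ = eichlerElt Q hQ a v ha hav) :
    ∃ μ : F, act Q y a = μ • a := by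
  rw [conj_eichler_act] at h
  apply eichler_point_of_eq h2 Q hQ _ _ _ _ _ _ _ _ _ _ h
  · intro h0
    apply ha0
    have := congrArg (act Q y⁻¹) h0
    rwa [act_inv_act, act_zero] at this
  · rw [Q_act]; exact hv

theorem point_of_commute (h2 : (2 : F) ≠ 0) (Q : QuadraticForm F (ι → F))
    (hQ : (QuadraticMap.polarBilin Q).Nondegenerate)
    (a v a' v' a'' v'' : ι → F) (ha : Q a = 0) (hav : polar (⇑Q) a v = 0) (ha' : Q a' = 0)
    (hav' : polar (⇑Q) a' v' = 0) (ha'' : Q a'' = 0) (hav'' : polar (⇑Q) a'' v'' = 0)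
    (ha0 : a ≠ 0) (ha'0 : a' ≠ 0) (hv : Q v ≠ 0) (hv' : Q v' ≠ 0)
    (hc : eichlerElt Q hQ a v ha hav * eichlerElt Q hQ a' v' ha' hav'
      = eichlerElt Q hQ a' v' ha' hav' * eichlerElt Q hQ a v ha hav)
    (hp : eichlerElt Q hQ a v ha hav * eichlerElt Q hQ a' v' ha' hav'
      = eichlerElt Q hQ a'' v'' ha'' hav'') : ∃ μ : F, a' = μ • a := by
  have c1 : eichlerElt Q hQ a' v' ha' hav' * eichlerElt Q hQ a v ha hav
      * (eichlerElt Q hQ a' v' ha' hav')⁻¹ = eichlerElt Q hQ a v ha hav := by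
    rw [← hc]; group
  have c2 : eichlerElt Q hQ a v ha hav * eichlerElt Q hQ a' v' ha' hav'
      * (eichlerElt Q hQ a v ha hav)⁻¹ = eichlerElt Q hQ a' v' ha' hav' := by
    rw [hc]; group
  obtain ⟨μ₁, hμ₁⟩ := fix_point_of_conj h2 Q hQ _ a v ha hav ha0 hv c1
  obtain ⟨μ₂, hμ₂⟩ := fix_point_of_conj h2 Q hQ _ a' v' ha' hav' ha'0 hv' c2
  obtain ⟨p1, q1⟩ := eichler_fix_point h2 Q hQ a a' v' ha' hav' hv' μ₁ hμ₁
  obtain ⟨p1', q2⟩ := eichler_fix_point h2 Q hQ a' a v ha hav hv μ₂ hμ₂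
  rcases q1 with p2 | ⟨ν, hν⟩
  swap
  · exact ⟨ν, hν⟩
  rcases q2 with p3 | ⟨ν, hν⟩
  swap
  · have hν0 : ν ≠ 0 := by
      rintro rfl
      rw [zero_smul] at hν
      exact ha0 hν
    exact ⟨ν⁻¹, by rw [hν, smul_smul, inv_mul_cancel₀ hν0, one_smul]⟩
  -- now `a ⊥ a', v'` and `a' ⊥ v`
  by_cases p4 : polar (⇑Q) v' v = 0
  swap
  · rw [conj_eichler_act] at c1
    have e1 : act Q (eichlerElt Q hQ a' v' ha' hav') a = a := by
      rw [act_eichler, p1, p2]
      simp
    have e2 : act Q (eichlerElt Q hQ a' v' ha' hav') v = v + (-polar (⇑Q) v' v) • a' := by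
      rw [act_eichler, polar_comm (⇑Q) a' v, p3]
      simp only [zero_smul, add_zero, mul_zero, sub_zero, neg_smul]
      abel
    have hpa : polar (⇑Q) a ((-polar (⇑Q) v' v) • a') = 0 := by
      rw [polar_smul_right, p1', smul_zero]
    rw [eichlerElt_congr Q hQ _ _ a (v + (-polar (⇑Q) v' v) • a') _ _ ha
      (by rw [polar_add_right, hav, hpa, add_zero]) e1 e2, ← eichlerElt_mul Q hQ a v _ ha hav hpa,
      mul_eq_left] at c1
    obtain ⟨μ, hμ⟩ := eichlerElt_eq_one_imp Q hQ a _ ha hpa ha0 c1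
    have hne : -polar (⇑Q) v' v ≠ 0 := neg_ne_zero.2 p4
    exact ⟨(-polar (⇑Q) v' v)⁻¹ * μ, by rw [← smul_smul, ← hμ, smul_smul, inv_mul_cancel₀ hne,
      one_smul]⟩
  -- fully orthogonal case
  by_contra hcon
  push Not at hcon
  have hcon' : ∀ μ : F, a ≠ μ • a' := by
    intro μ hμ
    have hμ0 : μ ≠ 0 := by
      rintro rfl
      rw [zero_smul] at hμ
      exact ha0 hμ
    exact hcon μ⁻¹ (by rw [hμ, smul_smul, inv_mul_cancel₀ hμ0, one_smul])
  have key : ∀ z, -((2 * Q v * polar (⇑Q) a z) • a) + -((2 * Q v' * polar (⇑Q) a' z) • a')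
      = -((2 * Q v'' * polar (⇑Q) a'' z) • a'') := by
    intro z
    have k1 : ∀ z, nil Q (eichlerElt Q hQ a v ha hav) (nil Q (eichlerElt Q hQ a' v' ha' hav') z)
        = 0 := by
      intro z
      apply nil_eichler_of_perp
      · rw [nil_eichler, polar_sub_right, polar_smul_right, polar_smul_right, polar_comm (⇑Q) a v',
          p2, p1']
        simp
      · rw [nil_eichler, polar_sub_right, polar_smul_right, polar_smul_right, polar_comm (⇑Q) v v',
          p4, p3]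
        simp
    have k2 : ∀ z, nil Q (eichlerElt Q hQ a' v' ha' hav') (nil Q (eichlerElt Q hQ a v ha hav) z)
        = 0 := by
      intro z
      apply nil_eichler_of_perp
      · rw [nil_eichler, polar_sub_right, polar_smul_right, polar_smul_right, polar_comm (⇑Q) a' v,
          p3, p1]
        simp
      · rw [nil_eichler, polar_sub_right, polar_smul_right, polar_smul_right, p4, p2]
        simp
    have hsum : ∀ w, nil Q (eichlerElt Q hQ a v ha hav * eichlerElt Q hQ a' v' ha' hav') w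
        = nil Q (eichlerElt Q hQ a v ha hav) w + nil Q (eichlerElt Q hQ a' v' ha' hav') w := by
      intro w
      rw [nil_mul, k1, add_zero]
    have k3 := nil_nil_eichler Q hQ a'' v'' ha'' hav'' z
    rw [← hp, hsum z, hsum, nil_add, nil_add, k1, k2, nil_nil_eichler, nil_nil_eichler, add_zero,
      zero_add] at k3
    exact k3
  obtain ⟨z, hz1, hz2⟩ := exists_perp_not_perp Q hQ a' a hcon'
  obtain ⟨z', hz1', hz2'⟩ := exists_perp_not_perp Q hQ a a' hcon
  have k1 := key z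
  have k2 := key z'
  rw [hz1, mul_zero, zero_smul, neg_zero, add_zero, neg_inj] at k1
  rw [hz1', mul_zero, zero_smul, neg_zero, zero_add, neg_inj] at k2
  have hc1 : 2 * Q v * polar (⇑Q) a z ≠ 0 := mul_ne_zero (mul_ne_zero h2 hv) hz2
  have hc2 : 2 * Q v' * polar (⇑Q) a' z' ≠ 0 := mul_ne_zero (mul_ne_zero h2 hv') hz2'
  have hc3 : 2 * Q v'' * polar (⇑Q) a'' z ≠ 0 := by
    intro h0
    rw [h0, zero_smul] at k1
    rcases smul_eq_zero.1 k1 with h | h
    · exact hc1 h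
    · exact ha0 h
  have e1 : a'' = ((2 * Q v'' * polar (⇑Q) a'' z)⁻¹ * (2 * Q v * polar (⇑Q) a z)) • a := by
    rw [← smul_smul, k1, smul_smul, inv_mul_cancel₀ hc3, one_smul]
  have e2 : a' = ((2 * Q v' * polar (⇑Q) a' z')⁻¹ * (2 * Q v'' * polar (⇑Q) a'' z')) • a'' := by
    rw [← smul_smul, ← k2, smul_smul, inv_mul_cancel₀ hc2, one_smul]
  rw [e1, smul_smul] at e2
  exact hcon _ e2

end Cfsg.Agent.Lib.Helper99.AutO
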