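import Cfsg.Agent.Lib.Helper99.OPair5
import Cfsg.Agent.Lib.Helper43.Witt

set_option autoImplicit false

/-!
Stabilizer of an orthogonal decomposition `V = X ⟂ Y` into two nondegenerate subspaces in `Ω`:
basic geometry and rigidity.
-/

namespace Cfsg.Agent.Lib.Helper99

open Matrix Module QuadraticMap
open Cfsg.Agent.Lib.Helper8 Cfsg.Agent.Lib.Helper13 Cfsg.Agent.Lib.Helper37

section npair0

variable {ι : Type} [Fintype ι] [DecidableEq ι] {F : Type*} [Field F]

/-- a nonzero singular vector in any subspace of dimension at least three, finite field -/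
theorem exists_singular_sub [Finite F] (Q : QuadraticForm F (ι → F)) (S : Submodule F (ι → F))
    (hS : 3 ≤ finrank F S) : ∃ s ∈ S, s ≠ 0 ∧ Q s = 0 := by
  have := Fintype.ofFinite F
  by_cases h2 : (2 : F) = 0
  · obtain ⟨w, hw0, hw⟩ := Helper43.exists_singular_even h2 (Q.comp S.subtype) hS
    exact ⟨w, w.2, fun h => hw0 (Subtype.ext h), hw⟩
  · by_cases hnd : ∀ w ∈ S, (∀ w' ∈ S, polar Q w w' = 0) → w = 0
    · obtain ⟨w, hw0, hw⟩ := Helper43.exists_singular_odd h2 (Q.comp S.subtype)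
        (Helper43.nondegenerate_comp_subtype Q S hnd) hS
      exact ⟨w, w.2, fun h => hw0 (Subtype.ext h), hw⟩
    · push Not at hnd
      obtain ⟨w, hwS, hw, hw0⟩ := hnd
      refine ⟨w, hwS, hw0, ?_⟩
      have h1 := hw w hwS
      rw [polar_self, two_nsmul, ← two_mul] at h1
      rcases mul_eq_zero.1 h1 with h | h
      · exact absurd h h2
      · exact h

theorem finrank_le_inf_ker_polar (Q : QuadraticForm F (ι → F)) (S : Submodule F (ι → F))
    (p : ι → F) :
    finrank F S ≤ finrank F ↥(S ⊓ LinearMap.ker (QuadraticMap.polarBilin Q p)) + 1 := by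
  let L : S →ₗ[F] F := (QuadraticMap.polarBilin Q p).comp S.subtype
  have h1 := LinearMap.finrank_range_add_finrank_ker L
  have h2 : finrank F (LinearMap.range L) ≤ 1 := by
    have := Submodule.finrank_le (LinearMap.range L)
    rwa [finrank_self] at this
  have e : (LinearMap.ker L).map S.subtype = S ⊓ LinearMap.ker (QuadraticMap.polarBilin Q p) := by
    ext x
    constructor
    · rintro ⟨y, hy, rfl⟩
      exact ⟨y.2, hy⟩
    · rintro ⟨hx1, hx2⟩
      exact ⟨⟨x, hx1⟩, hx2, rfl⟩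
  have h3 : finrank F (LinearMap.ker L)
      = finrank F ↥(S ⊓ LinearMap.ker (QuadraticMap.polarBilin Q p)) := by
    rw [← Submodule.finrank_map_subtype_eq S (LinearMap.ker L), e]
  omega

/-- a nonzero singular vector of a subspace orthogonal to a list of vectors -/
theorem exists_singular_perp [Finite F] (Q : QuadraticForm F (ι → F)) (ps : List (ι → F)) :
    ∀ S : Submodule F (ι → F), ps.length + 3 ≤ finrank F S →
      ∃ s ∈ S, s ≠ 0 ∧ Q s = 0 ∧ ∀ p ∈ ps, polar ⇑Q p s = 0 := by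
  induction ps with
  | nil =>
    intro S h
    obtain ⟨s, hs, hs0, hQs⟩ := exists_singular_sub Q S (by simpa using h)
    exact ⟨s, hs, hs0, hQs, by simp⟩
  | cons p ps ih =>
    intro S h
    have h1 := finrank_le_inf_ker_polar Q S p
    obtain ⟨s, hs, hs0, hQs, hps⟩ := ih (S ⊓ LinearMap.ker (QuadraticMap.polarBilin Q p)) (by
      simp only [List.length_cons] at h
      omega)
    refine ⟨s, hs.1, hs0, hQs, ?_⟩
    intro p' hp'
    rcases List.mem_cons.1 hp' with rfl | hp'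
    · exact hs.2
    · exact hps p' hp'

/-- a nonzero vector of a subspace orthogonal to a list of vectors -/
theorem exists_ne_zero_perp (Q : QuadraticForm F (ι → F)) (ps : List (ι → F)) :
    ∀ S : Submodule F (ι → F), ps.length + 1 ≤ finrank F S →
      ∃ s ∈ S, s ≠ 0 ∧ ∀ p ∈ ps, polar ⇑Q p s = 0 := by
  induction ps with
  | nil =>
    intro S h
    have hpos : 0 < finrank F S := by
      simp only [List.length_nil] at h
      omega
    have hne : S ≠ ⊥ := by
      intro hb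
      rw [hb, finrank_bot] at hpos
      exact lt_irrefl _ hpos
    obtain ⟨s, hs, hs0⟩ := Submodule.exists_mem_ne_zero_of_ne_bot hne
    exact ⟨s, hs, hs0, by simp⟩
  | cons p ps ih =>
    intro S h
    have h1 := finrank_le_inf_ker_polar Q S p
    obtain ⟨s, hs, hs0, hps⟩ := ih (S ⊓ LinearMap.ker (QuadraticMap.polarBilin Q p)) (by
      simp only [List.length_cons] at h
      omega)
    refine ⟨s, hs.1, hs0, ?_⟩
    intro p' hp'
    rcases List.mem_cons.1 hp' with rfl | hp'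
    · exact hs.2
    · exact hps p' hp'

end npair0

section npair1

variable {ι : Type} [Fintype ι] [DecidableEq ι] {F : Type*} [Field F]

/-- A pair of orthogonal complementary subspaces whose internal Eichler transformations lie in
`M`. -/
structure NPair (Q : QuadraticForm F (ι → F)) (hQ : (QuadraticMap.polarBilin Q).Nondegenerate)
    (M : Subgroup ↥(Cfsg.isometryGroup F ⇑Q)) (X Y : Submodule F (ι → F)) : Prop where
  orth : ∀ x ∈ X, ∀ y ∈ Y, polar ⇑Q x y = 0
  sum : ∀ v, ∃ x ∈ X, ∃ y ∈ Y, x + y = v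
  base : ∀ a ∈ X, ∀ b ∈ X, ∀ (hu : Q a = 0) (hab : polar ⇑Q a b = 0),
    eichlerElt Q hQ a b hu hab ∈ M
  base' : ∀ a ∈ Y, ∀ b ∈ Y, ∀ (hu : Q a = 0) (hab : polar ⇑Q a b = 0),
    eichlerElt Q hQ a b hu hab ∈ M

variable {Q : QuadraticForm F (ι → F)} {hQ : (QuadraticMap.polarBilin Q).Nondegenerate}
variable {M : Subgroup ↥(Cfsg.isometryGroup F ⇑Q)} {X Y X' Y' : Submodule F (ι → F)}

theorem NPair.symm (P : NPair Q hQ M X Y) : NPair Q hQ M Y X where
  orth := fun y hy x hx => by rw [polar_comm]; exact P.orth x hx y hy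
  sum := fun v => by
    obtain ⟨x, hx, y, hy, h⟩ := P.sum v
    exact ⟨y, hy, x, hx, by rw [add_comm]; exact h⟩
  base := P.base'
  base' := P.base

theorem NPair.disjoint (P : NPair Q hQ M X Y) {x : ι → F} (h0 : x ∈ X) (h1 : x ∈ Y) :
    x = 0 := by
  apply hQ.1
  intro v
  obtain ⟨v1, hv1, v2, hv2, rfl⟩ := P.sum v
  show polar ⇑Q x (v1 + v2) = 0
  rw [polar_add_right, P.orth x h0 v2 hv2, polar_comm, P.orth v1 hv1 x h1, add_zero]

theorem NPair.nondeg (P : NPair Q hQ M X Y) {x : ι → F} (h0 : x ∈ X)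
    (h : ∀ x' ∈ X, polar ⇑Q x x' = 0) : x = 0 := by
  apply hQ.1
  intro v
  obtain ⟨v1, hv1, v2, hv2, rfl⟩ := P.sum v
  show polar ⇑Q x (v1 + v2) = 0
  rw [polar_add_right, P.orth x h0 v2 hv2, h v1 hv1, add_zero]

theorem NPair.exists_polar_ne (P : NPair Q hQ M X Y) {x : ι → F} (h0 : x ∈ X) (hx : x ≠ 0) :
    ∃ x' ∈ X, polar ⇑Q x x' ≠ 0 := by
  by_contra hcon
  push Not at hcon
  exact hx (P.nondeg h0 hcon)

theorem NPair.exists_partner (P : NPair Q hQ M X Y) {x : ι → F} (h0 : x ∈ X) (hx : x ≠ 0)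
    (hQx : Q x = 0) : ∃ f ∈ X, Q f = 0 ∧ polar ⇑Q x f = 1 := by
  obtain ⟨g, hg, hxg⟩ := P.exists_polar_ne h0 hx
  set g' : ι → F := (polar ⇑Q x g)⁻¹ • g with hg'
  have hg'X : g' ∈ X := X.smul_mem _ hg
  have h1 : polar ⇑Q x g' = 1 := by
    rw [hg', polar_smul_right, smul_eq_mul, inv_mul_cancel₀ hxg]
  refine ⟨g' + (-(Q g')) • x, X.add_mem hg'X (X.smul_mem _ h0), ?_, ?_⟩
  · have := quad_expand Q g' x x (-(Q g')) 0
    rw [zero_smul, add_zero] at this
    rw [this, hQx, polar_comm ⇑Q g' x, h1]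
    ring
  · rw [polar_add_right, h1, polar_smul_right, polar_self, hQx]
    simp

theorem NPair.exists_dual (P : NPair Q hQ M X Y) (S : Submodule F (ι → F)) (hS : S ≤ X)
    (y : ι → F) (hy : y ∈ X) (hyS : y ∉ S) :
    ∃ b ∈ X, (∀ s ∈ S, polar ⇑Q s b = 0) ∧ polar ⇑Q y b ≠ 0 := by
  obtain ⟨u, hu1, hu2⟩ := exists_orth_of_notMem Q hQ S y hyS
  obtain ⟨u1, hu1X, u2, hu2Y, rfl⟩ := P.sum u
  refine ⟨u1, hu1X, ?_, ?_⟩
  · intro s hs
    have := hu1 s hs
    rw [polar_add_left, polar_comm ⇑Q u2 s, P.orth s (hS hs) u2 hu2Y, add_zero] at this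
    rw [polar_comm]
    exact this
  · rw [polar_add_left, polar_comm ⇑Q u2 y, P.orth y hy u2 hu2Y, add_zero] at hu2
    rw [polar_comm]
    exact hu2

/-- every vector of `X` is a singular vector of `X` plus a combination of a hyperbolic pair -/
theorem NPair.exists_singular_decomp (_P : NPair Q hQ M X Y) {e f : ι → F} (he : e ∈ X)
    (hf : f ∈ X) (hQe : Q e = 0) (hQf : Q f = 0) (hef : polar ⇑Q e f = 1) (x : ι → F)
    (hx : x ∈ X) : ∃ s ∈ X, Q s = 0 ∧ ∃ α β : F, x = s + α • e + β • f := by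
  have hee : polar ⇑Q e e = 0 := by rw [polar_self, hQe, smul_zero]
  have hff : polar ⇑Q f f = 0 := by rw [polar_self, hQf, smul_zero]
  have hfe : polar ⇑Q f e = 1 := by rw [polar_comm]; exact hef
  set z : ι → F := x + (-(polar ⇑Q f x)) • e + (-(polar ⇑Q e x)) • f with hz
  have hzX : z ∈ X := X.add_mem (X.add_mem hx (X.smul_mem _ he)) (X.smul_mem _ hf)
  have hze : polar ⇑Q z e = 0 := by
    rw [hz, polar_add_left, polar_add_left, polar_smul_left, polar_smul_left, hee, hfe,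
      polar_comm ⇑Q x e]
    simp
  have hzf : polar ⇑Q z f = 0 := by
    rw [hz, polar_add_left, polar_add_left, polar_smul_left, polar_smul_left, hef, hff,
      polar_comm ⇑Q x f]
    simp
  refine ⟨z + (-(Q z)) • e + (1 : F) • f,
    X.add_mem (X.add_mem hzX (X.smul_mem _ he)) (X.smul_mem _ hf), ?_,
    polar ⇑Q f x + Q z, polar ⇑Q e x - 1, ?_⟩
  · rw [quad_expand, hQe, hQf, hze, hzf, hef]
    ring
  · rw [hz]
    module

/-- The image of a pair under an element of `M`. -/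
theorem NPair.map (P : NPair Q hQ M X Y) (g : ↥(Cfsg.isometryGroup F ⇑Q)) (hg : g ∈ M) :
    NPair Q hQ M (mapSub Q g X) (mapSub Q g Y) where
  orth := by
    intro y hy z hz
    obtain ⟨a, ha, rfl⟩ := (mem_mapSub Q g X y).1 hy
    obtain ⟨b, hb, rfl⟩ := (mem_mapSub Q g Y z).1 hz
    rw [iso_polar]
    exact P.orth a ha b hb
  sum := fun x => by
    obtain ⟨x1, hx1, x2, hx2, hx⟩ := P.sum
      ((((g⁻¹ : ↥(Cfsg.isometryGroup F ⇑Q)) : Matrix.GeneralLinearGroup ι F) : Matrix ι ι F) *ᵥ x)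
    refine ⟨_, (mem_mapSub Q g X _).2 ⟨x1, hx1, rfl⟩, _, (mem_mapSub Q g Y _).2 ⟨x2, hx2, rfl⟩, ?_⟩
    rw [← Matrix.mulVec_add, hx, coe_inv_mulVec]
  base := by
    intro y hy z hz hu hyz
    obtain ⟨a, ha, rfl⟩ := (mem_mapSub Q g X y).1 hy
    obtain ⟨b, hb, rfl⟩ := (mem_mapSub Q g X z).1 hz
    have hab : polar ⇑Q a b = 0 := by rw [← iso_polar Q g]; exact hyz
    have hQa : Q a = 0 := by rw [← isoElt_preserves Q g]; exact hu
    have h1 := conj_eichlerElt Q hQ g a b hQa hab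
    rw [show eichlerElt Q hQ _ _ hu hyz = _ from h1.symm]
    exact M.mul_mem (M.mul_mem hg (P.base a ha b hb _ hab)) (M.inv_mem hg)
  base' := by
    intro y hy z hz hu hyz
    obtain ⟨a, ha, rfl⟩ := (mem_mapSub Q g Y y).1 hy
    obtain ⟨b, hb, rfl⟩ := (mem_mapSub Q g Y z).1 hz
    have hab : polar ⇑Q a b = 0 := by rw [← iso_polar Q g]; exact hyz
    have hQa : Q a = 0 := by rw [← isoElt_preserves Q g]; exact hu
    have h1 := conj_eichlerElt Q hQ g a b hQa hab
    rw [show eichlerElt Q hQ _ _ hu hyz = _ from h1.symm]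
    exact M.mul_mem (M.mul_mem hg (P.base' a ha b hb _ hab)) (M.inv_mem hg)

theorem finrank_mapSub (g : ↥(Cfsg.isometryGroup F ⇑Q)) (A : Submodule F (ι → F)) :
    finrank F (mapSub Q g A) = finrank F A := by
  unfold mapSub
  apply LinearEquiv.finrank_eq
  exact (Submodule.equivMapOfInjective _ (by
    intro a b hab
    simp only [Matrix.mulVecLin_apply] at hab
    have := congrArg (fun z => (((g⁻¹ : ↥(Cfsg.isometryGroup F ⇑Q)) :
      Matrix.GeneralLinearGroup ι F) : Matrix ι ι F) *ᵥ z) hab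
    simpa only [coe_inv_mulVec'] using this) A).symm

/-- no root group of a totally singular line outside the two parts -/
def NoBadTS (Q : QuadraticForm F (ι → F)) (hQ : (QuadraticMap.polarBilin Q).Nondegenerate)
    (M : Subgroup ↥(Cfsg.isometryGroup F ⇑Q)) (X Y : Submodule F (ι → F)) : Prop :=
  ∀ a v : ι → F, a ≠ 0 → Q a = 0 → Q v = 0 → polar ⇑Q a v = 0 → v ∉ Submodule.span F {a} →
    orootLine Q hQ M a v → (a ∈ X ∧ v ∈ X) ∨ (a ∈ Y ∧ v ∈ Y)

theorem NoBadTS.symm (h : NoBadTS Q hQ M X Y) : NoBadTS Q hQ M Y X :=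
  fun a v h1 h2 h3 h4 h5 h6 => (h a v h1 h2 h3 h4 h5 h6).symm

/-- singular points of the image part lie in one of the two parts -/
theorem NPair.singular_mem_or [Finite F] (_P : NPair Q hQ M X Y) (R : NPair Q hQ M X' Y')
    (hNB : NoBadTS Q hQ M X Y) (hdim : 5 ≤ finrank F X') {s : ι → F} (hs : s ∈ X') (hs0 : s ≠ 0)
    (hQs : Q s = 0) : s ∈ X ∨ s ∈ Y := by
  obtain ⟨f, hf, hQf, hsf⟩ := R.exists_partner hs hs0 hQs
  obtain ⟨v, hv, hv0, hQv, hpv⟩ := exists_singular_perp Q [s, f] X' (by simpa using hdim)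
  have hsv : polar ⇑Q s v = 0 := hpv s (by simp)
  have hfv : polar ⇑Q f v = 0 := hpv f (by simp)
  have hind : v ∉ Submodule.span F {s} := by
    intro h
    obtain ⟨c, rfl⟩ := Submodule.mem_span_singleton.1 h
    rw [polar_smul_right, polar_comm ⇑Q f s, hsf, smul_eq_mul, mul_one] at hfv
    rw [hfv, zero_smul] at hv0
    exact hv0 rfl
  have hR : orootLine Q hQ M s v := fun c hu huv => R.base s hs (c • v) (X'.smul_mem c hv) hu huv
  rcases hNB s v hs0 hQs hQv hsv hind hR with h | h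
  · exact Or.inl h.1
  · exact Or.inr h.1

theorem NPair.le_of_mem [Finite F] (P : NPair Q hQ M X Y) (R : NPair Q hQ M X' Y')
    (hNB : NoBadTS Q hQ M X Y) (hdim : 5 ≤ finrank F X') {e : ι → F} (he : e ∈ X') (he0 : e ≠ 0)
    (hQe : Q e = 0) (heX : e ∈ X) : X' ≤ X := by
  -- orthogonal singular vectors lie in the same part
  have L2 : ∀ s₁ ∈ X', ∀ s₂ ∈ X', s₁ ≠ 0 → s₂ ≠ 0 → Q s₁ = 0 → Q s₂ = 0 → polar ⇑Q s₁ s₂ = 0 →
      s₁ ∈ X → s₂ ∈ Y → False := by
    intro s₁ h1 s₂ h2 h10 h20 hQ1 hQ2 h12 h1X h2Y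
    have hsum0 : s₁ + s₂ ≠ 0 := by
      intro h
      have : s₁ = -s₂ := eq_neg_of_add_eq_zero_left h
      apply h10
      apply P.disjoint h1X
      rw [this]
      exact Y.neg_mem h2Y
    have hQsum : Q (s₁ + s₂) = 0 := by
      rw [QuadraticMap.map_add Q, hQ1, hQ2, h12]
      simp
    rcases P.singular_mem_or R hNB hdim (X'.add_mem h1 h2) hsum0 hQsum with h | h
    · apply h20
      apply P.disjoint _ h2Y
      have : s₂ = (s₁ + s₂) - s₁ := by abel
      rw [this]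
      exact X.sub_mem h h1X
    · apply h10
      apply P.disjoint h1X
      have : s₁ = (s₁ + s₂) - s₂ := by abel
      rw [this]
      exact Y.sub_mem h h2Y
  have L3 : ∀ s₁ ∈ X', ∀ s₂ ∈ X', s₁ ≠ 0 → s₂ ≠ 0 → Q s₁ = 0 → Q s₂ = 0 →
      s₁ ∈ X → s₂ ∈ Y → False := by
    intro s₁ h1 s₂ h2 h10 h20 hQ1 hQ2 h1X h2Y
    by_cases h12 : polar ⇑Q s₁ s₂ = 0
    · exact L2 s₁ h1 s₂ h2 h10 h20 hQ1 hQ2 h12 h1X h2Y
    · obtain ⟨s₃, h3, h30, hQ3, hp3⟩ := exists_singular_perp Q [s₁, s₂] X' (by simpa using hdim)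
      have h13 : polar ⇑Q s₁ s₃ = 0 := hp3 s₁ (by simp)
      have h23 : polar ⇑Q s₂ s₃ = 0 := hp3 s₂ (by simp)
      rcases P.singular_mem_or R hNB hdim h3 h30 hQ3 with h | h
      · exact L2 s₃ h3 s₂ h2 h30 h20 hQ3 hQ2 (by rw [polar_comm]; exact h23) h h2Y
      · exact L2 s₁ h1 s₃ h3 h10 h30 hQ1 hQ3 h13 h1X h
  have hsing : ∀ s ∈ X', Q s = 0 → s ∈ X := by
    intro s hs hQs
    by_cases hs0 : s = 0
    · rw [hs0]; exact X.zero_mem
    · rcases P.singular_mem_or R hNB hdim hs hs0 hQs with h | h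
      · exact h
      · exact (L3 e he s hs he0 hs0 hQe hQs heX h).elim
  obtain ⟨f, hf, hQf, hef⟩ := R.exists_partner he he0 hQe
  intro x hx
  obtain ⟨s, hs, hQs, α, β, rfl⟩ := R.exists_singular_decomp he hf hQe hQf hef x hx
  exact X.add_mem (X.add_mem (hsing s hs hQs) (X.smul_mem _ heX))
    (X.smul_mem _ (hsing f hf hQf))

/-- Rigidity: without bad root groups, the image of a part lies inside one of the parts. -/
theorem NPair.le_or_le [Finite F] (P : NPair Q hQ M X Y) (R : NPair Q hQ M X' Y')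
    (hNB : NoBadTS Q hQ M X Y) (hdim : 5 ≤ finrank F X') : X' ≤ X ∨ X' ≤ Y := by
  obtain ⟨e, he, he0, hQe⟩ := exists_singular_sub Q X' (by omega)
  rcases P.singular_mem_or R hNB hdim he he0 hQe with h | h
  · exact Or.inl (P.le_of_mem R hNB hdim he he0 hQe h)
  · exact Or.inr (P.symm.le_of_mem R hNB.symm hdim he he0 hQe h)

end npair1

end Cfsg.Agent.Lib.Helper99
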