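import Mathlib
import Cfsg.Agent.Lib.Helper99.AutOI
import Cfsg.Agent.Lib.Helper99.NPair1

set_option autoImplicit false

/-!
# The unipotent radicals `Q_a`, group-theoretically
-/

namespace Cfsg.Agent.Lib.Helper99.AutO

open Matrix Module QuadraticMap
open Cfsg.Agent.Lib.Helper8 Cfsg.Agent.Lib.Helper13 Cfsg.Agent.Lib.Helper37

variable {ι : Type} [Fintype ι] [DecidableEq ι] {F : Type*} [Field F]

/-- the subgroup `Q_a` of `Ω` -/
def QSub (Q : QuadraticForm F (ι → F)) (hQ : (QuadraticMap.polarBilin Q).Nondegenerate)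
    (a : ι → F) (ha : Q a = 0) : Subgroup ↥(Cfsg.Omega F ⇑Q) where
  carrier := {g | ∃ w, ∃ hw : polar (⇑Q) a w = 0,
    (g : ↥(Cfsg.isometryGroup F ⇑Q)) = eichlerElt Q hQ a w ha hw}
  mul_mem' := by
    rintro g h ⟨w, hw, hg⟩ ⟨w', hw', hh⟩
    exact ⟨w + w', by rw [polar_add_right, hw, hw', add_zero],
      by rw [Subgroup.coe_mul, hg, hh, eichlerElt_mul]⟩
  one_mem' := ⟨0, by simp, by rw [eichlerElt_zero]; rfl⟩
  inv_mem' := by
    rintro g ⟨w, hw, hg⟩
    exact ⟨-w, by rw [polar_neg_right, hw, neg_zero],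
      by rw [InvMemClass.coe_inv, hg, eichlerElt_inv]⟩

theorem mem_QSub (Q : QuadraticForm F (ι → F)) (hQ : (QuadraticMap.polarBilin Q).Nondegenerate)
    (a : ι → F) (ha : Q a = 0) (g : ↥(Cfsg.Omega F ⇑Q)) :
    g ∈ QSub Q hQ a ha ↔ ∃ w, ∃ hw : polar (⇑Q) a w = 0,
      (g : ↥(Cfsg.isometryGroup F ⇑Q)) = eichlerElt Q hQ a w ha hw := Iff.rfl

/-- the set of short root elements "collinear" with `x` -/
def ASet {G : Type*} [Group G] (p : ℕ) (x : G) : Set G :=
  {y | SProp p y ∧ x * y = y * x ∧ SProp p (x * y)}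

/-- the group generated by `ASet` -/
def Rad {G : Type*} [Group G] (p : ℕ) (x : G) : Subgroup G := Subgroup.closure (ASet p x)

theorem ASet_map {G : Type*} [Group G] (β : G ≃* G) (p : ℕ) (x : G) :
    β '' (ASet p x) = ASet p (β x) := by
  ext y
  constructor
  · rintro ⟨z, ⟨h1, h2, h3⟩, rfl⟩
    refine ⟨h1.map β, by rw [← map_mul, h2, map_mul], ?_⟩
    rw [← map_mul]
    exact h3.map β
  · rintro ⟨h1, h2, h3⟩
    refine ⟨β.symm y, ⟨?_, ?_, ?_⟩, by simp⟩
    · exact h1.map β.symm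
    · apply β.injective
      simp only [map_mul, MulEquiv.apply_symm_apply]
      exact h2
    · have := h3.map β.symm
      simpa using this

theorem Rad_map {G : Type*} [Group G] (β : G ≃* G) (p : ℕ) (x : G) :
    (Rad p x).map β.toMonoidHom = Rad p (β x) := by
  unfold Rad
  rw [MonoidHom.map_closure]
  congr 1
  exact ASet_map β p x

theorem rad_le [Fintype F] (h2 : (2 : F) ≠ 0) (Q : QuadraticForm F (ι → F))
    (hQ : (QuadraticMap.polarBilin Q).Nondegenerate) (hodd : Odd (Fintype.card ι))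
    (x : ↥(Cfsg.Omega F ⇑Q)) (a v : ι → F) (ha : Q a = 0) (hav : polar (⇑Q) a v = 0)
    (ha0 : a ≠ 0) (hv : IsGood Q v)
    (hx : (x : ↥(Cfsg.isometryGroup F ⇑Q)) = eichlerElt Q hQ a v ha hav) :
    Rad (ringChar F) x ≤ QSub Q hQ a ha := by
  unfold Rad
  rw [Subgroup.closure_le]
  rintro y ⟨hy1, hy2, hy3⟩
  obtain ⟨a', v', ha', hav', ha'0, hv', hy⟩ := exists_eichler_of_sprop h2 Q hQ hodd y hy1
  obtain ⟨a'', v'', ha'', hav'', -, -, hxy⟩ := exists_eichler_of_sprop h2 Q hQ hodd (x * y) hy3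
  have hc := congrArg Subtype.val hy2
  simp only [Subgroup.coe_mul] at hc hxy
  rw [hx, hy] at hc hxy
  obtain ⟨μ, hμ⟩ := point_of_commute h2 Q hQ a v a' v' a'' v'' ha hav ha' hav' ha'' hav'' ha0 ha'0
    hv.1 hv'.1 hc hxy
  have hμ0 : μ ≠ 0 := by
    rintro rfl
    rw [zero_smul] at hμ
    exact ha'0 hμ
  have hav'' : polar (⇑Q) a v' = 0 := by
    have := hav'
    rw [hμ, polar_smul_left, smul_eq_mul] at this
    exact (mul_eq_zero.1 this).resolve_left hμ0
  refine ⟨μ • v', by rw [polar_smul_right, hav'', smul_zero], ?_⟩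
  rw [hy, ← eichlerElt_smul_left Q hQ a v' ha hav'' μ]
  exact eichlerElt_congr Q hQ _ _ _ _ _ _ _ _ hμ rfl

end Cfsg.Agent.Lib.Helper99.AutO
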