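import Mathlib
import Cfsg.Agent.Lib.Helper99.AutOJ

set_option autoImplicit false

/-!
# The unipotent radicals `Q_a`, group-theoretically: the second inclusion
-/

namespace Cfsg.Agent.Lib.Helper99.AutO

open Matrix Module QuadraticMap
open Cfsg.Agent.Lib.Helper8 Cfsg.Agent.Lib.Helper13 Cfsg.Agent.Lib.Helper37

variable {ι : Type} [Fintype ι] [DecidableEq ι] {F : Type*} [Field F]

theorem exists_singular_not_perp [Fintype F] (h2 : (2 : F) ≠ 0) (Q : QuadraticForm F (ι → F))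
    (hQ : (QuadraticMap.polarBilin Q).Nondegenerate) (hn : 7 ≤ finrank F (ι → F))
    (a v w : ι → F) (ha0 : a ≠ 0) (hv : Q v ≠ 0) (hav : polar (⇑Q) a v = 0)
    (haw : polar (⇑Q) a w = 0) (hvw : polar (⇑Q) v w = 0) (hw : Q w ≠ 0) :
    ∃ c, Q c = 0 ∧ polar (⇑Q) a c = 0 ∧ polar (⇑Q) v c = 0 ∧ polar (⇑Q) c w ≠ 0 := by
  obtain ⟨z₀, hz₀⟩ := exists_polar_ne_zero Q hQ a ha0
  obtain ⟨c₁, -, hc₁0, hQc₁, hc₁⟩ := exists_singular_perp Q [a, v, w, z₀] ⊤ (by
    rw [finrank_top]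
    simpa using hn)
  have hac : polar (⇑Q) a c₁ = 0 := hc₁ a (by simp)
  have hvc : polar (⇑Q) v c₁ = 0 := hc₁ v (by simp)
  have hwc : polar (⇑Q) w c₁ = 0 := hc₁ w (by simp)
  have hzc : polar (⇑Q) z₀ c₁ = 0 := hc₁ z₀ (by simp)
  obtain ⟨d, had, hvd, hcd⟩ : ∃ d, polar (⇑Q) a d = 0 ∧ polar (⇑Q) v d = 0 ∧
      polar (⇑Q) c₁ d ≠ 0 := by
    by_contra hcon
    push Not at hcon
    have hspan := mem_span_pair_of_orth Q hQ a v c₁ hcon
    rw [Submodule.mem_span_pair] at hspan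
    obtain ⟨α, β, hαβ⟩ := hspan
    have e1 := hvc
    rw [← hαβ, polar_add_right, polar_smul_right, polar_smul_right, polar_comm (⇑Q) v a, hav,
      polar_self, smul_eq_mul, smul_eq_mul, nsmul_eq_mul, mul_zero, zero_add] at e1
    push_cast at e1
    have hβ : β = 0 := by
      rcases mul_eq_zero.1 e1 with h | h
      · exact h
      · exact absurd h (mul_ne_zero h2 hv)
    have e2 := hzc
    rw [← hαβ, hβ, zero_smul, add_zero, polar_smul_right, polar_comm (⇑Q) z₀ a, smul_eq_mul] at e2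
    have hα : α = 0 := (mul_eq_zero.1 e2).resolve_right hz₀
    apply hc₁0
    rw [← hαβ, hα, hβ, zero_smul, zero_smul, add_zero]
  -- adjust `d` so that it is not orthogonal to `w`
  obtain ⟨d₁, had₁, hvd₁, hcd₁, hdw⟩ : ∃ d₁, polar (⇑Q) a d₁ = 0 ∧ polar (⇑Q) v d₁ = 0 ∧
      polar (⇑Q) c₁ d₁ ≠ 0 ∧ polar (⇑Q) d₁ w ≠ 0 := by
    by_cases hdw : polar (⇑Q) d w = 0
    · refine ⟨d + w, by rw [polar_add_right, had, haw, add_zero],
        by rw [polar_add_right, hvd, hvw, add_zero], ?_, ?_⟩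
      · rw [polar_add_right, polar_comm (⇑Q) c₁ w, hwc, add_zero]
        exact hcd
      · rw [polar_add_left, hdw, zero_add, polar_self, nsmul_eq_mul]
        push_cast
        exact mul_ne_zero h2 hw
    · exact ⟨d, had, hvd, hcd, hdw⟩
  refine ⟨d₁ + (-(Q d₁) * (polar (⇑Q) c₁ d₁)⁻¹) • c₁, ?_, ?_, ?_, ?_⟩
  · rw [quad_add_smul, hQc₁, polar_comm (⇑Q) d₁ c₁]
    field_simp
    ring
  · rw [polar_add_right, polar_smul_right, had₁, hac]
    simp
  · rw [polar_add_right, polar_smul_right, hvd₁, hvc]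
    simp
  · rw [polar_add_left, polar_smul_left, polar_comm (⇑Q) c₁ w, hwc, smul_zero, add_zero]
    exact hdw

/-- vectors orthogonal to `a, v` are sums of two singular such vectors -/
theorem exists_two_singular [Fintype F] (h2 : (2 : F) ≠ 0) (Q : QuadraticForm F (ι → F))
    (hQ : (QuadraticMap.polarBilin Q).Nondegenerate) (hn : 7 ≤ finrank F (ι → F))
    (a v w : ι → F) (ha0 : a ≠ 0) (hv : Q v ≠ 0) (hav : polar (⇑Q) a v = 0)
    (haw : polar (⇑Q) a w = 0) (hvw : polar (⇑Q) v w = 0) :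
    ∃ c₁ c₂, Q c₁ = 0 ∧ Q c₂ = 0 ∧ polar (⇑Q) a c₁ = 0 ∧ polar (⇑Q) a c₂ = 0 ∧
      polar (⇑Q) v c₁ = 0 ∧ polar (⇑Q) v c₂ = 0 ∧ w = c₁ + c₂ := by
  by_cases hw : Q w = 0
  · exact ⟨w, 0, hw, map_zero Q, haw, by simp, hvw, by simp, by simp⟩
  · obtain ⟨c, hQc, hac, hvc, hcw⟩ := exists_singular_not_perp h2 Q hQ hn a v w ha0 hv hav haw hvw hw
    refine ⟨w + (-(Q w) * (polar (⇑Q) c w)⁻¹) • c, (Q w * (polar (⇑Q) c w)⁻¹) • c, ?_, ?_, ?_, ?_,
      ?_, ?_, ?_⟩
    · rw [quad_add_smul, hQc, polar_comm (⇑Q) w c]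
      field_simp
      ring
    · rw [QuadraticMap.map_smul, hQc, smul_zero]
    · rw [polar_add_right, polar_smul_right, haw, hac]
      simp
    · rw [polar_smul_right, hac, smul_zero]
    · rw [polar_add_right, polar_smul_right, hvw, hvc]
      simp
    · rw [polar_smul_right, hvc, smul_zero]
    · rw [add_assoc, ← add_smul]
      simp

theorem le_rad [Fintype F] (h2 : (2 : F) ≠ 0) (Q : QuadraticForm F (ι → F))
    (hQ : (QuadraticMap.polarBilin Q).Nondegenerate) (hn : 7 ≤ finrank F (ι → F))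
    (x : ↥(Cfsg.Omega F ⇑Q)) (a v : ι → F) (ha : Q a = 0) (hav : polar (⇑Q) a v = 0)
    (ha0 : a ≠ 0) (hv : IsGood Q v)
    (hx : (x : ↥(Cfsg.isometryGroup F ⇑Q)) = eichlerElt Q hQ a v ha hav) :
    QSub Q hQ a ha ≤ Rad (ringChar F) x := by
  have hn5 : 5 ≤ finrank F (ι → F) := by omega
  have hv0 : Q v ≠ 0 := hv.1
  have h4 : (4 : F) ≠ 0 := by
    have : (4 : F) = 2 * 2 := by norm_num
    rw [this]
    exact mul_ne_zero h2 h2
  let W : (ι → F) → Prop := fun w => ∃ g ∈ Rad (ringChar F) x, ∃ hw : polar (⇑Q) a w = 0,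
    (g : ↥(Cfsg.isometryGroup F ⇑Q)) = eichlerElt Q hQ a w ha hw
  have W_add : ∀ w w', W w → W w' → W (w + w') := by
    rintro w w' ⟨g, hg, hw, e⟩ ⟨g', hg', hw', e'⟩
    exact ⟨g * g', Subgroup.mul_mem _ hg hg', by rw [polar_add_right, hw, hw', add_zero],
      by rw [Subgroup.coe_mul, e, e', eichlerElt_mul]⟩
  have W_neg : ∀ w, W w → W (-w) := by
    rintro w ⟨g, hg, hw, e⟩
    exact ⟨g⁻¹, Subgroup.inv_mem _ hg, by rw [polar_neg_right, hw, neg_zero],
      by rw [InvMemClass.coe_inv, e, eichlerElt_inv]⟩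
  have W_zero : W 0 := ⟨1, Subgroup.one_mem _, by simp, by rw [eichlerElt_zero]; rfl⟩
  have m1 : ∀ w (hw : polar (⇑Q) a w = 0), IsGood Q w → IsGood Q (v + w) → W w := by
    intro w hw hgw hgvw
    refine ⟨⟨eichlerElt Q hQ a w ha hw, eichlerElt_mem_omega h2 Q hQ hn5 a w ha hw⟩,
      Subgroup.subset_closure ⟨?_, ?_, ?_⟩, hw, rfl⟩
    · exact sprop_of_eichler h2 Q hQ hn _ a w ha hw ha0 hgw rfl
    · apply Subtype.ext
      rw [Subgroup.coe_mul, Subgroup.coe_mul, hx]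
      exact eichlerElt_comm Q hQ a v w ha hav hw
    · apply sprop_of_eichler h2 Q hQ hn _ a (v + w) ha
        (by rw [polar_add_right, hav, hw, add_zero]) ha0 hgvw
      rw [Subgroup.coe_mul, hx, eichlerElt_mul]
  have m3 : ∀ u, Q u = 0 → polar (⇑Q) a u = 0 → polar (⇑Q) v u = 0 → W (v + u) := by
    intro u hu hau hvu
    have e1 : Q (v + u) = Q v := by
      rw [QuadraticMap.map_add Q, hu, hvu, add_zero, add_zero]
    apply m1 (v + u) (by rw [polar_add_right, hav, hau, add_zero]) (hv.of_Q_eq h2 Q e1)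
    have e2 : Q (v + (v + u)) = 4 * Q v := by
      rw [QuadraticMap.map_add Q, e1, polar_add_right, hvu, polar_self, nsmul_eq_mul]
      push_cast
      ring
    rw [isGood_iff_of_isGood h2 Q hv _ (by rw [e2]; exact mul_ne_zero h4 hv0), e2]
    exact ⟨2 * Q v, by ring⟩
  have Wv : W v := by
    have := m3 0 (map_zero Q) (by simp) (by simp)
    rwa [add_zero] at this
  have Wu : ∀ u, Q u = 0 → polar (⇑Q) a u = 0 → polar (⇑Q) v u = 0 → W u := by
    intro u hu hau hvu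
    have := W_add _ _ (m3 u hu hau hvu) (W_neg _ Wv)
    rwa [add_comm v u, add_neg_cancel_right] at this
  have Ws : ∀ s : F, W (s • v) := by
    intro s
    by_cases hs0 : s = 0
    · rw [hs0, zero_smul]
      exact W_zero
    by_cases hs1 : s = -1
    · rw [hs1, neg_smul, one_smul]
      exact W_neg _ Wv
    apply m1 (s • v) (by rw [polar_smul_right, hav, smul_zero]) (hv.smul h2 Q s hs0)
    have e : v + s • v = (1 + s) • v := by rw [add_smul, one_smul]
    rw [e]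
    apply hv.smul h2 Q
    intro h0
    apply hs1
    linear_combination h0
  rintro g ⟨w, hw, hg⟩
  have h2v : 2 * Q v ≠ 0 := mul_ne_zero h2 hv0
  obtain ⟨c₁, c₂, hQ1, hQ2, ha1, ha2, hv1, hv2, hsum⟩ := exists_two_singular h2 Q hQ hn a v
    (w - (polar (⇑Q) v w * (2 * Q v)⁻¹) • v) ha0 hv0 hav
    (by rw [polar_sub_right, polar_smul_right, hw, hav]; simp)
    (by
      rw [polar_sub_right, polar_smul_right, polar_self, smul_eq_mul, nsmul_eq_mul]
      push_cast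
      field_simp
      ring)
  have hWw : W w := by
    have := W_add _ _ (Ws (polar (⇑Q) v w * (2 * Q v)⁻¹)) (W_add _ _ (Wu c₁ hQ1 ha1 hv1)
      (Wu c₂ hQ2 ha2 hv2))
    rwa [← hsum, add_sub_cancel] at this
  obtain ⟨g', hg', hw', e⟩ := hWw
  have : g = g' := by
    apply Subtype.ext
    rw [hg, e]
  rw [this]
  exact hg'

/-- **The radical of a short root element is `Q_a`.** -/
theorem rad_eq [Fintype F] (h2 : (2 : F) ≠ 0) (Q : QuadraticForm F (ι → F))
    (hQ : (QuadraticMap.polarBilin Q).Nondegenerate) (hodd : Odd (Fintype.card ι))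
    (hn : 7 ≤ finrank F (ι → F))
    (x : ↥(Cfsg.Omega F ⇑Q)) (a v : ι → F) (ha : Q a = 0) (hav : polar (⇑Q) a v = 0)
    (ha0 : a ≠ 0) (hv : IsGood Q v)
    (hx : (x : ↥(Cfsg.isometryGroup F ⇑Q)) = eichlerElt Q hQ a v ha hav) :
    Rad (ringChar F) x = QSub Q hQ a ha :=
  le_antisymm (rad_le h2 Q hQ hodd x a v ha hav ha0 hv hx) (le_rad h2 Q hQ hn x a v ha hav ha0 hv hx)

end Cfsg.Agent.Lib.Helper99.AutO
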