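import Mathlib
import Cfsg.Agent.Lib.Helper99.AutOK

set_option autoImplicit false

/-!
# Automorphisms permute the radicals `Q_a`
-/

namespace Cfsg.Agent.Lib.Helper99.AutO

open Matrix Module QuadraticMap
open Cfsg.Agent.Lib.Helper8 Cfsg.Agent.Lib.Helper13 Cfsg.Agent.Lib.Helper37

variable {ι : Type} [Fintype ι] [DecidableEq ι] {F : Type*} [Field F]

theorem exists_good_perp [Fintype F] (h2 : (2 : F) ≠ 0) (Q : QuadraticForm F (ι → F))
    (hQ : (QuadraticMap.polarBilin Q).Nondegenerate) (hodd : Odd (Fintype.card ι))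
    (hn : 7 ≤ finrank F (ι → F)) (a : ι → F) : ∃ v, IsGood Q v ∧ polar (⇑Q) a v = 0 := by
  have hcard : finrank F (ι → F) = Fintype.card ι := Module.finrank_fintype_fun_eq_card F
  obtain ⟨v₀, hv₀⟩ := exists_isGood h2 Q hQ hodd (by omega)
  obtain ⟨v, hv, hva⟩ := exists_perp_norm h2 Q hQ (k := 1) (fun _ => a) (by omega) (Q v₀)
  exact ⟨v, hv₀.of_Q_eq h2 Q hv, by rw [polar_comm]; exact hva 0⟩

/-- the element `E(a, w)` of `Ω` -/
noncomputable def eO [Fintype F] (h2 : (2 : F) ≠ 0) (Q : QuadraticForm F (ι → F))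
    (hQ : (QuadraticMap.polarBilin Q).Nondegenerate) (hn : 7 ≤ finrank F (ι → F))
    (a w : ι → F) (ha : Q a = 0) (haw : polar (⇑Q) a w = 0) : ↥(Cfsg.Omega F ⇑Q) :=
  ⟨eichlerElt Q hQ a w ha haw, eichlerElt_mem_omega h2 Q hQ (by omega) a w ha haw⟩

theorem eO_mem_QSub [Fintype F] (h2 : (2 : F) ≠ 0) (Q : QuadraticForm F (ι → F))
    (hQ : (QuadraticMap.polarBilin Q).Nondegenerate) (hn : 7 ≤ finrank F (ι → F))
    (a w : ι → F) (ha : Q a = 0) (haw : polar (⇑Q) a w = 0) :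
    eO h2 Q hQ hn a w ha haw ∈ QSub Q hQ a ha := ⟨w, haw, rfl⟩

theorem exists_QSub_map [Fintype F] (h2 : (2 : F) ≠ 0) (Q : QuadraticForm F (ι → F))
    (hQ : (QuadraticMap.polarBilin Q).Nondegenerate) (hodd : Odd (Fintype.card ι))
    (hn : 7 ≤ finrank F (ι → F)) (β : ↥(Cfsg.Omega F ⇑Q) ≃* ↥(Cfsg.Omega F ⇑Q))
    (a : ι → F) (ha : Q a = 0) (ha0 : a ≠ 0) :
    ∃ a', ∃ ha' : Q a' = 0, a' ≠ 0 ∧
      (QSub Q hQ a ha).map β.toMonoidHom = QSub Q hQ a' ha' := by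
  obtain ⟨v, hv, hav⟩ := exists_good_perp h2 Q hQ hodd hn a
  have hx := sprop_of_eichler h2 Q hQ hn (eO h2 Q hQ hn a v ha hav) a v ha hav ha0 hv rfl
  obtain ⟨a', v', ha', hav', ha'0, hv', hβx⟩ := exists_eichler_of_sprop h2 Q hQ hodd _ (hx.map β)
  refine ⟨a', ha', ha'0, ?_⟩
  rw [← rad_eq h2 Q hQ hodd hn (eO h2 Q hQ hn a v ha hav) a v ha hav ha0 hv rfl, Rad_map,
    rad_eq h2 Q hQ hodd hn _ a' v' ha' hav' ha'0 hv' hβx]

theorem QSub_congr (Q : QuadraticForm F (ι → F)) (hQ : (QuadraticMap.polarBilin Q).Nondegenerate)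
    (a a' : ι → F) (ha : Q a = 0) (ha' : Q a' = 0) (h : a = a') :
    QSub Q hQ a ha = QSub Q hQ a' ha' := by
  subst h
  rfl

theorem QSub_smul_le (Q : QuadraticForm F (ι → F))
    (hQ : (QuadraticMap.polarBilin Q).Nondegenerate)
    (a : ι → F) (ha : Q a = 0) (μ : F) (hμa : Q (μ • a) = 0) :
    QSub Q hQ (μ • a) hμa ≤ QSub Q hQ a ha := by
  rintro g ⟨w, hw, e⟩
  by_cases hμ : μ = 0
  · have e0 : eichlerElt Q hQ (μ • a) w hμa hw = 1 := by
      apply reflElt_ext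
      intro x
      rw [act_eichler, act_one, hμ, zero_smul]
      simp
    rw [e0] at e
    have : g = 1 := Subtype.ext e
    rw [this]
    exact Subgroup.one_mem _
  have hw' : polar (⇑Q) a w = 0 := by
    rw [polar_smul_left, smul_eq_mul] at hw
    exact (mul_eq_zero.1 hw).resolve_left hμ
  exact ⟨μ • w, by rw [polar_smul_right, hw', smul_zero],
    by rw [e, ← eichlerElt_smul_left Q hQ a w ha hw' μ]⟩

theorem QSub_smul (Q : QuadraticForm F (ι → F))
    (hQ : (QuadraticMap.polarBilin Q).Nondegenerate)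
    (a : ι → F) (ha : Q a = 0) (μ : F) (hμ : μ ≠ 0) (hμa : Q (μ • a) = 0) :
    QSub Q hQ (μ • a) hμa = QSub Q hQ a ha := by
  apply le_antisymm (QSub_smul_le Q hQ a ha μ hμa)
  have e : a = μ⁻¹ • (μ • a) := by rw [smul_smul, inv_mul_cancel₀ hμ, one_smul]
  have hQ' : Q (μ⁻¹ • (μ • a)) = 0 := by rw [← e]; exact ha
  rw [QSub_congr Q hQ a _ ha hQ' e]
  exact QSub_smul_le Q hQ (μ • a) hμa μ⁻¹ hQ'

theorem conj_mem_QSub (Q : QuadraticForm F (ι → F))
    (hQ : (QuadraticMap.polarBilin Q).Nondegenerate)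
    (c : ι → F) (hc : Q c = 0) (g h : ↥(Cfsg.Omega F ⇑Q)) (hh : h ∈ QSub Q hQ c hc) :
    g * h * g⁻¹ ∈ QSub Q hQ (act Q g.1 c) (by rw [Q_act]; exact hc) := by
  obtain ⟨w, hw, e⟩ := hh
  refine ⟨act Q g.1 w, by rw [polar_act]; exact hw, ?_⟩
  rw [Subgroup.coe_mul, Subgroup.coe_mul, InvMemClass.coe_inv, e, conj_eichler_act]

theorem mem_QSub_act_iff (Q : QuadraticForm F (ι → F))
    (hQ : (QuadraticMap.polarBilin Q).Nondegenerate)
    (c : ι → F) (hc : Q c = 0) (g k : ↥(Cfsg.Omega F ⇑Q)) :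
    k ∈ QSub Q hQ (act Q g.1 c) (by rw [Q_act]; exact hc) ↔ g⁻¹ * k * g ∈ QSub Q hQ c hc := by
  constructor
  · intro hk
    have := conj_mem_QSub Q hQ _ _ g⁻¹ k hk
    have e : act Q (g⁻¹ : ↥(Cfsg.Omega F ⇑Q)).1 (act Q g.1 c) = c := by
      rw [InvMemClass.coe_inv, act_inv_act]
    rw [QSub_congr Q hQ _ c _ hc e, inv_inv] at this
    exact this
  · intro hk
    have := conj_mem_QSub Q hQ c hc g _ hk
    have e : g * (g⁻¹ * k * g) * g⁻¹ = k := by group
    rwa [e] at this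

/-- the singular point is determined by the subgroup `Q_c` -/
theorem QSub_point_inj [Fintype F] (h2 : (2 : F) ≠ 0) (Q : QuadraticForm F (ι → F))
    (hQ : (QuadraticMap.polarBilin Q).Nondegenerate) (hodd : Odd (Fintype.card ι))
    (hn : 7 ≤ finrank F (ι → F)) (c c' : ι → F) (hc : Q c = 0) (hc' : Q c' = 0) (hc0 : c ≠ 0)
    (h : QSub Q hQ c hc ≤ QSub Q hQ c' hc') : ∃ μ : F, c = μ • c' := by
  obtain ⟨v, hv, hcv⟩ := exists_good_perp h2 Q hQ hodd hn c
  obtain ⟨w, hw, e⟩ := h (eO_mem_QSub h2 Q hQ hn c v hc hcv)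
  exact eichler_point_of_eq h2 Q hQ c v c' w hc hcv hc' hw hc0 hv.1 e

theorem eichler_swap (Q : QuadraticForm F (ι → F))
    (hQ : (QuadraticMap.polarBilin Q).Nondegenerate) (a b : ι → F) (ha : Q a = 0) (hb : Q b = 0)
    (hab : polar (⇑Q) a b = 0) :
    eichlerElt Q hQ a b ha hab
      = eichlerElt Q hQ b (-a) hb (by rw [polar_neg_right, polar_comm, hab, neg_zero]) := by
  apply reflElt_ext
  intro x
  rw [act_eichler, act_eichler, hb, QuadraticMap.map_neg, ha, polar_neg_left]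
  simp only [zero_mul, zero_smul, sub_zero, smul_neg, neg_smul, sub_neg_eq_add]
  abel

/-- two singular points are non-orthogonal iff their radicals meet trivially -/
theorem QSub_inf_eq_bot_iff [Fintype F] (h2 : (2 : F) ≠ 0) (Q : QuadraticForm F (ι → F))
    (hQ : (QuadraticMap.polarBilin Q).Nondegenerate) (hodd : Odd (Fintype.card ι))
    (hn : 7 ≤ finrank F (ι → F)) (a b : ι → F) (ha : Q a = 0) (hb : Q b = 0) (ha0 : a ≠ 0)
    (hb0 : b ≠ 0) :
    QSub Q hQ a ha ⊓ QSub Q hQ b hb = ⊥ ↔ polar (⇑Q) a b ≠ 0 := by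
  constructor
  · intro h hab
    by_cases hdep : ∃ μ : F, b = μ • a
    · obtain ⟨μ, hμ⟩ := hdep
      have hμ0 : μ ≠ 0 := by
        rintro rfl
        rw [zero_smul] at hμ
        exact hb0 hμ
      have hQ' : Q (μ • a) = 0 := by rw [← hμ]; exact hb
      rw [QSub_congr Q hQ b _ hb hQ' hμ, QSub_smul Q hQ a ha μ hμ0 hQ', inf_idem] at h
      obtain ⟨v, hv, hav⟩ := exists_good_perp h2 Q hQ hodd hn a
      have hx := sprop_of_eichler h2 Q hQ hn (eO h2 Q hQ hn a v ha hav) a v ha hav ha0 hv rfl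
      have := eO_mem_QSub h2 Q hQ hn a v ha hav
      rw [h, Subgroup.mem_bot] at this
      exact hx.1 this
    · push Not at hdep
      have hmem : eO h2 Q hQ hn a b ha hab ∈ QSub Q hQ a ha ⊓ QSub Q hQ b hb := by
        refine ⟨eO_mem_QSub h2 Q hQ hn a b ha hab, -a, ?_, ?_⟩
        · rw [polar_neg_right, polar_comm, hab, neg_zero]
        · exact eichler_swap Q hQ a b ha hb hab
      rw [h, Subgroup.mem_bot] at hmem
      have h1 : eichlerElt Q hQ a b ha hab = 1 := congrArg Subtype.val hmem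
      obtain ⟨μ, hμ⟩ := eichlerElt_eq_one_imp Q hQ a b ha hab ha0 h1
      exact hdep μ hμ
  · intro hab
    rw [eq_bot_iff]
    rintro g ⟨⟨w, hw, e⟩, ⟨w', hw', e'⟩⟩
    rw [Subgroup.mem_bot]
    apply Subtype.ext
    have hbb : polar (⇑Q) b b = 0 := by rw [polar_self, hb, smul_zero]
    have e1 : act Q g.1 b = b := by
      rw [e', act_eichler, hbb, polar_comm (⇑Q) w' b, hw']
      simp
    rw [e, act_eichler] at e1
    have e2 : polar (⇑Q) a b • w = (polar (⇑Q) w b + Q w * polar (⇑Q) a b) • a := by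
      rw [add_smul]
      have h5 := sub_eq_zero.2 e1
      rw [← sub_eq_zero, ← h5]
      abel
    have e3 : w = 0 + ((polar (⇑Q) a b)⁻¹ * (polar (⇑Q) w b + Q w * polar (⇑Q) a b)) • a := by
      rw [zero_add, ← smul_smul, ← e2, smul_smul, inv_mul_cancel₀ hab, one_smul]
    rw [e]
    rw [eichlerElt_congr Q hQ a w a _ ha hw ha (by rw [← e3]; exact hw) rfl e3,
      eichlerElt_add_smul Q hQ a 0 ha (by simp)]
    exact eichlerElt_zero Q hQ a ha

end Cfsg.Agent.Lib.Helper99.AutO
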