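import Mathlib
import Cfsg.Agent.Lib.Helper99.AutOL

set_option autoImplicit false

/-!
# Normalising an automorphism; the projection onto the complement of a hyperbolic pair
-/

namespace Cfsg.Agent.Lib.Helper99.AutO

open Matrix Module QuadraticMap
open Cfsg.Agent.Lib.Helper8 Cfsg.Agent.Lib.Helper13 Cfsg.Agent.Lib.Helper37

variable {ι : Type} [Fintype ι] [DecidableEq ι] {F : Type*} [Field F]

theorem linearIndependent_hyp (Q : QuadraticForm F (ι → F)) (a b : ι → F) (ha : Q a = 0)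
    (hb : Q b = 0) (hab : polar (⇑Q) a b = 1) : LinearIndependent F ![a, b] := by
  rw [LinearIndependent.pair_iff]
  intro s t hst
  have haa : polar (⇑Q) a a = 0 := by rw [polar_self, ha, smul_zero]
  have hbb : polar (⇑Q) b b = 0 := by rw [polar_self, hb, smul_zero]
  have h1 := congrArg (fun x => polar (⇑Q) a x) hst
  have h3 := congrArg (fun x => polar (⇑Q) b x) hst
  simp only [polar_add_right, polar_smul_right, haa, hab, polar_comm (⇑Q) b a, hbb,
    polar_zero_right, smul_eq_mul, mul_zero, mul_one, add_zero, zero_add] at h1 h3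
  exact ⟨h3, h1⟩

theorem QSub_map_conj (Q : QuadraticForm F (ι → F))
    (hQ : (QuadraticMap.polarBilin Q).Nondegenerate)
    (c : ι → F) (hc : Q c = 0) (g : ↥(Cfsg.Omega F ⇑Q)) :
    (QSub Q hQ c hc).map (MulAut.conj g).toMonoidHom
      = QSub Q hQ (act Q g.1 c) (by rw [Q_act]; exact hc) := by
  ext k
  rw [mem_QSub_act_iff]
  constructor
  · rintro ⟨h, hh, rfl⟩
    have e : g⁻¹ * ((MulAut.conj g).toMonoidHom h) * g = h := by
      show g⁻¹ * (g * h * g⁻¹) * g = h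
      group
    rw [e]
    exact hh
  · intro hk
    refine ⟨g⁻¹ * k * g, hk, ?_⟩
    show g * (g⁻¹ * k * g) * g⁻¹ = k
    group

/-- every automorphism can be normalised to fix `Q_a` and `Q_b` -/
theorem exists_normalise [Fintype F] (h2 : (2 : F) ≠ 0) (Q : QuadraticForm F (ι → F))
    (hQ : (QuadraticMap.polarBilin Q).Nondegenerate) (hodd : Odd (Fintype.card ι))
    (hn : 7 ≤ finrank F (ι → F)) (β : ↥(Cfsg.Omega F ⇑Q) ≃* ↥(Cfsg.Omega F ⇑Q))
    (a b : ι → F) (ha : Q a = 0) (hb : Q b = 0) (hab : polar (⇑Q) a b = 1) :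
    ∃ g : ↥(Cfsg.Omega F ⇑Q),
      (QSub Q hQ a ha).map (β.trans (MulAut.conj g)).toMonoidHom = QSub Q hQ a ha ∧
      (QSub Q hQ b hb).map (β.trans (MulAut.conj g)).toMonoidHom = QSub Q hQ b hb := by
  have ha0 : a ≠ 0 := by
    rintro rfl
    rw [polar_zero_left] at hab
    exact zero_ne_one hab
  have hb0 : b ≠ 0 := by
    rintro rfl
    rw [polar_zero_right] at hab
    exact zero_ne_one hab
  obtain ⟨a', ha', ha'0, hβa⟩ := exists_QSub_map h2 Q hQ hodd hn β a ha ha0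
  obtain ⟨b', hb', hb'0, hβb⟩ := exists_QSub_map h2 Q hQ hodd hn β b hb hb0
  have hbot : QSub Q hQ a ha ⊓ QSub Q hQ b hb = ⊥ := by
    rw [QSub_inf_eq_bot_iff h2 Q hQ hodd hn a b ha hb ha0 hb0, hab]
    exact one_ne_zero
  have hbot' : QSub Q hQ a' ha' ⊓ QSub Q hQ b' hb' = ⊥ := by
    rw [← hβa, ← hβb, ← Subgroup.map_inf _ _ _ β.injective, hbot, Subgroup.map_bot]
  rw [QSub_inf_eq_bot_iff h2 Q hQ hodd hn a' b' ha' hb' ha'0 hb'0] at hbot'
  set r := polar (⇑Q) a' b' with hr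
  have hQa₁ : Q (r⁻¹ • a') = 0 := by rw [QuadraticMap.map_smul, ha', smul_zero]
  have hab₁ : polar (⇑Q) (r⁻¹ • a') b' = 1 := by
    rw [polar_smul_left, smul_eq_mul, inv_mul_cancel₀ hbot']
  obtain ⟨g, hgΩ, hg⟩ := omega_witt_frame Q hQ (Or.inr (by omega)) 2 ![r⁻¹ • a', b'] ![a, b]
    (linearIndependent_hyp Q _ _ hQa₁ hb' hab₁) (linearIndependent_hyp Q a b ha hb hab)
    (by
      intro i
      fin_cases i
      · simp [ha, hQa₁]
      · simp [hb, hb'])
    (by
      intro i j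
      fin_cases i <;> fin_cases j
      · simp [polar_self, ha, hQa₁]
      · simp [hab, hab₁]
      · simp only [Fin.mk_one, Fin.isValue, Matrix.cons_val_one, Matrix.cons_val_fin_one,
          Fin.zero_eta, Matrix.cons_val_zero]
        rw [polar_comm, hab, polar_comm, hab₁]
      · simp [polar_self, hb, hb'])
    (by
      intro c _
      obtain ⟨z, hz, hzab⟩ := exists_perp_norm h2 Q hQ (k := 2) ![a, b] (by omega) c
      exact ⟨z, hz, hzab⟩)
  have hga : act Q g (r⁻¹ • a') = a := hg 0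
  have hgb : act Q g b' = b := hg 1
  have hga' : act Q g a' = r • a := by
    rw [← hga, ← act_smul, smul_smul, mul_inv_cancel₀ hbot', one_smul]
  refine ⟨⟨g, hgΩ⟩, ?_, ?_⟩
  · have e : (β.trans (MulAut.conj (⟨g, hgΩ⟩ : ↥(Cfsg.Omega F ⇑Q)))).toMonoidHom
        = (MulAut.conj (⟨g, hgΩ⟩ : ↥(Cfsg.Omega F ⇑Q))).toMonoidHom.comp β.toMonoidHom := rfl
    rw [e, ← Subgroup.map_map, hβa, QSub_map_conj]
    have hQ' : Q (r • a) = 0 := by rw [QuadraticMap.map_smul, ha, smul_zero]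
    rw [QSub_congr Q hQ _ (r • a) _ hQ' hga', QSub_smul Q hQ a ha r hbot' hQ']
  · have e : (β.trans (MulAut.conj (⟨g, hgΩ⟩ : ↥(Cfsg.Omega F ⇑Q)))).toMonoidHom
        = (MulAut.conj (⟨g, hgΩ⟩ : ↥(Cfsg.Omega F ⇑Q))).toMonoidHom.comp β.toMonoidHom := rfl
    rw [e, ← Subgroup.map_map, hβb, QSub_map_conj]
    exact QSub_congr Q hQ _ b _ hb hgb

end Cfsg.Agent.Lib.Helper99.AutO
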