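import Mathlib
import Cfsg.Agent.Lib.Helper99.AutOM

set_option autoImplicit false

/-!
# The complement of a hyperbolic pair and the two opposite radicals
-/

namespace Cfsg.Agent.Lib.Helper99.AutO

open Matrix Module QuadraticMap
open Cfsg.Agent.Lib.Helper8 Cfsg.Agent.Lib.Helper13 Cfsg.Agent.Lib.Helper37

variable {ι : Type} [Fintype ι] [DecidableEq ι] {F : Type*} [Field F]

/-- the ambient hypotheses -/
structure Amb [Fintype F] (Q : QuadraticForm F (ι → F)) : Prop where
  h2 : (2 : F) ≠ 0
  hQ : (QuadraticMap.polarBilin Q).Nondegenerate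
  hodd : Odd (Fintype.card ι)
  hn : 7 ≤ finrank F (ι → F)

/-- a hyperbolic pair -/
structure HypPair (Q : QuadraticForm F (ι → F)) (a b : ι → F) : Prop where
  ha : Q a = 0
  hb : Q b = 0
  hab : polar (⇑Q) a b = 1

/-- the projection onto the orthogonal complement of the hyperbolic pair `a, b` -/
def pM (Q : QuadraticForm F (ι → F)) (a b x : ι → F) : ι → F :=
  x - polar (⇑Q) b x • a - polar (⇑Q) a x • b

section pMlemmas

variable {Q : QuadraticForm F (ι → F)} {a b : ι → F} (hp : HypPair Q a b)

include hp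

theorem HypPair.hba : polar (⇑Q) b a = 1 := by rw [polar_comm]; exact hp.hab

theorem HypPair.haa : polar (⇑Q) a a = 0 := by rw [polar_self, hp.ha, smul_zero]

theorem HypPair.hbb : polar (⇑Q) b b = 0 := by rw [polar_self, hp.hb, smul_zero]

theorem HypPair.a_ne : a ≠ 0 := by
  rintro rfl
  have := hp.hab
  rw [polar_zero_left] at this
  exact zero_ne_one this

theorem HypPair.b_ne : b ≠ 0 := by
  rintro rfl
  have := hp.hab
  rw [polar_zero_right] at this
  exact zero_ne_one this

theorem polar_a_pM (x : ι → F) : polar (⇑Q) a (pM Q a b x) = 0 := by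
  unfold pM
  rw [polar_sub_right, polar_sub_right, polar_smul_right, polar_smul_right, hp.haa, hp.hab]
  simp

theorem polar_b_pM (x : ι → F) : polar (⇑Q) b (pM Q a b x) = 0 := by
  unfold pM
  rw [polar_sub_right, polar_sub_right, polar_smul_right, polar_smul_right, hp.hbb, hp.hba]
  simp

omit hp in
theorem pM_add (x y : ι → F) : pM Q a b (x + y) = pM Q a b x + pM Q a b y := by
  unfold pM
  rw [polar_add_right, polar_add_right, add_smul, add_smul]
  abel

omit hp in
theorem pM_smul (s : F) (x : ι → F) : pM Q a b (s • x) = s • pM Q a b x := by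
  unfold pM
  rw [polar_smul_right, polar_smul_right, smul_sub, smul_sub, smul_smul, smul_smul]
  simp only [smul_eq_mul]

omit hp in
theorem pM_zero : pM Q a b 0 = 0 := by
  unfold pM
  simp

omit hp in
theorem pM_neg (x : ι → F) : pM Q a b (-x) = -pM Q a b x := by
  have := pM_smul (Q := Q) (a := a) (b := b) (-1) x
  simpa using this

omit hp in
theorem pM_sub (x y : ι → F) : pM Q a b (x - y) = pM Q a b x - pM Q a b y := by
  rw [sub_eq_add_neg, pM_add, pM_neg, ← sub_eq_add_neg]

omit hp in
theorem pM_of_mem {x : ι → F} (h1 : polar (⇑Q) a x = 0) (h3 : polar (⇑Q) b x = 0) :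
    pM Q a b x = x := by
  unfold pM
  rw [h1, h3]
  simp

theorem pM_pM (x : ι → F) : pM Q a b (pM Q a b x) = pM Q a b x :=
  pM_of_mem (polar_a_pM hp x) (polar_b_pM hp x)

theorem pM_a : pM Q a b a = 0 := by
  unfold pM
  rw [hp.haa, hp.hba]
  simp

theorem pM_b : pM Q a b b = 0 := by
  unfold pM
  rw [hp.hbb, hp.hab]
  simp

omit hp in
theorem decomp (x : ι → F) :
    x = polar (⇑Q) b x • a + pM Q a b x + polar (⇑Q) a x • b := by
  unfold pM
  abel

theorem Q_pM (x : ι → F) : Q (pM Q a b x) = Q x - polar (⇑Q) a x * polar (⇑Q) b x := by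
  have h := decomp (Q := Q) (a := a) (b := b) x
  have h1 := polar_a_pM hp x
  have h3 := polar_b_pM hp x
  generalize pM Q a b x = m at *
  generalize polar (⇑Q) a x = α at *
  generalize polar (⇑Q) b x = β at *
  rw [h, QuadraticMap.map_add Q, QuadraticMap.map_add Q, QuadraticMap.map_smul,
    QuadraticMap.map_smul, hp.ha, hp.hb, polar_add_left, polar_smul_left, polar_smul_left,
    polar_smul_right, polar_smul_right, h1, hp.hab, polar_comm (⇑Q) m b, h3]
  simp only [smul_eq_mul]
  ring

theorem Q_decomp (x : ι → F) : Q x = polar (⇑Q) a x * polar (⇑Q) b x + Q (pM Q a b x) := by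
  rw [Q_pM hp]
  ring

end pMlemmas

end Cfsg.Agent.Lib.Helper99.AutO
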