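import Mathlib
import Cfsg.Agent.Lib.Helper99.AutON

set_option autoImplicit false

/-!
# The additive map induced on the complement of a hyperbolic pair
-/

namespace Cfsg.Agent.Lib.Helper99.AutO

open Matrix Module QuadraticMap
open Cfsg.Agent.Lib.Helper8 Cfsg.Agent.Lib.Helper13 Cfsg.Agent.Lib.Helper37

variable {ι : Type} [Fintype ι] [DecidableEq ι] {F : Type*} [Field F]

theorem HypPair.symm {Q : QuadraticForm F (ι → F)} {a b : ι → F} (hp : HypPair Q a b) :
    HypPair Q b a := ⟨hp.hb, hp.ha, hp.hba⟩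

theorem pM_swap (Q : QuadraticForm F (ι → F)) (a b x : ι → F) : pM Q b a x = pM Q a b x := by
  unfold pM
  abel

theorem mem_iff_of_map_eq {G : Type*} [Group G] (β : G ≃* G) (S : Subgroup G)
    (H : S.map β.toMonoidHom = S) (h : G) : β h ∈ S ↔ h ∈ S := by
  constructor
  · intro hh
    rw [← H] at hh
    obtain ⟨h', hh', e⟩ := hh
    have : h' = h := β.injective e
    rw [← this]
    exact hh'
  · intro hh
    rw [← H]
    exact Subgroup.mem_map_of_mem _ hh

section Aside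

variable [Fintype F] {Q : QuadraticForm F (ι → F)} (A : Amb Q) {a b : ι → F}
  (hp : HypPair Q a b)

/-- the element `E(a, w_M)` of `Q_a` -/
noncomputable def eA (w : ι → F) : ↥(Cfsg.Omega F ⇑Q) :=
  eO A.h2 Q A.hQ A.hn a (pM Q a b w) hp.ha (polar_a_pM hp w)

theorem coe_eA (w : ι → F) : ((eA A hp w : ↥(Cfsg.Omega F ⇑Q)) : ↥(Cfsg.isometryGroup F ⇑Q))
    = eichlerElt Q A.hQ a (pM Q a b w) hp.ha (polar_a_pM hp w) := rfl

theorem eA_mem (w : ι → F) : eA A hp w ∈ QSub Q A.hQ a hp.ha :=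
  ⟨pM Q a b w, polar_a_pM hp w, rfl⟩

theorem eA_congr {w w' : ι → F} (h : pM Q a b w = pM Q a b w') : eA A hp w = eA A hp w' := by
  apply Subtype.ext
  rw [coe_eA, coe_eA]
  exact eichlerElt_congr Q A.hQ _ _ _ _ _ _ _ _ rfl h

theorem eA_add (w w' : ι → F) : eA A hp (w + w') = eA A hp w * eA A hp w' := by
  apply Subtype.ext
  rw [Subgroup.coe_mul, coe_eA, coe_eA, coe_eA, eichlerElt_mul]
  exact eichlerElt_congr Q A.hQ _ _ _ _ _ _ _ _ rfl (pM_add w w')

theorem eA_zero : eA A hp 0 = 1 := by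
  apply Subtype.ext
  rw [coe_eA]
  rw [eichlerElt_congr Q A.hQ a _ a 0 hp.ha _ hp.ha (by simp) rfl pM_zero]
  exact eichlerElt_zero Q A.hQ a hp.ha

theorem act_eA_b (w : ι → F) :
    act Q (eA A hp w).1 b = b + pM Q a b w - Q (pM Q a b w) • a := by
  rw [coe_eA, act_eichler, hp.hab, polar_comm (⇑Q) _ b, polar_b_pM hp]
  simp

theorem pM_act_eA_b (w : ι → F) : pM Q a b (act Q (eA A hp w).1 b) = pM Q a b w := by
  rw [act_eA_b, pM_sub, pM_add, pM_smul, pM_a hp, pM_b hp, pM_pM hp]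
  simp

theorem eA_inj {w w' : ι → F} (h : eA A hp w = eA A hp w') : pM Q a b w = pM Q a b w' := by
  rw [← pM_act_eA_b A hp w, ← pM_act_eA_b A hp w', h]

theorem exists_eA_of_mem {g : ↥(Cfsg.Omega F ⇑Q)} (hg : g ∈ QSub Q A.hQ a hp.ha) :
    ∃ w, g = eA A hp w := by
  obtain ⟨w, hw, e⟩ := hg
  refine ⟨w, ?_⟩
  apply Subtype.ext
  rw [e, coe_eA]
  have h := decomp (Q := Q) (a := a) (b := b) w
  rw [hw, zero_smul, add_zero, add_comm] at h
  have hw' : polar (⇑Q) a (pM Q a b w + polar (⇑Q) b w • a) = 0 := by rw [← h]; exact hw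
  rw [eichlerElt_congr Q A.hQ a w a _ hp.ha hw hp.ha hw' rfl h]
  exact eichlerElt_add_smul Q A.hQ a (pM Q a b w) hp.ha (polar_a_pM hp w) _

variable (β : ↥(Cfsg.Omega F ⇑Q) ≃* ↥(Cfsg.Omega F ⇑Q))

/-- the map induced by `β` on the complement, through `Q_a` -/
noncomputable def fA (w : ι → F) : ι → F := pM Q a b (act Q (β (eA A hp w)).1 b)

theorem pM_fA (w : ι → F) : pM Q a b (fA A hp β w) = fA A hp β w := pM_pM hp _

theorem polar_a_fA (w : ι → F) : polar (⇑Q) a (fA A hp β w) = 0 := polar_a_pM hp _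

theorem polar_b_fA (w : ι → F) : polar (⇑Q) b (fA A hp β w) = 0 := polar_b_pM hp _

variable (Ha : (QSub Q A.hQ a hp.ha).map β.toMonoidHom = QSub Q A.hQ a hp.ha)

include Ha

theorem beta_eA (w : ι → F) : β (eA A hp w) = eA A hp (fA A hp β w) := by
  have h1 : β (eA A hp w) ∈ QSub Q A.hQ a hp.ha :=
    (mem_iff_of_map_eq β _ Ha _).2 (eA_mem A hp w)
  obtain ⟨w', hw'⟩ := exists_eA_of_mem A hp h1
  rw [hw']
  apply eA_congr
  unfold fA
  rw [hw', pM_act_eA_b, pM_pM hp]

theorem fA_add (w w' : ι → F) : fA A hp β (w + w') = fA A hp β w + fA A hp β w' := by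
  have h := beta_eA A hp β Ha (w + w')
  rw [eA_add, map_mul, beta_eA A hp β Ha w, beta_eA A hp β Ha w', ← eA_add] at h
  have := eA_inj A hp h
  rw [pM_add, pM_fA, pM_fA, pM_fA] at this
  exact this.symm

theorem fA_congr {w w' : ι → F} (h : pM Q a b w = pM Q a b w') : fA A hp β w = fA A hp β w' := by
  unfold fA
  rw [eA_congr A hp h]

theorem fA_zero : fA A hp β 0 = 0 := by
  have := fA_add A hp β Ha 0 0
  rw [add_zero] at this
  exact left_eq_add.mp this

theorem fA_neg (w : ι → F) : fA A hp β (-w) = -fA A hp β w := by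
  have := fA_add A hp β Ha w (-w)
  rw [add_neg_cancel, fA_zero A hp β Ha] at this
  exact (neg_eq_of_add_eq_zero_right this.symm).symm

theorem fA_inj {w w' : ι → F} (h : fA A hp β w = fA A hp β w') : pM Q a b w = pM Q a b w' := by
  have h1 : β (eA A hp w) = β (eA A hp w') := by
    rw [beta_eA A hp β Ha, beta_eA A hp β Ha, h]
  exact eA_inj A hp (β.injective h1)

end Aside

end Cfsg.Agent.Lib.Helper99.AutO
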