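import Mathlib
import Cfsg.Agent.Lib.Helper99.AutOP

set_option autoImplicit false

/-!
# Singular lines and the point relation
-/

namespace Cfsg.Agent.Lib.Helper99.AutO

open Matrix Module QuadraticMap
open Cfsg.Agent.Lib.Helper8 Cfsg.Agent.Lib.Helper13 Cfsg.Agent.Lib.Helper37

variable {ι : Type} [Fintype ι] [DecidableEq ι] {F : Type*} [Field F]

section

variable [Fintype F] {Q : QuadraticForm F (ι → F)} (A : Amb Q) {a b : ι → F}
  (hp : HypPair Q a b)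

/-- for singular `c` in the complement, `E(a, s c)` lies in `Q_c` -/
theorem eA_mem_QSub_singular (c : ι → F) (hc : Q c = 0) (hac : polar (⇑Q) a c = 0)
    (hbc : polar (⇑Q) b c = 0) (s : F) : eA A hp (s • c) ∈ QSub Q A.hQ c hc := by
  have hsc : Q (s • c) = 0 := by rw [QuadraticMap.map_smul, hc, smul_zero]
  apply QSub_smul_le Q A.hQ c hc s hsc
  have hasc : polar (⇑Q) a (s • c) = 0 := by rw [polar_smul_right, hac, smul_zero]
  refine ⟨-a, by rw [polar_neg_right, polar_comm, hasc, neg_zero], ?_⟩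
  rw [coe_eA, ← eichler_swap Q A.hQ a (s • c) hp.ha hsc hasc]
  apply eichlerElt_congr
  · rfl
  · apply pM_of_mem hasc
    rw [polar_smul_right, hbc, smul_zero]

theorem eA_ne_one {c : ι → F} (hac : polar (⇑Q) a c = 0) (hbc : polar (⇑Q) b c = 0)
    (hc0 : c ≠ 0) : eA A hp c ≠ 1 := by
  intro h
  rw [← eA_zero A hp] at h
  have := eA_inj A hp h
  rw [pM_zero, pM_of_mem hac hbc] at this
  exact hc0 this

variable (β : ↥(Cfsg.Omega F ⇑Q) ≃* ↥(Cfsg.Omega F ⇑Q))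
  (Ha : (QSub Q A.hQ a hp.ha).map β.toMonoidHom = QSub Q A.hQ a hp.ha)
  (Hb : (QSub Q A.hQ b hp.hb).map β.toMonoidHom = QSub Q A.hQ b hp.hb)

include Ha Hb

/-- singular lines of the complement go to singular lines, compatibly for both radicals -/
theorem exists_line_image (c : ι → F) (hc : Q c = 0) (hac : polar (⇑Q) a c = 0)
    (hbc : polar (⇑Q) b c = 0) (hc0 : c ≠ 0) :
    ∃ c₁, Q c₁ = 0 ∧ polar (⇑Q) a c₁ = 0 ∧ polar (⇑Q) b c₁ = 0 ∧ ∀ s : F,
      (∃ s' : F, fA A hp β (s • c) = s' • c₁) ∧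
        (∃ s'' : F, fA A hp.symm β (s • c) = s'' • c₁) := by
  obtain ⟨c₁, hc₁, hc₁0, hβc⟩ := exists_QSub_map A.h2 Q A.hQ A.hodd A.hn β c hc hc0
  have hmemA : ∀ s : F, β (eA A hp (s • c)) ∈ QSub Q A.hQ c₁ hc₁ := by
    intro s
    rw [← hβc]
    exact Subgroup.mem_map_of_mem _ (eA_mem_QSub_singular A hp c hc hac hbc s)
  have hmemB : ∀ s : F, β (eA A hp.symm (s • c)) ∈ QSub Q A.hQ c₁ hc₁ := by
    intro s
    rw [← hβc]
    exact Subgroup.mem_map_of_mem _ (eA_mem_QSub_singular A hp.symm c hc hbc hac s)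
  have hac₁ : polar (⇑Q) a c₁ = 0 := by
    by_contra hne
    have hbot := (QSub_inf_eq_bot_iff A.h2 Q A.hQ A.hodd A.hn a c₁ hp.ha hc₁ hp.a_ne hc₁0).2 hne
    have hmem : β (eA A hp c) ∈ QSub Q A.hQ a hp.ha ⊓ QSub Q A.hQ c₁ hc₁ := by
      refine ⟨(mem_iff_of_map_eq β _ Ha _).2 (eA_mem A hp c), ?_⟩
      have := hmemA 1
      rwa [one_smul] at this
    rw [hbot, Subgroup.mem_bot] at hmem
    exact eA_ne_one A hp hac hbc hc0 (by simpa using hmem)
  have hbc₁ : polar (⇑Q) b c₁ = 0 := by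
    by_contra hne
    have hbot := (QSub_inf_eq_bot_iff A.h2 Q A.hQ A.hodd A.hn b c₁ hp.hb hc₁ hp.b_ne hc₁0).2 hne
    have hmem : β (eA A hp.symm c) ∈ QSub Q A.hQ b hp.hb ⊓ QSub Q A.hQ c₁ hc₁ := by
      refine ⟨(mem_iff_of_map_eq β _ Hb _).2 (eA_mem A hp.symm c), ?_⟩
      have := hmemB 1
      rwa [one_smul] at this
    rw [hbot, Subgroup.mem_bot] at hmem
    exact eA_ne_one A hp.symm hbc hac hc0 (by simpa using hmem)
  refine ⟨c₁, hc₁, hac₁, hbc₁, fun s => ⟨?_, ?_⟩⟩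
  · obtain ⟨w₁, hw₁, e⟩ := hmemA s
    refine ⟨-polar (⇑Q) w₁ b, ?_⟩
    unfold fA
    rw [e, act_eichler, polar_comm (⇑Q) c₁ b, hbc₁]
    simp only [zero_smul, add_zero, mul_zero, sub_zero]
    rw [pM_sub, pM_b hp, pM_smul, pM_of_mem hac₁ hbc₁, zero_sub, neg_smul]
  · obtain ⟨w₁, hw₁, e⟩ := hmemB s
    refine ⟨-polar (⇑Q) w₁ a, ?_⟩
    unfold fA
    rw [e, act_eichler, polar_comm (⇑Q) c₁ a, hac₁]
    simp only [zero_smul, add_zero, mul_zero, sub_zero]
    rw [pM_sub, pM_b hp.symm, pM_smul, pM_of_mem hbc₁ hac₁, zero_sub, neg_smul]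

/-- the relation between the two induced maps coming from the points `E(a,w) b = E(b,w'') a` -/
theorem point_relation (w : ι → F) (haw : polar (⇑Q) a w = 0) (hbw : polar (⇑Q) b w = 0)
    (hw : Q w ≠ 0) :
    fA A hp β w = (-Q (fA A hp β w)) • fA A hp.symm β ((-(Q w)⁻¹) • w) ∧
      Q (fA A hp β w) * Q (fA A hp.symm β ((-(Q w)⁻¹) • w)) = 1 := by
  set w'' := (-(Q w)⁻¹) • w with hw''
  have haw'' : polar (⇑Q) a w'' = 0 := by rw [hw'', polar_smul_right, haw, smul_zero]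
  have hbw'' : polar (⇑Q) b w'' = 0 := by rw [hw'', polar_smul_right, hbw, smul_zero]
  have hQw'' : Q w'' = (Q w)⁻¹ := by
    rw [hw'', QuadraticMap.map_smul, smul_eq_mul]
    field_simp
  -- the basic point identity
  have hpt : act Q (eA A hp.symm w'').1 a = (-(Q w)⁻¹) • act Q (eA A hp w).1 b := by
    rw [act_eA_b, act_eA_b, pM_of_mem hbw'' haw'', pM_of_mem haw hbw, hQw'', hw'', smul_sub,
      smul_add, smul_smul]
    have : -(Q w)⁻¹ * Q w = -1 := by field_simp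
    rw [this]
    simp only [neg_smul, one_smul]
    abel
  -- conjugated radicals coincide
  have hQ1 : Q (act Q (eA A hp w).1 b) = 0 := by rw [Q_act]; exact hp.hb
  have hQ2 : Q (act Q (eA A hp.symm w'').1 a) = 0 := by rw [Q_act]; exact hp.ha
  have hne : -(Q w)⁻¹ ≠ 0 := neg_ne_zero.2 (inv_ne_zero hw)
  have hsub : QSub Q A.hQ (act Q (eA A hp.symm w'').1 a) hQ2
      = QSub Q A.hQ (act Q (eA A hp w).1 b) hQ1 := by
    have hQ3 : Q ((-(Q w)⁻¹) • act Q (eA A hp w).1 b) = 0 := by rw [← hpt]; exact hQ2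
    rw [QSub_congr Q A.hQ _ _ hQ2 hQ3 hpt, QSub_smul Q A.hQ _ hQ1 _ hne hQ3]
  have key : ∀ k : ↥(Cfsg.Omega F ⇑Q),
      (eA A hp w)⁻¹ * k * (eA A hp w) ∈ QSub Q A.hQ b hp.hb ↔
        (eA A hp.symm w'')⁻¹ * k * (eA A hp.symm w'') ∈ QSub Q A.hQ a hp.ha := by
    intro k
    rw [← mem_QSub_act_iff Q A.hQ b hp.hb, ← mem_QSub_act_iff Q A.hQ a hp.ha, hsub]
  have key' : ∀ k : ↥(Cfsg.Omega F ⇑Q),
      (β (eA A hp w))⁻¹ * k * (β (eA A hp w)) ∈ QSub Q A.hQ b hp.hb ↔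
        (β (eA A hp.symm w''))⁻¹ * k * (β (eA A hp.symm w'')) ∈ QSub Q A.hQ a hp.ha := by
    intro k
    have e1 : (β (eA A hp w))⁻¹ * k * (β (eA A hp w))
        = β ((eA A hp w)⁻¹ * β.symm k * (eA A hp w)) := by simp
    have e2 : (β (eA A hp.symm w''))⁻¹ * k * (β (eA A hp.symm w''))
        = β ((eA A hp.symm w'')⁻¹ * β.symm k * (eA A hp.symm w'')) := by simp
    rw [e1, e2, mem_iff_of_map_eq β _ Hb, mem_iff_of_map_eq β _ Ha]
    exact key (β.symm k)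
  rw [beta_eA A hp β Ha, beta_eA A hp.symm β Hb] at key'
  have hau : polar (⇑Q) a (fA A hp β w) = 0 := polar_a_fA A hp β w
  have hbu : polar (⇑Q) b (fA A hp β w) = 0 := polar_b_fA A hp β w
  have hau' : polar (⇑Q) a (fA A hp.symm β w'') = 0 := polar_b_fA A hp.symm β w''
  have hbu' : polar (⇑Q) b (fA A hp.symm β w'') = 0 := polar_a_fA A hp.symm β w''
  have hpu : pM Q a b (fA A hp β w) = fA A hp β w := pM_fA A hp β w
  have hpu' : pM Q b a (fA A hp.symm β w'') = fA A hp.symm β w'' := pM_fA A hp.symm β w''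
  generalize fA A hp β w = u at *
  generalize fA A hp.symm β w'' = u' at *
  have hQ1' : Q (act Q (eA A hp u).1 b) = 0 := by rw [Q_act]; exact hp.hb
  have hQ2' : Q (act Q (eA A hp.symm u').1 a) = 0 := by rw [Q_act]; exact hp.ha
  have hle : QSub Q A.hQ (act Q (eA A hp u).1 b) hQ1'
      ≤ QSub Q A.hQ (act Q (eA A hp.symm u').1 a) hQ2' := by
    intro k hk
    rw [mem_QSub_act_iff Q A.hQ b hp.hb] at hk
    rw [mem_QSub_act_iff Q A.hQ a hp.ha]
    exact (key' k).1 hk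
  have hP1 : act Q (eA A hp u).1 b ≠ 0 := by
    intro h0
    have := congrArg (act Q ((eA A hp u).1)⁻¹) h0
    rw [act_inv_act, act_zero] at this
    exact hp.b_ne this
  obtain ⟨μ, hμ⟩ := QSub_point_inj A.h2 Q A.hQ A.hodd A.hn _ _ hQ1' hQ2' hP1 hle
  rw [act_eA_b, act_eA_b, hpu, hpu'] at hμ
  have e1 := congrArg (fun x => polar (⇑Q) a x) hμ
  have e2 := congrArg (fun x => polar (⇑Q) b x) hμ
  have e3 := congrArg (fun x => pM Q a b x) hμ
  simp only [polar_add_right, polar_sub_right, polar_smul_right, hp.hab, hp.haa, hp.hba, hp.hbb,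
    hau, hbu, hau', hbu', smul_eq_mul, mul_zero, mul_one, add_zero, sub_zero, zero_add,
    zero_sub] at e1 e2
  simp only [pM_add, pM_sub, pM_smul, pM_a hp, pM_b hp, smul_zero, zero_add, sub_zero,
    add_zero] at e3
  rw [pM_of_mem hau hbu, pM_of_mem hau' hbu'] at e3
  have hμ' : μ = -Q u := by linear_combination -e2
  refine ⟨by rw [← hμ']; exact e3, ?_⟩
  rw [hμ'] at e1
  linear_combination -e1

end

end Cfsg.Agent.Lib.Helper99.AutO
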