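import Mathlib
import Cfsg.Agent.Lib.Helper99.AutOQ

set_option autoImplicit false

/-!
# Singular vectors in nondegenerate subspaces
-/

namespace Cfsg.Agent.Lib.Helper99.AutO

open Matrix Module QuadraticMap
open Cfsg.Agent.Lib.Helper8 Cfsg.Agent.Lib.Helper13 Cfsg.Agent.Lib.Helper37

variable {ι : Type} [Fintype ι] [DecidableEq ι] {F : Type*} [Field F]

/-- in a nondegenerate subspace with a singular vector, every nonsingular vector is not
orthogonal to some singular vector -/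
theorem SelfND.exists_singular_not_perp (h2 : (2 : F) ≠ 0) {Q : QuadraticForm F (ι → F)}
    {X : Submodule F (ι → F)} (hX : SelfND Q X) {e : ι → F} (he : e ∈ X) (he0 : e ≠ 0)
    (hQe : Q e = 0) {w : ι → F} (hw : w ∈ X) (hQw : Q w ≠ 0) :
    ∃ c ∈ X, Q c = 0 ∧ polar (⇑Q) c w ≠ 0 := by
  by_cases h1 : polar (⇑Q) e w = 0
  swap
  · exact ⟨e, he, hQe, h1⟩
  obtain ⟨d, hd, hed⟩ := hX e he he0
  -- a second singular vector `e₂` with `polar e e₂ ≠ 0`
  have hQe₂ : Q (d + (-(Q d) * (polar (⇑Q) e d)⁻¹) • e) = 0 := by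
    rw [quad_add_smul, hQe, polar_comm (⇑Q) d e]
    field_simp
    ring
  have hee₂ : polar (⇑Q) e (d + (-(Q d) * (polar (⇑Q) e d)⁻¹) • e) ≠ 0 := by
    rw [polar_add_right, polar_smul_right, polar_self, hQe]
    simpa using hed
  have he₂X : d + (-(Q d) * (polar (⇑Q) e d)⁻¹) • e ∈ X := X.add_mem hd (X.smul_mem _ he)
  generalize d + (-(Q d) * (polar (⇑Q) e d)⁻¹) • e = e₂ at *
  by_cases h3 : polar (⇑Q) e₂ w = 0
  swap
  · exact ⟨e₂, he₂X, hQe₂, h3⟩
  refine ⟨w + e + (-(Q w) * (polar (⇑Q) e e₂)⁻¹) • e₂,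
    X.add_mem (X.add_mem hw he) (X.smul_mem _ he₂X), ?_, ?_⟩
  · rw [quad_add_smul, hQe₂, QuadraticMap.map_add Q, hQe, polar_comm (⇑Q) w e, h1, polar_add_left,
      polar_comm (⇑Q) w e₂, h3]
    field_simp
    ring
  · rw [polar_add_left, polar_add_left, polar_smul_left, h1, h3, polar_self, nsmul_eq_mul]
    push_cast
    simpa using mul_ne_zero h2 hQw

/-- in a nondegenerate subspace with a singular vector, every vector is a sum of two singular
vectors -/
theorem SelfND.exists_two_singular (h2 : (2 : F) ≠ 0) {Q : QuadraticForm F (ι → F)}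
    {X : Submodule F (ι → F)} (hX : SelfND Q X) {e : ι → F} (he : e ∈ X) (he0 : e ≠ 0)
    (hQe : Q e = 0) {w : ι → F} (hw : w ∈ X) :
    ∃ c₁ ∈ X, ∃ c₂ ∈ X, Q c₁ = 0 ∧ Q c₂ = 0 ∧ w = c₁ + c₂ := by
  by_cases hQw : Q w = 0
  · exact ⟨w, hw, 0, X.zero_mem, hQw, map_zero Q, by simp⟩
  · obtain ⟨c, hc, hQc, hcw⟩ := hX.exists_singular_not_perp h2 he he0 hQe hw hQw
    refine ⟨w + (-(Q w) * (polar (⇑Q) c w)⁻¹) • c, X.add_mem hw (X.smul_mem _ hc),
      (Q w * (polar (⇑Q) c w)⁻¹) • c, X.smul_mem _ hc, ?_, ?_, ?_⟩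
    · rw [quad_add_smul, hQc, polar_comm (⇑Q) w c]
      field_simp
      ring
    · rw [QuadraticMap.map_smul, hQc, smul_zero]
    · rw [add_assoc, ← add_smul]
      simp

/-- the orthogonal complement of two vectors -/
def perp2 (Q : QuadraticForm F (ι → F)) (a b : ι → F) : Submodule F (ι → F) :=
  LinearMap.ker (QuadraticMap.polarBilin Q a) ⊓ LinearMap.ker (QuadraticMap.polarBilin Q b)

theorem mem_perp2 (Q : QuadraticForm F (ι → F)) (a b x : ι → F) :
    x ∈ perp2 Q a b ↔ polar (⇑Q) a x = 0 ∧ polar (⇑Q) b x = 0 := by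
  unfold perp2
  rw [Submodule.mem_inf, LinearMap.mem_ker, LinearMap.mem_ker, QuadraticMap.polarBilin_apply_apply,
    QuadraticMap.polarBilin_apply_apply]

/-- the orthogonal complement of four vectors -/
def perp4 (Q : QuadraticForm F (ι → F)) (a b c d : ι → F) : Submodule F (ι → F) :=
  perp2 Q a b ⊓ perp2 Q c d

theorem mem_perp4 (Q : QuadraticForm F (ι → F)) (a b c d x : ι → F) :
    x ∈ perp4 Q a b c d ↔ (polar (⇑Q) a x = 0 ∧ polar (⇑Q) b x = 0) ∧
      (polar (⇑Q) c x = 0 ∧ polar (⇑Q) d x = 0) := by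
  unfold perp4
  rw [Submodule.mem_inf, mem_perp2, mem_perp2]

theorem selfND_perp2 {Q : QuadraticForm F (ι → F)}
    (hQ : (QuadraticMap.polarBilin Q).Nondegenerate) {a b : ι → F}
    (hp : HypPair Q a b) : SelfND Q (perp2 Q a b) := by
  intro y hy hy0
  rw [mem_perp2] at hy
  obtain ⟨z, hz⟩ := exists_polar_ne_zero Q hQ y hy0
  refine ⟨pM Q a b z, (mem_perp2 Q a b _).2 ⟨polar_a_pM hp z, polar_b_pM hp z⟩, ?_⟩
  unfold pM
  rw [polar_sub_right, polar_sub_right, polar_smul_right, polar_smul_right, polar_comm (⇑Q) y a,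
    polar_comm (⇑Q) y b, hy.1, hy.2]
  simpa using hz

theorem selfND_perp4 {Q : QuadraticForm F (ι → F)}
    (hQ : (QuadraticMap.polarBilin Q).Nondegenerate) {a b c d : ι → F}
    (hp : HypPair Q a b) (hp' : HypPair Q c d) (hac : polar (⇑Q) a c = 0)
    (had : polar (⇑Q) a d = 0) (hbc : polar (⇑Q) b c = 0) (hbd : polar (⇑Q) b d = 0) :
    SelfND Q (perp4 Q a b c d) := by
  intro y hy hy0
  rw [mem_perp4] at hy
  obtain ⟨z, hz⟩ := exists_polar_ne_zero Q hQ y hy0
  refine ⟨pM Q c d (pM Q a b z), ?_, ?_⟩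
  · rw [mem_perp4]
    refine ⟨⟨?_, ?_⟩, polar_a_pM hp' _, polar_b_pM hp' _⟩
    · have := polar_a_pM hp z
      generalize pM Q a b z = m at *
      unfold pM
      rw [polar_sub_right, polar_sub_right, polar_smul_right, polar_smul_right, hac, had, this]
      simp
    · have := polar_b_pM hp z
      generalize pM Q a b z = m at *
      unfold pM
      rw [polar_sub_right, polar_sub_right, polar_smul_right, polar_smul_right, hbc, hbd, this]
      simp
  · unfold pM
    simp only [polar_sub_right, polar_smul_right, polar_comm (⇑Q) y a, polar_comm (⇑Q) y b,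
      polar_comm (⇑Q) y c, polar_comm (⇑Q) y d, hy.1.1, hy.1.2, hy.2.1, hy.2.2, smul_zero,
      sub_zero]
    exact hz

end Cfsg.Agent.Lib.Helper99.AutO
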