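import Mathlib
import Cfsg.Agent.Lib.Helper99.AutOR

set_option autoImplicit false

/-!
# Singular vectors of the complement of a hyperbolic pair: connectivity
-/

namespace Cfsg.Agent.Lib.Helper99.AutO

open Matrix Module QuadraticMap
open Cfsg.Agent.Lib.Helper8 Cfsg.Agent.Lib.Helper13 Cfsg.Agent.Lib.Helper37

variable {ι : Type} [Fintype ι] [DecidableEq ι] {F : Type*} [Field F]

/-- nonzero singular vectors of the complement of `a, b` -/
def Sing (Q : QuadraticForm F (ι → F)) (a b c : ι → F) : Prop :=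
  polar (⇑Q) a c = 0 ∧ polar (⇑Q) b c = 0 ∧ Q c = 0 ∧ c ≠ 0

theorem Sing.smul {Q : QuadraticForm F (ι → F)} {a b c : ι → F} (hc : Sing Q a b c) {s : F}
    (hs : s ≠ 0) : Sing Q a b (s • c) :=
  ⟨by rw [polar_smul_right, hc.1, smul_zero], by rw [polar_smul_right, hc.2.1, smul_zero],
    by rw [QuadraticMap.map_smul, hc.2.2.1, smul_zero], smul_ne_zero hs hc.2.2.2⟩

theorem Sing.add {Q : QuadraticForm F (ι → F)} {a b c d : ι → F} (hc : Sing Q a b c)
    (hd : Sing Q a b d) (hcd : polar (⇑Q) c d = 0) (hind : ∀ μ : F, d ≠ μ • c) :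
    Sing Q a b (c + d) := by
  refine ⟨by rw [polar_add_right, hc.1, hd.1, add_zero],
    by rw [polar_add_right, hc.2.1, hd.2.1, add_zero],
    by rw [QuadraticMap.map_add Q, hc.2.2.1, hd.2.2.1, hcd]; simp, ?_⟩
  intro h
  apply hind (-1)
  rw [neg_smul, one_smul]
  exact (neg_eq_of_add_eq_zero_right h).symm

section

variable [Fintype F] {Q : QuadraticForm F (ι → F)} (A : Amb Q) {a b : ι → F}

include A

theorem exists_sing : ∃ c, Sing Q a b c := by
  obtain ⟨c, -, hc0, hQc, hc⟩ := exists_singular_perp Q [a, b] ⊤ (by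
    rw [finrank_top]
    have := A.hn
    simp only [List.length_cons, List.length_nil]
    omega)
  exact ⟨c, hc a (by simp), hc b (by simp), hQc, hc0⟩

theorem exists_sing_perp2 {c d : ι → F} (hcd : polar (⇑Q) c d ≠ 0) :
    ∃ e, Sing Q a b e ∧ polar (⇑Q) c e = 0 ∧ polar (⇑Q) d e = 0 ∧ (∀ μ : F, e ≠ μ • c) ∧
      (∀ μ : F, e ≠ μ • d) := by
  obtain ⟨e, -, he0, hQe, he⟩ := exists_singular_perp Q [a, b, c, d] ⊤ (by
    rw [finrank_top]
    have := A.hn
    simp only [List.length_cons, List.length_nil]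
    omega)
  have hce : polar (⇑Q) c e = 0 := he c (by simp)
  have hde : polar (⇑Q) d e = 0 := he d (by simp)
  refine ⟨e, ⟨he a (by simp), he b (by simp), hQe, he0⟩, hce, hde, ?_, ?_⟩
  · intro μ hμ
    rw [hμ, polar_smul_right, polar_comm (⇑Q) d c, smul_eq_mul] at hde
    have hμ0 : μ = 0 := (mul_eq_zero.1 hde).resolve_right hcd
    rw [hμ0, zero_smul] at hμ
    exact he0 hμ
  · intro μ hμ
    rw [hμ, polar_smul_right, smul_eq_mul] at hce
    have hμ0 : μ = 0 := (mul_eq_zero.1 hce).resolve_right hcd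
    rw [hμ0, zero_smul] at hμ
    exact he0 hμ

theorem exists_sing_perp1 {c : ι → F} (hc0 : c ≠ 0) :
    ∃ e, Sing Q a b e ∧ polar (⇑Q) c e = 0 ∧ (∀ μ : F, e ≠ μ • c) := by
  obtain ⟨z, hz⟩ := exists_polar_ne_zero Q A.hQ c hc0
  obtain ⟨e, -, he0, hQe, he⟩ := exists_singular_perp Q [a, b, c, z] ⊤ (by
    rw [finrank_top]
    have := A.hn
    simp only [List.length_cons, List.length_nil]
    omega)
  have hze : polar (⇑Q) z e = 0 := he z (by simp)
  refine ⟨e, ⟨he a (by simp), he b (by simp), hQe, he0⟩, he c (by simp), ?_⟩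
  intro μ hμ
  rw [hμ, polar_smul_right, polar_comm (⇑Q) z c, smul_eq_mul] at hze
  have hμ0 : μ = 0 := (mul_eq_zero.1 hze).resolve_right hz
  rw [hμ0, zero_smul] at hμ
  exact he0 hμ

/-- a function on singular vectors which is constant on orthogonal independent pairs is
constant -/
theorem sing_connected {X : Type*} (Φ : (ι → F) → X)
    (h : ∀ c d, Sing Q a b c → Sing Q a b d → polar (⇑Q) c d = 0 → (∀ μ : F, d ≠ μ • c) →
      Φ c = Φ d) :
    ∀ c d, Sing Q a b c → Sing Q a b d → Φ c = Φ d := by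
  intro c d hc hd
  by_cases hcd : polar (⇑Q) c d = 0
  · by_cases hdep : ∃ μ : F, d = μ • c
    · obtain ⟨μ, hμ⟩ := hdep
      obtain ⟨e, he, hce, hind⟩ := exists_sing_perp1 (a := a) (b := b) A hc.2.2.2
      have hμ0 : μ ≠ 0 := by
        rintro rfl
        rw [zero_smul] at hμ
        exact hd.2.2.2 hμ
      rw [h c e hc he hce hind]
      refine (h d e hd he (by rw [hμ, polar_smul_left, hce, smul_zero]) ?_).symm
      intro μ' hμ'
      exact hind (μ' * μ) (by rw [hμ', hμ, smul_smul])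
    · push Not at hdep
      exact h c d hc hd hcd hdep
  · obtain ⟨e, he, hce, hde, hind1, hind2⟩ := exists_sing_perp2 (a := a) (b := b) A hcd
    rw [h c e hc he hce hind1, h d e hd he hde hind2]

end

end Cfsg.Agent.Lib.Helper99.AutO
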