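import Mathlib
import Cfsg.Agent.Lib.Helper99.AutOS

set_option autoImplicit false

/-!
# The field automorphism attached to an additive map preserving singular lines
-/

namespace Cfsg.Agent.Lib.Helper99.AutO

open Matrix Module QuadraticMap
open Cfsg.Agent.Lib.Helper8 Cfsg.Agent.Lib.Helper13 Cfsg.Agent.Lib.Helper37

variable {ι : Type} [Fintype ι] [DecidableEq ι] {F : Type*} [Field F]

/-- the hypotheses of the algebraic core -/
structure CoreHyp (Q : QuadraticForm F (ι → F)) (a b : ι → F) (f f' : (ι → F) → (ι → F)) :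
    Prop where
  fM : ∀ w, polar (⇑Q) a (f w) = 0 ∧ polar (⇑Q) b (f w) = 0
  f'M : ∀ w, polar (⇑Q) a (f' w) = 0 ∧ polar (⇑Q) b (f' w) = 0
  fadd : ∀ w w', f (w + w') = f w + f w'
  f'add : ∀ w w', f' (w + w') = f' w + f' w'
  finj : ∀ w w', polar (⇑Q) a w = 0 → polar (⇑Q) b w = 0 → polar (⇑Q) a w' = 0 →
    polar (⇑Q) b w' = 0 → f w = f w' → w = w'
  line : ∀ c, Sing Q a b c → ∃ c₁, Q c₁ = 0 ∧ ∀ s : F,
    (∃ s' : F, f (s • c) = s' • c₁) ∧ (∃ s'' : F, f' (s • c) = s'' • c₁)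
  pt : ∀ w, polar (⇑Q) a w = 0 → polar (⇑Q) b w = 0 → Q w ≠ 0 →
    f w = (-Q (f w)) • f' ((-(Q w)⁻¹) • w) ∧ Q (f w) * Q (f' ((-(Q w)⁻¹) • w)) = 1

/-- the scalar by which `f` acts along the line of `c` -/
noncomputable def Tfun (f : (ι → F) → (ι → F)) (c : ι → F) (s : F) : F := by
  classical
  exact if h : ∃ t : F, f (s • c) = t • f c then h.choose else 0

/-- the ratio of `f'` and `f` at `c` -/
noncomputable def Lfun (f f' : (ι → F) → (ι → F)) (c : ι → F) : F := by
  classical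
  exact if h : ∃ t : F, f' c = t • f c then h.choose else 0

section

variable {Q : QuadraticForm F (ι → F)} {a b : ι → F} {f f' : (ι → F) → (ι → F)}
  (H : CoreHyp Q a b f f')

include H

theorem CoreHyp.f_zero : f 0 = 0 := by
  have := H.fadd 0 0
  rw [add_zero] at this
  exact left_eq_add.mp this

theorem CoreHyp.f'_zero : f' 0 = 0 := by
  have := H.f'add 0 0
  rw [add_zero] at this
  exact left_eq_add.mp this

theorem CoreHyp.f_ne_zero {c : ι → F} (hc : Sing Q a b c) : f c ≠ 0 := by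
  intro h0
  apply hc.2.2.2
  apply H.finj c 0 hc.1 hc.2.1 (by simp) (by simp)
  rw [h0, H.f_zero]

theorem CoreHyp.L1 {c : ι → F} (hc : Sing Q a b c) :
    Q (f c) = 0 ∧ (∀ s : F, ∃ t : F, f (s • c) = t • f c) ∧ (∃ l : F, f' c = l • f c) := by
  obtain ⟨c₁, hc₁, h⟩ := H.line c hc
  obtain ⟨s₁, hs₁⟩ := (h 1).1
  rw [one_smul] at hs₁
  have hs₁0 : s₁ ≠ 0 := by
    rintro rfl
    rw [zero_smul] at hs₁
    exact H.f_ne_zero hc hs₁
  have hc₁' : c₁ = s₁⁻¹ • f c := by rw [hs₁, smul_smul, inv_mul_cancel₀ hs₁0, one_smul]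
  refine ⟨by rw [hs₁, QuadraticMap.map_smul, hc₁, smul_zero], fun s => ?_, ?_⟩
  · obtain ⟨s', hs'⟩ := (h s).1
    exact ⟨s' * s₁⁻¹, by rw [hs', ← smul_smul, ← hc₁']⟩
  · obtain ⟨s'', hs''⟩ := (h 1).2
    rw [one_smul] at hs''
    exact ⟨s'' * s₁⁻¹, by rw [hs'', ← smul_smul, ← hc₁']⟩

theorem CoreHyp.T_spec {c : ι → F} (hc : Sing Q a b c) (s : F) :
    f (s • c) = Tfun f c s • f c := by
  unfold Tfun
  have h := (H.L1 hc).2.1 s
  rw [dif_pos h]
  exact h.choose_spec

theorem CoreHyp.T_unique {c : ι → F} (hc : Sing Q a b c) (s t : F) (h : f (s • c) = t • f c) :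
    Tfun f c s = t := by
  have h1 := H.T_spec hc s
  rw [h] at h1
  have h3 : (t - Tfun f c s) • f c = 0 := by rw [sub_smul, ← h1, sub_self]
  rcases smul_eq_zero.1 h3 with h4 | h4
  · exact (sub_eq_zero.1 h4).symm
  · exact absurd h4 (H.f_ne_zero hc)

theorem CoreHyp.L_spec {c : ι → F} (hc : Sing Q a b c) : f' c = Lfun f f' c • f c := by
  unfold Lfun
  have h := (H.L1 hc).2.2
  rw [dif_pos h]
  exact h.choose_spec

theorem CoreHyp.T_add {c : ι → F} (hc : Sing Q a b c) (s t : F) :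
    Tfun f c (s + t) = Tfun f c s + Tfun f c t := by
  apply H.T_unique hc
  rw [add_smul, H.fadd, H.T_spec hc s, H.T_spec hc t, add_smul]

theorem CoreHyp.T_one {c : ι → F} (hc : Sing Q a b c) : Tfun f c 1 = 1 := by
  apply H.T_unique hc
  rw [one_smul, one_smul]

theorem CoreHyp.T_zero {c : ι → F} (hc : Sing Q a b c) : Tfun f c 0 = 0 := by
  apply H.T_unique hc
  rw [zero_smul, zero_smul, H.f_zero]

theorem CoreHyp.T_eq_zero {c : ι → F} (hc : Sing Q a b c) {s : F} (h : Tfun f c s = 0) :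
    s = 0 := by
  have h1 := H.T_spec hc s
  rw [h, zero_smul, ← H.f_zero] at h1
  have := H.finj (s • c) 0 (by rw [polar_smul_right, hc.1, smul_zero])
    (by rw [polar_smul_right, hc.2.1, smul_zero]) (by simp) (by simp) h1
  rcases smul_eq_zero.1 this with h4 | h4
  · exact h4
  · exact absurd h4 hc.2.2.2

theorem CoreHyp.T_neg {c : ι → F} (hc : Sing Q a b c) (s : F) :
    Tfun f c (-s) = -Tfun f c s := by
  have := H.T_add hc s (-s)
  rw [add_neg_cancel, H.T_zero hc] at this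
  exact (neg_eq_of_add_eq_zero_right this.symm).symm

theorem CoreHyp.T_injective {c : ι → F} (hc : Sing Q a b c) :
    Function.Injective (Tfun f c) := by
  intro s t hst
  have : Tfun f c (s + -t) = 0 := by rw [H.T_add hc, H.T_neg hc, hst, add_neg_cancel]
  have := H.T_eq_zero hc this
  exact add_neg_eq_zero.1 this

theorem CoreHyp.T_surjective [Finite F] {c : ι → F} (hc : Sing Q a b c) :
    Function.Surjective (Tfun f c) :=
  Finite.surjective_of_injective (H.T_injective hc)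

/-- images of independent singular vectors are independent -/
theorem CoreHyp.indep [Finite F] {c d : ι → F} (hc : Sing Q a b c) (hd : Sing Q a b d)
    (hind : ∀ μ : F, d ≠ μ • c) {α β : F} (h : α • f c + β • f d = 0) : α = 0 ∧ β = 0 := by
  have hβ : β = 0 := by
    by_contra hβ
    have e1 : f d = (-α * β⁻¹) • f c := by
      have : β • f d = (-α) • f c := by
        rw [neg_smul]
        exact eq_neg_of_add_eq_zero_right h
      rw [mul_comm, ← smul_smul, ← this, smul_smul, inv_mul_cancel₀ hβ, one_smul]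
    obtain ⟨s₀, hs₀⟩ := H.T_surjective hc (-α * β⁻¹)
    rw [← hs₀, ← H.T_spec hc] at e1
    exact hind s₀ (H.finj d (s₀ • c) hd.1 hd.2.1 (by rw [polar_smul_right, hc.1, smul_zero])
      (by rw [polar_smul_right, hc.2.1, smul_zero]) e1)
  refine ⟨?_, hβ⟩
  rw [hβ, zero_smul, add_zero] at h
  rcases smul_eq_zero.1 h with h4 | h4
  · exact h4
  · exact absurd h4 (H.f_ne_zero hc)

theorem CoreHyp.T_eq_of_orth [Finite F] {c d : ι → F} (hc : Sing Q a b c) (hd : Sing Q a b d)
    (hcd : polar (⇑Q) c d = 0) (hind : ∀ μ : F, d ≠ μ • c) : Tfun f c = Tfun f d := by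
  funext s
  have hcd' := hc.add hd hcd hind
  have h1 := H.T_spec hcd' s
  rw [smul_add, H.fadd, H.fadd, H.T_spec hc s, H.T_spec hd s, smul_add] at h1
  have h3 : (Tfun f c s - Tfun f (c + d) s) • f c + (Tfun f d s - Tfun f (c + d) s) • f d = 0 := by
    rw [sub_smul, sub_smul]
    have := sub_eq_zero.2 h1
    rw [← this]
    abel
  obtain ⟨e1, e2⟩ := H.indep hc hd hind h3
  rw [sub_eq_zero.1 e1, sub_eq_zero.1 e2]

theorem CoreHyp.L_eq_of_orth [Finite F] {c d : ι → F} (hc : Sing Q a b c) (hd : Sing Q a b d)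
    (hcd : polar (⇑Q) c d = 0) (hind : ∀ μ : F, d ≠ μ • c) : Lfun f f' c = Lfun f f' d := by
  have hcd' := hc.add hd hcd hind
  have h1 := H.L_spec hcd'
  rw [H.f'add, H.fadd, H.L_spec hc, H.L_spec hd, smul_add] at h1
  have h3 : (Lfun f f' c - Lfun f f' (c + d)) • f c
      + (Lfun f f' d - Lfun f f' (c + d)) • f d = 0 := by
    rw [sub_smul, sub_smul]
    have := sub_eq_zero.2 h1
    rw [← this]
    abel
  obtain ⟨e1, e2⟩ := H.indep hc hd hind h3
  rw [sub_eq_zero.1 e1, sub_eq_zero.1 e2]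

end

end Cfsg.Agent.Lib.Helper99.AutO
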