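import Mathlib
import Cfsg.Agent.Lib.Helper99.AutOT

set_option autoImplicit false

/-!
# Semilinearity and the quadric lemma
-/

namespace Cfsg.Agent.Lib.Helper99.AutO

open Matrix Module QuadraticMap
open Cfsg.Agent.Lib.Helper8 Cfsg.Agent.Lib.Helper13 Cfsg.Agent.Lib.Helper37

variable {ι : Type} [Fintype ι] [DecidableEq ι] {F : Type*} [Field F]

theorem Q_add3 (Q : QuadraticForm F (ι → F)) (x y z : ι → F) :
    Q (x + y + z) = Q x + Q y + Q z + polar (⇑Q) x y + polar (⇑Q) x z + polar (⇑Q) y z := by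
  rw [QuadraticMap.map_add Q, QuadraticMap.map_add Q, polar_add_left]
  ring

section

variable [Fintype F] {Q : QuadraticForm F (ι → F)} (A : Amb Q) {a b : ι → F}
  (hp : HypPair Q a b) {f f' : (ι → F) → (ι → F)} (H : CoreHyp Q a b f f')

include A H

theorem CoreHyp.T_const {c d : ι → F} (hc : Sing Q a b c) (hd : Sing Q a b d) :
    Tfun f c = Tfun f d :=
  sing_connected A (Tfun f) (fun _ _ hc hd hcd hind => H.T_eq_of_orth hc hd hcd hind) c d hc hd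

theorem CoreHyp.L_const {c d : ι → F} (hc : Sing Q a b c) (hd : Sing Q a b d) :
    Lfun f f' c = Lfun f f' d :=
  sing_connected A (Lfun f f') (fun _ _ hc hd hcd hind => H.L_eq_of_orth hc hd hcd hind) c d hc hd

theorem CoreHyp.T_mul {c : ι → F} (hc : Sing Q a b c) (t s : F) :
    Tfun f c (t * s) = Tfun f c t * Tfun f c s := by
  by_cases hs : s = 0
  · rw [hs, mul_zero, H.T_zero hc, mul_zero]
  have hsc := hc.smul hs
  apply H.T_unique hc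
  rw [← smul_smul, H.T_spec hsc t, H.T_spec hc s, smul_smul, H.T_const A hsc hc]

/-- the field automorphism -/
noncomputable def CoreHyp.tau {c₀ : ι → F} (hc₀ : Sing Q a b c₀) : F ≃+* F :=
  RingEquiv.ofBijective
    ({ toFun := Tfun f c₀
       map_one' := H.T_one hc₀
       map_mul' := H.T_mul A hc₀
       map_zero' := H.T_zero hc₀
       map_add' := H.T_add hc₀ } : F →+* F)
    ⟨H.T_injective hc₀, H.T_surjective hc₀⟩

theorem CoreHyp.tau_apply {c₀ : ι → F} (hc₀ : Sing Q a b c₀) (s : F) :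
    H.tau A hc₀ s = Tfun f c₀ s := rfl

theorem CoreHyp.semilin_sing {c₀ : ι → F} (hc₀ : Sing Q a b c₀) {c : ι → F}
    (h1 : polar (⇑Q) a c = 0) (h3 : polar (⇑Q) b c = 0) (hQc : Q c = 0) (s : F) :
    f (s • c) = Tfun f c₀ s • f c := by
  by_cases hc0 : c = 0
  · rw [hc0, smul_zero, H.f_zero, smul_zero]
  · have hc : Sing Q a b c := ⟨h1, h3, hQc, hc0⟩
    rw [H.T_spec hc, H.T_const A hc hc₀]

omit A in
theorem CoreHyp.Qf_sing {c : ι → F} (h1 : polar (⇑Q) a c = 0) (h3 : polar (⇑Q) b c = 0)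
    (hQc : Q c = 0) : Q (f c) = 0 := by
  by_cases hc0 : c = 0
  · rw [hc0, H.f_zero, map_zero]
  · exact (H.L1 ⟨h1, h3, hQc, hc0⟩).1

omit A in
theorem CoreHyp.polar_f_sing {x y : ι → F} (hx1 : polar (⇑Q) a x = 0) (hx3 : polar (⇑Q) b x = 0)
    (hQx : Q x = 0) (hy1 : polar (⇑Q) a y = 0) (hy3 : polar (⇑Q) b y = 0) (hQy : Q y = 0)
    (hxy : polar (⇑Q) x y = 0) : polar (⇑Q) (f x) (f y) = 0 := by
  have h := H.Qf_sing (c := x + y) (by rw [polar_add_right, hx1, hy1, add_zero])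
    (by rw [polar_add_right, hx3, hy3, add_zero])
    (by rw [QuadraticMap.map_add Q, hQx, hQy, hxy]; simp)
  rw [H.fadd, QuadraticMap.map_add Q, H.Qf_sing hx1 hx3 hQx, H.Qf_sing hy1 hy3 hQy, zero_add,
    zero_add] at h
  exact h

include hp

theorem CoreHyp.semilin {c₀ : ι → F} (hc₀ : Sing Q a b c₀) {w : ι → F}
    (h1 : polar (⇑Q) a w = 0) (h3 : polar (⇑Q) b w = 0) (s : F) :
    f (s • w) = Tfun f c₀ s • f w := by
  obtain ⟨c₁, hc₁, c₂, hc₂, hQ1, hQ2, rfl⟩ := (selfND_perp2 A.hQ hp).exists_two_singular A.h2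
    (e := c₀) ((mem_perp2 Q a b c₀).2 ⟨hc₀.1, hc₀.2.1⟩) hc₀.2.2.2 hc₀.2.2.1
    ((mem_perp2 Q a b w).2 ⟨h1, h3⟩)
  rw [mem_perp2] at hc₁ hc₂
  rw [smul_add, H.fadd, H.fadd, H.semilin_sing A hc₀ hc₁.1 hc₁.2 hQ1,
    H.semilin_sing A hc₀ hc₂.1 hc₂.2 hQ2, smul_add]

theorem CoreHyp.f'_eq {c₀ : ι → F} (hc₀ : Sing Q a b c₀) {w : ι → F}
    (h1 : polar (⇑Q) a w = 0) (h3 : polar (⇑Q) b w = 0) :
    f' w = Lfun f f' c₀ • f w := by
  obtain ⟨c₁, hc₁, c₂, hc₂, hQ1, hQ2, rfl⟩ := (selfND_perp2 A.hQ hp).exists_two_singular A.h2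
    (e := c₀) ((mem_perp2 Q a b c₀).2 ⟨hc₀.1, hc₀.2.1⟩) hc₀.2.2.2 hc₀.2.2.1
    ((mem_perp2 Q a b w).2 ⟨h1, h3⟩)
  rw [mem_perp2] at hc₁ hc₂
  have key : ∀ c, polar (⇑Q) a c = 0 → polar (⇑Q) b c = 0 → Q c = 0 →
      f' c = Lfun f f' c₀ • f c := by
    intro c hc1 hc3 hQc
    by_cases hc0 : c = 0
    · rw [hc0, H.f_zero, H.f'_zero, smul_zero]
    · have hc : Sing Q a b c := ⟨hc1, hc3, hQc, hc0⟩
      rw [H.L_spec hc, H.L_const A hc hc₀]
  rw [H.f'add, H.fadd, key c₁ hc₁.1 hc₁.2 hQ1, key c₂ hc₂.1 hc₂.2 hQ2, smul_add]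

end

end Cfsg.Agent.Lib.Helper99.AutO
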