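import Mathlib
import Cfsg.Agent.Lib.Helper99.AutOU

set_option autoImplicit false

/-!
# The quadric lemma and the conclusion of the algebraic core
-/

namespace Cfsg.Agent.Lib.Helper99.AutO

open Matrix Module QuadraticMap
open Cfsg.Agent.Lib.Helper8 Cfsg.Agent.Lib.Helper13 Cfsg.Agent.Lib.Helper37

variable {ι : Type} [Fintype ι] [DecidableEq ι] {F : Type*} [Field F]

section

variable [Fintype F] {Q : QuadraticForm F (ι → F)} (A : Amb Q) {a b : ι → F}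
  (hp : HypPair Q a b) {f f' : (ι → F) → (ι → F)} (H : CoreHyp Q a b f f')

include A H hp

omit H in
/-- a hyperbolic pair inside the complement -/
theorem exists_hyp_in_compl {c₀ : ι → F} (hc₀ : Sing Q a b c₀) :
    ∃ c', HypPair Q c₀ c' ∧ polar (⇑Q) a c' = 0 ∧ polar (⇑Q) b c' = 0 := by
  obtain ⟨d, hd, hcd⟩ := selfND_perp2 A.hQ hp c₀ ((mem_perp2 Q a b c₀).2 ⟨hc₀.1, hc₀.2.1⟩)
    hc₀.2.2.2
  rw [mem_perp2] at hd
  have hcc : polar (⇑Q) c₀ c₀ = 0 := by rw [polar_self, hc₀.2.2.1, smul_zero]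
  refine ⟨(polar (⇑Q) c₀ d)⁻¹ • (d + (-(Q d) * (polar (⇑Q) c₀ d)⁻¹) • c₀),
    ⟨hc₀.2.2.1, ?_, ?_⟩, ?_, ?_⟩
  · rw [QuadraticMap.map_smul, quad_add_smul, hc₀.2.2.1, polar_comm (⇑Q) d c₀]
    field_simp
    ring
  · rw [polar_smul_right, polar_add_right, polar_smul_right, hcc, smul_zero, add_zero, smul_eq_mul,
      inv_mul_cancel₀ hcd]
  · rw [polar_smul_right, polar_add_right, polar_smul_right, hd.1, hc₀.1]
    simp
  · rw [polar_smul_right, polar_add_right, polar_smul_right, hd.2, hc₀.2.1]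
    simp

theorem CoreHyp.exists_kappa {c₀ : ι → F} (hc₀ : Sing Q a b c₀) :
    ∃ κ : F, ∀ w, polar (⇑Q) a w = 0 → polar (⇑Q) b w = 0 →
      Q (f w) = κ * Tfun f c₀ (Q w) := by
  obtain ⟨c', hp', hac', hbc'⟩ := exists_hyp_in_compl A hp hc₀
  refine ⟨polar (⇑Q) (f c₀) (f c'), ?_⟩
  have hND' := selfND_perp4 A.hQ hp hp' hc₀.1 hac' hc₀.2.1 hbc'
  obtain ⟨e', -, he'0, hQe', he'⟩ := exists_singular_perp Q [a, b, c₀, c'] ⊤ (by
    rw [finrank_top]
    have := A.hn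
    simp only [List.length_cons, List.length_nil]
    omega)
  have he'M : e' ∈ perp4 Q a b c₀ c' := by
    rw [mem_perp4]
    exact ⟨⟨he' a (by simp), he' b (by simp)⟩, he' c₀ (by simp), he' c' (by simp)⟩
  have hQfc₀ : Q (f c₀) = 0 := H.Qf_sing hc₀.1 hc₀.2.1 hc₀.2.2.1
  have hQfc' : Q (f c') = 0 := H.Qf_sing hac' hbc' hp'.hb
  -- (i)
  have hi : ∀ w', w' ∈ perp4 Q a b c₀ c' →
      polar (⇑Q) (f w') (f c₀) = 0 ∧ polar (⇑Q) (f w') (f c') = 0 := by
    intro w' hw'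
    obtain ⟨e₁, he₁, e₂, he₂, hQ1, hQ2, rfl⟩ := hND'.exists_two_singular A.h2 he'M he'0 hQe' hw'
    rw [mem_perp4] at he₁ he₂
    rw [H.fadd, polar_add_left, polar_add_left,
      H.polar_f_sing he₁.1.1 he₁.1.2 hQ1 hc₀.1 hc₀.2.1 hc₀.2.2.1
        (by rw [polar_comm]; exact he₁.2.1),
      H.polar_f_sing he₂.1.1 he₂.1.2 hQ2 hc₀.1 hc₀.2.1 hc₀.2.2.1
        (by rw [polar_comm]; exact he₂.2.1),
      H.polar_f_sing he₁.1.1 he₁.1.2 hQ1 hac' hbc' hp'.hb (by rw [polar_comm]; exact he₁.2.2),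
      H.polar_f_sing he₂.1.1 he₂.1.2 hQ2 hac' hbc' hp'.hb (by rw [polar_comm]; exact he₂.2.2)]
    simp
  -- (ii)
  have hii : ∀ w', w' ∈ perp4 Q a b c₀ c' →
      Q (f w') = polar (⇑Q) (f c₀) (f c') * Tfun f c₀ (Q w') := by
    intro w' hw'
    obtain ⟨h1, h3⟩ := hi w' hw'
    rw [mem_perp4] at hw'
    have hu : Q (w' + (-(Q w')) • c₀ + c') = 0 := by
      rw [Q_add3, QuadraticMap.map_smul, hc₀.2.2.1, hp'.hb, polar_smul_right, polar_smul_left,
        polar_comm (⇑Q) w' c₀, hw'.2.1, polar_comm (⇑Q) w' c', hw'.2.2, hp'.hab]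
      simp
    have h5 := H.Qf_sing (c := w' + (-(Q w')) • c₀ + c')
      (by rw [polar_add_right, polar_add_right, polar_smul_right, hw'.1.1, hc₀.1, hac']; simp)
      (by rw [polar_add_right, polar_add_right, polar_smul_right, hw'.1.2, hc₀.2.1, hbc']; simp)
      hu
    rw [H.fadd, H.fadd, H.semilin_sing A hc₀ hc₀.1 hc₀.2.1 hc₀.2.2.1, Q_add3,
      QuadraticMap.map_smul, hQfc₀, hQfc', polar_smul_right, polar_smul_left, h1, h3,
      H.T_neg hc₀] at h5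
    simp only [smul_eq_mul, mul_zero, add_zero] at h5
    linear_combination h5
  -- (iii)
  intro w h1 h3
  have hdec := decomp (Q := Q) (a := c₀) (b := c') w
  have hw'M : pM Q c₀ c' w ∈ perp4 Q a b c₀ c' := by
    rw [mem_perp4]
    refine ⟨⟨?_, ?_⟩, polar_a_pM hp' w, polar_b_pM hp' w⟩
    · unfold pM
      rw [polar_sub_right, polar_sub_right, polar_smul_right, polar_smul_right, h1, hc₀.1, hac']
      simp
    · unfold pM
      rw [polar_sub_right, polar_sub_right, polar_smul_right, polar_smul_right, h3, hc₀.2.1, hbc']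
      simp
  have hQw := Q_decomp hp' w
  obtain ⟨i1, i3⟩ := hi _ hw'M
  have hQw' := hii _ hw'M
  have hw'M' := (mem_perp4 Q a b c₀ c' _).1 hw'M
  generalize pM Q c₀ c' w = w' at *
  generalize polar (⇑Q) c' w = x at *
  generalize polar (⇑Q) c₀ w = y at *
  rw [hQw, hdec, H.fadd, H.fadd, H.semilin_sing A hc₀ hc₀.1 hc₀.2.1 hc₀.2.2.1,
    H.semilin_sing A hc₀ hac' hbc' hp'.hb, Q_add3, QuadraticMap.map_smul, QuadraticMap.map_smul,
    hQfc₀, hQfc', polar_smul_left, polar_smul_left, polar_smul_right, polar_smul_right,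
    polar_comm (⇑Q) (f c₀) (f w'), i1, i3, hQw', H.T_add hc₀, H.T_mul A hc₀]
  simp only [smul_eq_mul, mul_zero, add_zero, zero_add]
  ring

/-- **The algebraic core.** -/
theorem CoreHyp.conclusion :
    ∃ (τ : F ≃+* F) (κ : F), κ ≠ 0 ∧
      (∀ w, polar (⇑Q) a w = 0 → polar (⇑Q) b w = 0 → ∀ s : F, f (s • w) = τ s • f w) ∧
      (∀ w, polar (⇑Q) a w = 0 → polar (⇑Q) b w = 0 → Q (f w) = κ * τ (Q w)) ∧
      (∀ w, polar (⇑Q) a w = 0 → polar (⇑Q) b w = 0 → f' w = κ⁻¹ • f w) := by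
  obtain ⟨c₀, hc₀⟩ := exists_sing (a := a) (b := b) A
  obtain ⟨κ, hκ⟩ := H.exists_kappa A hp hc₀
  obtain ⟨c', hp', hac', hbc'⟩ := exists_hyp_in_compl A hp hc₀
  -- a nonsingular vector of the complement
  have hQw : Q (c₀ + c') = 1 := by
    rw [QuadraticMap.map_add Q, hc₀.2.2.1, hp'.hb, hp'.hab]
    simp
  have haw : polar (⇑Q) a (c₀ + c') = 0 := by rw [polar_add_right, hc₀.1, hac', add_zero]
  have hbw : polar (⇑Q) b (c₀ + c') = 0 := by rw [polar_add_right, hc₀.2.1, hbc', add_zero]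
  obtain ⟨e1, e2⟩ := H.pt (c₀ + c') haw hbw (by rw [hQw]; exact one_ne_zero)
  rw [hQw] at e1 e2
  have hw'' : polar (⇑Q) a ((-(1 : F)⁻¹) • (c₀ + c')) = 0 ∧
      polar (⇑Q) b ((-(1 : F)⁻¹) • (c₀ + c')) = 0 := by
    rw [polar_smul_right, polar_smul_right, haw, hbw]
    simp
  have e3 := H.f'_eq A hp hc₀ hw''.1 hw''.2
  rw [H.semilin A hp hc₀ haw hbw] at e3
  have hQf := hκ (c₀ + c') haw hbw
  rw [hQw, H.T_one hc₀, mul_one] at hQf
  have hT : Tfun f c₀ (-(1 : F)⁻¹) = -1 := by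
    rw [inv_one, H.T_neg hc₀, H.T_one hc₀]
  rw [hT] at e3
  rw [e3, hQf] at e1 e2
  have hfw : f (c₀ + c') ≠ 0 := by
    intro h0
    rw [h0, smul_zero, smul_zero, map_zero, mul_zero] at e2
    exact zero_ne_one e2
  have hκ0 : κ ≠ 0 := by
    rintro rfl
    rw [zero_mul] at e2
    exact zero_ne_one e2
  have hκl : κ * Lfun f f' c₀ = 1 := by
    have h5 : (1 - κ * Lfun f f' c₀) • f (c₀ + c') = 0 := by
      rw [sub_smul, one_smul]
      nth_rewrite 1 [e1]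
      rw [smul_smul, smul_smul]
      have : -κ * Lfun f f' c₀ * -1 = κ * Lfun f f' c₀ := by ring
      rw [this, sub_self]
    rcases smul_eq_zero.1 h5 with h6 | h6
    · linear_combination -h6
    · exact absurd h6 hfw
  have hl : Lfun f f' c₀ = κ⁻¹ := by
    field_simp
    linear_combination hκl
  refine ⟨H.tau A hc₀, κ, hκ0, ?_, ?_, ?_⟩
  · intro w h1 h3 s
    rw [H.tau_apply A hc₀]
    exact H.semilin A hp hc₀ h1 h3 s
  · intro w h1 h3
    rw [H.tau_apply A hc₀]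
    exact hκ w h1 h3
  · intro w h1 h3
    rw [← hl]
    exact H.f'_eq A hp hc₀ h1 h3

end

end Cfsg.Agent.Lib.Helper99.AutO
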