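import Mathlib
import Cfsg.Agent.Lib.Helper99.AutOV

set_option autoImplicit false

/-!
# The semilinear map inducing a normalised automorphism on the two opposite radicals
-/

namespace Cfsg.Agent.Lib.Helper99.AutO

open Matrix Module QuadraticMap
open Cfsg.Agent.Lib.Helper8 Cfsg.Agent.Lib.Helper13 Cfsg.Agent.Lib.Helper37

variable {ι : Type} [Fintype ι] [DecidableEq ι] {F : Type*} [Field F]

section

variable [Fintype F] {Q : QuadraticForm F (ι → F)} (A : Amb Q) {a b : ι → F}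
  (hp : HypPair Q a b) (β : ↥(Cfsg.Omega F ⇑Q) ≃* ↥(Cfsg.Omega F ⇑Q))
  (Ha : (QSub Q A.hQ a hp.ha).map β.toMonoidHom = QSub Q A.hQ a hp.ha)
  (Hb : (QSub Q A.hQ b hp.hb).map β.toMonoidHom = QSub Q A.hQ b hp.hb)

include Ha Hb

theorem coreHyp_of_normalised : CoreHyp Q a b (fA A hp β) (fA A hp.symm β) where
  fM := fun w => ⟨polar_a_fA A hp β w, polar_b_fA A hp β w⟩
  f'M := fun w => ⟨polar_b_fA A hp.symm β w, polar_a_fA A hp.symm β w⟩
  fadd := fA_add A hp β Ha
  f'add := fA_add A hp.symm β Hb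
  finj := by
    intro w w' h1 h3 h1' h3' h
    have := fA_inj A hp β Ha h
    rwa [pM_of_mem h1 h3, pM_of_mem h1' h3'] at this
  line := by
    intro c hc
    obtain ⟨c₁, hc₁, -, -, h⟩ := exists_line_image A hp β Ha Hb c hc.2.2.1 hc.1 hc.2.1 hc.2.2.2
    exact ⟨c₁, hc₁, h⟩
  pt := point_relation A hp β Ha Hb

end

/-- the semilinear map built from the data of the algebraic core -/
def phiMap (Q : QuadraticForm F (ι → F)) (a b : ι → F) (f : (ι → F) → (ι → F)) (τ : F ≃+* F)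
    (κ : F) (x : ι → F) : ι → F :=
  (κ * τ (polar (⇑Q) b x)) • a + f (pM Q a b x) + τ (polar (⇑Q) a x) • b

section phi

variable {Q : QuadraticForm F (ι → F)} {a b : ι → F} (hp : HypPair Q a b)
  {f : (ι → F) → (ι → F)} {τ : F ≃+* F} {κ : F}
  (hfM : ∀ w, polar (⇑Q) a (f w) = 0 ∧ polar (⇑Q) b (f w) = 0)
  (hfadd : ∀ w w', f (w + w') = f w + f w')
  (hsl : ∀ w, polar (⇑Q) a w = 0 → polar (⇑Q) b w = 0 → ∀ s : F, f (s • w) = τ s • f w)
  (hQf : ∀ w, polar (⇑Q) a w = 0 → polar (⇑Q) b w = 0 → Q (f w) = κ * τ (Q w))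

include hfadd in
theorem phiMap_add (x y : ι → F) :
    phiMap Q a b f τ κ (x + y) = phiMap Q a b f τ κ x + phiMap Q a b f τ κ y := by
  unfold phiMap
  rw [polar_add_right, polar_add_right, map_add, map_add, pM_add, hfadd, mul_add, add_smul,
    add_smul]
  abel

include hp hsl in
theorem phiMap_smul (s : F) (x : ι → F) :
    phiMap Q a b f τ κ (s • x) = τ s • phiMap Q a b f τ κ x := by
  unfold phiMap
  rw [polar_smul_right, polar_smul_right, pM_smul, hsl _ (polar_a_pM hp x) (polar_b_pM hp x),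
    smul_eq_mul, smul_eq_mul, map_mul, map_mul, smul_add, smul_add, smul_smul, smul_smul]
  congr 2
  ring

include hp hfM in
theorem polar_a_phiMap (x : ι → F) :
    polar (⇑Q) a (phiMap Q a b f τ κ x) = τ (polar (⇑Q) a x) := by
  unfold phiMap
  rw [polar_add_right, polar_add_right, polar_smul_right, polar_smul_right, hp.haa, hp.hab,
    (hfM _).1]
  simp

include hp hfM in
theorem polar_b_phiMap (x : ι → F) :
    polar (⇑Q) b (phiMap Q a b f τ κ x) = κ * τ (polar (⇑Q) b x) := by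
  unfold phiMap
  rw [polar_add_right, polar_add_right, polar_smul_right, polar_smul_right, hp.hbb, hp.hba,
    (hfM _).2]
  simp

include hp hfM in
theorem pM_phiMap (x : ι → F) :
    pM Q a b (phiMap Q a b f τ κ x) = f (pM Q a b x) := by
  unfold phiMap
  rw [pM_add, pM_add, pM_smul, pM_smul, pM_a hp, pM_b hp, pM_of_mem (hfM _).1 (hfM _).2]
  simp

include hp hfM hQf in
theorem Q_phiMap (x : ι → F) : Q (phiMap Q a b f τ κ x) = κ * τ (Q x) := by
  rw [Q_decomp hp (phiMap Q a b f τ κ x), polar_a_phiMap hp hfM, polar_b_phiMap hp hfM,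
    pM_phiMap hp hfM, hQf _ (polar_a_pM hp x) (polar_b_pM hp x), Q_decomp hp x, map_add, map_mul]
  ring

include hp hfM hfadd hQf in
/-- polarisation of `Q ∘ f = κ τ ∘ Q` -/
theorem polar_f_f {m m' : ι → F} (h1 : polar (⇑Q) a m = 0) (h3 : polar (⇑Q) b m = 0)
    (h1' : polar (⇑Q) a m' = 0) (h3' : polar (⇑Q) b m' = 0) :
    polar (⇑Q) (f m) (f m') = κ * τ (polar (⇑Q) m m') := by
  have e1 : polar (⇑Q) (f m) (f m') = Q (f m + f m') - Q (f m) - Q (f m') := rfl
  have e2 : polar (⇑Q) m m' = Q (m + m') - Q m - Q m' := rfl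
  rw [e1, ← hfadd, hQf _ (by rw [polar_add_right, h1, h1', add_zero])
    (by rw [polar_add_right, h3, h3', add_zero]), hQf _ h1 h3, hQf _ h1' h3', e2, map_sub,
    map_sub]
  ring

end phi

end Cfsg.Agent.Lib.Helper99.AutO
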