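import Mathlib
import Cfsg.Agent.Lib.Helper99.AutOW

set_option autoImplicit false

/-!
# Intertwining properties of the semilinear map
-/

namespace Cfsg.Agent.Lib.Helper99.AutO

open Matrix Module QuadraticMap
open Cfsg.Agent.Lib.Helper8 Cfsg.Agent.Lib.Helper13 Cfsg.Agent.Lib.Helper37

variable {ι : Type} [Fintype ι] [DecidableEq ι] {F : Type*} [Field F]

section phi

variable {Q : QuadraticForm F (ι → F)} (hQ : (QuadraticMap.polarBilin Q).Nondegenerate)
  {a b : ι → F} (hp : HypPair Q a b)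
  {f : (ι → F) → (ι → F)} {τ : F ≃+* F} {κ : F}
  (hfM : ∀ w, polar (⇑Q) a (f w) = 0 ∧ polar (⇑Q) b (f w) = 0)
  (hfadd : ∀ w w', f (w + w') = f w + f w')
  (hsl : ∀ w, polar (⇑Q) a w = 0 → polar (⇑Q) b w = 0 → ∀ s : F, f (s • w) = τ s • f w)
  (hQf : ∀ w, polar (⇑Q) a w = 0 → polar (⇑Q) b w = 0 → Q (f w) = κ * τ (Q w))

include hfadd in
theorem f_zero_of_add : f 0 = 0 := by
  have := hfadd 0 0
  rw [add_zero] at this
  exact left_eq_add.mp this

include hp hfadd in
theorem phiMap_a : phiMap Q a b f τ κ a = κ • a := by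
  unfold phiMap
  rw [hp.hba, hp.haa, pM_a hp, f_zero_of_add hfadd]
  simp

include hp hfadd in
theorem phiMap_b : phiMap Q a b f τ κ b = b := by
  unfold phiMap
  rw [hp.hbb, hp.hab, pM_b hp, f_zero_of_add hfadd]
  simp

theorem phiMap_of_mem {m : ι → F} (h1 : polar (⇑Q) a m = 0) (h3 : polar (⇑Q) b m = 0) :
    phiMap Q a b f τ κ m = f m := by
  unfold phiMap
  rw [h1, h3, pM_of_mem h1 h3]
  simp

include hp hfM hfadd hQf in
theorem polar_f_phiMap {m : ι → F} (h1 : polar (⇑Q) a m = 0) (h3 : polar (⇑Q) b m = 0)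
    (x : ι → F) : polar (⇑Q) (f m) (phiMap Q a b f τ κ x) = κ * τ (polar (⇑Q) m x) := by
  have e : polar (⇑Q) m x = polar (⇑Q) m (pM Q a b x) := by
    unfold pM
    rw [polar_sub_right, polar_sub_right, polar_smul_right, polar_smul_right, polar_comm (⇑Q) m a,
      polar_comm (⇑Q) m b, h1, h3]
    simp
  unfold phiMap
  rw [polar_add_right, polar_add_right, polar_smul_right, polar_smul_right,
    polar_comm (⇑Q) (f m) a, polar_comm (⇑Q) (f m) b, (hfM m).1, (hfM m).2,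
    polar_f_f hp hfM hfadd hQf h1 h3 (polar_a_pM hp x) (polar_b_pM hp x), e]
  simp

include hp hfM hfadd hsl hQf in
theorem phi_eichler_a {m : ι → F} (h1 : polar (⇑Q) a m = 0) (h3 : polar (⇑Q) b m = 0)
    (x : ι → F) :
    phiMap Q a b f τ κ (act Q (eichlerElt Q hQ a m hp.ha h1) x)
      = act Q (eichlerElt Q hQ a (f m) hp.ha (hfM m).1) (phiMap Q a b f τ κ x) := by
  rw [act_eichler, act_eichler, polar_a_phiMap hp hfM, polar_f_phiMap hp hfM hfadd hQf h1 h3,
    hQf m h1 h3]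
  have e : x + polar (⇑Q) a x • m - polar (⇑Q) m x • a - (Q m * polar (⇑Q) a x) • a
      = x + polar (⇑Q) a x • m + (-(polar (⇑Q) m x + Q m * polar (⇑Q) a x)) • a := by
    rw [neg_smul, add_smul]
    abel
  rw [e, phiMap_add hfadd, phiMap_add hfadd, phiMap_smul hp hsl, phiMap_smul hp hsl,
    phiMap_a hp hfadd, phiMap_of_mem h1 h3, map_neg, map_add, map_mul]
  module

include hp hfM hfadd hsl hQf in
theorem phi_eichler_b (hκ : κ ≠ 0) {m : ι → F} (h1 : polar (⇑Q) a m = 0)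
    (h3 : polar (⇑Q) b m = 0) (x : ι → F) :
    phiMap Q a b f τ κ (act Q (eichlerElt Q hQ b m hp.hb h3) x)
      = act Q (eichlerElt Q hQ b (κ⁻¹ • f m) hp.hb
          (by rw [polar_smul_right, (hfM m).2, smul_zero])) (phiMap Q a b f τ κ x) := by
  rw [act_eichler, act_eichler, polar_b_phiMap hp hfM, polar_smul_left,
    polar_f_phiMap hp hfM hfadd hQf h1 h3, QuadraticMap.map_smul, hQf m h1 h3]
  have e : x + polar (⇑Q) b x • m - polar (⇑Q) m x • b - (Q m * polar (⇑Q) b x) • b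
      = x + polar (⇑Q) b x • m + (-(polar (⇑Q) m x + Q m * polar (⇑Q) b x)) • b := by
    rw [neg_smul, add_smul]
    abel
  rw [e, phiMap_add hfadd, phiMap_add hfadd, phiMap_smul hp hsl, phiMap_smul hp hsl,
    phiMap_b hp hfadd, phiMap_of_mem h1 h3, map_neg, map_add, map_mul]
  simp only [smul_eq_mul, smul_smul]
  have e1 : κ * τ (polar (⇑Q) b x) * κ⁻¹ = τ (polar (⇑Q) b x) := by field_simp
  have e2 : κ⁻¹ * (κ * τ (polar (⇑Q) m x)) = τ (polar (⇑Q) m x) := by field_simp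
  have e3 : κ⁻¹ * κ⁻¹ * (κ * τ (Q m)) * (κ * τ (polar (⇑Q) b x))
      = τ (Q m) * τ (polar (⇑Q) b x) := by field_simp
  rw [e1, e2, e3]
  module

end phi

end Cfsg.Agent.Lib.Helper99.AutO
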