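import Mathlib
import Cfsg.Agent.Lib.Helper99.AutOX

set_option autoImplicit false

/-!
# `Ω` is generated by two opposite radicals
-/

namespace Cfsg.Agent.Lib.Helper99.AutO

open Matrix Module QuadraticMap
open Cfsg.Agent.Lib.Helper8 Cfsg.Agent.Lib.Helper13 Cfsg.Agent.Lib.Helper37

variable {ι : Type} [Fintype ι] [DecidableEq ι] {F : Type*} [Field F]

section

variable [Fintype F] {Q : QuadraticForm F (ι → F)} (A : Amb Q)

include A

theorem QSub_le_of_hyp (H : Subgroup ↥(Cfsg.Omega F ⇑Q)) {x y z : ι → F}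
    (hp : HypPair Q x y) (hz : Q z = 0) (hxz : polar (⇑Q) x z = 1)
    (hHx : QSub Q A.hQ x hp.ha ≤ H) (hHy : QSub Q A.hQ y hp.hb ≤ H) : QSub Q A.hQ z hz ≤ H := by
  have e : act Q (eA A hp z).1 y = z := by
    rw [act_eA_b]
    have h1 := decomp (Q := Q) (a := x) (b := y) z
    have h3 := Q_decomp hp z
    rw [hxz, hz, one_mul] at h3
    have h4 : polar (⇑Q) y z = -Q (pM Q x y z) := by linear_combination -h3
    rw [hxz, one_smul, h4] at h1
    nth_rewrite 3 [h1]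
    rw [neg_smul]
    abel
  have hQ' : Q (act Q (eA A hp z).1 y) = 0 := by rw [Q_act]; exact hp.hb
  rw [QSub_congr Q A.hQ z _ hz hQ' e.symm]
  intro k hk
  rw [mem_QSub_act_iff Q A.hQ y hp.hb] at hk
  have h5 := hHy hk
  have h6 := hHx (eA_mem A hp z)
  have : k = eA A hp z * ((eA A hp z)⁻¹ * k * eA A hp z) * (eA A hp z)⁻¹ := by group
  rw [this]
  exact H.mul_mem (H.mul_mem h6 h5) (H.inv_mem h6)

theorem QSub_le_of_nonorth (H : Subgroup ↥(Cfsg.Omega F ⇑Q)) {x y z : ι → F} (hx : Q x = 0)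
    (hy : Q y = 0) (hz : Q z = 0) (hxy : polar (⇑Q) x y ≠ 0) (hxz : polar (⇑Q) x z ≠ 0)
    (hHx : QSub Q A.hQ x hx ≤ H) (hHy : QSub Q A.hQ y hy ≤ H) : QSub Q A.hQ z hz ≤ H := by
  have hQy₁ : Q ((polar (⇑Q) x y)⁻¹ • y) = 0 := by rw [QuadraticMap.map_smul, hy, smul_zero]
  have hQz₁ : Q ((polar (⇑Q) x z)⁻¹ • z) = 0 := by rw [QuadraticMap.map_smul, hz, smul_zero]
  have hp : HypPair Q x ((polar (⇑Q) x y)⁻¹ • y) :=
    ⟨hx, hQy₁, by rw [polar_smul_right, smul_eq_mul, inv_mul_cancel₀ hxy]⟩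
  have h1 := QSub_le_of_hyp A H hp hQz₁
    (by rw [polar_smul_right, smul_eq_mul, inv_mul_cancel₀ hxz]) hHx
    (by rw [QSub_smul Q A.hQ y hy _ (inv_ne_zero hxy) hQy₁]; exact hHy)
  rwa [QSub_smul Q A.hQ z hz _ (inv_ne_zero hxz) hQz₁] at h1

theorem QSub_le_of_pair (H : Subgroup ↥(Cfsg.Omega F ⇑Q)) {a b : ι → F} (hp : HypPair Q a b)
    (hHa : QSub Q A.hQ a hp.ha ≤ H) (hHb : QSub Q A.hQ b hp.hb ≤ H) (z : ι → F) (hz : Q z = 0)
    (hz0 : z ≠ 0) : QSub Q A.hQ z hz ≤ H := by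
  by_cases haz : polar (⇑Q) a z = 0
  swap
  · exact QSub_le_of_nonorth A H hp.ha hp.hb hz (by rw [hp.hab]; exact one_ne_zero) haz hHa hHb
  -- a singular `t` with `polar t a ≠ 0`, `polar t z ≠ 0`
  obtain ⟨t, hQt, hta, htz⟩ : ∃ t, Q t = 0 ∧ polar (⇑Q) t a ≠ 0 ∧ polar (⇑Q) t z ≠ 0 := by
    by_cases hbz : polar (⇑Q) b z = 0
    · obtain ⟨m, hm, hzm⟩ := selfND_perp2 A.hQ hp z ((mem_perp2 Q a b z).2 ⟨haz, hbz⟩) hz0
      rw [mem_perp2] at hm
      refine ⟨act Q (eA A hp m).1 b, by rw [Q_act]; exact hp.hb, ?_, ?_⟩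
      · rw [act_eA_b, pM_of_mem hm.1 hm.2, polar_sub_left, polar_add_left, polar_smul_left, hp.hba,
          hp.haa, polar_comm (⇑Q) m a, hm.1]
        simp
      · rw [act_eA_b, pM_of_mem hm.1 hm.2, polar_sub_left, polar_add_left, polar_smul_left, haz,
          hbz, polar_comm (⇑Q) m z]
        simpa using hzm
    · exact ⟨b, hp.hb, by rw [hp.hba]; exact one_ne_zero, hbz⟩
  have hHt : QSub Q A.hQ t hQt ≤ H :=
    QSub_le_of_nonorth A H hp.ha hp.hb hQt (by rw [hp.hab]; exact one_ne_zero)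
      (by rw [polar_comm]; exact hta) hHa hHb
  exact QSub_le_of_nonorth A H hQt hp.ha hz hta htz hHt hHa

/-- `Ω` is generated by `Q_a` and `Q_b` -/
theorem QSub_sup_eq_top {a b : ι → F} (hp : HypPair Q a b) (H : Subgroup ↥(Cfsg.Omega F ⇑Q))
    (hHa : QSub Q A.hQ a hp.ha ≤ H) (hHb : QSub Q A.hQ b hp.hb ≤ H) : H = ⊤ := by
  rw [eq_top_iff]
  rintro ⟨g, hg⟩ -
  have hn5 : 5 ≤ finrank F (ι → F) := by have := A.hn; omega
  have hle : Cfsg.Omega F ⇑Q ≤ H.map (Cfsg.Omega F ⇑Q).subtype := by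
    show commutator ↥(Cfsg.isometryGroup F ⇑Q) ≤ _
    rw [omega_eq_closure_longRoot Q A.hQ hn5 (fun h => absurd h A.h2), Subgroup.closure_le]
    rintro k ⟨u, v, hu, huv, -, rfl⟩
    by_cases hu0 : u = 0
    · have e1 : eichlerElt Q A.hQ u v hu huv = 1 := by
        apply reflElt_ext
        intro x
        rw [act_eichler, act_one, hu0]
        simp
      rw [e1]
      exact Subgroup.one_mem _
    · have := QSub_le_of_pair A H hp hHa hHb u hu hu0 (eO_mem_QSub A.h2 Q A.hQ A.hn u v hu huv)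
      exact ⟨_, this, rfl⟩
  obtain ⟨h, hh, e⟩ := hle hg
  have : (⟨g, hg⟩ : ↥(Cfsg.Omega F ⇑Q)) = h := Subtype.ext e.symm
  rw [this]
  exact hh

end

end Cfsg.Agent.Lib.Helper99.AutO
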