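import Mathlib
import Cfsg.Prelude.Def_GeometricClasses
import Cfsg.Agent.Lib.Helper37.OmegaWitt
import Cfsg.Agent.Lib.Helper37.OmegaFrames
import Cfsg.Agent.Lib.Helper8.OrthIndexTwo

set_option autoImplicit false

/-!
Hyperbolic families in non-degenerate quadratic spaces over finite fields of odd characteristic,
and Witt's theorem inside `Ω` with a spare hyperbolic pair.
-/

namespace Cfsg.Agent.Lib.Helper99.SubfO

open Matrix Module QuadraticMap
open Cfsg.Agent.Lib.Helper8 Cfsg.Agent.Lib.Helper13 Cfsg.Agent.Lib.Helper37

variable {ι : Type} [Fintype ι] [DecidableEq ι] {K : Type*} [Field K]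

theorem HypFam.linearIndependent' {Q : QuadraticForm K (ι → K)} {k : ℕ} {e f : Fin k → ι → K}
    (h : HypFam Q k e f) : LinearIndependent K (Sum.elim e f) := by
  rw [Fintype.linearIndependent_iff]
  intro g hg
  rw [Fintype.sum_sum_type] at hg
  simp only [Sum.elim_inl, Sum.elim_inr] at hg
  have key : ∀ z : ι → K, ∑ i, g (Sum.inl i) * polar (⇑Q) (e i) z
      + ∑ i, g (Sum.inr i) * polar (⇑Q) (f i) z = 0 := by
    intro z
    have h1 := congrArg (fun x => QuadraticMap.polarBilin Q x z) hg
    simpa only [map_add, map_sum, LinearMap.add_apply, LinearMap.sum_apply, map_smul,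
      LinearMap.smul_apply, map_zero, LinearMap.zero_apply, QuadraticMap.polarBilin_apply_apply,
      smul_eq_mul] using h1
  intro a
  cases a with
  | inl i =>
    have h1 := key (f i)
    simp only [h.ef, h.ff, mul_zero, Finset.sum_const_zero, add_zero, mul_ite, mul_one,
      Finset.sum_ite_eq', Finset.mem_univ, if_true] at h1
    exact h1
  | inr i =>
    have h1 := key (e i)
    simp only [h.ee, h.fe, mul_zero, Finset.sum_const_zero, zero_add, mul_ite, mul_one,
      Finset.sum_ite_eq', Finset.mem_univ, if_true] at h1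
    exact h1

/-- hyperbolic families of every admissible size exist over a finite field of odd order -/
theorem exists_hypFam [Fintype K] (h2 : (2 : K) ≠ 0) (Q : QuadraticForm K (ι → K))
    (hQ : (QuadraticMap.polarBilin Q).Nondegenerate) :
    ∀ k : ℕ, 2 * k + 1 ≤ finrank K (ι → K) → ∃ e f : Fin k → ι → K, HypFam Q k e f := by
  intro k
  induction k with
  | zero =>
    intro _
    exact ⟨fun i => i.elim0, fun i => i.elim0, ⟨fun i => i.elim0, fun i => i.elim0,
      fun i => i.elim0, fun i => i.elim0, fun i => i.elim0⟩⟩
  | succ k ih =>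
    intro hk
    obtain ⟨e, f, h⟩ := ih (by omega)
    have h4 : (4 : K) ≠ 0 := by
      have : (4 : K) = 2 * 2 := by norm_num
      rw [this]
      exact mul_ne_zero h2 h2
    obtain ⟨w, hw⟩ : ∃ w : Fin k ⊕ Fin k → ι → K,
        w = Sum.elim (fun i => e i + f i) (fun i => e i - f i) := ⟨_, rfl⟩
    have hworth : ∀ a b, a ≠ b → polar (⇑Q) (w a) (w b) = 0 := by
      intro a b hab
      rw [hw]
      cases a with
      | inl i =>
        cases b with
        | inl j =>
          have hij : i ≠ j := fun h' => hab (by rw [h'])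
          simp only [Sum.elim_inl, polar_add_left, polar_add_right, h.ee, h.ff, h.ef, h.fe,
            if_neg hij]
          simp
        | inr j =>
          simp only [Sum.elim_inl, Sum.elim_inr, polar_add_left, polar_sub_right, h.ee, h.ff,
            h.ef, h.fe]
          ring
      | inr i =>
        cases b with
        | inl j =>
          simp only [Sum.elim_inl, Sum.elim_inr, polar_sub_left, polar_add_right, h.ee, h.ff,
            h.ef, h.fe]
          ring
        | inr j =>
          have hij : i ≠ j := fun h' => hab (by rw [h'])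
          simp only [Sum.elim_inr, polar_sub_left, polar_sub_right, h.ee, h.ff, h.ef, h.fe,
            if_neg hij]
          simp
    have hQw : ∀ a, Q (w a) ≠ 0 := by
      intro a
      rw [hw]
      cases a with
      | inl i =>
        have := h.Q_comb i 1 1
        simp only [one_smul, mul_one] at this
        simp only [Sum.elim_inl]
        rw [this]
        exact one_ne_zero
      | inr i =>
        have := h.Q_comb i 1 (-1)
        simp only [one_smul, neg_smul, mul_neg, mul_one, ← sub_eq_add_neg] at this
        simp only [Sum.elim_inr]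
        rw [this]
        exact neg_ne_zero.2 one_ne_zero
    obtain ⟨z₁, hz₁, hz₁w⟩ := exists_norm_eq_fin h2 Q hQ w hworth hQw
      (by simp only [Fintype.card_sum, Fintype.card_fin]; omega) 1
    obtain ⟨w', hw'⟩ : ∃ w' : Option (Fin k ⊕ Fin k) → ι → K,
        w' = fun o => Option.elim o z₁ w := ⟨_, rfl⟩
    have hworth' : ∀ a b, a ≠ b → polar (⇑Q) (w' a) (w' b) = 0 := by
      intro a b hab
      rw [hw']
      cases a with
      | none =>
        cases b with
        | none => exact absurd rfl hab
        | some b =>
          simp only [Option.elim]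
          rw [polar_comm]
          exact hz₁w b
      | some a =>
        cases b with
        | none =>
          simp only [Option.elim]
          exact hz₁w a
        | some b =>
          simp only [Option.elim]
          exact hworth a b (fun h' => hab (by rw [h']))
    have hQw' : ∀ a, Q (w' a) ≠ 0 := by
      intro a
      rw [hw']
      cases a with
      | none =>
        simp only [Option.elim]
        rw [hz₁]; exact one_ne_zero
      | some a =>
        simp only [Option.elim]
        exact hQw a
    obtain ⟨z₂, hz₂, hz₂w⟩ := exists_norm_eq_fin h2 Q hQ w' hworth' hQw'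
      (by simp only [Fintype.card_option, Fintype.card_sum, Fintype.card_fin]; omega) (-1)
    have hz12 : polar (⇑Q) z₁ z₂ = 0 := by
      have := hz₂w none
      rw [hw'] at this
      simpa only [Option.elim] using this
    have hz₂w'' : ∀ a, polar (⇑Q) (w a) z₂ = 0 := by
      intro a
      have := hz₂w (some a)
      rw [hw'] at this
      simpa only [Option.elim] using this
    -- orthogonality to the old family
    have horth : ∀ z : ι → K, (∀ a, polar (⇑Q) (w a) z = 0) →
        ∀ i, polar (⇑Q) (e i) z = 0 ∧ polar (⇑Q) (f i) z = 0 := by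
      intro z hz i
      have ha := hz (Sum.inl i)
      have hb := hz (Sum.inr i)
      rw [hw] at ha hb
      simp only [Sum.elim_inl, Sum.elim_inr, polar_add_left, polar_sub_left] at ha hb
      constructor
      · have : (2 : K) * polar (⇑Q) (e i) z = 0 := by linear_combination ha + hb
        exact (mul_eq_zero.1 this).resolve_left h2
      · have : (2 : K) * polar (⇑Q) (f i) z = 0 := by linear_combination ha - hb
        exact (mul_eq_zero.1 this).resolve_left h2
    have ho1 := horth z₁ hz₁w
    have ho2 := horth z₂ hz₂w''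
    have hz11 : polar (⇑Q) z₁ z₁ = 2 := by
      rw [polar_self, hz₁]; simp
    have hz22 : polar (⇑Q) z₂ z₂ = -2 := by
      rw [polar_self, hz₂]; simp
    have hz21 : polar (⇑Q) z₂ z₁ = 0 := by rw [polar_comm]; exact hz12
    obtain ⟨e', he'⟩ : ∃ e' : ι → K, e' = z₁ + z₂ := ⟨_, rfl⟩
    obtain ⟨f', hf'⟩ : ∃ f' : ι → K, f' = (4 : K)⁻¹ • (z₁ - z₂) := ⟨_, rfl⟩
    have hQe' : Q e' = 0 := by
      rw [he', QuadraticMap.map_add Q, hz₁, hz₂, hz12]; ring
    have hQf' : Q f' = 0 := by
      rw [hf', QuadraticMap.map_smul, sub_eq_add_neg, QuadraticMap.map_add Q,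
        QuadraticMap.map_neg, hz₁, hz₂, polar_neg_right, hz12]
      simp
    have hef' : polar (⇑Q) e' f' = 1 := by
      rw [he', hf', polar_smul_right, polar_add_left, polar_sub_right, polar_sub_right, hz11,
        hz12, hz21, hz22, smul_eq_mul]
      field_simp
      norm_num
    have hee' : polar (⇑Q) e' e' = 0 := by
      rw [polar_self, hQe']; simp
    have hff' : polar (⇑Q) f' f' = 0 := by
      rw [polar_self, hQf']; simp
    have he'e : ∀ i, polar (⇑Q) e' (e i) = 0 := by
      intro i
      rw [he', polar_add_left, polar_comm (⇑Q) z₁, polar_comm (⇑Q) z₂, (ho1 i).1, (ho2 i).1,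
        add_zero]
    have he'f : ∀ i, polar (⇑Q) e' (f i) = 0 := by
      intro i
      rw [he', polar_add_left, polar_comm (⇑Q) z₁, polar_comm (⇑Q) z₂, (ho1 i).2, (ho2 i).2,
        add_zero]
    have hf'e : ∀ i, polar (⇑Q) f' (e i) = 0 := by
      intro i
      rw [hf', polar_smul_left, polar_sub_left, polar_comm (⇑Q) z₁, polar_comm (⇑Q) z₂,
        (ho1 i).1, (ho2 i).1, sub_zero, smul_zero]
    have hf'f : ∀ i, polar (⇑Q) f' (f i) = 0 := by
      intro i
      rw [hf', polar_smul_left, polar_sub_left, polar_comm (⇑Q) z₁, polar_comm (⇑Q) z₂,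
        (ho1 i).2, (ho2 i).2, sub_zero, smul_zero]
    refine ⟨Fin.cons e' e, Fin.cons f' f, ⟨?_, ?_, ?_, ?_, ?_⟩⟩
    · intro i
      refine Fin.cases ?_ (fun j => ?_) i
      · simpa using hQe'
      · simpa using h.qe j
    · intro i
      refine Fin.cases ?_ (fun j => ?_) i
      · simpa using hQf'
      · simpa using h.qf j
    · intro i i'
      refine Fin.cases ?_ (fun j => ?_) i <;> refine Fin.cases ?_ (fun j' => ?_) i'
      · simpa using hee'
      · simpa using he'e j'
      · simp only [Fin.cons_succ, Fin.cons_zero]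
        rw [polar_comm]; exact he'e j
      · simpa using h.ee j j'
    · intro i i'
      refine Fin.cases ?_ (fun j => ?_) i <;> refine Fin.cases ?_ (fun j' => ?_) i'
      · simpa using hff'
      · simpa using hf'f j'
      · simp only [Fin.cons_succ, Fin.cons_zero]
        rw [polar_comm]; exact hf'f j
      · simpa using h.ff j j'
    · intro i i'
      refine Fin.cases ?_ (fun j => ?_) i <;> refine Fin.cases ?_ (fun j' => ?_) i'
      · simpa using hef'
      · simp only [Fin.cons_succ, Fin.cons_zero]
        rw [he'f j', if_neg (Fin.succ_ne_zero j').symm]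
      · simp only [Fin.cons_succ, Fin.cons_zero]
        rw [polar_comm, hf'e j, if_neg (Fin.succ_ne_zero j)]
      · simp only [Fin.cons_succ]
        rw [h.ef j j']
        by_cases hjj : j = j'
        · rw [if_pos hjj, if_pos (by rw [hjj])]
        · rw [if_neg hjj, if_neg (fun h' => hjj (Fin.succ_injective _ h'))]

/-- Witt's theorem inside `Ω`, given a spare hyperbolic pair orthogonal to the source family -/
theorem witt_omega_spare [Fintype K] (Q : QuadraticForm K (ι → K))
    (hQ : (QuadraticMap.polarBilin Q).Nondegenerate)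
    (hn : 5 ≤ finrank K (ι → K))
    (e' f' : ι → K) (he' : Q e' = 0) (hf' : Q f' = 0) (hef' : polar (⇑Q) e' f' = 1)
    (n : ℕ) (x y : Fin n → ι → K) (hx : LinearIndependent K x) (hy : LinearIndependent K y)
    (hq : ∀ i, Q (y i) = Q (x i)) (hp : ∀ i j, polar ⇑Q (y i) (y j) = polar ⇑Q (x i) (x j))
    (hxe : ∀ i, polar (⇑Q) e' (x i) = 0) (hxf : ∀ i, polar (⇑Q) f' (x i) = 0) :
    ∃ g : ↥(Cfsg.isometryGroup K ⇑Q), g ∈ commutator ↥(Cfsg.isometryGroup K ⇑Q) ∧
      ∀ i, act Q g (x i) = y i := by
  obtain ⟨g₀, hg₀, hg₀x⟩ := witt_family_quad Q hQ n x y hx hy hq hp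
  have hpol : ∀ a b, polar (⇑Q) (g₀ a) (g₀ b) = polar (⇑Q) a b := by
    intro a b
    unfold polar
    rw [← map_add, hg₀, hg₀, hg₀]
  apply omega_witt_frame Q hQ (Or.inr (by omega)) n x y hx hy hq hp
  intro c hc
  refine ⟨g₀ (e' + c • f'), ?_, ?_⟩
  · rw [hg₀, QuadraticMap.map_add Q, QuadraticMap.map_smul, he', hf', polar_smul_right, hef']
    simp
  · intro i
    rw [← hg₀x i, hpol, polar_add_left, polar_smul_left, hxe, hxf]
    simp

end Cfsg.Agent.Lib.Helper99.SubfO
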