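import Mathlib
import Cfsg.Agent.Lib.Helper99.AutOY
import Cfsg.Agent.Lib.Helper99.SubfOD

set_option autoImplicit false

/-!
# Every automorphism of `Ω` is induced by a semilinear similarity
-/

namespace Cfsg.Agent.Lib.Helper99.AutO

open Matrix Module QuadraticMap
open Cfsg.Agent.Lib.Helper8 Cfsg.Agent.Lib.Helper13 Cfsg.Agent.Lib.Helper37

variable {ι : Type} [Fintype ι] [DecidableEq ι] {F : Type*} [Field F]

/-- `β` is induced by the semilinear similarity `φ` -/
structure InducedBy (Q : QuadraticForm F (ι → F))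
    (β : ↥(Cfsg.Omega F ⇑Q) ≃* ↥(Cfsg.Omega F ⇑Q)) (τ : F ≃+* F) (κ : F)
    (φ : (ι → F) → (ι → F)) : Prop where
  hκ : κ ≠ 0
  add : ∀ x y, φ (x + y) = φ x + φ y
  smul : ∀ (s : F) x, φ (s • x) = τ s • φ x
  quad : ∀ x, Q (φ x) = κ * τ (Q x)
  inj : ∀ x, φ x = 0 → x = 0
  ind : ∀ (s : ↥(Cfsg.Omega F ⇑Q)) x, act Q (β s).1 (φ x) = φ (act Q s.1 x)

section

variable [Fintype F] {Q : QuadraticForm F (ι → F)} (A : Amb Q) {a b : ι → F}
  (hp : HypPair Q a b) (β : ↥(Cfsg.Omega F ⇑Q) ≃* ↥(Cfsg.Omega F ⇑Q))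
  (Ha : (QSub Q A.hQ a hp.ha).map β.toMonoidHom = QSub Q A.hQ a hp.ha)
  (Hb : (QSub Q A.hQ b hp.hb).map β.toMonoidHom = QSub Q A.hQ b hp.hb)

include Ha Hb

theorem exists_inducedBy_of_normalised :
    ∃ (τ : F ≃+* F) (κ : F) (φ : (ι → F) → (ι → F)), InducedBy Q β τ κ φ := by
  have H := coreHyp_of_normalised A hp β Ha Hb
  obtain ⟨τ, κ, hκ, hsl, hQf, hf'⟩ := H.conclusion A hp
  have hfM := H.fM
  have hfadd := H.fadd
  refine ⟨τ, κ, phiMap Q a b (fA A hp β) τ κ, hκ, phiMap_add hfadd,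
    phiMap_smul hp hsl, Q_phiMap hp hfM hQf, ?_, ?_⟩
  · intro x hx
    have h1 : polar (⇑Q) a x = 0 := by
      have := polar_a_phiMap (τ := τ) (κ := κ) hp hfM x
      rw [hx, polar_zero_right] at this
      exact (map_eq_zero τ).1 this.symm
    have h3 : polar (⇑Q) b x = 0 := by
      have := polar_b_phiMap (τ := τ) (κ := κ) hp hfM x
      rw [hx, polar_zero_right] at this
      have := (mul_eq_zero.1 this.symm).resolve_left hκ
      exact (map_eq_zero τ).1 this
    have h5 : pM Q a b x = 0 := by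
      have := pM_phiMap (τ := τ) (κ := κ) hp hfM x
      rw [hx, pM_zero, ← fA_zero A hp β Ha] at this
      have := fA_inj A hp β Ha this
      rw [pM_zero, pM_pM hp] at this
      exact this.symm
    have := decomp (Q := Q) (a := a) (b := b) x
    rw [h1, h3, h5] at this
    simpa using this
  · -- the subgroup of elements on which `β` is conjugation by `φ`
    let S : Subgroup ↥(Cfsg.Omega F ⇑Q) :=
      { carrier := {s | ∀ x, act Q (β s).1 (phiMap Q a b (fA A hp β) τ κ x)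
          = phiMap Q a b (fA A hp β) τ κ (act Q s.1 x)}
        mul_mem' := by
          intro s t hs ht x
          rw [map_mul, Subgroup.coe_mul, Subgroup.coe_mul, act_mul, act_mul, ht, hs]
        one_mem' := by
          intro x
          rw [map_one]
          simp [act_one]
        inv_mem' := by
          intro s hs x
          have h1 := hs (act Q (s⁻¹ : ↥(Cfsg.Omega F ⇑Q)).1 x)
          rw [InvMemClass.coe_inv, act_act_inv] at h1
          rw [map_inv, InvMemClass.coe_inv, ← h1, act_inv_act, InvMemClass.coe_inv] }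
    have hSa : QSub Q A.hQ a hp.ha ≤ S := by
      intro g hg x
      obtain ⟨w, rfl⟩ := exists_eA_of_mem A hp hg
      rw [beta_eA A hp β Ha, coe_eA, coe_eA]
      have h := phi_eichler_a A.hQ hp hfM hfadd hsl hQf (polar_a_pM hp w) (polar_b_pM hp w) x
      rw [h]
      congr 1
      apply eichlerElt_congr
      · rfl
      · rw [pM_fA]
        exact fA_congr A hp β Ha (pM_pM hp w).symm
    have hSb : QSub Q A.hQ b hp.hb ≤ S := by
      intro g hg x
      obtain ⟨w, rfl⟩ := exists_eA_of_mem A hp.symm hg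
      rw [beta_eA A hp.symm β Hb, coe_eA, coe_eA]
      have h := phi_eichler_b A.hQ hp hfM hfadd hsl hQf hκ (polar_a_pM hp w) (polar_b_pM hp w) x
      have e1 : eichlerElt Q A.hQ b (pM Q b a w) hp.hb (polar_a_pM hp.symm w)
          = eichlerElt Q A.hQ b (pM Q a b w) hp.hb (polar_b_pM hp w) :=
        eichlerElt_congr Q A.hQ _ _ _ _ _ _ _ _ rfl (pM_swap Q a b w)
      rw [e1, h]
      congr 1
      apply eichlerElt_congr
      · rfl
      · rw [pM_fA, ← hf' _ (polar_a_pM hp w) (polar_b_pM hp w)]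
        apply fA_congr A hp.symm β Hb
        rw [pM_swap Q a b w, pM_swap Q a b (pM Q a b w), pM_pM hp]
    have hS := QSub_sup_eq_top A hp S hSa hSb
    intro s x
    have : s ∈ S := by rw [hS]; exact Subgroup.mem_top s
    exact this x

end

/-- **Every automorphism of `Ω` is induced by a semilinear similarity.** -/
theorem exists_inducedBy [Fintype F] {Q : QuadraticForm F (ι → F)} (A : Amb Q)
    (β : ↥(Cfsg.Omega F ⇑Q) ≃* ↥(Cfsg.Omega F ⇑Q)) :
    ∃ (τ : F ≃+* F) (κ : F) (φ : (ι → F) → (ι → F)), InducedBy Q β τ κ φ := by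
  obtain ⟨e, f, hfam⟩ := SubfO.exists_hypFam A.h2 Q A.hQ 1 (by have := A.hn; omega)
  have hp : HypPair Q (e 0) (f 0) := ⟨hfam.qe 0, hfam.qf 0, by rw [hfam.ef]; simp⟩
  obtain ⟨g, Ha, Hb⟩ := exists_normalise A.h2 Q A.hQ A.hodd A.hn β (e 0) (f 0) hp.ha hp.hb hp.hab
  obtain ⟨τ, κ, φ, h⟩ := exists_inducedBy_of_normalised A hp _ Ha Hb
  refine ⟨τ, κ, fun x => act Q (g⁻¹ : ↥(Cfsg.Omega F ⇑Q)).1 (φ x), h.hκ, ?_, ?_, ?_, ?_, ?_⟩
  · intro x y
    rw [h.add, act_add]
  · intro s x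
    rw [h.smul, act_smul]
  · intro x
    rw [Q_act, h.quad]
  · intro x hx
    apply h.inj
    have := congrArg (act Q g.1) hx
    rwa [InvMemClass.coe_inv, act_act_inv, act_zero] at this
  · intro s x
    have h1 := h.ind s x
    have e1 : (β.trans (MulAut.conj g)) s = g * β s * g⁻¹ := rfl
    rw [e1, Subgroup.coe_mul, Subgroup.coe_mul, act_mul, act_mul] at h1
    show act Q (β s).1 (act Q (g⁻¹ : ↥(Cfsg.Omega F ⇑Q)).1 (φ x))
      = act Q (g⁻¹ : ↥(Cfsg.Omega F ⇑Q)).1 (φ (act Q s.1 x))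
    rw [← h1, InvMemClass.coe_inv, act_inv_act]

end Cfsg.Agent.Lib.Helper99.AutO
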