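import Mathlib
import Cfsg.Agent.Lib.Helper99.AutOZ
import Cfsg.Agent.Lib.Helper37.OmegaCenter3

set_option autoImplicit false

/-!
# Matrix form and the passage to `PΩ`
-/

namespace Cfsg.Agent.Lib.Helper99.AutO

open Matrix Module QuadraticMap
open Cfsg.Agent.Lib.Helper8 Cfsg.Agent.Lib.Helper13 Cfsg.Agent.Lib.Helper37

variable {ι : Type} [Fintype ι] [DecidableEq ι] {F : Type*} [Field F]

theorem exists_matrix_of_inducedBy {Q : QuadraticForm F (ι → F)}
    {β : ↥(Cfsg.Omega F ⇑Q) ≃* ↥(Cfsg.Omega F ⇑Q)} {τ : F ≃+* F} {κ : F}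
    {φ : (ι → F) → (ι → F)} (h : InducedBy Q β τ κ φ) :
    ∃ G : GL ι F, (∀ v : ι → F, (G : Matrix ι ι F) *ᵥ (fun i => τ (v i)) = φ v) ∧
      ∀ s : ↥(Cfsg.Omega F ⇑Q),
        ((((β s : ↥(Cfsg.Omega F ⇑Q)) : ↥(Cfsg.isometryGroup F ⇑Q)) : GL ι F) : Matrix ι ι F)
          = (G : Matrix ι ι F) * ((((s : ↥(Cfsg.isometryGroup F ⇑Q)) : GL ι F) :
              Matrix ι ι F)).map τ * ((G⁻¹ : GL ι F) : Matrix ι ι F) := by
  let L : (ι → F) →ₗ[F] (ι → F) :=
    { toFun := fun y => φ (fun i => τ.symm (y i))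
      map_add' := by
        intro y y'
        have : (fun i => τ.symm ((y + y') i))
            = (fun i => τ.symm (y i)) + (fun i => τ.symm (y' i)) := by
          funext i
          simp
        rw [this, h.add]
      map_smul' := by
        intro s y
        have : (fun i => τ.symm ((s • y) i)) = τ.symm s • (fun i => τ.symm (y i)) := by
          funext i
          simp
        rw [this, h.smul]
        simp }
  have hL : ∀ y, L y = φ (fun i => τ.symm (y i)) := fun y => rfl
  have hinj : Function.Injective (LinearMap.toMatrix' L).mulVec := by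
    intro y y' hyy'
    rw [LinearMap.toMatrix'_mulVec, LinearMap.toMatrix'_mulVec] at hyy'
    have h0 : L (y - y') = 0 := by rw [map_sub, hyy', sub_self]
    rw [hL] at h0
    have h1 := h.inj _ h0
    have h3 : y - y' = 0 := by
      funext i
      have := congrFun h1 i
      simp only [Pi.zero_apply] at this
      exact (RingEquiv.map_eq_zero_iff τ.symm).1 this
    exact sub_eq_zero.1 h3
  have hunit : IsUnit (LinearMap.toMatrix' L) := Matrix.mulVec_injective_iff_isUnit.1 hinj
  have hG : ∀ v : ι → F, (LinearMap.toMatrix' L) *ᵥ (fun i => τ (v i)) = φ v := by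
    intro v
    rw [LinearMap.toMatrix'_mulVec, hL]
    simp
  obtain ⟨G, hGval⟩ : ∃ G : GL ι F, (G : Matrix ι ι F) = LinearMap.toMatrix' L :=
    ⟨hunit.unit, rfl⟩
  rw [← hGval] at hG
  refine ⟨G, hG, ?_⟩
  intro s
  have key : ((((β s : ↥(Cfsg.Omega F ⇑Q)) : ↥(Cfsg.isometryGroup F ⇑Q)) : GL ι F) :
        Matrix ι ι F) * (G : Matrix ι ι F)
      = (G : Matrix ι ι F) * ((((s : ↥(Cfsg.isometryGroup F ⇑Q)) : GL ι F) :
              Matrix ι ι F)).map τ := by
    apply Matrix.mulVec_injective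
    funext y
    have hy : y = fun i => τ ((fun i => τ.symm (y i)) i) := by
      funext i
      simp
    generalize (fun i => τ.symm (y i)) = v at hy
    rw [hy, ← Matrix.mulVec_mulVec, ← Matrix.mulVec_mulVec, hG]
    have e1 : ((((s : ↥(Cfsg.isometryGroup F ⇑Q)) : GL ι F) : Matrix ι ι F)).map τ *ᵥ
        (fun i => τ (v i)) = fun i => τ ((act Q s.1 v) i) := by
      funext i
      exact (RingHom.map_mulVec (τ : F →+* F) _ v i).symm
    rw [e1, hG]
    exact h.ind s v
  rw [← key, Matrix.mul_assoc, ← Units.val_mul, mul_inv_cancel, Units.val_one, Matrix.mul_one]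

/-- the centre of `Ω` is trivial in odd dimension -/
theorem center_omega_eq_bot [Fintype F] {Q : QuadraticForm F (ι → F)} (A : Amb Q) :
    Subgroup.center ↥(Cfsg.Omega F ⇑Q) = ⊥ := by
  obtain ⟨e, f, hfam⟩ := SubfO.exists_hypFam A.h2 Q A.hQ 3 (by have := A.hn; omega)
  rw [eq_bot_iff]
  intro z hz
  rw [Subgroup.mem_bot]
  rcases center_omega_matrix Q A.hQ hfam le_rfl z hz with h | h
  · apply Subtype.ext
    apply Subtype.ext
    apply Units.ext
    exact h
  · exfalso
    have hdet := det_of_mem_omega A.h2 Q A.hQ z.1 z.2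
    rw [h, Matrix.det_neg, Matrix.det_one, A.hodd.neg_one_pow, mul_one] at hdet
    apply A.h2
    linear_combination -hdet

end Cfsg.Agent.Lib.Helper99.AutO
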