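import Mathlib
import Cfsg.Agent.Lib.Helper37.OrthOdd3
import Cfsg.Agent.Lib.Helper37.OrthGlue

set_option autoImplicit false
set_option linter.unusedSectionVars false
set_option linter.unusedVariables false

/-!
# Base change of isometries along a field embedding
-/

namespace Cfsg.Agent.Lib.Helper99.LB

open Matrix Module QuadraticMap
open Cfsg.Agent.Lib.Helper37 Cfsg.Agent.Lib.Helper37.OrthField
open Cfsg.Agent.Lib.Helper8 Cfsg.Agent.Lib.Helper13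

universe u

variable {ι : Type} [Fintype ι] [DecidableEq ι] {F : Type u} [Field F]
variable {F₀ : Type*} [Field F₀] (j : F₀ →+* F)
variable (Q : QuadraticForm F (ι → F)) (Q₀ : QuadraticForm F₀ (ι → F₀))
  (hQ₀ : ∀ w, j (Q₀ w) = Q (jv j w))

theorem jv_sub (w w' : ι → F₀) : jv j (w - w') = jv j w - jv j w' := by
  ext i; simp [jv]

theorem jv_neg (w : ι → F₀) : jv j (-w) = - jv j w := by
  ext i; simp [jv]

include hQ₀ in
theorem polar_jv (x y : ι → F₀) :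
    j (polar ⇑Q₀ x y) = polar ⇑Q (jv j x) (jv j y) := by
  unfold polar
  rw [map_sub, map_sub, hQ₀, hQ₀, hQ₀, jv_add]

include hQ₀ in
theorem mapGL_mem_iso (g₀ : GL ι F₀) (hg₀ : g₀ ∈ Cfsg.isometryGroup F₀ ⇑Q₀) :
    mapGL j g₀ ∈ Cfsg.isometryGroup F ⇑Q := by
  rw [Cfsg.Agent.Lib.Helper94.mem_isom] at hg₀ ⊢
  have h1 : ∀ w : ι → F₀,
      Q (((mapGL j g₀ : GL ι F) : Matrix ι ι F) *ᵥ jv j w) = Q (jv j w) := by
    intro w
    rw [mapGL_mulVec, ← hQ₀, hg₀, hQ₀]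
  have := quad_eq_of_lattice j
    (Q.comp (Matrix.mulVecLin ((mapGL j g₀ : GL ι F) : Matrix ι ι F))) Q h1
  intro v
  exact this v

/-- base change of isometries -/
def mapIso : ↥(Cfsg.isometryGroup F₀ ⇑Q₀) →* ↥(Cfsg.isometryGroup F ⇑Q) where
  toFun g := ⟨mapGL j g.1, mapGL_mem_iso j Q Q₀ hQ₀ g.1 g.2⟩
  map_one' := Subtype.ext (map_one _)
  map_mul' a b := Subtype.ext (map_mul _ _ _)

theorem mapIso_val (g : ↥(Cfsg.isometryGroup F₀ ⇑Q₀)) :
    (mapIso j Q Q₀ hQ₀ g).1 = mapGL j g.1 := rfl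

theorem mapIso_injective : Function.Injective (mapIso j Q Q₀ hQ₀) := by
  intro a b h
  apply Subtype.ext
  apply mapGL_injective j
  exact congrArg Subtype.val h

theorem act_mapIso (g : ↥(Cfsg.isometryGroup F₀ ⇑Q₀)) (w : ι → F₀) :
    act Q (mapIso j Q Q₀ hQ₀ g) (jv j w) = jv j (act Q₀ g w) := by
  unfold act
  rw [mapIso_val, mapGL_mulVec]

theorem mapIso_mem_omega (g : ↥(Cfsg.isometryGroup F₀ ⇑Q₀)) (hg : g ∈ Cfsg.Omega F₀ ⇑Q₀) :
    mapIso j Q Q₀ hQ₀ g ∈ Cfsg.Omega F ⇑Q := by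
  have h1 : (commutator ↥(Cfsg.isometryGroup F₀ ⇑Q₀)).map (mapIso j Q Q₀ hQ₀) ≤
      commutator ↥(Cfsg.isometryGroup F ⇑Q) := by
    rw [commutator_def, commutator_def, Subgroup.map_commutator]
    exact Subgroup.commutator_mono le_top le_top
  exact h1 ⟨g, hg, rfl⟩

/-- base change on `Ω` -/
def mapOm : ↥(Cfsg.Omega F₀ ⇑Q₀) →* ↥(Cfsg.Omega F ⇑Q) where
  toFun g := ⟨mapIso j Q Q₀ hQ₀ g.1, mapIso_mem_omega j Q Q₀ hQ₀ g.1 g.2⟩
  map_one' := Subtype.ext (map_one _)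
  map_mul' a b := Subtype.ext (map_mul _ _ _)

theorem mapOm_val (g : ↥(Cfsg.Omega F₀ ⇑Q₀)) :
    (mapOm j Q Q₀ hQ₀ g).1 = mapIso j Q Q₀ hQ₀ g.1 := rfl

theorem mapOm_injective : Function.Injective (mapOm j Q Q₀ hQ₀) := by
  intro a b h
  apply Subtype.ext
  apply mapIso_injective j Q Q₀ hQ₀
  exact congrArg Subtype.val h

/-- the rational subgroup of `PΩ(Q)` -/
def iota0 : ↥(Cfsg.Omega F₀ ⇑Q₀) →* Cfsg.POmega F ⇑Q :=
  (QuotientGroup.mk' (Subgroup.center ↥(Cfsg.Omega F ⇑Q))).comp (mapOm j Q Q₀ hQ₀)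

theorem iota0_apply (g : ↥(Cfsg.Omega F₀ ⇑Q₀)) :
    iota0 j Q Q₀ hQ₀ g = QuotientGroup.mk (mapOm j Q Q₀ hQ₀ g) := rfl

/-- isometries are determined by their action on rational vectors -/
theorem iso_ext_rational (g h : ↥(Cfsg.isometryGroup F ⇑Q))
    (H : ∀ w : ι → F₀, act Q g (jv j w) = act Q h (jv j w)) : g = h := by
  apply reflElt_ext
  intro x
  have hx : x = ∑ i, x i • (Pi.single i (1 : F) : ι → F) := by
    ext k
    simp [Finset.sum_apply, Pi.single_apply]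
  have key : ∀ s : Finset ι, act Q g (∑ i ∈ s, x i • (Pi.single i (1 : F) : ι → F))
      = act Q h (∑ i ∈ s, x i • (Pi.single i (1 : F) : ι → F)) := by
    intro s
    classical
    induction s using Finset.induction_on with
    | empty =>
      simp only [Finset.sum_empty]
      unfold act
      rw [Matrix.mulVec_zero, Matrix.mulVec_zero]
    | insert a s ha ih =>
      rw [Finset.sum_insert ha, act_add, act_add, ih, act_smul, act_smul]
      have := H (Pi.single a 1)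
      rw [jv_single] at this
      rw [this]
  rw [hx]
  exact key Finset.univ

include hQ₀ in
theorem mapIso_eichler (u₀ v₀ : ι → F₀) (hu : Q₀ u₀ = 0) (huv : polar ⇑Q₀ u₀ v₀ = 0)
    (hu' : Q (jv j u₀) = 0) (huv' : polar ⇑Q (jv j u₀) (jv j v₀) = 0) :
    mapIso j Q Q₀ hQ₀ (eichler Q₀ u₀ v₀ hu huv) = eichler Q (jv j u₀) (jv j v₀) hu' huv' := by
  apply iso_ext_rational j
  intro w
  rw [act_mapIso, act_eichler, act_eichler, Helper37.eichlerLin_apply, Helper37.eichlerLin_apply, jv_sub, jv_sub,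
    jv_add, jv_smul, jv_smul, jv_smul, map_mul, polar_jv j Q Q₀ hQ₀, polar_jv j Q Q₀ hQ₀, hQ₀]

/-- a rational isometry comes from the small field -/
theorem exists_mapIso_eq (g : ↥(Cfsg.isometryGroup F ⇑Q))
    (h : ∀ x y, ((g.1 : GL ι F) : Matrix ι ι F) x y ∈ Set.range j) :
    ∃ g₀ : ↥(Cfsg.isometryGroup F₀ ⇑Q₀), mapIso j Q Q₀ hQ₀ g₀ = g := by
  obtain ⟨g₀, hg₀⟩ := exists_mapGL_eq j g.1 h
  have hmem : g₀ ∈ Cfsg.isometryGroup F₀ ⇑Q₀ := by
    rw [Cfsg.Agent.Lib.Helper94.mem_isom]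
    intro w
    apply j.injective
    have hg := (Cfsg.Agent.Lib.Helper94.mem_isom g.1).1 g.2 (jv j w)
    rw [hQ₀, ← mapGL_mulVec, hg₀, hg, hQ₀]
  exact ⟨⟨g₀, hmem⟩, Subtype.ext hg₀⟩

end Cfsg.Agent.Lib.Helper99.LB
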