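import Mathlib
import Cfsg.Agent.Lib.Helper99.LB1

set_option autoImplicit false
set_option linter.unusedSectionVars false
set_option linter.unusedVariables false

/-!
# Rigidity: a semilinear map commuting with the rational `Ω` is a scalar times a field map
-/

namespace Cfsg.Agent.Lib.Helper99.LB

open Matrix Module QuadraticMap
open Cfsg.Agent.Lib.Helper37 Cfsg.Agent.Lib.Helper37.OrthField
open Cfsg.Agent.Lib.Helper8 Cfsg.Agent.Lib.Helper13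

universe u

variable {ι : Type} [Fintype ι] [DecidableEq ι] {F : Type u} [Field F]
variable {F₀ : Type*} [Field F₀] (j : F₀ →+* F)
variable (Q : QuadraticForm F (ι → F)) (Q₀ : QuadraticForm F₀ (ι → F₀))
  (hQ₀ : ∀ w, j (Q₀ w) = Q (jv j w))

include hQ₀ in
theorem eichlerLin_jv (u₀ v₀ x₀ : ι → F₀) :
    Helper37.eichlerLin Q (jv j u₀) (jv j v₀) (jv j x₀) =
      jv j (Helper37.eichlerLin Q₀ u₀ v₀ x₀) := by
  rw [Helper37.eichlerLin_apply, Helper37.eichlerLin_apply, jv_sub, jv_sub,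
    jv_add, jv_smul, jv_smul, jv_smul, map_mul, polar_jv j Q Q₀ hQ₀, polar_jv j Q Q₀ hQ₀, hQ₀]

include hQ₀ in
theorem hypFam_jv {k : ℕ} {e₀ f₀ : Fin k → ι → F₀} (h : HypFam Q₀ k e₀ f₀) :
    HypFam Q k (fun i => jv j (e₀ i)) (fun i => jv j (f₀ i)) := by
  refine ⟨?_, ?_, ?_, ?_, ?_⟩
  · intro i
    show Q (jv j (e₀ i)) = 0
    rw [← hQ₀, h.qe, map_zero]
  · intro i
    show Q (jv j (f₀ i)) = 0
    rw [← hQ₀, h.qf, map_zero]
  · intro i i'
    show polar ⇑Q (jv j (e₀ i)) (jv j (e₀ i')) = 0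
    rw [← polar_jv j Q Q₀ hQ₀, h.ee, map_zero]
  · intro i i'
    show polar ⇑Q (jv j (f₀ i)) (jv j (f₀ i')) = 0
    rw [← polar_jv j Q Q₀ hQ₀, h.ff, map_zero]
  · intro i i'
    show polar ⇑Q (jv j (e₀ i)) (jv j (f₀ i')) = _
    rw [← polar_jv j Q Q₀ hQ₀, h.ef]
    split_ifs <;> simp

section rigid

variable [Fintype F₀] (hQ₀nd : (QuadraticMap.polarBilin Q₀).Nondegenerate) {k : ℕ}
  {e₀ f₀ : Fin k → ι → F₀} (hfam₀ : HypFam Q₀ k e₀ f₀) (hk : 3 ≤ k)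
  (hcard₀ : Fintype.card F₀ ≠ 2 ∨ finrank F₀ (ι → F₀) ≠ 4)
  (p : GamL ι F)
  (hcomm : ∀ s₀ : ↥(Cfsg.isometryGroup F₀ ⇑Q₀), s₀ ∈ Cfsg.Omega F₀ ⇑Q₀ → ∀ v,
    act Q (mapIso j Q Q₀ hQ₀ s₀) (sm p v) = sm p (act Q (mapIso j Q Q₀ hQ₀ s₀) v))

include hQ₀nd hfam₀ hk hcard₀ hcomm

theorem comm_eichler (u₀ v₀ : ι → F₀) (hu : Q₀ u₀ = 0) (huv : polar ⇑Q₀ u₀ v₀ = 0)
    (x : ι → F) :
    Helper37.eichlerLin Q (jv j u₀) (jv j v₀) (sm p x) =
      sm p (Helper37.eichlerLin Q (jv j u₀) (jv j v₀) x) := by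
  have hu' : Q (jv j u₀) = 0 := by rw [← hQ₀, hu, map_zero]
  have huv' : polar ⇑Q (jv j u₀) (jv j v₀) = 0 := by
    rw [← polar_jv j Q Q₀ hQ₀, huv, map_zero]
  have h := hcomm (eichler Q₀ u₀ v₀ hu huv)
    (eichler_mem_omega Q₀ hQ₀nd hfam₀ hk hcard₀ u₀ v₀ hu huv) x
  rw [mapIso_eichler j Q Q₀ hQ₀ u₀ v₀ hu huv hu' huv', act_eichler, act_eichler] at h
  exact h

/-- propagation of an eigenvalue along a rational Eichler transformation -/
theorem scale_trans (u₀ v₀ x₀ z₀ : ι → F₀) (hu : Q₀ u₀ = 0) (huv : polar ⇑Q₀ u₀ v₀ = 0)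
    (c : F) (hx : sm p (jv j x₀) = c • jv j x₀)
    (hz : Helper37.eichlerLin Q₀ u₀ v₀ x₀ = x₀ + z₀) :
    sm p (jv j z₀) = c • jv j z₀ := by
  have h := comm_eichler j Q Q₀ hQ₀ hQ₀nd hfam₀ hk hcard₀ p hcomm u₀ v₀ hu huv (jv j x₀)
  rw [hx, map_smul, eichlerLin_jv j Q Q₀ hQ₀, hz, jv_add, sm_add, hx, smul_add] at h
  exact (add_left_cancel h).symm

/-- the field part fixes the small field, and `e i0` is an eigenvector -/
theorem fix_and_eigen (i0 : Fin k) :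
    (∀ c₀ : F₀, p.right (j c₀) = j c₀) ∧ ∃ a : F, sm p (jv j (e₀ i0)) = a • jv j (e₀ i0) := by
  have hfam := hypFam_jv j Q Q₀ hQ₀ hfam₀
  -- two further indices
  obtain ⟨i1, i2, h10, h20, h21⟩ : ∃ i1 i2 : Fin k, i1 ≠ i0 ∧ i2 ≠ i0 ∧ i2 ≠ i1 := by
    have hval : ∀ a b : Fin k, a.val ≠ b.val → a ≠ b := fun a b h hab => h (congrArg Fin.val hab)
    by_cases h0 : i0.val = 0
    · exact ⟨⟨1, by omega⟩, ⟨2, by omega⟩, hval _ _ (by simp; omega), hval _ _ (by simp; omega),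
        hval _ _ (by simp)⟩
    · by_cases h1 : i0.val = 1
      · exact ⟨⟨0, by omega⟩, ⟨2, by omega⟩, hval _ _ (by simp; omega),
          hval _ _ (by simp; omega), hval _ _ (by simp)⟩
      · exact ⟨⟨0, by omega⟩, ⟨1, by omega⟩, hval _ _ (by simp; omega),
          hval _ _ (by simp; omega), hval _ _ (by simp)⟩
  -- the key relation
  have key : ∀ (i : Fin k), i ≠ i0 → ∀ c₀ : F₀,
      p.right (j c₀) • sm p (jv j (e₀ i0)) =
        j c₀ • (polar ⇑Q (sm p (jv j (f₀ i))) (jv j (e₀ i)) • jv j (e₀ i0)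
          - polar ⇑Q (sm p (jv j (f₀ i))) (jv j (e₀ i0)) • jv j (e₀ i)) := by
    intro i hi c₀
    have huv : polar ⇑Q₀ (e₀ i0) (c₀ • e₀ i) = 0 := by
      rw [polar_smul_right, hfam₀.ee, smul_zero]
    have h3 := comm_eichler j Q Q₀ hQ₀ hQ₀nd hfam₀ hk hcard₀ p hcomm (e₀ i0) (c₀ • e₀ i)
      (hfam₀.qe i0) huv (jv j (f₀ i))
    rw [jv_smul, Helper37.eichlerLin_apply, Helper37.eichlerLin_apply, QuadraticMap.map_smul,
      hfam.qe, polar_smul_right, polar_smul_right, hfam.fe, hfam.fe, if_pos rfl, if_neg hi] at h3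
    simp only [smul_eq_mul, mul_zero, zero_mul, zero_smul, sub_zero, mul_one] at h3
    rw [sm_add, sm_smul] at h3
    have h4 : sm p (jv j (f₀ i)) + (j c₀ * polar ⇑Q (sm p (jv j (f₀ i))) (jv j (e₀ i))) •
          jv j (e₀ i0)
          - polar ⇑Q (sm p (jv j (f₀ i))) (jv j (e₀ i0)) • j c₀ • jv j (e₀ i)
        = sm p (jv j (f₀ i)) + j c₀ • (polar ⇑Q (sm p (jv j (f₀ i))) (jv j (e₀ i)) • jv j (e₀ i0)
            - polar ⇑Q (sm p (jv j (f₀ i))) (jv j (e₀ i0)) • jv j (e₀ i)) := by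
      module
    rw [h4] at h3
    exact (add_left_cancel h3).symm
  have hSu : sm p (jv j (e₀ i0)) ≠ 0 := fun hh => hfam.e_ne_zero i0 (sm_eq_zero _ _ hh)
  have hY : ∀ i, i ≠ i0 → sm p (jv j (e₀ i0)) =
      polar ⇑Q (sm p (jv j (f₀ i))) (jv j (e₀ i)) • jv j (e₀ i0)
          - polar ⇑Q (sm p (jv j (f₀ i))) (jv j (e₀ i0)) • jv j (e₀ i) := by
    intro i hi
    have := key i hi 1
    rwa [map_one, map_one, one_smul, one_smul] at this
  constructor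
  · intro c₀
    have h5 := key i1 h10 c₀
    rw [← hY i1 h10] at h5
    have h6 : (p.right (j c₀) - j c₀) • sm p (jv j (e₀ i0)) = 0 := by
      rw [sub_smul, h5, sub_self]
    rcases smul_eq_zero.1 h6 with h7 | h7
    · exact sub_eq_zero.1 h7
    · exact absurd h7 hSu
  · refine ⟨polar ⇑Q (sm p (jv j (f₀ i1))) (jv j (e₀ i1)), ?_⟩
    have h8 := hY i1 h10
    have h9 := hY i2 h20
    have hb : polar ⇑Q (sm p (jv j (f₀ i1))) (jv j (e₀ i0)) = 0 := by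
      have e1 := congrArg (fun y => polar ⇑Q y (jv j (f₀ i1))) h8
      have e2 := congrArg (fun y => polar ⇑Q y (jv j (f₀ i1))) h9
      beta_reduce at e1 e2
      rw [polar_sub_left, polar_smul_left, polar_smul_left, hfam.ef, hfam.ef, if_neg h10.symm,
        if_pos rfl] at e1
      rw [polar_sub_left, polar_smul_left, polar_smul_left, hfam.ef, hfam.ef, if_neg h10.symm,
        if_neg h21] at e2
      simp only [smul_eq_mul, mul_zero, mul_one, zero_sub, sub_zero] at e1 e2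
      rw [e2] at e1
      exact neg_eq_zero.1 e1.symm
    rw [hb, zero_smul, sub_zero] at h8
    exact h8

/-- all the `e i`, `f i` are eigenvectors for the same eigenvalue -/
theorem eigen_ef : ∃ a : F, (∀ i, sm p (jv j (e₀ i)) = a • jv j (e₀ i)) ∧
    (∀ i, sm p (jv j (f₀ i)) = a • jv j (f₀ i)) := by
  set i0 : Fin k := ⟨0, by omega⟩ with hi0
  obtain ⟨-, a, ha⟩ := fix_and_eigen j Q Q₀ hQ₀ hQ₀nd hfam₀ hk hcard₀ p hcomm i0
  refine ⟨a, ?_⟩
  -- from `e b` to `e a'` and `f a'`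
  have stepE : ∀ a' b : Fin k, a' ≠ b → sm p (jv j (e₀ b)) = a • jv j (e₀ b) →
      sm p (jv j (e₀ a')) = a • jv j (e₀ a') := by
    intro a' b hab hb
    have huv : polar ⇑Q₀ (e₀ a') (f₀ b) = 0 := by rw [hfam₀.ef, if_neg hab]
    apply scale_trans j Q Q₀ hQ₀ hQ₀nd hfam₀ hk hcard₀ p hcomm (e₀ a') (f₀ b) (e₀ b) (e₀ a')
      (hfam₀.qe a') huv a hb
    rw [Helper37.eichlerLin_apply, hfam₀.ef, if_pos rfl, hfam₀.ee, hfam₀.qf]
    simp
  have stepF : ∀ a' b : Fin k, a' ≠ b → sm p (jv j (e₀ b)) = a • jv j (e₀ b) →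
      sm p (jv j (f₀ a')) = a • jv j (f₀ a') := by
    intro a' b hab hb
    have huv : polar ⇑Q₀ (f₀ a') (f₀ b) = 0 := hfam₀.ff a' b
    apply scale_trans j Q Q₀ hQ₀ hQ₀nd hfam₀ hk hcard₀ p hcomm (f₀ a') (f₀ b) (e₀ b) (f₀ a')
      (hfam₀.qf a') huv a hb
    rw [Helper37.eichlerLin_apply, hfam₀.ef, if_pos rfl, hfam₀.ef, if_neg hab.symm, hfam₀.qf]
    simp
  have hE : ∀ i, sm p (jv j (e₀ i)) = a • jv j (e₀ i) := by
    intro i
    by_cases hi : i = i0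
    · rw [hi]; exact ha
    · exact stepE i i0 hi ha
  refine ⟨hE, ?_⟩
  intro i
  by_cases hi : i = i0
  · have h1 : (⟨1, by omega⟩ : Fin k) ≠ i0 := by
      intro hh
      have := congrArg Fin.val hh
      simp [hi0] at this
    rw [hi]
    exact stepF i0 ⟨1, by omega⟩ h1.symm (hE _)
  · exact stepF i i0 hi ha

/-- every rational vector is an eigenvector -/
theorem eigen_rational : ∃ a : F, a ≠ 0 ∧ ∀ w₀ : ι → F₀, sm p (jv j w₀) = a • jv j w₀ := by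
  set i0 : Fin k := ⟨0, by omega⟩ with hi0
  obtain ⟨hfix, -⟩ := fix_and_eigen j Q Q₀ hQ₀ hQ₀nd hfam₀ hk hcard₀ p hcomm i0
  obtain ⟨a, hE, hF⟩ := eigen_ef j Q Q₀ hQ₀ hQ₀nd hfam₀ hk hcard₀ p hcomm
  have hfam := hypFam_jv j Q Q₀ hQ₀ hfam₀
  have ha0 : a ≠ 0 := by
    rintro rfl
    have h1 := hE i0
    rw [zero_smul] at h1
    exact hfam.e_ne_zero i0 (sm_eq_zero _ _ h1)
  refine ⟨a, ha0, ?_⟩
  -- vectors orthogonal to `e i0`
  have horth : ∀ w₀ : ι → F₀, polar ⇑Q₀ (e₀ i0) w₀ = 0 → sm p (jv j w₀) = a • jv j w₀ := by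
    intro w₀ hw
    have h1 := scale_trans j Q Q₀ hQ₀ hQ₀nd hfam₀ hk hcard₀ p hcomm (e₀ i0) w₀ (f₀ i0)
      ((polar ⇑Q₀ (f₀ i0) w₀ - Q₀ w₀) • e₀ i0 - w₀) (hfam₀.qe i0) hw a (hF i0) (by
        rw [Helper37.eichlerLin_apply, hfam₀.fe, if_pos rfl]
        module)
    rw [jv_sub, jv_smul, sm_sub, sm_smul, hfix, hE, smul_sub] at h1
    have h2 : sm p (jv j w₀) = j (polar ⇑Q₀ (f₀ i0) w₀ - Q₀ w₀) • a • jv j (e₀ i0)
        - (a • j (polar ⇑Q₀ (f₀ i0) w₀ - Q₀ w₀) • jv j (e₀ i0) - a • jv j w₀) := by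
      rw [← h1]; abel
    rw [h2]
    module
  intro w₀
  have hdec : w₀ = (w₀ - polar ⇑Q₀ (e₀ i0) w₀ • f₀ i0) + polar ⇑Q₀ (e₀ i0) w₀ • f₀ i0 := by abel
  have h1 : polar ⇑Q₀ (e₀ i0) (w₀ - polar ⇑Q₀ (e₀ i0) w₀ • f₀ i0) = 0 := by
    rw [polar_sub_right, polar_smul_right, hfam₀.ef, if_pos rfl]
    simp
  have h2 := horth _ h1
  rw [hdec, jv_add, sm_add, h2, jv_smul, sm_smul, hfix, hF, smul_add]
  module

/-- **rigidity** -/
theorem rigid : (∀ c₀ : F₀, p.right (j c₀) = j c₀) ∧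
    ∃ a : Fˣ, p = sc a * SemidirectProduct.inr p.right := by
  set i0 : Fin k := ⟨0, by omega⟩ with hi0
  obtain ⟨hfix, -⟩ := fix_and_eigen j Q Q₀ hQ₀ hQ₀nd hfam₀ hk hcard₀ p hcomm i0
  obtain ⟨a, ha0, ha⟩ := eigen_rational j Q Q₀ hQ₀ hQ₀nd hfam₀ hk hcard₀ p hcomm
  refine ⟨hfix, Units.mk0 a ha0, ?_⟩
  apply sm_injective
  · rw [SemidirectProduct.mul_right, sc_right, one_mul, SemidirectProduct.right_inr]
  · intro v
    rw [sm_mul, sm_sc, sm_inr, Units.val_mk0]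
    have hv : v = ∑ i, v i • (Pi.single i (1 : F) : ι → F) := by
      ext k'
      simp [Finset.sum_apply, Pi.single_apply]
    have hs : ∀ i : ι, sm p (Pi.single i (1 : F)) = a • (Pi.single i (1 : F) : ι → F) := by
      intro i
      have := ha (Pi.single i 1)
      rwa [jv_single] at this
    conv_lhs => rw [hv]
    rw [sm_sum]
    have h1 : ∀ i ∈ (Finset.univ : Finset ι), sm p (v i • (Pi.single i (1 : F) : ι → F)) =
        a • (p.right (v i) • (Pi.single i (1 : F) : ι → F)) := by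
      intro i _
      rw [sm_smul, hs, smul_comm]
    rw [Finset.sum_congr rfl h1, ← Finset.smul_sum]
    congr 1
    ext k'
    simp [Finset.sum_apply, Pi.single_apply, vm]

end rigid

end Cfsg.Agent.Lib.Helper99.LB
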