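import Mathlib

set_option autoImplicit false

/-!
# Galois correspondence for a cyclic group of field automorphisms
-/

namespace Cfsg.Agent.Lib.Helper99.LB

/-- an automorphism fixing the fixed field of `σ` pointwise is a power of `σ` -/
theorem mem_zpowers_of_fixes {F : Type*} [Field F] [Finite F] (σ τ : F ≃+* F)
    (h : ∀ a, σ a = a → τ a = a) : τ ∈ Subgroup.zpowers σ := by
  haveI : Finite (F ≃+* F) := Finite.of_injective (fun e : F ≃+* F => (e : F → F))
    (fun a b hab => RingEquiv.ext (congrFun hab))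
  have hfix : ∀ x : FixedPoints.subfield ↥(Subgroup.zpowers σ) F,
      τ (algebraMap (FixedPoints.subfield ↥(Subgroup.zpowers σ) F) F x) =
        algebraMap (FixedPoints.subfield ↥(Subgroup.zpowers σ) F) F x := by
    intro x
    apply h
    exact x.2 ⟨σ, Subgroup.mem_zpowers σ⟩
  obtain ⟨g, hg⟩ := FixedPoints.toAlgAut_surjective ↥(Subgroup.zpowers σ) F
    (AlgEquiv.ofRingEquiv (f := τ) hfix)
  have hgτ : (g : F ≃+* F) = τ := by
    ext a
    exact AlgEquiv.congr_fun hg a
  rw [← hgτ]
  exact g.2

end Cfsg.Agent.Lib.Helper99.LB
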