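import Mathlib
import Cfsg.Agent.Lib.Helper99.LB2
import Cfsg.Agent.Lib.Helper99.LB3
import Cfsg.Agent.Lib.Helper99.AutPA
import Cfsg.Agent.Lib.Helper45.BalanceSkel

set_option autoImplicit false
set_option linter.unusedSectionVars false
set_option linter.unusedVariables false

/-!
# The rational subgroup is `Good` for the standard field automorphism (odd dimension)
-/

namespace Cfsg.Agent.Lib.Helper99.LB

open Matrix Module QuadraticMap
open Cfsg.Agent.Lib.Helper37 Cfsg.Agent.Lib.Helper37.OrthField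
open Cfsg.Agent.Lib.Helper8 Cfsg.Agent.Lib.Helper13
open Cfsg.Agent.Lib.Helper37.IsGram
open Cfsg.Agent.Lib.Helper45.Balance

universe u

variable {ι : Type} [Fintype ι] [DecidableEq ι] {F : Type u} [Field F] [Fintype F] [Nonempty ι]
  {F₀ : Type*} [Field F₀] [Fintype F₀] (j : F₀ →+* F)
  (Q : QuadraticForm F (ι → F)) (Q₀ : QuadraticForm F₀ (ι → F₀))
  (hQ₀ : ∀ w, j (Q₀ w) = Q (jv j w))

theorem mk_injective (A : AutO.Amb Q) :
    Function.Injective (QuotientGroup.mk' (Subgroup.center ↥(Cfsg.Omega F ⇑Q))) := by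
  have hker : (QuotientGroup.mk' (Subgroup.center ↥(Cfsg.Omega F ⇑Q))).ker = ⊥ := by
    rw [QuotientGroup.ker_mk', AutO.center_omega_eq_bot A]
  exact (MonoidHom.ker_eq_bot_iff _).1 hker

theorem iota0_injective (A : AutO.Amb Q) : Function.Injective (iota0 j Q Q₀ hQ₀) := by
  intro a b h
  exact mapOm_injective j Q Q₀ hQ₀ (mk_injective Q A h)

section field

variable (σ : F ≃+* F) (hj : ∀ a, σ a = a ↔ a ∈ Set.range j) (hσQ : ∀ v, Q (vm σ v) = σ (Q v))

theorem phiF_mk_val (s : ↥(Cfsg.Omega F ⇑Q)) :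
    ∃ s' : ↥(Cfsg.Omega F ⇑Q), phiF Q σ hσQ (QuotientGroup.mk s) = QuotientGroup.mk s' ∧
      s'.1.1 = gm σ s.1.1 := by
  refine ⟨MulAut.characteristic (Cfsg.Omega F ⇑Q)
    (actIso ⇑Q ⟨SemidirectProduct.inr σ, inr_mem_semiO ⇑Q σ hσQ⟩) s, ?_, ?_⟩
  · rw [phiF_def, Psi_mk]
  · rw [Psi_mk_val]
    simp

/-- the fixed points of the standard field automorphism are the rational elements -/
theorem phiF_fix_iff (A : AutO.Amb Q) (s : ↥(Cfsg.Omega F ⇑Q)) :
    phiF Q σ hσQ (QuotientGroup.mk s) = QuotientGroup.mk s ↔ gm σ s.1.1 = s.1.1 := by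
  obtain ⟨s', hs', hval⟩ := phiF_mk_val Q σ hσQ s
  rw [hs']
  constructor
  · intro h
    have := mk_injective Q A h
    rw [← hval, this]
  · intro h
    congr 1
    apply Subtype.ext
    apply Subtype.ext
    rw [hval, h]

include hj in
theorem exists_rational_of_gm (s : ↥(Cfsg.isometryGroup F ⇑Q)) (h : gm σ s.1 = s.1) :
    ∃ g₀ : ↥(Cfsg.isometryGroup F₀ ⇑Q₀), mapIso j Q Q₀ hQ₀ g₀ = s := by
  apply exists_mapIso_eq
  intro x y
  rw [← hj]
  have := congrArg (fun M : GL ι F => (M : Matrix ι ι F) x y) h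
  simpa [gm_val] using this

include hj in
theorem phiF_iota0 (s₀ : ↥(Cfsg.Omega F₀ ⇑Q₀)) :
    phiF Q σ hσQ (iota0 j Q Q₀ hQ₀ s₀) = iota0 j Q Q₀ hQ₀ s₀ := by
  rw [iota0_apply]
  obtain ⟨s', hs', hval⟩ := phiF_mk_val Q σ hσQ (mapOm j Q Q₀ hQ₀ s₀)
  rw [hs']
  congr 1
  apply Subtype.ext
  apply Subtype.ext
  rw [hval, mapOm_val, mapIso_val, gm_mapGL j σ hj]

end field

/-- the square of an isometry lies in `Ω` -/
theorem sq_mem_omega [DecidableEq F₀] (h2₀ : (2 : F₀) ≠ 0)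
    (hQ₀nd : (QuadraticMap.polarBilin Q₀).Nondegenerate)
    (g : ↥(Cfsg.isometryGroup F₀ ⇑Q₀)) : g ^ 2 ∈ Cfsg.Omega F₀ ⇑Q₀ := by
  have h := isGram_gramOf h2₀ Q₀
  have hdet := det_gramOf Q₀ hQ₀nd
  obtain ⟨α, hα⟩ := FiniteField.exists_nonsquare (ringChar_ne_two_of_two_ne_zero h2₀) (F := F₀)
  rw [← h.ker_signPair hdet α hα, MonoidHom.mem_ker, map_pow]
  have : ∀ z : ℤˣ × ℤˣ, z ^ 2 = 1 := by decide
  exact this _

end Cfsg.Agent.Lib.Helper99.LB
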