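import Mathlib
import Cfsg.Agent.Lib.Helper99.LB4

set_option autoImplicit false
set_option linter.unusedSectionVars false
set_option linter.unusedVariables false

/-!
# `Good` data for the standard field automorphism (odd dimension)
-/

namespace Cfsg.Agent.Lib.Helper99.LB

open Matrix Module QuadraticMap
open Cfsg.Agent.Lib.Helper37 Cfsg.Agent.Lib.Helper37.OrthField
open Cfsg.Agent.Lib.Helper8 Cfsg.Agent.Lib.Helper13
open Cfsg.Agent.Lib.Helper37.IsGram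
open Cfsg.Agent.Lib.Helper45.Balance

universe u

variable {ι : Type} [Fintype ι] [DecidableEq ι] {F : Type u} [Field F] [Fintype F] [Nonempty ι]
  {F₀ : Type*} [Field F₀] [Fintype F₀] (j : F₀ →+* F)
  (Q : QuadraticForm F (ι → F)) (Q₀ : QuadraticForm F₀ (ι → F₀))
  (hQ₀ : ∀ w, j (Q₀ w) = Q (jv j w))
  (A : AutO.Amb Q) (A₀ : AutO.Amb Q₀)
  {k : ℕ} {e₀ f₀ : Fin k → ι → F₀} (hfam₀ : HypFam Q₀ k e₀ f₀) (hk : 3 ≤ k)
  (hAut : AutSemi ⇑Q) (hinv : ∀ (σ : F ≃+* F) v, Q (vm σ v) = σ (Q v))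
  (σ : F ≃+* F) (hj : ∀ a, σ a = a ↔ a ∈ Set.range j)
  {p : ℕ} [Fact p.Prime]
  (heven : 2 ∣ Nat.card ↥(Cfsg.Omega F₀ ⇑Q₀))

omit [Fintype F] in
theorem omega_simple (A₀ : AutO.Amb Q₀) : IsSimpleGroup ↥(Cfsg.Omega F₀ ⇑Q₀) := by
  haveI : IsSimpleGroup (Cfsg.POmega F₀ ⇑Q₀) :=
    Cfsg.Agent.Lib.Helper8.pomega_simple Q₀ A₀.hQ (by have := A₀.hn; omega)
      (fun h => absurd h A₀.h2)
  let e : ↥(Cfsg.Omega F₀ ⇑Q₀) ≃* Cfsg.POmega F₀ ⇑Q₀ :=
    MulEquiv.ofBijective (QuotientGroup.mk' (Subgroup.center ↥(Cfsg.Omega F₀ ⇑Q₀)))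
      ⟨mk_injective Q₀ A₀, QuotientGroup.mk'_surjective _⟩
  exact e.isSimpleGroup

include hQ₀ A A₀ hj heven in
/-- if `p` divides the number of fixed points then it divides the order of the rational `Ω` -/
theorem dvd_card_omega
    (hdvd : p ∣ Nat.card ↥(MonoidHom.eqLocus (phiF Q σ (hinv σ)).toMonoidHom
      (MonoidHom.id (Cfsg.POmega F ⇑Q)))) :
    p ∣ Nat.card ↥(Cfsg.Omega F₀ ⇑Q₀) := by
  classical
  have hp : p.Prime := Fact.out
  by_cases hp2 : p = 2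
  · rw [hp2]; exact heven
  have hpodd : Odd p := hp.odd_of_ne_two hp2
  obtain ⟨k', hk'⟩ := exists_prime_orderOf_dvd_card' p hdvd
  have hk1 : orderOf k'.1 = p := by rw [Subgroup.orderOf_coe]; exact hk'
  have hfix : phiF Q σ (hinv σ) k'.1 = k'.1 := k'.2
  generalize k'.1 = kk at hk1 hfix
  induction kk using QuotientGroup.induction_on with
  | H s =>
    rw [phiF_fix_iff Q σ (hinv σ) A] at hfix
    obtain ⟨g₀, hg₀⟩ := exists_rational_of_gm j Q Q₀ hQ₀ σ hj s.1 hfix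
    have ho : orderOf g₀ = p := by
      rw [← hk1]
      have e1 : orderOf (QuotientGroup.mk' (Subgroup.center ↥(Cfsg.Omega F ⇑Q)) s) = orderOf s :=
        orderOf_injective _ (mk_injective Q A) s
      have e2 : orderOf (mapIso j Q Q₀ hQ₀ g₀) = orderOf g₀ :=
        orderOf_injective _ (mapIso_injective j Q Q₀ hQ₀) g₀
      rw [hg₀, Subgroup.orderOf_coe] at e2
      rw [← e2]
      exact e1.symm
    have hsq := sq_mem_omega Q₀ A₀.h2 A₀.hQ g₀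
    obtain ⟨t, ht⟩ := hpodd
    have hg₀mem : g₀ ∈ Cfsg.Omega F₀ ⇑Q₀ := by
      have h1 : (g₀ ^ 2) ^ (t + 1) = g₀ := by
        rw [← pow_mul, show 2 * (t + 1) = p + 1 by omega, pow_succ, ← ho, pow_orderOf_eq_one,
          one_mul]
      rw [← h1]
      exact Subgroup.pow_mem _ hsq _
    have ho' : orderOf (⟨g₀, hg₀mem⟩ : ↥(Cfsg.Omega F₀ ⇑Q₀)) = p := by
      rw [← ho]
      exact (Subgroup.orderOf_coe (⟨g₀, hg₀mem⟩ : ↥(Cfsg.Omega F₀ ⇑Q₀))).symm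
    rw [← ho']
    exact orderOf_dvd_natCard _

include hQ₀ A A₀ hfam₀ hk hAut hj heven in
/-- the rational `Ω` is `Good` for the standard field automorphism -/
theorem good_phiF : Good p (phiF Q σ (hinv σ)) (iota0 j Q Q₀ hQ₀).range := by
  have hp : p.Prime := Fact.out
  have hsimple := omega_simple Q₀ A₀
  have hfam := hypFam_jv j Q Q₀ hQ₀ hfam₀
  have hnF : finrank F (ι → F) = Fintype.card ι := Module.finrank_fintype_fun_eq_card F
  have hnF₀ : finrank F₀ (ι → F₀) = Fintype.card ι := Module.finrank_fintype_fun_eq_card F₀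
  have hn7 : 7 ≤ finrank F (ι → F) := A.hn
  have hn7₀ : 7 ≤ finrank F₀ (ι → F₀) := A₀.hn
  refine ⟨?_, ?_, ?_, ?_, ?_⟩
  · -- fix
    rintro _ ⟨s₀, rfl⟩
    exact phiF_iota0 j Q Q₀ hQ₀ σ hj (hinv σ) s₀
  · -- norm
    rintro kk hkk _ ⟨t₀, rfl⟩
    induction kk using QuotientGroup.induction_on with
    | H s =>
      rw [phiF_fix_iff Q σ (hinv σ) A] at hkk
      obtain ⟨g₀, hg₀⟩ := exists_rational_of_gm j Q Q₀ hQ₀ σ hj s.1 hkk
      have hnorm : (Cfsg.Omega F₀ ⇑Q₀).Normal := inferInstance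
      refine ⟨⟨g₀ * t₀.1 * g₀⁻¹, hnorm.conj_mem t₀.1 t₀.2 g₀⟩, ?_⟩
      rw [iota0_apply, iota0_apply]
      show _ = (QuotientGroup.mk s : Cfsg.POmega F ⇑Q) * QuotientGroup.mk (mapOm j Q Q₀ hQ₀ t₀) *
        (QuotientGroup.mk s)⁻¹
      rw [← QuotientGroup.mk_inv, ← QuotientGroup.mk_mul, ← QuotientGroup.mk_mul]
      congr 1
      apply Subtype.ext
      show mapIso j Q Q₀ hQ₀ (g₀ * t₀.1 * g₀⁻¹) = s.1 * (mapIso j Q Q₀ hQ₀ t₀.1) * s.1⁻¹
      rw [map_mul, map_mul, map_inv, hg₀]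
  · -- simple
    intro hdvd M hML hMinv hMc
    have hpdvd := dvd_card_omega j Q Q₀ hQ₀ A A₀ hinv σ hj heven hdvd
    have hMn : (M.comap (iota0 j Q Q₀ hQ₀)).Normal := by
      constructor
      intro n hn g
      rw [Subgroup.mem_comap] at hn ⊢
      rw [map_mul, map_mul, map_inv]
      exact hMinv _ ⟨g, rfl⟩ _ hn
    rcases hMn.eq_bot_or_eq_top with h | h
    · rw [eq_bot_iff]
      intro x hx
      obtain ⟨s₀, rfl⟩ := hML hx
      have : s₀ ∈ M.comap (iota0 j Q Q₀ hQ₀) := hx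
      rw [h, Subgroup.mem_bot] at this
      rw [this, map_one]
      exact Subgroup.one_mem _
    · exfalso
      have hle : (iota0 j Q Q₀ hQ₀).range ≤ M := by
        rintro _ ⟨s₀, rfl⟩
        have : s₀ ∈ M.comap (iota0 j Q Q₀ hQ₀) := by rw [h]; exact Subgroup.mem_top _
        exact this
      have h1 : Nat.card ↥(Cfsg.Omega F₀ ⇑Q₀) = Nat.card ↥(iota0 j Q Q₀ hQ₀).range :=
        Nat.card_congr (MonoidHom.ofInjective (iota0_injective j Q Q₀ hQ₀ A)).toEquiv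
      have h2 : Nat.card ↥(iota0 j Q Q₀ hQ₀).range ∣ Nat.card ↥M := Subgroup.card_dvd_of_le hle
      have h3 : p ∣ Nat.card ↥M := by
        rw [h1] at hpdvd
        exact dvd_trans hpdvd h2
      exact (Nat.Prime.coprime_iff_not_dvd hp).1 hMc.symm h3
  · -- ne
    intro hbot
    obtain ⟨s₀, hs₀⟩ := exists_ne (1 : ↥(Cfsg.Omega F₀ ⇑Q₀))
    apply hs₀
    have h1 : iota0 j Q Q₀ hQ₀ s₀ ∈ (iota0 j Q Q₀ hQ₀).range := ⟨s₀, rfl⟩
    rw [hbot, Subgroup.mem_bot] at h1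
    apply iota0_injective j Q Q₀ hQ₀ A
    rw [h1, map_one]
  · -- cent
    intro n hn
    obtain ⟨pn, rfl⟩ := hAut n
    have hcomm : ∀ s₀ : ↥(Cfsg.isometryGroup F₀ ⇑Q₀), s₀ ∈ Cfsg.Omega F₀ ⇑Q₀ → ∀ v,
        act Q (mapIso j Q Q₀ hQ₀ s₀) (sm pn.1 v) = sm pn.1 (act Q (mapIso j Q Q₀ hQ₀ s₀) v) := by
      intro s₀ hs₀ v
      have h1 := hn (iota0 j Q Q₀ hQ₀ ⟨s₀, hs₀⟩) ⟨_, rfl⟩
      rw [iota0_apply, Psi_mk] at h1
      have h2 := mk_injective Q A h1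
      have h3 : actGL pn.1 (mapIso j Q Q₀ hQ₀ s₀).1 = (mapIso j Q Q₀ hQ₀ s₀).1 := by
        have := congrArg (fun s : ↥(Cfsg.Omega F ⇑Q) => ((s.1 : GL ι F))) h2
        exact this
      unfold act
      rw [← actGL_mulVec, h3]
    obtain ⟨hfix, a, ha⟩ := rigid j Q Q₀ hQ₀ A₀.hQ hfam₀ hk
      (Or.inr (by omega)) pn.1 hcomm
    have hτ : pn.1.right ∈ Subgroup.zpowers σ := by
      apply mem_zpowers_of_fixes
      intro a' ha'
      obtain ⟨a₀, rfl⟩ := (hj a').1 ha'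
      exact hfix a₀
    obtain ⟨z, hz⟩ := Subgroup.mem_zpowers_iff.1 hτ
    rw [Subgroup.mem_zpowers_iff]
    refine ⟨z, ?_⟩
    have hsc : (sc a : GamL ι F) ∈ semiO ⇑Q := sc_mem_semiO Q a
    have e1 : pn = (⟨sc a, hsc⟩ : ↥(semiO ⇑Q)) *
        (⟨SemidirectProduct.inr σ, inr_mem_semiO ⇑Q σ (hinv σ)⟩ : ↥(semiO ⇑Q)) ^ z := by
      apply Subtype.ext
      rw [Subgroup.coe_mul, Subgroup.coe_zpow]
      show pn.1 = sc a * (SemidirectProduct.inr σ : GamL ι F) ^ z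
      rw [← map_zpow, hz]
      exact ha
    rw [e1, map_mul, map_zpow, Psi_sc Q A.hQ hfam hk (Or.inr (by omega)) (by omega)
      (fun h => absurd h A.h2) a hsc, one_mul, phiF_def]

end Cfsg.Agent.Lib.Helper99.LB
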