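import Mathlib
import Cfsg.Agent.Lib.Helper99.LB5
import Cfsg.Agent.Lib.Helper8.DicksonOmega
import Cfsg.Agent.Lib.Helper37.OmegaCenter3

set_option autoImplicit false
set_option linter.unusedSectionVars false
set_option linter.unusedVariables false

/-!
# S2733 hive, FIELD leaf: general group-theoretic lemmas
-/

namespace Cfsg.Agent.Lib.Helper99.MBF

open Matrix Module QuadraticMap
open Cfsg.Agent.Lib.Helper37 Cfsg.Agent.Lib.Helper37.OrthField
open Cfsg.Agent.Lib.Helper8 Cfsg.Agent.Lib.Helper13
open Cfsg.Agent.Lib.Helper45.Balance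
open scoped commutatorElement

/-- in a group generated by involutions, squares lie in the commutator subgroup -/
theorem sq_mem_commutator_of_gen {G : Type*} [Group G] (S : Set G)
    (hS : Subgroup.closure S = ⊤) (hinv : ∀ x ∈ S, x * x = 1) (g : G) :
    g ^ 2 ∈ commutator G := by
  have key : ∀ g : G, (Abelianization.of g) ^ 2 = 1 := by
    intro g
    have hg : g ∈ Subgroup.closure S := by rw [hS]; trivial
    induction hg using Subgroup.closure_induction with
    | mem x hx => rw [← map_pow, pow_two, hinv x hx, map_one]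
    | one => simp
    | mul x y _ _ hx hy => rw [map_mul, mul_pow, hx, hy, one_mul]
    | inv x _ hx => rw [map_inv, inv_pow, hx, inv_one]
  have h1 := key g
  rw [← map_pow] at h1
  have h2 : g ^ 2 ∈ (Abelianization.of : G →* Abelianization G).ker := h1
  rwa [Abelianization.ker_of] at h2

theorem commutatorElement_mul_central_left {G : Type*} [Group G] (n z h : G)
    (hz : z ∈ Subgroup.center G) : ⁅n * z, h⁆ = ⁅n, h⁆ := by
  rw [commutatorElement_def, commutatorElement_def, _root_.mul_inv_rev]
  have h1 : ∀ x, x * z = z * x := Subgroup.mem_center_iff.1 hz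
  calc n * z * h * (z⁻¹ * n⁻¹) * h⁻¹ = n * (z * h) * z⁻¹ * n⁻¹ * h⁻¹ := by group
    _ = n * (h * z) * z⁻¹ * n⁻¹ * h⁻¹ := by rw [h1 h]
    _ = n * h * n⁻¹ * h⁻¹ := by group

theorem commutatorElement_mul_central_right {G : Type*} [Group G] (n z h : G)
    (hz : z ∈ Subgroup.center G) : ⁅h, n * z⁆ = ⁅h, n⁆ := by
  rw [← commutatorElement_inv (n * z) h, commutatorElement_mul_central_left n z h hz,
    commutatorElement_inv]

/-- in a perfect group with simple central quotient, a normal subgroup is central or everything -/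
theorem normal_le_center_or_eq_top {G : Type*} [Group G] (hperf : commutator G = ⊤)
    (hs : IsSimpleGroup (G ⧸ Subgroup.center G)) (N : Subgroup G) (hN : N.Normal) :
    N ≤ Subgroup.center G ∨ N = ⊤ := by
  have hmapN : (N.map (QuotientGroup.mk' (Subgroup.center G))).Normal :=
    hN.map _ (QuotientGroup.mk'_surjective _)
  rcases hmapN.eq_bot_or_eq_top with h | h
  · left
    intro n hn
    have h1 : QuotientGroup.mk' (Subgroup.center G) n ∈
        N.map (QuotientGroup.mk' (Subgroup.center G)) := ⟨n, hn, rfl⟩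
    rw [h, Subgroup.mem_bot] at h1
    exact (QuotientGroup.eq_one_iff n).1 h1
  · right
    have hdec : ∀ g : G, ∃ n ∈ N, ∃ z ∈ Subgroup.center G, g = n * z := by
      intro g
      have h1 : QuotientGroup.mk' (Subgroup.center G) g ∈
          N.map (QuotientGroup.mk' (Subgroup.center G)) := by rw [h]; trivial
      obtain ⟨n, hn, hng⟩ := h1
      refine ⟨n, hn, n⁻¹ * g, QuotientGroup.eq.1 hng, ?_⟩
      group
    rw [eq_top_iff, ← hperf, commutator_def, Subgroup.commutator_le]
    intro g _ g' _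
    obtain ⟨n, hn, z, hz, rfl⟩ := hdec g
    obtain ⟨n', hn', z', hz', rfl⟩ := hdec g'
    rw [commutatorElement_mul_central_left n z _ hz,
      commutatorElement_mul_central_right n' z' _ hz', commutatorElement_def]
    exact N.mul_mem (N.mul_mem (N.mul_mem hn hn') (N.inv_mem hn)) (N.inv_mem hn')

/-- transport of `Good` data along a group isomorphism -/
theorem good_map_equiv {P P' : Type*} [Group P] [Group P'] {p : ℕ} {x : MulAut P}
    {L : Subgroup P} (h : Good p x L) (ψ : P ≃* P') :
    Good p ((ψ.symm.trans x).trans ψ) (L.map ψ.toMonoidHom) := by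
  have happ : ∀ k' : P', ((ψ.symm.trans x).trans ψ) k' = ψ (x (ψ.symm k')) := fun _ => rfl
  have hxk : ∀ k' : P', ((ψ.symm.trans x).trans ψ) k' = k' → x (ψ.symm k') = ψ.symm k' := by
    intro k' hk
    rw [happ] at hk
    apply ψ.injective
    rw [hk, MulEquiv.apply_symm_apply]
  refine ⟨?_, ?_, ?_, ?_, ?_⟩
  · rintro _ ⟨l, hl, rfl⟩
    rw [happ]
    show ψ (x (ψ.symm (ψ l))) = ψ l
    rw [MulEquiv.symm_apply_apply, h.fix l hl]
  · rintro k' hk _ ⟨l, hl, rfl⟩
    refine ⟨ψ.symm k' * l * (ψ.symm k')⁻¹, h.norm _ (hxk k' hk) l hl, ?_⟩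
    show ψ (ψ.symm k' * l * (ψ.symm k')⁻¹) = k' * ψ l * k'⁻¹
    rw [map_mul, map_mul, map_inv, MulEquiv.apply_symm_apply]
  · intro hdvd M hML hMinv hMc
    have hcard : Nat.card ↥(MonoidHom.eqLocus ((ψ.symm.trans x).trans ψ).toMonoidHom
        (MonoidHom.id P')) = Nat.card ↥(MonoidHom.eqLocus x.toMonoidHom (MonoidHom.id P)) := by
      symm
      refine Nat.card_congr ⟨fun k => ⟨ψ k.1, ?_⟩, fun k => ⟨ψ.symm k.1, ?_⟩, ?_, ?_⟩
      · have hk : x k.1 = k.1 := k.2
        show ((ψ.symm.trans x).trans ψ) (ψ k.1) = ψ k.1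
        rw [happ, MulEquiv.symm_apply_apply, hk]
      · have hk : ((ψ.symm.trans x).trans ψ) k.1 = k.1 := k.2
        exact hxk k.1 hk
      · intro k
        apply Subtype.ext
        simp
      · intro k
        apply Subtype.ext
        simp
    rw [hcard] at hdvd
    have h1 : M.comap ψ.toMonoidHom = ⊥ := by
      apply h.simple hdvd
      · intro k hk
        obtain ⟨l, hl, hlk⟩ := hML hk
        have : l = k := ψ.injective hlk
        exact this ▸ hl
      · intro l hl m hm
        show ψ (l * m * l⁻¹) ∈ M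
        rw [map_mul, map_mul, map_inv]
        exact hMinv _ ⟨l, hl, rfl⟩ _ hm
      · have e : ↥(M.comap ψ.toMonoidHom) ≃ ↥M :=
          ⟨fun k => ⟨ψ k.1, k.2⟩, fun m => ⟨ψ.symm m.1, by
            show ψ (ψ.symm m.1) ∈ M
            rw [MulEquiv.apply_symm_apply]
            exact m.2⟩, fun k => by
            apply Subtype.ext
            simp, fun m => by
            apply Subtype.ext
            simp⟩
        rwa [Nat.card_congr e]
    rw [eq_bot_iff]
    intro k hk
    have h2 : ψ.symm k ∈ M.comap ψ.toMonoidHom := by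
      show ψ (ψ.symm k) ∈ M
      rw [MulEquiv.apply_symm_apply]
      exact hk
    rw [h1, Subgroup.mem_bot] at h2
    rw [Subgroup.mem_bot]
    have h3 := congrArg ψ h2
    rwa [MulEquiv.apply_symm_apply, map_one] at h3
  · intro hb
    apply h.ne
    rw [eq_bot_iff]
    intro l hl
    have h1 : ψ l ∈ L.map ψ.toMonoidHom := ⟨l, hl, rfl⟩
    rw [hb, Subgroup.mem_bot] at h1
    rw [Subgroup.mem_bot]
    exact ψ.injective (h1.trans (map_one ψ).symm)
  · intro n hn
    have h1 : (ψ.trans n).trans ψ.symm ∈ Subgroup.zpowers x := by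
      apply h.cent
      intro l hl
      show ψ.symm (n (ψ l)) = l
      rw [hn (ψ l) ⟨l, hl, rfl⟩, MulEquiv.symm_apply_apply]
    obtain ⟨i, hi⟩ := Subgroup.mem_zpowers_iff.1 h1
    rw [Subgroup.mem_zpowers_iff]
    refine ⟨i, ?_⟩
    have h2 : (ψ.symm.trans x).trans ψ = MulAut.congr ψ x := rfl
    rw [h2, ← map_zpow, hi]
    ext k'
    show ψ (ψ.symm (n (ψ (ψ.symm k')))) = n k'
    rw [MulEquiv.apply_symm_apply, MulEquiv.apply_symm_apply]

end Cfsg.Agent.Lib.Helper99.MBF
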