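import Mathlib
import Cfsg.Agent.Lib.Helper99.MBalField1

set_option autoImplicit false
set_option linter.unusedSectionVars false
set_option linter.unusedVariables false

/-!
# S2733 hive, FIELD leaf: the rational subgroup is `Good` for the standard field automorphism
(any dimension `≥ 7`, any characteristic, odd prime `p`)
-/

namespace Cfsg.Agent.Lib.Helper99.MBF

open Matrix Module QuadraticMap
open Cfsg.Agent.Lib.Helper37 Cfsg.Agent.Lib.Helper37.OrthField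
open Cfsg.Agent.Lib.Helper8 Cfsg.Agent.Lib.Helper13
open Cfsg.Agent.Lib.Helper45.Balance
open Cfsg.Agent.Lib.Helper99.LB
open scoped commutatorElement

universe u

variable {ι : Type} [Fintype ι] [DecidableEq ι] {F : Type u} [Field F] [Fintype F] [Nonempty ι]
  {F₀ : Type*} [Field F₀] [Fintype F₀] (j : F₀ →+* F)
  (Q : QuadraticForm F (ι → F)) (Q₀ : QuadraticForm F₀ (ι → F₀))
  (hQ₀ : ∀ w, j (Q₀ w) = Q (jv j w))

omit [Fintype F] [Nonempty ι] in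
theorem gl_comm_of_pm_one (c : GL ι F)
    (hc : (c : Matrix ι ι F) = 1 ∨ (c : Matrix ι ι F) = -1) (g : GL ι F) : c * g = g * c := by
  apply Units.ext
  rw [Units.val_mul, Units.val_mul]
  rcases hc with h | h <;> rw [h] <;> simp

omit [Fintype F] [Nonempty ι] in
theorem gl_mem_center_of_pm_one (c : GL ι F)
    (hc : (c : Matrix ι ι F) = 1 ∨ (c : Matrix ι ι F) = -1) : c ∈ Subgroup.center (GL ι F) :=
  Subgroup.mem_center_iff.2 (fun g => (gl_comm_of_pm_one c hc g).symm)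

omit [Fintype F] [Nonempty ι] in
theorem gl_sq_of_pm_one (c : GL ι F)
    (hc : (c : Matrix ι ι F) = 1 ∨ (c : Matrix ι ι F) = -1) : c * c = 1 := by
  apply Units.ext
  rw [Units.val_mul]
  rcases hc with h | h <;> rw [h] <;> simp

/-- squares of isometries lie in `Ω` -/
theorem sq_mem_omega' (hQ₀nd : (QuadraticMap.polarBilin Q₀).Nondegenerate)
    (hcard₀ : Fintype.card F₀ ≠ 2 ∨ finrank F₀ (ι → F₀) ≠ 4)
    (g : ↥(Cfsg.isometryGroup F₀ ⇑Q₀)) : g ^ 2 ∈ Cfsg.Omega F₀ ⇑Q₀ := by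
  apply sq_mem_commutator_of_gen (reflSet Q₀) (closure_reflSet_eq_top' Q₀ hQ₀nd hcard₀)
  intro x hx
  have h := inv_mem_reflSet Q₀ x hx
  calc x * x = x * x⁻¹ := by rw [h]
    _ = 1 := mul_inv_cancel x

section field

variable (σ : F ≃+* F) (hj : ∀ a, σ a = a ↔ a ∈ Set.range j) (hσQ : ∀ v, Q (vm σ v) = σ (Q v))
  (hQnd : (QuadraticMap.polarBilin Q).Nondegenerate)
  (hQ₀nd : (QuadraticMap.polarBilin Q₀).Nondegenerate)
  {k : ℕ} {e₀ f₀ : Fin k → ι → F₀} (hfam₀ : HypFam Q₀ k e₀ f₀) (hk : 3 ≤ k)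
  (hn7 : 7 ≤ Fintype.card ι)

include hQ₀ hQnd hfam₀ hk in
/-- the shape of a fixed point of the standard field automorphism -/
theorem fix_form (s : ↥(Cfsg.Omega F ⇑Q))
    (h : phiF Q σ hσQ (QuotientGroup.mk s) = QuotientGroup.mk s) :
    ∃ c : GL ι F, ((c : Matrix ι ι F) = 1 ∨ (c : Matrix ι ι F) = -1) ∧
      gm σ s.1.1 = s.1.1 * c := by
  obtain ⟨s', hs', hval⟩ := phiF_mk_val Q σ hσQ s
  rw [hs'] at h
  have hz : s⁻¹ * s' ∈ Subgroup.center ↥(Cfsg.Omega F ⇑Q) := QuotientGroup.eq.1 h.symm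
  have hfam := hypFam_jv j Q Q₀ hQ₀ hfam₀
  refine ⟨(s⁻¹ * s').1.1, center_omega_matrix Q hQnd hfam hk _ hz, ?_⟩
  rw [← hval]
  show s'.1.1 = s.1.1 * (s.1.1⁻¹ * s'.1.1)
  rw [mul_inv_cancel_left]

include hj in
/-- conjugation by an "almost rational" isometry preserves rational isometries -/
theorem rational_conj (s : ↥(Cfsg.isometryGroup F ⇑Q)) (c : GL ι F)
    (hc : ∀ g : GL ι F, c * g = g * c) (hs : gm σ s.1 = s.1 * c)
    (g₀ : ↥(Cfsg.isometryGroup F₀ ⇑Q₀)) :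
    ∃ g₁ : ↥(Cfsg.isometryGroup F₀ ⇑Q₀),
      mapIso j Q Q₀ hQ₀ g₁ = s * mapIso j Q Q₀ hQ₀ g₀ * s⁻¹ := by
  apply exists_rational_of_gm j Q Q₀ hQ₀ σ hj
  show gm σ (s.1 * mapGL j g₀.1 * s.1⁻¹) = s.1 * mapGL j g₀.1 * s.1⁻¹
  rw [map_mul, map_mul, map_inv, hs, gm_mapGL j σ hj, _root_.mul_inv_rev]
  calc s.1 * c * mapGL j g₀.1 * (c⁻¹ * s.1⁻¹)
      = s.1 * (c * mapGL j g₀.1) * c⁻¹ * s.1⁻¹ := by group
    _ = s.1 * (mapGL j g₀.1 * c) * c⁻¹ * s.1⁻¹ := by rw [hc]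
    _ = _ := by group

include hj in
/-- ... and the rational `Ω` -/
theorem rational_conj_omega (s : ↥(Cfsg.isometryGroup F ⇑Q)) (c : GL ι F)
    (hc : ∀ g : GL ι F, c * g = g * c) (hs : gm σ s.1 = s.1 * c)
    (t₀ : ↥(Cfsg.isometryGroup F₀ ⇑Q₀)) (ht₀ : t₀ ∈ Cfsg.Omega F₀ ⇑Q₀) :
    ∃ g₁ ∈ Cfsg.Omega F₀ ⇑Q₀, mapIso j Q Q₀ hQ₀ g₁ = s * mapIso j Q Q₀ hQ₀ t₀ * s⁻¹ := by
  let S : Subgroup ↥(Cfsg.isometryGroup F₀ ⇑Q₀) :=
    { carrier := {g₀ | ∃ g₁ ∈ Cfsg.Omega F₀ ⇑Q₀,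
        mapIso j Q Q₀ hQ₀ g₁ = s * mapIso j Q Q₀ hQ₀ g₀ * s⁻¹}
      one_mem' := ⟨1, Subgroup.one_mem _, by simp⟩
      mul_mem' := by
        rintro a b ⟨a₁, ha₁, ha⟩ ⟨b₁, hb₁, hb⟩
        refine ⟨a₁ * b₁, Subgroup.mul_mem _ ha₁ hb₁, ?_⟩
        rw [map_mul, map_mul, ha, hb]
        group
      inv_mem' := by
        rintro a ⟨a₁, ha₁, ha⟩
        refine ⟨a₁⁻¹, Subgroup.inv_mem _ ha₁, ?_⟩
        rw [map_inv, map_inv, ha]
        group }
  have hle : Cfsg.Omega F₀ ⇑Q₀ ≤ S := by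
    show commutator _ ≤ S
    rw [commutator_def, Subgroup.commutator_le]
    intro a _ b _
    obtain ⟨a₁, ha⟩ := rational_conj j Q Q₀ hQ₀ σ hj s c hc hs a
    obtain ⟨b₁, hb⟩ := rational_conj j Q Q₀ hQ₀ σ hj s c hc hs b
    refine ⟨⁅a₁, b₁⁆, ?_, ?_⟩
    · show ⁅a₁, b₁⁆ ∈ commutator _
      rw [commutator_def]
      exact Subgroup.commutator_mem_commutator (Subgroup.mem_top _) (Subgroup.mem_top _)
    · rw [map_commutatorElement, map_commutatorElement, ha, hb, commutatorElement_def,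
        commutatorElement_def]
      group
  exact hle ht₀

include hQ₀nd hfam₀ hk in
/-- central elements of the rational `Ω` map to central elements -/
theorem mapOm_center (z₀ : ↥(Cfsg.Omega F₀ ⇑Q₀))
    (hz₀ : z₀ ∈ Subgroup.center ↥(Cfsg.Omega F₀ ⇑Q₀)) :
    mapOm j Q Q₀ hQ₀ z₀ ∈ Subgroup.center ↥(Cfsg.Omega F ⇑Q) := by
  have hm : (((mapOm j Q Q₀ hQ₀ z₀).1.1 : GL ι F) : Matrix ι ι F) = 1 ∨
      (((mapOm j Q Q₀ hQ₀ z₀).1.1 : GL ι F) : Matrix ι ι F) = -1 := by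
    rcases center_omega_matrix Q₀ hQ₀nd hfam₀ hk z₀ hz₀ with h | h
    · left
      rw [mapOm_val, mapIso_val, mapGL_val, h]
      ext x y
      simp [Matrix.map_apply, Matrix.one_apply]
    · right
      rw [mapOm_val, mapIso_val, mapGL_val, h]
      ext x y
      simp [Matrix.map_apply, Matrix.one_apply, Matrix.neg_apply]
  rw [Subgroup.mem_center_iff]
  intro w
  apply Subtype.ext
  apply Subtype.ext
  show w.1.1 * (mapOm j Q Q₀ hQ₀ z₀).1.1 = (mapOm j Q Q₀ hQ₀ z₀).1.1 * w.1.1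
  exact (gl_comm_of_pm_one _ hm _).symm

include hQ₀ hQnd hQ₀nd hfam₀ hk hn7 hj in
/-- the rational `Ω` is `Good` for the standard field automorphism -/
theorem good_phiF_gen {p : ℕ} [Fact p.Prime] (hpodd : Odd p) (hAut : AutSemi ⇑Q) :
    Good p (phiF Q σ hσQ) (iota0 j Q Q₀ hQ₀).range := by
  have hp : p.Prime := Fact.out
  have hfam := hypFam_jv j Q Q₀ hQ₀ hfam₀
  have hnF : finrank F (ι → F) = Fintype.card ι := Module.finrank_fintype_fun_eq_card F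
  have hnF₀ : finrank F₀ (ι → F₀) = Fintype.card ι := Module.finrank_fintype_fun_eq_card F₀
  have hcard : Fintype.card F ≠ 2 ∨ finrank F (ι → F) ≠ 4 := Or.inr (by omega)
  have hcard₀ : Fintype.card F₀ ≠ 2 ∨ finrank F₀ (ι → F₀) ≠ 4 := Or.inr (by omega)
  have hsimple₀ : IsSimpleGroup (Cfsg.POmega F₀ ⇑Q₀) :=
    Cfsg.Agent.Lib.Helper8.pomega_simple Q₀ hQ₀nd (by omega) (fun _ => by omega)
  have hperf₀ : commutator ↥(Cfsg.Omega F₀ ⇑Q₀) = ⊤ :=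
    Cfsg.Agent.Lib.Helper8.commutator_omega_eq_top Q₀ hQ₀nd (by omega) (fun _ => by omega)
  refine ⟨?_, ?_, ?_, ?_, ?_⟩
  · -- fix
    rintro _ ⟨s₀, rfl⟩
    exact phiF_iota0 j Q Q₀ hQ₀ σ hj hσQ s₀
  · -- norm
    rintro kk hkk _ ⟨t₀, rfl⟩
    induction kk using QuotientGroup.induction_on with
    | H s =>
      obtain ⟨c, hc, hs⟩ := fix_form j Q Q₀ hQ₀ σ hσQ hQnd hfam₀ hk s hkk
      obtain ⟨g₁, hg₁, hg⟩ := rational_conj_omega j Q Q₀ hQ₀ σ hj s.1 c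
        (gl_comm_of_pm_one c hc) hs t₀.1 t₀.2
      refine ⟨⟨g₁, hg₁⟩, ?_⟩
      rw [iota0_apply, iota0_apply]
      show _ = (QuotientGroup.mk s : Cfsg.POmega F ⇑Q) * QuotientGroup.mk (mapOm j Q Q₀ hQ₀ t₀) *
        (QuotientGroup.mk s)⁻¹
      rw [← QuotientGroup.mk_inv, ← QuotientGroup.mk_mul, ← QuotientGroup.mk_mul]
      congr 1
      apply Subtype.ext
      show mapIso j Q Q₀ hQ₀ g₁ = s.1 * (mapIso j Q Q₀ hQ₀ t₀.1) * s.1⁻¹
      exact hg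
  · -- simple
    intro hdvd M hML hMinv hMc
    have hMn : (M.comap (iota0 j Q Q₀ hQ₀)).Normal := by
      constructor
      intro n hn g
      rw [Subgroup.mem_comap] at hn ⊢
      rw [map_mul, map_mul, map_inv]
      exact hMinv _ ⟨g, rfl⟩ _ hn
    rcases normal_le_center_or_eq_top hperf₀ hsimple₀ _ hMn with h | h
    · rw [eq_bot_iff]
      intro x hx
      obtain ⟨s₀, rfl⟩ := hML hx
      have h1 : s₀ ∈ M.comap (iota0 j Q Q₀ hQ₀) := hx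
      have h2 := mapOm_center j Q Q₀ hQ₀ hQ₀nd hfam₀ hk s₀ (h h1)
      rw [Subgroup.mem_bot, iota0_apply]
      exact (QuotientGroup.eq_one_iff _).2 h2
    · exfalso
      have hle : (iota0 j Q Q₀ hQ₀).range ≤ M := by
        rintro _ ⟨s₀, rfl⟩
        have : s₀ ∈ M.comap (iota0 j Q Q₀ hQ₀) := by rw [h]; exact Subgroup.mem_top _
        exact this
      obtain ⟨k', hk'⟩ := exists_prime_orderOf_dvd_card' p hdvd
      have hk1 : orderOf k'.1 = p := by rw [Subgroup.orderOf_coe]; exact hk'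
      have hfix : phiF Q σ hσQ k'.1 = k'.1 := k'.2
      generalize k'.1 = kk at hk1 hfix
      induction kk using QuotientGroup.induction_on with
      | H s =>
        obtain ⟨c, hc, hs⟩ := fix_form j Q Q₀ hQ₀ σ hσQ hQnd hfam₀ hk s hfix
        have hc2 : c * c = 1 := gl_sq_of_pm_one c hc
        have hs2 : gm σ (s.1 ^ 2).1 = (s.1 ^ 2).1 := by
          show gm σ (s.1.1 ^ 2) = s.1.1 ^ 2
          rw [map_pow, hs, pow_two, pow_two]
          calc s.1.1 * c * (s.1.1 * c) = s.1.1 * (c * s.1.1) * c := by group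
            _ = s.1.1 * (s.1.1 * c) * c := by rw [gl_comm_of_pm_one c hc]
            _ = s.1.1 * s.1.1 * (c * c) := by group
            _ = _ := by rw [hc2, mul_one]
        obtain ⟨g₀, hg₀⟩ := exists_rational_of_gm j Q Q₀ hQ₀ σ hj (s.1 ^ 2) hs2
        have hsq := sq_mem_omega' Q₀ hQ₀nd hcard₀ g₀
        have h4 : iota0 j Q Q₀ hQ₀ ⟨g₀ ^ 2, hsq⟩ = (QuotientGroup.mk s : Cfsg.POmega F ⇑Q) ^ 4 := by
          rw [iota0_apply, ← QuotientGroup.mk_pow]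
          congr 1
          apply Subtype.ext
          show mapIso j Q Q₀ hQ₀ (g₀ ^ 2) = (s ^ 4).1
          rw [map_pow, hg₀, Subgroup.coe_pow, ← pow_mul]
        have ho4 : orderOf ((QuotientGroup.mk s : Cfsg.POmega F ⇑Q) ^ 4) = p := by
          have hcop : (orderOf (QuotientGroup.mk s : Cfsg.POmega F ⇑Q)).Coprime 4 := by
            rw [hk1]
            exact (hpodd.coprime_two_right).pow_right 2
          rw [hcop.orderOf_pow, hk1]
        have hmem : (QuotientGroup.mk s : Cfsg.POmega F ⇑Q) ^ 4 ∈ M := hle ⟨_, h4⟩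
        have h5 : p ∣ Nat.card ↥M := by
          have h6 := orderOf_dvd_natCard (⟨_, hmem⟩ : ↥M)
          rwa [Subgroup.orderOf_mk, ho4] at h6
        exact (Nat.Prime.coprime_iff_not_dvd hp).1 hMc.symm h5
  · -- ne
    intro hbot
    have hnt : ∃ s₀ : ↥(Cfsg.Omega F₀ ⇑Q₀), s₀ ∉ Subgroup.center ↥(Cfsg.Omega F₀ ⇑Q₀) := by
      by_contra hall
      push Not at hall
      have := hsimple₀
      obtain ⟨x, hx⟩ := exists_ne (1 : Cfsg.POmega F₀ ⇑Q₀)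
      induction x using QuotientGroup.induction_on with
      | H s₀ => exact hx ((QuotientGroup.eq_one_iff s₀).2 (hall s₀))
    obtain ⟨s₀, hs₀⟩ := hnt
    apply hs₀
    rw [Subgroup.mem_center_iff]
    intro t₀
    have h1 : iota0 j Q Q₀ hQ₀ s₀ ∈ (iota0 j Q Q₀ hQ₀).range := ⟨s₀, rfl⟩
    rw [hbot, Subgroup.mem_bot, iota0_apply, QuotientGroup.eq_one_iff] at h1
    have h2 := Subgroup.mem_center_iff.1 h1 (mapOm j Q Q₀ hQ₀ t₀)
    apply mapOm_injective j Q Q₀ hQ₀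
    rw [map_mul, map_mul]
    exact h2
  · -- cent
    intro n hn
    obtain ⟨pn, rfl⟩ := hAut n
    have hact : ∀ s₀ : ↥(Cfsg.Omega F₀ ⇑Q₀), ∃ c : GL ι F,
        ((c : Matrix ι ι F) = 1 ∨ (c : Matrix ι ι F) = -1) ∧
        actGL pn.1 (mapIso j Q Q₀ hQ₀ s₀.1).1 = (mapIso j Q Q₀ hQ₀ s₀.1).1 * c := by
      intro s₀
      have h1 := hn (iota0 j Q Q₀ hQ₀ s₀) ⟨_, rfl⟩
      rw [iota0_apply, Psi_mk] at h1
      have hz := QuotientGroup.eq.1 h1.symm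
      refine ⟨_, center_omega_matrix Q hQnd hfam hk _ hz, ?_⟩
      show actGL pn.1 (mapIso j Q Q₀ hQ₀ s₀.1).1 = (mapIso j Q Q₀ hQ₀ s₀.1).1 *
        ((mapIso j Q Q₀ hQ₀ s₀.1).1⁻¹ * actGL pn.1 (mapIso j Q Q₀ hQ₀ s₀.1).1)
      rw [mul_inv_cancel_left]
    let T : Subgroup ↥(Cfsg.Omega F₀ ⇑Q₀) :=
      { carrier := {s₀ | actGL pn.1 (mapIso j Q Q₀ hQ₀ s₀.1).1 = (mapIso j Q Q₀ hQ₀ s₀.1).1}
        one_mem' := by
          show actGL pn.1 (mapIso j Q Q₀ hQ₀ (1 : ↥(Cfsg.isometryGroup F₀ ⇑Q₀))).1 =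
            (mapIso j Q Q₀ hQ₀ (1 : ↥(Cfsg.isometryGroup F₀ ⇑Q₀))).1
          rw [map_one]
          exact map_one _
        mul_mem' := by
          intro a b ha hb
          show actGL pn.1 (mapIso j Q Q₀ hQ₀ (a.1 * b.1)).1 = (mapIso j Q Q₀ hQ₀ (a.1 * b.1)).1
          have ha' : actGL pn.1 (mapIso j Q Q₀ hQ₀ a.1).1 = (mapIso j Q Q₀ hQ₀ a.1).1 := ha
          have hb' : actGL pn.1 (mapIso j Q Q₀ hQ₀ b.1).1 = (mapIso j Q Q₀ hQ₀ b.1).1 := hb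
          rw [map_mul, Subgroup.coe_mul, map_mul, ha', hb']
        inv_mem' := by
          intro a ha
          show actGL pn.1 (mapIso j Q Q₀ hQ₀ (a.1⁻¹)).1 = (mapIso j Q Q₀ hQ₀ (a.1⁻¹)).1
          have ha' : actGL pn.1 (mapIso j Q Q₀ hQ₀ a.1).1 = (mapIso j Q Q₀ hQ₀ a.1).1 := ha
          rw [map_inv, Subgroup.coe_inv, map_inv, ha'] }
    have hT : T = ⊤ := by
      rw [eq_top_iff, ← hperf₀, commutator_def, Subgroup.commutator_le]
      intro a _ b _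
      obtain ⟨ca, hca, ha⟩ := hact a
      obtain ⟨cb, hcb, hb⟩ := hact b
      show actGL pn.1 (mapIso j Q Q₀ hQ₀ ⁅a.1, b.1⁆).1 = (mapIso j Q Q₀ hQ₀ ⁅a.1, b.1⁆).1
      have e2 : (mapIso j Q Q₀ hQ₀ ⁅a.1, b.1⁆).1 =
          ⁅(mapIso j Q Q₀ hQ₀ a.1).1, (mapIso j Q Q₀ hQ₀ b.1).1⁆ := by
        rw [map_commutatorElement]
        rfl
      rw [e2, map_commutatorElement, ha, hb,
        commutatorElement_mul_central_left _ _ _ (gl_mem_center_of_pm_one ca hca),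
        commutatorElement_mul_central_right _ _ _ (gl_mem_center_of_pm_one cb hcb)]
    have hcomm : ∀ s₀ : ↥(Cfsg.isometryGroup F₀ ⇑Q₀), s₀ ∈ Cfsg.Omega F₀ ⇑Q₀ → ∀ v,
        act Q (mapIso j Q Q₀ hQ₀ s₀) (sm pn.1 v) = sm pn.1 (act Q (mapIso j Q Q₀ hQ₀ s₀) v) := by
      intro s₀ hs₀ v
      have h3 : actGL pn.1 (mapIso j Q Q₀ hQ₀ s₀).1 = (mapIso j Q Q₀ hQ₀ s₀).1 := by
        have : (⟨s₀, hs₀⟩ : ↥(Cfsg.Omega F₀ ⇑Q₀)) ∈ T := by rw [hT]; trivial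
        exact this
      unfold act
      rw [← actGL_mulVec, h3]
    obtain ⟨hfix, a, ha⟩ := rigid j Q Q₀ hQ₀ hQ₀nd hfam₀ hk hcard₀ pn.1 hcomm
    have hτ : pn.1.right ∈ Subgroup.zpowers σ := by
      apply mem_zpowers_of_fixes
      intro a' ha'
      obtain ⟨a₀, rfl⟩ := (hj a').1 ha'
      exact hfix a₀
    obtain ⟨z, hz⟩ := Subgroup.mem_zpowers_iff.1 hτ
    rw [Subgroup.mem_zpowers_iff]
    refine ⟨z, ?_⟩
    have hsc : (sc a : GamL ι F) ∈ semiO ⇑Q := sc_mem_semiO Q a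
    have e1 : pn = (⟨sc a, hsc⟩ : ↥(semiO ⇑Q)) *
        (⟨SemidirectProduct.inr σ, inr_mem_semiO ⇑Q σ hσQ⟩ : ↥(semiO ⇑Q)) ^ z := by
      apply Subtype.ext
      rw [Subgroup.coe_mul, Subgroup.coe_zpow]
      show pn.1 = sc a * (SemidirectProduct.inr σ : GamL ι F) ^ z
      rw [← map_zpow, hz]
      exact ha
    rw [e1, map_mul, map_zpow, Psi_sc Q hQnd hfam hk hcard (by omega) (fun _ => by omega) a hsc,
      one_mul, phiF_def]

end field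

end Cfsg.Agent.Lib.Helper99.MBF
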