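import Mathlib
import Cfsg.Agent.Lib.Helper99.MBalField2
import Cfsg.Agent.Lib.Helper37.OrthMinusFieldMain
import Cfsg.Agent.Lib.Helper43.QbarFacts

set_option autoImplicit false
set_option linter.unusedSectionVars false
set_option linter.unusedVariables false

/-!
# S2733 hive, FIELD leaf: anisotropic forms over a subfield of odd degree
-/

namespace Cfsg.Agent.Lib.Helper99.MBF

open Polynomial Module

/-- an anisotropic binary form over a subfield of odd degree stays anisotropic -/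
theorem aniso_of_odd_finrank {F : Type*} [Field F] (F₁ : Subfield F) [FiniteDimensional F₁ F]
    (hodd : Odd (finrank F₁ F)) (a₀ b₀ : F₁)
    (hab₀ : ∀ z₁ z₂ : F₁, z₁ ^ 2 + a₀ * z₁ * z₂ + b₀ * z₂ ^ 2 = 0 → z₁ = 0 ∧ z₂ = 0) :
    ∀ z₁ z₂ : F, z₁ ^ 2 + F₁.subtype a₀ * z₁ * z₂ + F₁.subtype b₀ * z₂ ^ 2 = 0 →
      z₁ = 0 ∧ z₂ = 0 := by
  intro z₁ z₂ h
  by_cases hz₂ : z₂ = 0
  · subst hz₂
    simp only [mul_zero, add_zero, ne_eq, OfNat.ofNat_ne_zero, not_false_eq_true, zero_pow] at h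
    exact ⟨pow_eq_zero_iff (two_ne_zero) |>.1 h, rfl⟩
  exfalso
  obtain ⟨θ, hθdef⟩ : ∃ θ : F, θ = z₁ / z₂ := ⟨_, rfl⟩
  have hθ : θ ^ 2 + F₁.subtype a₀ * θ + F₁.subtype b₀ = 0 := by
    rw [hθdef]
    field_simp
    linear_combination h
  have hint : IsIntegral F₁ θ := Algebra.IsIntegral.isIntegral θ
  have hal : ∀ x : F₁, algebraMap F₁ F x = F₁.subtype x := fun _ => rfl
  have haeval : aeval θ (X ^ 2 + (C a₀ * X + C b₀) : F₁[X]) = 0 := by
    simp only [map_add, map_pow, aeval_X, map_mul, aeval_C, hal]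
    linear_combination hθ
  have hdvd := minpoly.dvd F₁ θ haeval
  have hdeg : degree (C a₀ * X + C b₀ : F₁[X]) < ((2 : ℕ) : WithBot ℕ) :=
    lt_of_le_of_lt degree_linear_le (by norm_num)
  have hmonic : (X ^ 2 + (C a₀ * X + C b₀) : F₁[X]).Monic := monic_X_pow_add hdeg
  have hnat : (X ^ 2 + (C a₀ * X + C b₀) : F₁[X]).natDegree = 2 := by
    rw [natDegree_add_eq_left_of_degree_lt (by rw [degree_X_pow]; exact hdeg), natDegree_X_pow]
  have hle : (minpoly F₁ θ).natDegree ≤ 2 := by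
    rw [← hnat]
    exact natDegree_le_of_dvd hdvd hmonic.ne_zero
  have hpos : 0 < (minpoly F₁ θ).natDegree := minpoly.natDegree_pos hint
  have hne1 : (minpoly F₁ θ).natDegree ≠ 1 := by
    intro h1
    rw [minpoly.natDegree_eq_one_iff] at h1
    obtain ⟨t, ht⟩ := h1
    have h2 : t ^ 2 + a₀ * t * 1 + b₀ * 1 ^ 2 = 0 := by
      apply F₁.subtype.injective
      rw [map_zero, ← hθ, ← ht, hal]
      simp only [map_add, map_mul, map_pow, mul_one, one_pow]
    exact one_ne_zero (hab₀ t 1 h2).2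
  have h2 : (minpoly F₁ θ).natDegree = 2 := by omega
  have h3 := minpoly.degree_dvd hint
  rw [h2] at h3
  obtain ⟨r, hr⟩ := hodd
  omega

end Cfsg.Agent.Lib.Helper99.MBF
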