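import Mathlib
import Cfsg.Agent.Lib.Helper37.OrthMinusFieldMain
import Cfsg.Agent.Lib.Helper45.BalanceSkel
import Cfsg.Agent.Lib.Helper99.MBalField3

/-!
# S2733 hive: the FIELD leaf
-/

set_option autoImplicit false
set_option linter.unusedSectionVars false
set_option linter.unusedVariables false
set_option maxHeartbeats 1600000
set_option linter.style.haveILetI false

namespace Cfsg.Agent.Lib.Helper37.MBal

open Matrix Module QuadraticMap
open Cfsg.Agent.Lib.Helper37 Cfsg.Agent.Lib.Helper37.OrthField Cfsg.Agent.Lib.Helper8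
open Cfsg.Agent.Lib.Helper45.Balance
open Cfsg.Agent.Lib.Helper43 Cfsg.Agent.Lib.Helper37.ParGen Cfsg.Agent.Lib.Helper14
open Cfsg.Agent.Lib.Helper99.MBF Cfsg.Agent.Lib.Helper99.LB

universe u

variable {m : ℕ} {F : Type u} [Field F] [Fintype F]

/-- (MB-FIELD) an automorphism of `PΩ⁻` of odd prime order `p` induced by a semisimilarity with
non-trivial field automorphism is a field automorphism (as a class), and has `Good` data. -/
theorem minus_field_good {p : ℕ} [Fact p.Prime] (hpodd : Odd p) (hm : 3 ≤ m) (a b : F)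
    (hab : ∀ z₁ z₂ : F, z₁ ^ 2 + a * z₁ * z₂ + b * z₂ ^ 2 = 0 → z₁ = 0 ∧ z₂ = 0)
    (hAut : ∀ a' b' : F,
      (∀ z₁ z₂ : F, z₁ ^ 2 + a' * z₁ * z₂ + b' * z₂ ^ 2 = 0 → z₁ = 0 ∧ z₂ = 0) →
      AutSemi ⇑(minusForm m F a' b'))
    (px : ↥(semiO ⇑(minusForm m F a b))) (hσ : px.1.right ≠ 1)
    (hxp : (Psi ⇑(minusForm m F a b) px) ^ p = 1) :
    (∃ (a' b' : F) (ψ : Cfsg.POmega F ⇑(minusForm m F a b) ≃*
        Cfsg.POmega F (Cfsg.quadFormMinus m F a' b')) (σ : F ≃+* F),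
      (∀ z₁ z₂ : F, z₁ ^ 2 + a' * z₁ * z₂ + b' * z₂ ^ 2 = 0 → z₁ = 0 ∧ z₂ = 0) ∧
      σ ≠ RingEquiv.refl F ∧ σ a' = a' ∧ σ b' = b' ∧
      Cfsg.IsFieldAutPOmegaOf (Cfsg.quadFormMinus m F a' b') σ
        ((ψ.symm.trans (Psi ⇑(minusForm m F a b) px)).trans ψ)) ∧
    ∃ L : Subgroup (Cfsg.POmega F ⇑(minusForm m F a b)),
      Good p (Psi ⇑(minusForm m F a b) px) L := by
  classical
  have hp : p.Prime := Fact.out
  haveI : Nonempty ((Fin m ⊕ Fin m) ⊕ Fin 2) := ⟨Sum.inr 0⟩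
  have hn : finrank F ((Fin m ⊕ Fin m) ⊕ Fin 2 → F) = 2 * (m + 1) := minus_hV
  have hcard : Fintype.card F ≠ 2 ∨ finrank F ((Fin m ⊕ Fin m) ⊕ Fin 2 → F) ≠ 4 :=
    Or.inr (by rw [hn]; omega)
  have hn5 : 5 ≤ finrank F ((Fin m ⊕ Fin m) ⊕ Fin 2 → F) := by rw [hn]; omega
  have hn2 : (2 : F) = 0 → 7 ≤ finrank F ((Fin m ⊕ Fin m) ⊕ Fin 2 → F) :=
    fun _ => by rw [hn]; omega
  have hnd : (polarBilin (minusForm m F a b)).Nondegenerate :=
    (minus_family m F a b).nondegenerate (minusForm_zero_nondegenerate F a b hab)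
  obtain ⟨hord, -⟩ := order_facts (minusForm m F a b) hnd (minus_hypFam37 m F a b) hm hcard
    hn5 hn2 px p hp hxp hσ
  obtain ⟨σ, hσdef⟩ : ∃ σ : F ≃+* F, σ = px.1.right := ⟨_, rfl⟩
  rw [← hσdef] at hord hσ
  -- the fixed field
  obtain ⟨F₁, hmem, hrank⟩ := Cfsg.Agent.Lib.Helper5.AutPSLn.exists_fixed_subfield σ
  rw [hord] at hrank
  haveI : Fintype F₁ := Fintype.ofFinite F₁
  have hj₁ : ∀ a : F, σ a = a ↔ a ∈ Set.range (F₁.subtype : F₁ →+* F) := by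
    intro a
    rw [← hmem]
    constructor
    · intro h
      exact ⟨⟨a, h⟩, rfl⟩
    · rintro ⟨y, rfl⟩
      exact y.2
  obtain ⟨a₀, b₀, hab₀⟩ := Cfsg.Agent.Lib.Helper43.OrthGen.exists_aniso F₁
  have hab'₁ := aniso_of_odd_finrank F₁ (by rw [hrank]; exact hpodd) a₀ b₀ hab₀
  obtain ⟨j, hjdef⟩ : ∃ j : F₁ →+* F, j = F₁.subtype := ⟨_, rfl⟩
  rw [← hjdef] at hj₁ hab'₁
  have hj := hj₁
  have hab' := hab'₁
  have hσa : σ (j a₀) = j a₀ := (hj _).2 ⟨a₀, rfl⟩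
  have hσb : σ (j b₀) = j b₀ := (hj _).2 ⟨b₀, rfl⟩
  have hnd' : (polarBilin (minusForm m F (j a₀) (j b₀))).Nondegenerate :=
    (minus_family m F (j a₀) (j b₀)).nondegenerate
      (minusForm_zero_nondegenerate F (j a₀) (j b₀) hab')
  have hnd₀ : (polarBilin (minusForm m F₁ a₀ b₀)).Nondegenerate :=
    (minus_family m F₁ a₀ b₀).nondegenerate (minusForm_zero_nondegenerate F₁ a₀ b₀ hab₀)
  have hσQ' := minus_inv_of_fixed (m := m) (j a₀) (j b₀) σ hσa hσb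
  -- the quadratic extension
  obtain ⟨K, _, _, θ, hK2, hθ⟩ := exists_quad_ext_root a b hab
  haveI : Module.Finite F K := Module.finite_of_finrank_pos (by rw [hK2]; norm_num)
  haveI : Finite K := Module.finite_of_finite F
  haveI : Fintype K := Fintype.ofFinite K
  obtain ⟨θ', hθ'⟩ := exists_root_quad hK2 (j a₀) (j b₀) hab'
  -- the isometry
  have hdim : finrank F ((Fin m ⊕ Fin m) ⊕ Fin 2 → F) = 2 * m + 2 := by rw [hn]; ring
  obtain ⟨Θ, hΘ⟩ := ZeroCount.classify_minus_gen (j a₀) (j b₀) hab' _ (minusForm m F a b) hnd m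
    hdim (card_zeros_minusForm m a b hab)
  have hk : ∀ v, minusForm m F (j a₀) (j b₀)
      (((glOfEquiv Θ : GL _ F) : Matrix _ _ F) *ᵥ v) = minusForm m F a b v := by
    intro v
    rw [glOfEquiv_mulVec, ← minusForm_coe]
    exact hΘ v
  generalize glOfEquiv Θ = k at hk
  -- transport
  obtain ⟨ψ₀, hψ₀⟩ : ∃ ψ₀ : Cfsg.POmega F ⇑(minusForm m F a b) ≃*
      Cfsg.POmega F ⇑(minusForm m F (j a₀) (j b₀)),
      ψ₀ = pomegaConj ⇑(minusForm m F a b) ⇑(minusForm m F (j a₀) (j b₀)) k hk := ⟨_, rfl⟩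
  obtain ⟨p', hp'⟩ : ∃ p' : ↥(semiO ⇑(minusForm m F (j a₀) (j b₀))),
      p'.1 = SemidirectProduct.inl k * px.1 * (SemidirectProduct.inl k)⁻¹ :=
    ⟨⟨SemidirectProduct.inl k * px.1 * (SemidirectProduct.inl k)⁻¹,
      conj_mem_semiO ⇑(minusForm m F a b) ⇑(minusForm m F (j a₀) (j b₀)) k hk px.1 px.2⟩, rfl⟩
  have hcx : MulAut.congr ψ₀ (Psi ⇑(minusForm m F a b) px) =
      Psi ⇑(minusForm m F (j a₀) (j b₀)) p' := by
    ext t'
    show ψ₀ (Psi ⇑(minusForm m F a b) px (ψ₀.symm t')) = _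
    rw [hψ₀, pomegaConj_Psi ⇑(minusForm m F a b) ⇑(minusForm m F (j a₀) (j b₀)) k hk px p' hp',
      MulEquiv.apply_symm_apply]
  have hp'r : p'.1.right = σ := by
    rw [hp', hσdef]
    simp only [SemidirectProduct.mul_right, SemidirectProduct.inv_right,
      SemidirectProduct.right_inl, one_mul, inv_one, mul_one]
  obtain ⟨pσ, hpσ⟩ : ∃ pσ : ↥(semiO ⇑(minusForm m F (j a₀) (j b₀))),
      pσ = ⟨SemidirectProduct.inr σ, inr_mem_semiO ⇑(minusForm m F (j a₀) (j b₀)) σ hσQ'⟩ :=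
    ⟨_, rfl⟩
  have hpσr : pσ.1.right = σ := by rw [hpσ]; rfl
  have hd1 : (p' * pσ⁻¹).1.right = 1 := by
    rw [Subgroup.coe_mul, Subgroup.coe_inv, SemidirectProduct.mul_right,
      SemidirectProduct.inv_right, hp'r, hpσr]
    exact mul_inv_cancel σ
  have hd2 := eq_simToSemi_of_right_eq_one ⇑(minusForm m F (j a₀) (j b₀)) (p' * pσ⁻¹) hd1
  have hp'd : Psi ⇑(minusForm m F (j a₀) (j b₀)) p' =
      Phi ⇑(minusForm m F (j a₀) (j b₀)) ⟨(p' * pσ⁻¹).1.left,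
        mem_sim_of_right_eq_one ⇑(minusForm m F (j a₀) (j b₀)) _ hd1⟩ *
      Psi ⇑(minusForm m F (j a₀) (j b₀)) pσ := by
    calc Psi ⇑(minusForm m F (j a₀) (j b₀)) p'
        = Psi ⇑(minusForm m F (j a₀) (j b₀)) ((p' * pσ⁻¹) * pσ) := by
          rw [inv_mul_cancel_right]
      _ = Psi ⇑(minusForm m F (j a₀) (j b₀)) (p' * pσ⁻¹) *
          Psi ⇑(minusForm m F (j a₀) (j b₀)) pσ := map_mul _ _ _
      _ = _ := by
          rw [← Psi_simToSemi]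
          exact congrArg (fun z => Psi ⇑(minusForm m F (j a₀) (j b₀)) z *
            Psi ⇑(minusForm m F (j a₀) (j b₀)) pσ) hd2
  have hφr : (Psi ⇑(minusForm m F (j a₀) (j b₀)) pσ) ^ p = 1 := by
    rw [← map_pow]
    have h1 : pσ ^ p = 1 := by
      apply Subtype.ext
      rw [Subgroup.coe_pow, hpσ]
      show (SemidirectProduct.inr σ : GamL _ F) ^ p = 1
      rw [← map_pow, ← hord, pow_orderOf_eq_one, map_one]
    rw [h1, map_one]
  have hyr : (Phi ⇑(minusForm m F (j a₀) (j b₀)) ⟨(p' * pσ⁻¹).1.left,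
        mem_sim_of_right_eq_one ⇑(minusForm m F (j a₀) (j b₀)) _ hd1⟩ *
      Psi ⇑(minusForm m F (j a₀) (j b₀)) pσ) ^ p = 1 := by
    rw [← hp'd, ← hcx, ← map_pow, hxp, map_one]
  obtain ⟨t, ht, hconj⟩ := minus_conj_aux hm (j a₀) (j b₀) hab' θ' hθ' hnd' pσ _ p hp hφr hyr
    (by rw [hpσr]; exact hσ)
  have hcx' : MulAut.congr ψ₀ (Psi ⇑(minusForm m F a b) px) =
      Phi ⇑(minusForm m F (j a₀) (j b₀)) t *
      phiF (minusForm m F (j a₀) (j b₀)) σ hσQ' *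
      (Phi ⇑(minusForm m F (j a₀) (j b₀)) t)⁻¹ := by
    rw [hcx, hp'd, hconj, hpσ]
    rfl
  -- the isomorphism
  obtain ⟨T, hT⟩ : ∃ T : MulAut (Cfsg.POmega F ⇑(minusForm m F (j a₀) (j b₀))),
      T = Phi ⇑(minusForm m F (j a₀) (j b₀)) t := ⟨_, rfl⟩
  rw [← hT] at hcx'
  obtain ⟨ψ, hψ⟩ : ∃ ψ : Cfsg.POmega F ⇑(minusForm m F a b) ≃*
      Cfsg.POmega F ⇑(minusForm m F (j a₀) (j b₀)), ψ = ψ₀.trans T.symm := ⟨_, rfl⟩
  have hmain : (ψ.symm.trans (Psi ⇑(minusForm m F a b) px)).trans ψ =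
      phiF (minusForm m F (j a₀) (j b₀)) σ hσQ' := by
    ext y
    rw [hψ]
    show T.symm (ψ₀ (Psi ⇑(minusForm m F a b) px (ψ₀.symm (T y)))) = _
    have h1 : ψ₀ (Psi ⇑(minusForm m F a b) px (ψ₀.symm (T y))) =
        (MulAut.congr ψ₀ (Psi ⇑(minusForm m F a b) px)) (T y) := rfl
    rw [h1, hcx', MulAut.mul_apply, MulAut.mul_apply, MulAut.inv_apply_self,
      MulEquiv.symm_apply_apply]
  have hback : (ψ.symm.symm.trans (phiF (minusForm m F (j a₀) (j b₀)) σ hσQ')).trans ψ.symm =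
      Psi ⇑(minusForm m F a b) px := by
    rw [← hmain]
    ext y
    show ψ.symm (ψ (Psi ⇑(minusForm m F a b) px (ψ.symm (ψ y)))) = _
    rw [MulEquiv.symm_apply_apply, MulEquiv.symm_apply_apply]
  constructor
  · -- the field automorphism class
    have key : ∀ (Qf' : ((Fin m ⊕ Fin m) ⊕ Fin 2 → F) → F),
        Qf' = ⇑(minusForm m F (j a₀) (j b₀)) →
        ∃ ψ' : Cfsg.POmega F ⇑(minusForm m F a b) ≃* Cfsg.POmega F Qf',
          Cfsg.IsFieldAutPOmegaOf Qf' σ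
            ((ψ'.symm.trans (Psi ⇑(minusForm m F a b) px)).trans ψ') := by
      intro Qf' hQf'
      subst hQf'
      refine ⟨ψ, ?_⟩
      rw [isFieldAutOf_iff ⇑(minusForm m F (j a₀) (j b₀)) σ hσQ', hmain]
      rfl
    obtain ⟨ψ', hψ'⟩ := key _ (minusForm_coe m F (j a₀) (j b₀))
    exact ⟨j a₀, j b₀, ψ', σ, hab', fun h => hσ h, hσa, hσb, hψ'⟩
  · -- the `Good` data
    have hn7 : 7 ≤ Fintype.card ((Fin m ⊕ Fin m) ⊕ Fin 2) := by
      rw [minus_hN]; omega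
    have hgood := good_phiF_gen j (minusForm m F (j a₀) (j b₀)) (minusForm m F₁ a₀ b₀)
      (minus_hQ₀ j a₀ b₀) σ hj hσQ' hnd' hnd₀ (minus_hypFam37 m F₁ a₀ b₀) hm hn7 hpodd
      (hAut (j a₀) (j b₀) hab')
    have h2 := good_map_equiv hgood ψ.symm
    rw [hback] at h2
    exact ⟨_, h2⟩

end Cfsg.Agent.Lib.Helper37.MBal
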