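import Mathlib
import Cfsg.Agent.Lib.Helper4.LcDefs

/-!
# Lc hive (S0406), leaf LC-SGN, core: at most 128 sign patterns on an octad

The statement `fr_M_conv` of the base file is taken as the hypothesis `hconv`.
-/

set_option autoImplicit false

namespace Cfsg.Agent.Lib.Helper4.Lc

theorem lcsgn_cast_ne_zero (x : ℤ) (hx : x = 0 ∨ x = 1 ∨ x = -1) :
    ((x : ℤ) : ZMod 2) ≠ 0 ↔ x ≠ 0 := by
  rcases hx with h | h | h
  · subst h; simp
  · subst h; simp
  · subst h
    constructor
    · intro _; decide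
    · intro _; decide

/-- two sign patterns on the same octad agreeing outside `k` are equal -/
theorem lcsgn_eq_of_agree {Λ : AddSubgroup V}
    (hconv : ∀ y : V, (fun i => 4 * y i : V) ∈ Λ → (2 : ℤ) ∣ ∑ i, y i)
    (a a' : V) (ha : dbl a ∈ Λ) (ha' : dbl a' ∈ Λ)
    (h01 : ∀ i, a i = 0 ∨ a i = 1 ∨ a i = -1) (h01' : ∀ i, a' i = 0 ∨ a' i = 1 ∨ a' i = -1)
    (k : Fin 24) (hk : a k ≠ 0) (hk' : a' k ≠ 0) (hag : ∀ i, i ≠ k → a i = a' i) : a = a' := by
  by_contra hne
  have hkne : a k ≠ a' k := by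
    intro hkk
    apply hne
    funext i
    by_cases hi : i = k
    · rw [hi]; exact hkk
    · exact hag i hi
  have hmem : (fun i => 4 * ((a i - a' i) / 2) : V) ∈ Λ := by
    have : (fun i => 4 * ((a i - a' i) / 2) : V) = dbl a - dbl a' := by
      funext i
      simp only [Pi.sub_apply, dbl_apply]
      by_cases hi : i = k
      · subst hi
        rcases h01 i with h | h | h <;> rcases h01' i with h' | h' | h' <;> omega
      · have := hag i hi
        omega
    rw [this]
    exact Λ.sub_mem ha ha'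
  have h2 := hconv _ hmem
  have hsum : ∑ i, (a i - a' i) / 2 = (a k - a' k) / 2 := by
    apply Finset.sum_eq_single k
    · intro i _ hi
      have := hag i hi
      omega
    · intro hk0
      exact absurd (Finset.mem_univ k) hk0
  rw [hsum] at h2
  rcases h01 k with h | h | h <;> rcases h01' k with h' | h' | h' <;> omega

theorem lcsgn_core {Λ : AddSubgroup V}
    (hconv : ∀ y : V, (fun i => 4 * y i : V) ∈ Λ → (2 : ℤ) ∣ ∑ i, y i)
    (c : Fin 24 → ZMod 2) (hc : hammingNorm c = 8) :
    {a : V | dbl a ∈ Λ ∧ (∀ i, a i = 0 ∨ a i = 1 ∨ a i = -1) ∧ red a = c}.ncard ≤ 128 := by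
  classical
  -- a point of the octad
  have hcard : (Finset.univ.filter fun i => c i ≠ 0).card = 8 := hc
  have hne : (Finset.univ.filter fun i => c i ≠ 0).Nonempty := by
    rw [← Finset.card_pos, hcard]; norm_num
  obtain ⟨k, hk⟩ := hne
  have hck : c k ≠ 0 := (Finset.mem_filter.mp hk).2
  -- the target
  have hU : ((Finset.univ.filter fun i => c i ≠ 0).erase k).card = 7 := by
    rw [Finset.card_erase_of_mem hk, hcard]
  have hT : ((((Finset.univ.filter fun i => c i ≠ 0).erase k).powerset : Finset (Finset (Fin 24))) :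
      Set (Finset (Fin 24))).ncard = 128 := by
    rw [Set.ncard_coe_finset, Finset.card_powerset, hU]
    norm_num
  rw [← hT]
  apply Set.ncard_le_ncard_of_injOn (fun a : V => (Finset.univ.filter fun i => a i = 1).erase k)
  · rintro a ⟨-, h01, hred⟩
    simp only [Finset.coe_powerset, Set.mem_preimage, Set.mem_powerset_iff, Finset.coe_subset]
    intro i hi
    rw [Finset.mem_erase, Finset.mem_filter] at hi
    rw [Finset.mem_erase, Finset.mem_filter]
    refine ⟨hi.1, Finset.mem_univ _, ?_⟩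
    have : c i = ((a i : ℤ) : ZMod 2) := by rw [← hred]; rfl
    rw [this, lcsgn_cast_ne_zero _ (h01 i), hi.2.2]
    norm_num
  · rintro a ⟨ha, h01, hred⟩ a' ⟨ha', h01', hred'⟩ hff
    have hz : ∀ i, a i ≠ 0 ↔ c i ≠ 0 := by
      intro i
      have : c i = ((a i : ℤ) : ZMod 2) := by rw [← hred]; rfl
      rw [this, lcsgn_cast_ne_zero _ (h01 i)]
    have hz' : ∀ i, a' i ≠ 0 ↔ c i ≠ 0 := by
      intro i
      have : c i = ((a' i : ℤ) : ZMod 2) := by rw [← hred']; rfl
      rw [this, lcsgn_cast_ne_zero _ (h01' i)]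
    apply lcsgn_eq_of_agree hconv a a' ha ha' h01 h01' k ((hz k).mpr hck) ((hz' k).mpr hck)
    intro i hi
    have h1 : a i = 1 ↔ a' i = 1 := by
      have := Finset.ext_iff.mp hff i
      simp only [Finset.mem_erase, Finset.mem_filter, Finset.mem_univ, true_and] at this
      constructor
      · intro h; exact (this.mp ⟨hi, h⟩).2
      · intro h; exact (this.mpr ⟨hi, h⟩).2
    have h0 : a i ≠ 0 ↔ a' i ≠ 0 := (hz i).trans (hz' i).symm
    rcases h01 i with h | h | h <;> rcases h01' i with h' | h' | h' <;> omega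

end Cfsg.Agent.Lib.Helper4.Lc
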