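import Mathlib
import Cfsg.Agent.Lib.Helper4.LcBase
import Cfsg.Agent.Lib.Helper99.LcSGNcore

/-!
# Lc hive (S0406), leaf LC-SGN : `octad_signs`
-/

set_option autoImplicit false

namespace Cfsg.Agent.Lib.Helper4.Lc

variable {Λ : AddSubgroup V}

/-- LC-SGN -/
theorem octad_signs (h : Fr Λ) (c : Fin 24 → ZMod 2) (hc : hammingNorm c = 8) :
    {a : V | dbl a ∈ Λ ∧ (∀ i, a i = 0 ∨ a i = 1 ∨ a i = -1) ∧ red a = c}.ncard ≤ 128 :=
  lcsgn_core (fun y hy => fr_M_conv h y hy) c hc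

end Cfsg.Agent.Lib.Helper4.Lc
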