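import Mathlib
import Cfsg.Prelude.Def_ClassicalGeometry
import Cfsg.Agent.Lib.Helper4.NdDefs

set_option autoImplicit false
open Matrix
open Cfsg.Agent.Lib.Helper99 (Nd dker sympB)

/-! ND-A5 (S5956 hive of helper4) -/

namespace Cfsg.Agent.Lib.Helper4.NdH

universe u v

variable {F : Type u} [Field F] {V : Type v} [AddCommGroup V] [Module F V]

/-- ND-A5 (UNIQUE) : `μ.count j` (`j ≥ 1`) is determined by `dker` (`Helper99.sum_min_identity`). -/
theorem hasType_unique (T : Module.End F V) (μ μ' : Multiset ℕ) (h : HasType T μ) (h' : HasType T μ')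
    (hpos : ∀ a ∈ μ, 0 < a) (hpos' : ∀ a ∈ μ', 0 < a) : μ = μ' := by
  classical
  ext j
  rcases Nat.eq_zero_or_pos j with hj | hj
  · subst hj
    have h0 : (0 : ℕ) ∉ μ := fun hm => absurd (hpos 0 hm) (lt_irrefl 0)
    have h0' : (0 : ℕ) ∉ μ' := fun hm => absurd (hpos' 0 hm) (lt_irrefl 0)
    rw [Multiset.count_eq_zero_of_notMem h0, Multiset.count_eq_zero_of_notMem h0']
  · have h1 := Cfsg.Agent.Lib.Helper99.sum_min_identity μ j hj
    have h2 := Cfsg.Agent.Lib.Helper99.sum_min_identity μ' j hj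
    rw [← h (j - 1), ← h (j + 1), ← h j] at h1
    rw [← h' (j - 1), ← h' (j + 1), ← h' j] at h2
    omega

end Cfsg.Agent.Lib.Helper4.NdH
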