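import Mathlib
import Cfsg.Prelude.Def_ClassicalGeometry
import Cfsg.Agent.Lib.Helper4.NdDefs
import Cfsg.Agent.Lib.Helper43.NdG1
import Cfsg.Agent.Lib.Helper99.NdA5
import Cfsg.Agent.Lib.Helper99.NdA6

set_option autoImplicit false
set_option linter.unusedVariables false
open Matrix
open Cfsg.Agent.Lib.Helper99 (Nd dker sympB)

/-! ND-A8 core (S5956 hive of helper4): everything except the call of ND-A7 `unip_main` -/

namespace Cfsg.Agent.Lib.Helper4.NdH

universe u v

variable {F : Type u} [Field F] {V : Type v} [AddCommGroup V] [Module F V]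

/-- an isometry of a nondegenerate form is injective -/
theorem a8_injective (B : V →ₗ[F] V →ₗ[F] F) (hV : Nd B ⊤) (g : V →ₗ[F] V) (hg : Isom B g) :
    Function.Injective g := by
  rw [← LinearMap.ker_eq_bot, LinearMap.ker_eq_bot']
  intro x hx
  apply hV x trivial
  intro y _
  rw [← hg x y, hx, map_zero, LinearMap.zero_apply]

/-- (ND-G2, own copy) the orthogonal complement of an invariant subspace is invariant -/
theorem a8_inv_orth [FiniteDimensional F V] (B : V →ₗ[F] V →ₗ[F] F) (hV : Nd B ⊤)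
    (g : V →ₗ[F] V) (hg : Isom B g) (W : Submodule F V) (hW : Inv g W) : Inv g (orth B W) := by
  have hinj := a8_injective B hV g hg
  have hmap : W.map g = W := by
    apply Submodule.eq_of_le_of_finrank_eq
    · rintro _ ⟨w, hw, rfl⟩
      exact hW w hw
    · exact (LinearEquiv.finrank_eq (Submodule.equivMapOfInjective g hinj W)).symm
  intro v hv w hw
  have hw' : w ∈ W.map g := by rw [hmap]; exact hw
  obtain ⟨w₀, hw₀, rfl⟩ := hw'
  rw [hg]
  exact hv w₀ hw₀

/-- the restriction of the form to a subspace -/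
noncomputable def a8_resB (B : V →ₗ[F] V →ₗ[F] F) (W : Submodule F V) : W →ₗ[F] W →ₗ[F] F :=
  B.domRestrict₁₂ W W

theorem a8_resB_apply (B : V →ₗ[F] V →ₗ[F] F) (W : Submodule F V) (x y : W) :
    a8_resB B W x y = B (x : V) (y : V) := rfl

theorem a8_pow_restrict (u : V →ₗ[F] V) (W : Submodule F V) (hW : ∀ w ∈ W, u w ∈ W) (k : ℕ) (w : W) :
    ((((u.restrict hW : Module.End F W) - 1) ^ k) w : V) = ((u - 1 : Module.End F V) ^ k) (w : V) := by
  induction k generalizing w with
  | zero => simp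
  | succ k ih =>
    rw [pow_succ, pow_succ, Module.End.mul_apply, Module.End.mul_apply, ih]
    congr 1

/-- the data on a nondegenerate invariant subspace -/
theorem a8_sub_data (B : V →ₗ[F] V →ₗ[F] F) (hB : Alt B) (u : V →ₗ[F] V) (hu : Isom B u) (K : ℕ)
    (hK : (u - 1 : Module.End F V) ^ K = 0) (W : Submodule F V) (hW : Inv u W) (hnd : Nd B W) :
    Alt (a8_resB B W) ∧ Nd (a8_resB B W) ⊤ ∧ Isom (a8_resB B W) (u.restrict hW) ∧
      ((u.restrict hW : Module.End F W) - 1) ^ K = 0 := by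
  refine ⟨fun w => hB w, ?_, fun x y => hu x y, ?_⟩
  · intro x _ hx
    have h1 := hnd (x : V) x.2 (fun y hy => hx ⟨y, hy⟩ trivial)
    exact Subtype.ext h1
  · apply LinearMap.ext
    intro w
    apply Subtype.ext
    rw [a8_pow_restrict u W hW K w, hK]
    rfl

/-- ND-A8 with ND-A7 (`unip_main`, on the subtypes) as a hypothesis -/
theorem a8_core [FiniteDimensional F V] (B : V →ₗ[F] V →ₗ[F] F)
    (hB : Alt B) (hV : Nd B ⊤) (u : V →ₗ[F] V) (hu : Isom B u) (K : ℕ)
    (hK : (u - 1 : Module.End F V) ^ K = 0) (μ : Multiset ℕ) (hpos : ∀ a ∈ μ, 0 < a)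
    (hμ : HasType (u - 1 : Module.End F V) μ) (m : ℕ) (hgood : Good B u m)
    (hA7 : ∀ (X : Type v) [AddCommGroup X] [Module F X] [FiniteDimensional F X]
      (B' : X →ₗ[F] X →ₗ[F] F) (hB' : Alt B') (hX : Nd B' ⊤) (u' : X →ₗ[F] X) (hu' : Isom B' u')
      (hK' : (u' - 1 : Module.End F X) ^ K = 0),
      ∃ μ' : Multiset ℕ, (∀ a ∈ μ', 0 < a ∧ a ≤ K) ∧ Adm μ' ∧ μ'.sum = Module.finrank F X ∧
        HasType (u' - 1 : Module.End F X) μ') :
    ∃ ν : Multiset ℕ, ν ≤ μ ∧ ν.sum = m ∧ Adm ν := by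
  obtain ⟨W, hWm, hWnd, hWinv⟩ := hgood
  have hc : IsCompl W (orth B W) := isCompl_orth B hB W hWnd
  have hnd' : Nd B (orth B W) := nd_orth B hB hV W hWnd
  have hinv' : Inv u (orth B W) := a8_inv_orth B hV u hu W hWinv
  obtain ⟨hA, hN, hI, hP⟩ := a8_sub_data B hB u hu K hK W hWinv hWnd
  obtain ⟨hA', hN', hI', hP'⟩ := a8_sub_data B hB u hu K hK (orth B W) hinv' hnd'
  obtain ⟨ν, hνpos, hνadm, hνsum, hνtype⟩ := hA7 W (a8_resB B W) hA hN (u.restrict hWinv) hI hP
  obtain ⟨ν', hν'pos, hν'adm, hν'sum, hν'type⟩ :=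
    hA7 (orth B W) (a8_resB B (orth B W)) hA' hN' (u.restrict hinv') hI' hP'
  have hTW : ∀ w ∈ W, (u - 1 : Module.End F V) w ∈ W := by
    intro w hw
    have h2 : (u - 1 : Module.End F V) w = u w - w := by
      rw [LinearMap.sub_apply, Module.End.one_apply]
    rw [h2]
    exact W.sub_mem (hWinv w hw) hw
  have hTW' : ∀ w ∈ orth B W, (u - 1 : Module.End F V) w ∈ orth B W := by
    intro w hw
    have h2 : (u - 1 : Module.End F V) w = u w - w := by
      rw [LinearMap.sub_apply, Module.End.one_apply]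
    rw [h2]
    exact (orth B W).sub_mem (hinv' w hw) hw
  have e1 : ((u - 1 : Module.End F V).restrict hTW : Module.End F W)
      = (u.restrict hWinv : Module.End F W) - 1 := by
    apply LinearMap.ext
    intro w
    apply Subtype.ext
    show (u - 1 : Module.End F V) (w : V) = ((u.restrict hWinv w : W) : V) - (w : V)
    rw [LinearMap.sub_apply, Module.End.one_apply]
    rfl
  have e2 : ((u - 1 : Module.End F V).restrict hTW' : Module.End F (orth B W))
      = (u.restrict hinv' : Module.End F (orth B W)) - 1 := by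
    apply LinearMap.ext
    intro w
    apply Subtype.ext
    show (u - 1 : Module.End F V) (w : V) = ((u.restrict hinv' w : orth B W) : V) - (w : V)
    rw [LinearMap.sub_apply, Module.End.one_apply]
    rfl
  have hsum : HasType (u - 1 : Module.End F V) (ν + ν') :=
    hasType_add_of_isCompl (u - 1 : Module.End F V) W (orth B W) hc hTW hTW' ν ν'
      (by rw [e1]; exact hνtype) (by rw [e2]; exact hν'type)
  have heq : μ = ν + ν' := by
    apply hasType_unique (u - 1 : Module.End F V) μ (ν + ν') hμ hsum hpos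
    intro a ha
    rcases Multiset.mem_add.1 ha with h | h
    · exact (hνpos a h).1
    · exact (hν'pos a h).1
  refine ⟨ν, ?_, ?_, hνadm⟩
  · rw [heq]
    exact Multiset.le_add_right ν ν'
  · rw [hνsum, hWm]

end Cfsg.Agent.Lib.Helper4.NdH
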