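import Mathlib
import Cfsg.Prelude.Def_ClassicalGeometry
import Cfsg.Agent.Lib.Helper4.NdDefs
import Cfsg.Agent.Lib.Helper33.NdA7
import Cfsg.Agent.Lib.Helper99.NdA8core

set_option autoImplicit false
open Matrix
open Cfsg.Agent.Lib.Helper99 (Nd dker sympB)

/-! ND-A8 (S5956 hive of helper4) -/

namespace Cfsg.Agent.Lib.Helper4.NdH

universe u v

variable {F : Type u} [Field F] {V : Type v} [AddCommGroup V] [Module F V]

/-- ND-A8 (SUB, from A7 on the subtypes `↥W`, `↥(orth B W)`, A6, A5) : `ν` := the type of `u` on `W`. -/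
theorem exists_sub_of_good [FiniteDimensional F V] (h2 : (2 : F) ≠ 0) (B : V →ₗ[F] V →ₗ[F] F)
    (hB : Alt B) (hV : Nd B ⊤) (u : V →ₗ[F] V) (hu : Isom B u) (K : ℕ)
    (hK : (u - 1 : Module.End F V) ^ K = 0) (μ : Multiset ℕ) (hpos : ∀ a ∈ μ, 0 < a)
    (hμ : HasType (u - 1 : Module.End F V) μ) (m : ℕ) (hgood : Good B u m) :
    ∃ ν : Multiset ℕ, ν ≤ μ ∧ ν.sum = m ∧ Adm ν := by
  apply a8_core B hB hV u hu K hK μ hpos hμ m hgood
  intro X _ _ _ B' hB' hX u' hu' hK'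
  obtain ⟨μ', h1, h2', h3, h4, -⟩ := unip_main h2 B' hB' hX u' hu' K hK'
  exact ⟨μ', h1, h2', h3, h4⟩

end Cfsg.Agent.Lib.Helper4.NdH
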