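import Cfsg.Agent.Lib.Helper99.SubspaceMax

set_option autoImplicit false

/-!
The similarity group of a symplectic form is maximal in the special linear group: basics.
-/

namespace Cfsg.Agent.Lib.Helper99

open Matrix

section spsim1

variable {ι : Type} [Fintype ι] [DecidableEq ι] {F : Type*} [Field F]

/-- A subgroup of the special linear group containing all transvections is everything. -/
theorem eq_specialLinear_of_tv_mem (M : Subgroup (GL ι F))
    (hMS : M ≤ Cfsg.Geo.specialLinear ι F)
    (hall : ∀ (u φ : ι → F), φ ⬝ᵥ u = 0 → rk1GL u φ ∈ M) :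
    M = Cfsg.Geo.specialLinear ι F := by
  apply le_antisymm hMS
  have H : M.comap (Matrix.SpecialLinearGroup.toGL :
      Matrix.SpecialLinearGroup ι F →* GL ι F) = ⊤ := by
    apply SLGen.eq_top_of_transvection_mem
    intro i j hij c
    rw [Subgroup.mem_comap]
    have h0 : (Pi.single j (1 : F) : ι → F) ⬝ᵥ (Pi.single i c : ι → F) = 0 := by
      simp [hij.symm]
    have : (Matrix.SpecialLinearGroup.toGL (Matrix.SpecialLinearGroup.transvection hij c) :
        GL ι F) = rk1GL (Pi.single i c) (Pi.single j 1) := by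
      apply Units.ext
      rw [coe_tv _ _ h0, Matrix.SpecialLinearGroup.coe_GL_coe_matrix,
        Matrix.SpecialLinearGroup.transvection_coe]
      unfold rk1
      congr 1
      ext a b
      simp only [vecMulVec_apply, Matrix.single_apply, Pi.single_apply]
      by_cases h1 : i = a <;> by_cases h2 : j = b <;>
        simp [h1, h2, eq_comm (a := a), eq_comm (a := b)]
    rw [this]
    exact hall _ _ h0
  intro x hx
  rw [mem_specialLinear_iff] at hx
  let y : Matrix.SpecialLinearGroup ι F := ⟨(x : Matrix ι ι F), hx⟩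
  have hx' : x = Matrix.SpecialLinearGroup.toGL y := by
    apply Units.ext
    rfl
  rw [hx']
  have hmem : y ∈ M.comap (Matrix.SpecialLinearGroup.toGL :
        Matrix.SpecialLinearGroup ι F →* GL ι F) := by
    rw [H]; exact Subgroup.mem_top _
  exact hmem

theorem tv_mul (u φ φ' : ι → F) (h : φ ⬝ᵥ u = 0) (h' : φ' ⬝ᵥ u = 0) :
    rk1GL u φ * rk1GL u φ' = rk1GL u (φ + φ') := by
  have h'' : (φ + φ') ⬝ᵥ u = 0 := by rw [add_dotProduct, h, h', add_zero]
  apply Units.ext
  rw [Units.val_mul, coe_tv _ _ h, coe_tv _ _ h', coe_tv _ _ h'', Matrix.ext_iff_mulVec]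
  intro x
  rw [← mulVec_mulVec, rk1_mulVec, rk1_mulVec, rk1_mulVec, dotProduct_add, dotProduct_smul, h,
    smul_zero, add_zero, add_dotProduct, add_smul, add_assoc, add_comm ((φ' ⬝ᵥ x) • u)]

theorem tv_zero_left (φ : ι → F) : rk1GL (0 : ι → F) φ = 1 := by
  have h : φ ⬝ᵥ (0 : ι → F) = 0 := dotProduct_zero φ
  apply Units.ext
  rw [coe_tv _ _ h, Matrix.ext_iff_mulVec]
  intro x
  rw [rk1_mulVec, smul_zero, add_zero, Units.val_one, one_mulVec]

/-- The vector representing the functional `x ↦ f x u`. -/
def flat (f : (ι → F) → (ι → F) → F) (u : ι → F) : ι → F := fun i => f (Pi.single i 1) u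

theorem flat_dot (f : (ι → F) → (ι → F) → F) (hb : Cfsg.Geo.IsBilinearForm f) (u x : ι → F) :
    flat f u ⬝ᵥ x = f x u := by
  let L : (ι → F) →ₗ[F] F :=
    { toFun := fun x => f x u
      map_add' := fun x y => hb.add_left x y u
      map_smul' := fun c x => by
        simp only [RingHom.id_apply, smul_eq_mul]
        exact hb.smul_left c x u }
  have hrep : ∀ x : ι → F, L x = (fun i => L (Pi.single i 1)) ⬝ᵥ x := by
    intro x
    rw [LinearMap.pi_apply_eq_sum_univ L x]
    simp only [dotProduct, smul_eq_mul]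
    apply Finset.sum_congr rfl
    intro i _
    rw [mul_comm]
    congr 2
    ext j
    simp [Pi.single_apply, eq_comm]
  exact (hrep x).symm

variable (f : (ι → F) → (ι → F) → F)

theorem sf_zero_left (hb : Cfsg.Geo.IsBilinearForm f) (v : ι → F) : f 0 v = 0 := by
  have := hb.smul_left 0 0 v
  rw [zero_smul, zero_mul] at this
  exact this

theorem sf_zero_right (hb : Cfsg.Geo.IsBilinearForm f) (v : ι → F) : f v 0 = 0 := by
  have := hb.smul_right 0 v 0
  rw [zero_smul, zero_mul] at this
  exact this

theorem sf_neg_left (hb : Cfsg.Geo.IsBilinearForm f) (x v : ι → F) : f (-x) v = - f x v := by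
  have := hb.smul_left (-1) x v
  rw [neg_one_smul, neg_one_mul] at this
  exact this

theorem sf_neg_right (hb : Cfsg.Geo.IsBilinearForm f) (v x : ι → F) : f v (-x) = - f v x := by
  have := hb.smul_right (-1) v x
  rw [neg_one_smul, neg_one_mul] at this
  exact this

theorem sf_sub_left (hb : Cfsg.Geo.IsBilinearForm f) (x y v : ι → F) :
    f (x - y) v = f x v - f y v := by
  rw [sub_eq_add_neg, hb.add_left, sf_neg_left f hb, ← sub_eq_add_neg]

theorem sf_sub_right (hb : Cfsg.Geo.IsBilinearForm f) (v x y : ι → F) :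
    f v (x - y) = f v x - f v y := by
  rw [sub_eq_add_neg, hb.add_right, sf_neg_right f hb, ← sub_eq_add_neg]

theorem flat_add (hb : Cfsg.Geo.IsBilinearForm f) (u v : ι → F) :
    flat f (u + v) = flat f u + flat f v := by
  funext i
  exact hb.add_right _ u v

theorem flat_smul (hb : Cfsg.Geo.IsBilinearForm f) (c : F) (u : ι → F) :
    flat f (c • u) = c • flat f u := by
  funext i
  exact hb.smul_right c _ u

/-- Every functional is represented by a vector, for a nondegenerate form. -/
theorem flat_surjective (hf : Cfsg.Geo.IsSymplecticForm f) (φ : ι → F) : ∃ w, flat f w = φ := by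
  let L : (ι → F) →ₗ[F] (ι → F) :=
    { toFun := flat f
      map_add' := flat_add f hf.bilinear
      map_smul' := fun c u => by
        simp only [RingHom.id_apply]
        exact flat_smul f hf.bilinear c u }
  have hinj : Function.Injective L := by
    rw [← LinearMap.ker_eq_bot, LinearMap.ker_eq_bot']
    intro w hw
    by_contra h0
    obtain ⟨⟨x, hx⟩, _⟩ := hf.nondegenerate w h0
    apply hx
    rw [← flat_dot f hf.bilinear]
    have : flat f w = 0 := hw
    rw [this, zero_dotProduct]
  exact LinearMap.surjective_of_injective hinj φ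

theorem tvf_dot (hb : Cfsg.Geo.IsBilinearForm f) (u w : ι → F) (h : f u w = 0) :
    flat f w ⬝ᵥ u = 0 := by
  rw [flat_dot f hb]
  exact h

theorem tvf_mulVec (hb : Cfsg.Geo.IsBilinearForm f) (u w x : ι → F) (h : f u w = 0) :
    ((rk1GL u (flat f w) : GL ι F) : Matrix ι ι F) *ᵥ x = x + f x w • u := by
  rw [coe_tv _ _ (tvf_dot f hb u w h), rk1_mulVec, flat_dot f hb]

theorem sf_self_smul (hf : Cfsg.Geo.IsSymplecticForm f) (u : ι → F) (c : F) :
    f u (c • u) = 0 := by
  rw [hf.bilinear.smul_right, hf.alternating, mul_zero]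

/-- Symplectic transvections are isometries. -/
theorem stvf_isometry (hf : Cfsg.Geo.IsSymplecticForm f) (u : ι → F) (c : F) (x y : ι → F) :
    f (((rk1GL u (flat f (c • u)) : GL ι F) : Matrix ι ι F) *ᵥ x)
      (((rk1GL u (flat f (c • u)) : GL ι F) : Matrix ι ι F) *ᵥ y) = f x y := by
  rw [tvf_mulVec f hf.bilinear u _ x (sf_self_smul f hf u c),
    tvf_mulVec f hf.bilinear u _ y (sf_self_smul f hf u c)]
  simp only [hf.bilinear.add_left, hf.bilinear.add_right, hf.bilinear.smul_left,
    hf.bilinear.smul_right, hf.alternating]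
  have := hf.skew u y
  linear_combination (c * f x u) * this

theorem stvf_mem (hf : Cfsg.Geo.IsSymplecticForm f) (u : ι → F) (c : F) :
    rk1GL u (flat f (c • u)) ∈
      Cfsg.Geo.similarityGroup f ⊓ Cfsg.Geo.specialLinear ι F := by
  refine ⟨⟨1, fun x y => ?_⟩,
    tv_mem_specialLinear u _ (tvf_dot f hf.bilinear u _ (sf_self_smul f hf u c))⟩
  rw [stvf_isometry f hf, Units.val_one, one_mul]

/-- Conjugating a transvection by an isometry. -/
theorem conj_tvf (hf : Cfsg.Geo.IsSymplecticForm f) (h : GL ι F)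
    (hiso : ∀ x y, f ((h : Matrix ι ι F) *ᵥ x) ((h : Matrix ι ι F) *ᵥ y) = f x y)
    (u w : ι → F) (huw : f u w = 0) :
    h * rk1GL u (flat f w) * h⁻¹ =
      rk1GL ((h : Matrix ι ι F) *ᵥ u) (flat f ((h : Matrix ι ι F) *ᵥ w)) := by
  rw [conj_tv h u _ (tvf_dot f hf.bilinear u w huw)]
  congr 1
  apply dotProduct_eq
  intro x
  rw [← dotProduct_mulVec, flat_dot f hf.bilinear, flat_dot f hf.bilinear]
  have := hiso (((h⁻¹ : GL ι F) : Matrix ι ι F) *ᵥ x) w
  rw [mulVec_mulVec, ← Units.val_mul, mul_inv_cancel, Units.val_one, one_mulVec] at this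
  exact this.symm

end spsim1

end Cfsg.Agent.Lib.Helper99
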