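import Mathlib
import Cfsg.Prelude.Def_LieTypeDatum
import Cfsg.Agent.Lib.Helper99.AutPA

set_option autoImplicit false

/-!
# The automorphism group of `PΩ` in odd dimension is `PΓO`
-/

namespace Cfsg.Agent.Lib.Helper99.AutO

open Matrix Module QuadraticMap
open Cfsg.Agent.Lib.Helper8 Cfsg.Agent.Lib.Helper13 Cfsg.Agent.Lib.Helper37

variable {ι : Type} [Fintype ι] [DecidableEq ι] {F : Type*} [Field F]

/-- **Every automorphism of `PΩ(Q)` is induced by a semisimilarity** (odd dimension at least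
seven, odd characteristic). -/
theorem gammaPOmega_eq_top [Fintype F] {Q : QuadraticForm F (ι → F)} (A : Amb Q) :
    Cfsg.gammaPOmega F ⇑Q = ⊤ := by
  rw [eq_top_iff]
  intro β _
  apply Subgroup.subset_closure
  show ∃ (g : GL ι F) (σ : F ≃+* F), Cfsg.IsSemisimilarityPair ⇑Q g σ ∧
    Cfsg.IsInducedBySemilinearPOmega ⇑Q g σ β
  have hker : (QuotientGroup.mk' (Subgroup.center ↥(Cfsg.Omega F ⇑Q))).ker = ⊥ := by
    rw [QuotientGroup.ker_mk', center_omega_eq_bot A]
  have hinj : Function.Injective (QuotientGroup.mk' (Subgroup.center ↥(Cfsg.Omega F ⇑Q))) :=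
    (MonoidHom.ker_eq_bot_iff _).1 hker
  let e : ↥(Cfsg.Omega F ⇑Q) ≃* Cfsg.POmega F ⇑Q :=
    MulEquiv.ofBijective (QuotientGroup.mk' (Subgroup.center ↥(Cfsg.Omega F ⇑Q)))
      ⟨hinj, QuotientGroup.mk'_surjective _⟩
  have he : ∀ s, e s = QuotientGroup.mk s := fun s => rfl
  let β' : ↥(Cfsg.Omega F ⇑Q) ≃* ↥(Cfsg.Omega F ⇑Q) := e.trans (MulEquiv.trans β e.symm)
  have hβ' : ∀ s, e (β' s) = β (e s) := by
    intro s
    show e (e.symm (β (e s))) = β (e s)
    rw [MulEquiv.apply_symm_apply]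
  obtain ⟨τ, κ, φ, h⟩ := exists_inducedBy A β'
  obtain ⟨G, hG, hind⟩ := exists_matrix_of_inducedBy h
  refine ⟨G, τ, ⟨Units.mk0 κ h.hκ, ?_⟩, ?_⟩
  · intro v
    rw [hG, h.quad]
    rfl
  · intro s s' hs'
    have e1 : β' s = s' := by
      apply Subtype.ext
      apply Subtype.ext
      apply Units.ext
      rw [hind s, hs']
    rw [← he, ← hβ', e1, he]

end Cfsg.Agent.Lib.Helper99.AutO
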