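import Mathlib
import Cfsg.Prelude.Def_GeometricClasses
import Cfsg.Agent.Lib.Helper44.OcDefs
import Cfsg.Agent.Lib.Helper44.OcIdbDefs

/-!
# Oc hive (S5977 / S5978, helper44), backup route "Idb", leaf IDB-MODEL: a frame gives a model.
-/

set_option autoImplicit false
set_option linter.unusedSectionVars false
open Matrix

namespace Cfsg.Agent.Lib.Helper44.Oc

universe v w

variable {F : Type v} [Field F] {ι : Type} [Fintype ι] [DecidableEq ι]

/-- the polar form of a nondegenerate quadratic form as a bilinear form -/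
noncomputable def idbmodel_B (Q : (ι → F) → F) (hQ : Cfsg.Geo.IsNondegenerateQuadraticForm Q) :
    LinearMap.BilinForm F (ι → F) :=
  LinearMap.mk₂ F (QuadraticMap.polar Q) hQ.polar_bilinear.add_left hQ.polar_bilinear.smul_left
    hQ.polar_bilinear.add_right hQ.polar_bilinear.smul_right

theorem idbmodel_B_apply (Q : (ι → F) → F) (hQ : Cfsg.Geo.IsNondegenerateQuadraticForm Q)
    (x y : ι → F) : idbmodel_B Q hQ x y = QuadraticMap.polar Q x y := rfl

theorem idbmodel_Q_zero (Q : (ι → F) → F) (hQ : Cfsg.Geo.IsNondegenerateQuadraticForm Q) :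
    Q 0 = 0 := by
  have h := hQ.smul 0 0
  rw [zero_smul] at h
  rw [h]; ring

theorem idbmodel_Q_add (Q : (ι → F) → F) (x y : ι → F) :
    Q (x + y) = Q x + Q y + QuadraticMap.polar Q x y := by
  unfold QuadraticMap.polar; ring

theorem idbmodel_polar_self (Q : (ι → F) → F) (hQ : Cfsg.Geo.IsNondegenerateQuadraticForm Q)
    (x : ι → F) : QuadraticMap.polar Q x x = 2 * Q x := by
  have h := hQ.smul 2 x
  have h2 : (2 : F) • x = x + x := two_smul F x
  rw [h2] at h
  unfold QuadraticMap.polar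
  rw [h]; ring

/-- `Q` is additive on pairwise orthogonal families -/
theorem idbmodel_Q_sum (Q : (ι → F) → F) (hQ : Cfsg.Geo.IsNondegenerateQuadraticForm Q)
    {κ : Type*} (s : Finset κ) (u : κ → (ι → F))
    (h : ∀ j ∈ s, ∀ k ∈ s, j ≠ k → QuadraticMap.polar Q (u j) (u k) = 0) :
    Q (∑ j ∈ s, u j) = ∑ j ∈ s, Q (u j) := by
  classical
  induction s using Finset.induction_on with
  | empty => simpa using idbmodel_Q_zero Q hQ
  | insert a s ha ih =>
    rw [Finset.sum_insert ha, Finset.sum_insert ha, idbmodel_Q_add Q, ih ?_]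
    · have h0 : QuadraticMap.polar Q (u a) (∑ j ∈ s, u j) = 0 := by
        rw [← idbmodel_B_apply Q hQ, map_sum]
        apply Finset.sum_eq_zero
        intro j hj
        rw [idbmodel_B_apply]
        exact h a (Finset.mem_insert_self a s) j (Finset.mem_insert_of_mem hj)
          (fun hh => ha (hh ▸ hj))
      rw [h0, add_zero]
    · intro j hj k hk hjk
      exact h j (Finset.mem_insert_of_mem hj) k (Finset.mem_insert_of_mem hk) hjk

section ext

variable {E : Type w} [Field E] [Algebra F E]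

/-- the map `(a, b) ↦ a + b wE` -/
noncomputable def idbmodel_phi (wE : E) : (F × F) →ₗ[F] E :=
  (LinearMap.fst F F F).smulRight (1 : E) + (LinearMap.snd F F F).smulRight wE

theorem idbmodel_phi_apply (wE : E) (p : F × F) :
    idbmodel_phi wE p = p.1 • (1 : E) + p.2 • wE := by
  simp [idbmodel_phi]

theorem idbmodel_phi_injective (δ : F) (hδ : ¬ IsSquare δ) (wE : E)
    (hw : wE * wE = algebraMap F E δ) : Function.Injective (idbmodel_phi (F := F) wE) := by
  rw [← LinearMap.ker_eq_bot, LinearMap.ker_eq_bot']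
  rintro ⟨a, b⟩ hab
  rw [idbmodel_phi_apply] at hab
  simp only at hab
  have hb : b = 0 := by
    by_contra hb
    apply hδ
    have hwE : wE = algebraMap F E (-(a / b)) := by
      have h1 : b • wE = -(a • (1 : E)) := by
        rw [eq_neg_iff_add_eq_zero, add_comm]; exact hab
      have h2 : wE = b⁻¹ • (b • wE) := by rw [smul_smul, inv_mul_cancel₀ hb, one_smul]
      rw [h2, h1, Algebra.smul_def, Algebra.smul_def, mul_one, ← map_neg, ← map_mul]
      congr 1
      field_simp
    refine ⟨-(a / b), ?_⟩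
    apply (algebraMap F E).injective
    rw [← hw, hwE, map_mul]
  subst hb
  rw [zero_smul, add_zero] at hab
  have ha : a = 0 := by
    rcases smul_eq_zero.mp hab with h | h
    · exact h
    · exact absurd h one_ne_zero
  rw [ha]
  rfl

/-- multiplication rule in the basis `1, wE` -/
theorem idbmodel_mul (δ : F) (wE : E) (hw : wE * wE = algebraMap F E δ) (a b a' b' : F) :
    (a • (1 : E) + b • wE) * (a' • (1 : E) + b' • wE) =
      (a * a' + δ * b * b') • (1 : E) + (a * b' + b * a') • wE := by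
  simp only [Algebra.smul_def, mul_one, map_add, map_mul]
  linear_combination (algebraMap F E b * algebraMap F E b') * hw

/-- the `F`-linear map `T x = ∑ re (x j) • v j + im (x j) • J v j` -/
noncomputable def idbmodel_T (re im : E →ₗ[F] F) (J : Matrix ι ι F) {d : ℕ} (v : Fin d → (ι → F)) :
    (Fin d → E) →ₗ[F] (ι → F) :=
  ∑ j, ((re ∘ₗ (LinearMap.proj j : (Fin d → E) →ₗ[F] E)).smulRight (v j) +
    (im ∘ₗ (LinearMap.proj j : (Fin d → E) →ₗ[F] E)).smulRight (J *ᵥ v j))

theorem idbmodel_T_apply (re im : E →ₗ[F] F) (J : Matrix ι ι F) {d : ℕ} (v : Fin d → (ι → F))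
    (x : Fin d → E) :
    idbmodel_T re im J v x = ∑ j, (re (x j) • v j + im (x j) • (J *ᵥ v j)) := by
  simp [idbmodel_T, LinearMap.sum_apply]

/-- the core of IDB-MODEL with the coordinate maps `re`, `im` of the basis `1, wE` as hypotheses -/
theorem idbmodel_core (h2 : (2 : F) ≠ 0) (Q : (ι → F) → F)
    (hQ : Cfsg.Geo.IsNondegenerateQuadraticForm Q)
    (δ : F) (hδ : ¬ IsSquare δ) (J : Matrix ι ι F) (hJ : IsJ Q δ J) (d : ℕ)
    (hcard : Fintype.card ι = 2 * d)
    (hfr : Module.finrank F E = 2) (wE : E) (hw : wE * wE = algebraMap F E δ)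
    (re im : E →ₗ[F] F)
    (hdec : ∀ e, e = re e • (1 : E) + im e • wE)
    (hre : ∀ a b : F, re (a • (1 : E) + b • wE) = a)
    (him : ∀ a b : F, im (a • (1 : E) + b • wE) = b)
    (v : Fin d → (ι → F))
    (hv1 : ∀ j k, j ≠ k → QuadraticMap.polar Q (v j) (v k) = 0)
    (hv2 : ∀ j k, j ≠ k → QuadraticMap.polar Q (J *ᵥ v j) (v k) = 0)
    (hv3 : ∀ j, Q (v j) ≠ 0 ∨ QuadraticMap.polar Q (J *ᵥ v j) (v j) ≠ 0) :
    ∃ (c : Fin d → E) (T : (Fin d → E) ≃ₗ[F] (ι → F)) (π : E →ₗ[F] F),
      IsIdbModel Q J wE c T π := by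
  classical
  have hδ0 : δ ≠ 0 := fun h => hδ ⟨0, by simp [h]⟩
  have hJJ : ∀ u : ι → F, J *ᵥ (J *ᵥ u) = δ • u := by
    intro u
    rw [Matrix.mulVec_mulVec, hJ.1, Matrix.smul_mulVec, Matrix.one_mulVec]
  have hsa : ∀ u u' : ι → F, idbmodel_B Q hQ (J *ᵥ u) u' = idbmodel_B Q hQ u (J *ᵥ u') := hJ.2
  have b1 : ∀ j k, j ≠ k → idbmodel_B Q hQ (v j) (v k) = 0 := hv1
  have b2 : ∀ j k, j ≠ k → idbmodel_B Q hQ (J *ᵥ v j) (v k) = 0 := hv2
  have b3 : ∀ j k, j ≠ k → idbmodel_B Q hQ (v j) (J *ᵥ v k) = 0 := by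
    intro j k hjk
    rw [← hsa]; exact b2 j k hjk
  have b4 : ∀ j k, j ≠ k → idbmodel_B Q hQ (J *ᵥ v j) (J *ᵥ v k) = 0 := by
    intro j k hjk
    rw [hsa, hJJ, map_smul, smul_eq_mul, b1 j k hjk, mul_zero]
  -- the squares
  have hQJ : ∀ u : ι → F, Q (J *ᵥ u) = δ * Q u := by
    intro u
    have h1 : idbmodel_B Q hQ (J *ᵥ u) (J *ᵥ u) = 2 * Q (J *ᵥ u) := idbmodel_polar_self Q hQ _
    have h3 : idbmodel_B Q hQ u u = 2 * Q u := idbmodel_polar_self Q hQ _
    rw [hsa, hJJ, map_smul, smul_eq_mul, h3] at h1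
    apply mul_left_cancel₀ h2
    rw [← h1]; ring
  have hQu : ∀ (a b : F) (u : ι → F), Q (a • u + b • (J *ᵥ u)) =
      (a ^ 2 + δ * b ^ 2) * Q u + a * b * QuadraticMap.polar Q (J *ᵥ u) u := by
    intro a b u
    rw [idbmodel_Q_add Q, hQ.smul, hQ.smul, hQJ]
    have h1 : QuadraticMap.polar Q (a • u) (b • (J *ᵥ u)) =
        a * b * QuadraticMap.polar Q (J *ᵥ u) u := by
      rw [← idbmodel_B_apply Q hQ, ← idbmodel_B_apply Q hQ]
      simp only [map_smul, LinearMap.smul_apply, smul_eq_mul]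
      rw [hsa]
      ring
    rw [h1]; ring
  -- the terms of `T x`
  have hTx : ∀ x : Fin d → E, idbmodel_T re im J v x =
      ∑ j, (re (x j) • v j + im (x j) • (J *ᵥ v j)) := idbmodel_T_apply re im J v
  have horth : ∀ (x : Fin d → E) j k, j ≠ k →
      QuadraticMap.polar Q (re (x j) • v j + im (x j) • (J *ᵥ v j))
        (re (x k) • v k + im (x k) • (J *ᵥ v k)) = 0 := by
    intro x j k hjk
    rw [← idbmodel_B_apply Q hQ]
    simp only [map_add, map_smul, LinearMap.add_apply, LinearMap.smul_apply, smul_eq_mul,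
      b1 j k hjk, b2 j k hjk, b3 j k hjk, b4 j k hjk, mul_zero, add_zero]
  -- pairing `T x` with the frame
  have hpair1 : ∀ (x : Fin d → E) k, idbmodel_B Q hQ (idbmodel_T re im J v x) (v k) =
      re (x k) * idbmodel_B Q hQ (v k) (v k) + im (x k) * idbmodel_B Q hQ (J *ᵥ v k) (v k) := by
    intro x k
    rw [hTx, map_sum, LinearMap.sum_apply, Finset.sum_eq_single k]
    · simp only [map_add, map_smul, LinearMap.add_apply, LinearMap.smul_apply, smul_eq_mul]
    · intro j _ hjk
      simp only [map_add, map_smul, LinearMap.add_apply, LinearMap.smul_apply, smul_eq_mul,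
        b1 j k hjk, b2 j k hjk, mul_zero, add_zero]
    · intro h; exact absurd (Finset.mem_univ k) h
  have hpair2 : ∀ (x : Fin d → E) k, idbmodel_B Q hQ (idbmodel_T re im J v x) (J *ᵥ v k) =
      re (x k) * idbmodel_B Q hQ (J *ᵥ v k) (v k) +
        im (x k) * (δ * idbmodel_B Q hQ (v k) (v k)) := by
    intro x k
    rw [hTx, map_sum, LinearMap.sum_apply, Finset.sum_eq_single k]
    · simp only [map_add, map_smul, LinearMap.add_apply, LinearMap.smul_apply, smul_eq_mul]
      rw [← hsa (v k) (v k), hsa (v k) (J *ᵥ v k), hJJ, map_smul, smul_eq_mul]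
    · intro j _ hjk
      simp only [map_add, map_smul, LinearMap.add_apply, LinearMap.smul_apply, smul_eq_mul,
        b3 j k hjk, b4 j k hjk, mul_zero, add_zero]
    · intro h; exact absurd (Finset.mem_univ k) h
  -- the Gram determinants
  have hD : ∀ k, δ * (idbmodel_B Q hQ (v k) (v k)) ^ 2 -
      (idbmodel_B Q hQ (J *ᵥ v k) (v k)) ^ 2 ≠ 0 := by
    intro k hk
    have hp : idbmodel_B Q hQ (v k) (v k) = 2 * Q (v k) := idbmodel_polar_self Q hQ _
    by_cases hp0 : idbmodel_B Q hQ (v k) (v k) = 0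
    · rw [hp0] at hk
      have hr0 : idbmodel_B Q hQ (J *ᵥ v k) (v k) = 0 := by
        have : (idbmodel_B Q hQ (J *ᵥ v k) (v k)) ^ 2 = 0 := by linear_combination -hk
        exact pow_eq_zero_iff (two_ne_zero) |>.mp this
      have hq0 : Q (v k) = 0 := by
        rw [hp] at hp0
        rcases mul_eq_zero.mp hp0 with h | h
        · exact absurd h h2
        · exact h
      rcases hv3 k with h | h
      · exact h hq0
      · exact h hr0
    · apply hδ
      refine ⟨idbmodel_B Q hQ (J *ᵥ v k) (v k) / idbmodel_B Q hQ (v k) (v k), ?_⟩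
      field_simp
      linear_combination hk
  -- injectivity
  have hinj : Function.Injective (idbmodel_T re im J v) := by
    rw [← LinearMap.ker_eq_bot, LinearMap.ker_eq_bot']
    intro x hx
    funext k
    have e1 := hpair1 x k
    have e2 := hpair2 x k
    rw [hx, map_zero, LinearMap.zero_apply] at e1 e2
    have ha : re (x k) = 0 := by
      have : re (x k) * (δ * (idbmodel_B Q hQ (v k) (v k)) ^ 2 -
          (idbmodel_B Q hQ (J *ᵥ v k) (v k)) ^ 2) = 0 := by
        linear_combination (-(δ * idbmodel_B Q hQ (v k) (v k))) * e1 +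
          (idbmodel_B Q hQ (J *ᵥ v k) (v k)) * e2
      rcases mul_eq_zero.mp this with h | h
      · exact h
      · exact absurd h (hD k)
    have hb : im (x k) = 0 := by
      have : im (x k) * (δ * (idbmodel_B Q hQ (v k) (v k)) ^ 2 -
          (idbmodel_B Q hQ (J *ᵥ v k) (v k)) ^ 2) = 0 := by
        linear_combination (-(idbmodel_B Q hQ (v k) (v k))) * e2 +
          (idbmodel_B Q hQ (J *ᵥ v k) (v k)) * e1
      rcases mul_eq_zero.mp this with h | h
      · exact h
      · exact absurd h (hD k)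
    rw [hdec (x k), ha, hb, zero_smul, zero_smul, add_zero]
    rfl
  -- dimensions
  have : Module.Finite F E := Module.finite_of_finrank_pos (by rw [hfr]; norm_num)
  have hdim : Module.finrank F (Fin d → E) = Module.finrank F (ι → F) := by
    rw [Module.finrank_pi_fintype, Module.finrank_fintype_fun_eq_card, hcard]
    simp [hfr, mul_comm]
  -- the coefficients
  let c : Fin d → E := fun j =>
    Q (v j) • (1 : E) + (QuadraticMap.polar Q (J *ᵥ v j) (v j) / (2 * δ)) • wE
  have hwmul : ∀ e : E, re (wE * e) = δ * im e ∧ im (wE * e) = re e := by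
    intro e
    have h1 : wE = (0 : F) • (1 : E) + (1 : F) • wE := by simp
    have h3 : wE * e = (δ * im e) • (1 : E) + re e • wE := by
      conv_lhs => rw [h1, hdec e]
      rw [idbmodel_mul δ wE hw]
      congr 1
      · congr 1; ring
      · congr 1; ring
    rw [h3, hre, him]
    exact ⟨rfl, rfl⟩
  have hresq : ∀ (c0 c1 a b : F),
      re ((c0 • (1 : E) + c1 • wE) * (a • (1 : E) + b • wE) ^ 2) =
        c0 * (a ^ 2 + δ * b ^ 2) + δ * c1 * (2 * a * b) := by
    intro c0 c1 a b
    rw [pow_two, idbmodel_mul δ wE hw a b a b, idbmodel_mul δ wE hw, hre]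
    ring
  refine ⟨c, LinearMap.linearEquivOfInjective (idbmodel_T re im J v) hinj hdim, re, ?_, ?_, ?_⟩
  · intro j hj
    have hj1 : re (c j) = 0 := by rw [hj, map_zero]
    have hj2 : im (c j) = 0 := by rw [hj, map_zero]
    rw [hre] at hj1
    rw [him] at hj2
    have hr0 : QuadraticMap.polar Q (J *ᵥ v j) (v j) = 0 := by
      rcases div_eq_zero_iff.mp hj2 with h | h
      · exact h
      · exact absurd h (mul_ne_zero h2 hδ0)
    rcases hv3 j with h | h
    · exact h hj1
    · exact h hr0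
  · intro x
    rw [LinearMap.linearEquivOfInjective_apply, LinearMap.linearEquivOfInjective_apply, hTx, hTx]
    have hsum : J *ᵥ (∑ j, (re (x j) • v j + im (x j) • (J *ᵥ v j))) =
        ∑ j, J *ᵥ (re (x j) • v j + im (x j) • (J *ᵥ v j)) := by
      rw [← Matrix.mulVecLin_apply, map_sum]
      simp only [Matrix.mulVecLin_apply]
    rw [hsum]
    apply Finset.sum_congr rfl
    intro j _
    have hx : (wE • x) j = wE * x j := rfl
    rw [hx, (hwmul (x j)).1, (hwmul (x j)).2, Matrix.mulVec_add, Matrix.mulVec_smul,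
      Matrix.mulVec_smul, hJJ, smul_smul, add_comm, mul_comm]
  · intro x
    rw [LinearMap.linearEquivOfInjective_apply, hTx, idbmodel_Q_sum Q hQ]
    · unfold idbQE
      rw [map_sum]
      apply Finset.sum_congr rfl
      intro j _
      rw [hQu]
      have h := hresq (Q (v j)) (QuadraticMap.polar Q (J *ᵥ v j) (v j) / (2 * δ)) (re (x j))
        (im (x j))
      rw [← hdec (x j)] at h
      rw [h]
      field_simp
    · intro j _ k _ hjk
      exact horth x j k hjk

end ext

/-- IDB-MODEL : a frame gives a model. -/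
theorem idb_model {E : Type w} [Field E] [Algebra F E] (h2 : (2 : F) ≠ 0) (Q : (ι → F) → F)
    (hQ : Cfsg.Geo.IsNondegenerateQuadraticForm Q)
    (δ : F) (hδ : ¬ IsSquare δ) (J : Matrix ι ι F) (hJ : IsJ Q δ J) (d : ℕ) (hcard : Fintype.card ι = 2 * d)
    (hfr : Module.finrank F E = 2) (wE : E) (hw : wE * wE = algebraMap F E δ)
    (v : Fin d → (ι → F))
    (hv1 : ∀ j k, j ≠ k → QuadraticMap.polar Q (v j) (v k) = 0)
    (hv2 : ∀ j k, j ≠ k → QuadraticMap.polar Q (J *ᵥ v j) (v k) = 0)
    (hv3 : ∀ j, Q (v j) ≠ 0 ∨ QuadraticMap.polar Q (J *ᵥ v j) (v j) ≠ 0) :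
    ∃ (c : Fin d → E) (T : (Fin d → E) ≃ₗ[F] (ι → F)) (π : E →ₗ[F] F), IsIdbModel Q J wE c T π := by
  have : Module.Finite F E := Module.finite_of_finrank_pos (by rw [hfr]; norm_num)
  have hdim : Module.finrank F (F × F) = Module.finrank F E := by
    rw [hfr, Module.finrank_prod, Module.finrank_self]
  let φ : (F × F) ≃ₗ[F] E :=
    LinearMap.linearEquivOfInjective (idbmodel_phi wE) (idbmodel_phi_injective δ hδ wE hw) hdim
  have hφ : ∀ p : F × F, φ p = p.1 • (1 : E) + p.2 • wE := by
    intro p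
    show LinearMap.linearEquivOfInjective (idbmodel_phi wE) _ hdim p = _
    rw [LinearMap.linearEquivOfInjective_apply, idbmodel_phi_apply]
  refine idbmodel_core h2 Q hQ δ hδ J hJ d hcard hfr wE hw
    ((LinearMap.fst F F F) ∘ₗ φ.symm.toLinearMap) ((LinearMap.snd F F F) ∘ₗ φ.symm.toLinearMap)
    ?_ ?_ ?_ v hv1 hv2 hv3
  · intro e
    have h := hφ (φ.symm e)
    rw [LinearEquiv.apply_symm_apply] at h
    exact h
  · intro a b
    have h : φ.symm (a • (1 : E) + b • wE) = (a, b) := by
      rw [LinearEquiv.symm_apply_eq, hφ]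
    simp only [LinearMap.coe_comp, LinearEquiv.coe_coe, Function.comp_apply, h, LinearMap.fst_apply]
  · intro a b
    have h : φ.symm (a • (1 : E) + b • wE) = (a, b) := by
      rw [LinearEquiv.symm_apply_eq, hφ]
    simp only [LinearMap.coe_comp, LinearEquiv.coe_coe, Function.comp_apply, h, LinearMap.snd_apply]

end Cfsg.Agent.Lib.Helper44.Oc
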