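import Mathlib

/-! # OC-TESTSS (helper44's Oc hive), polynomial part: an irreducible factor of `X^r - 1` of odd degree
is not "self-reciprocal" -/

set_option autoImplicit false

namespace Cfsg.Agent.Lib.Helper44.Oc

open Polynomial

/-- an irreducible polynomial of odd degree dividing `X^r - 1` (`r` odd, characteristic `≠ 2`), not vanishing at `1`,
does not divide its own composition with `X^(r-1)` (its roots are not closed under inversion) -/
theorem testss_not_dvd_comp {F : Type*} [Field F] (h2 : (2 : F) ≠ 0) (r : ℕ) (hr : Odd r)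
    (φ : F[X]) (hφ : Irreducible φ) (hφr : φ ∣ X ^ r - 1) (hodd : Odd φ.natDegree)
    (h1 : φ.eval 1 ≠ 0) : ¬ φ ∣ φ.comp (X ^ (r - 1)) := by
  intro hdvd
  haveI : Fact (Irreducible φ) := ⟨hφ⟩
  have hφ0 : φ ≠ 0 := hφ.ne_zero
  obtain ⟨t, ht⟩ := hr
  have hr1 : r - 1 + 1 = r := by omega
  -- the root `α` in `L = F[X]/(φ)`
  have hzero : ∀ g : F[X], aeval (AdjoinRoot.root φ) g = 0 ↔ φ ∣ g := by
    intro g
    rw [AdjoinRoot.aeval_eq, AdjoinRoot.mk_eq_zero]
  have hαr : (AdjoinRoot.root φ) ^ r = 1 := by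
    have := (hzero _).2 hφr
    rw [map_sub, map_pow, aeval_X, map_one, sub_eq_zero] at this
    exact this
  have hβ : aeval ((AdjoinRoot.root φ) ^ (r - 1)) φ = 0 := by
    have := (hzero _).2 hdvd
    rwa [aeval_comp, map_pow, aeval_X] at this
  have hαβ : (AdjoinRoot.root φ) * (AdjoinRoot.root φ) ^ (r - 1) = 1 := by
    rw [← pow_succ', hr1, hαr]
  have hβα : (AdjoinRoot.root φ) ^ (r - 1) * (AdjoinRoot.root φ) = 1 := by
    rw [mul_comm, hαβ]
  letI : Invertible ((AdjoinRoot.root φ) ^ (r - 1)) := ⟨AdjoinRoot.root φ, hαβ, hβα⟩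
  have hrev : φ ∣ φ.reverse := by
    rw [← hzero, aeval_def]
    have h := (eval₂_reverse_eq_zero_iff (algebraMap F (AdjoinRoot φ))
      ((AdjoinRoot.root φ) ^ (r - 1)) φ).2 (by rw [← aeval_def]; exact hβ)
    exact h
  obtain ⟨k, hk⟩ := hrev
  have hrev0 : φ.reverse ≠ 0 := by
    rw [Ne, reverse_eq_zero]; exact hφ0
  have hk0 : k ≠ 0 := by
    rintro rfl
    rw [mul_zero] at hk
    exact hrev0 hk
  have hkdeg : k.natDegree = 0 := by
    have h := reverse_natDegree_le φ
    rw [hk, natDegree_mul hφ0 hk0] at h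
    omega
  obtain ⟨c, hc⟩ := natDegree_eq_zero.1 hkdeg
  -- evaluate at `1`
  have he1 : φ.reverse.eval 1 = φ.eval 1 := by
    letI : Invertible (1 : F) := invertibleOne
    have h := eval₂_reverse_mul_pow (RingHom.id F) (1 : F) φ
    rw [invOf_one, one_pow, mul_one, eval₂_id, eval₂_id] at h
    exact h
  have hc1 : c = 1 := by
    rw [hk, ← hc, eval_mul, eval_C] at he1
    have : φ.eval 1 * c = φ.eval 1 * 1 := by rw [he1, mul_one]
    exact mul_left_cancel₀ h1 this
  have hrevφ : φ.reverse = φ := by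
    rw [hk, ← hc, hc1, map_one, mul_one]
  -- evaluate at `-1`
  letI : Invertible (1 : F) := invertibleOne
  letI : Invertible (-1 : F) := invertibleNeg 1
  have hem : φ.eval (-1) = 0 := by
    have h := eval₂_reverse_mul_pow (RingHom.id F) (-1 : F) φ
    rw [invOf_neg, invOf_one, eval₂_id, eval₂_id, hrevφ, hodd.neg_one_pow, mul_neg, mul_one] at h
    have h' : (2 : F) * φ.eval (-1) = 0 := by
      rw [two_mul]
      nth_rewrite 1 [← h]
      exact neg_add_cancel _
    rcases mul_eq_zero.1 h' with h'' | h''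
    · exact (h2 h'').elim
    · exact h''
  obtain ⟨m, hm⟩ := hφr
  have := congrArg (Polynomial.eval (-1 : F)) hm
  rw [eval_mul, hem, zero_mul, eval_sub, eval_pow, eval_X, eval_one] at this
  have hodd' : Odd r := ⟨t, ht⟩
  rw [hodd'.neg_one_pow] at this
  apply h2
  have h3 : (2 : F) = -(-1 - 1) := by ring
  rw [h3, this, neg_zero]

end Cfsg.Agent.Lib.Helper44.Oc
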