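import Mathlib
import Cfsg.Agent.Lib.Helper2.BGLin
import Cfsg.Agent.Lib.Helper2.BGPoly
import Cfsg.Agent.Lib.Helper5.HyDefs
import Cfsg.Agent.Lib.Helper68.HyB1
import Cfsg.Agent.Lib.Helper83.HyT3
import Cfsg.Agent.Lib.Helper48.TiCYC
import Cfsg.Agent.Lib.Helper99.OcTESTSSpoly

/-! # OC-TESTSS (helper44's Oc hive), abstract part: from an isometry of odd prime order `r ≠ p` of a nondegenerate
symmetric space we cut out a single minimal block and extend by the identity -/

set_option autoImplicit false
set_option linter.unusedVariables false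
set_option linter.unusedSectionVars false

namespace Cfsg.Agent.Lib.Helper44.Oc

open Polynomial Module
open Cfsg.Agent.Lib.Helper2.BG Cfsg.Agent.Lib.Helper99 Cfsg.Agent.Lib.Helper48.Ti
open Cfsg.Agent.Lib.Helper5.Hy

section abstract

variable {F V : Type*} [Field F] [AddCommGroup V] [Module F V]
variable {B : V →ₗ[F] V →ₗ[F] F}

/-- adjoint of an isometry -/
theorem testss_adj {f f' : Module.End F V} (hf : Isom B f) (hff' : f * f' = 1) (u v : V) :
    B (f u) v = B u (f' v) := by
  have h : v = f (f' v) := by rw [← Module.End.mul_apply, hff', Module.End.one_apply]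
  conv_lhs => rw [h]
  exact hf u (f' v)

theorem testss_adj_pow {f f' : Module.End F V} (hf : Isom B f) (hff' : f * f' = 1) (k : ℕ) :
    ∀ u v : V, B ((f ^ k) u) v = B u ((f' ^ k) v) := by
  induction k with
  | zero => intro u v; simp
  | succ k ih =>
    intro u v
    rw [pow_succ, Module.End.mul_apply, ih, testss_adj hf hff', pow_succ', Module.End.mul_apply]

theorem testss_adj_aeval {f f' : Module.End F V} (hf : Isom B f) (hff' : f * f' = 1) (A : F[X]) :
    ∀ u v : V, B (aeval f A u) v = B u (aeval f' A v) := by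
  induction A using Polynomial.induction_on' with
  | add p q hp hq =>
    intro u v
    simp only [map_add, LinearMap.add_apply, hp, hq]
  | monomial n a =>
    intro u v
    rw [aeval_monomial, aeval_monomial, Module.End.mul_apply, Module.End.mul_apply,
      Module.algebraMap_end_apply, Module.algebraMap_end_apply, map_smul, map_smul,
      LinearMap.smul_apply, testss_adj_pow hf hff']

/-- some factor of a product killing a nonzero vector of `W` kills a nonzero vector of `W` -/
theorem testss_exists_factor (f : Module.End F V) {W : Submodule F V} (hW : Inv f W)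
    (l : List F[X]) : ∀ w ∈ W, w ≠ 0 → aeval f l.prod w = 0 →
      ∃ φ ∈ l, ∃ z ∈ W, z ≠ 0 ∧ aeval f φ z = 0 := by
  induction l with
  | nil =>
    intro w hw hw0 h
    simp at h
    exact (hw0 h).elim
  | cons φ l ih =>
    intro w hw hw0 h
    rw [List.prod_cons, map_mul, Module.End.mul_apply] at h
    by_cases hz : aeval f l.prod w = 0
    · obtain ⟨ψ, hψ, z, hz, hz0, hzk⟩ := ih w hw hw0 hz
      exact ⟨ψ, List.mem_cons_of_mem _ hψ, z, hz, hz0, hzk⟩
    · exact ⟨φ, List.mem_cons_self, aeval f l.prod w, hW.aeval _ w hw, hz, h⟩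

/-- an irreducible factor of `P` with a nonzero kernel on `W` -/
theorem testss_exists_irr (f : Module.End F V) {W : Submodule F V} (hW : Inv f W) {P : F[X]}
    (hP0 : P ≠ 0) (hkill : ∀ w ∈ W, aeval f P w = 0) (hne : W ≠ ⊥) :
    ∃ φ : F[X], Irreducible φ ∧ φ ∣ P ∧ W ⊓ LinearMap.ker (aeval f φ) ≠ ⊥ := by
  classical
  obtain ⟨w, hwW, hw0⟩ := (Submodule.ne_bot_iff W).mp hne
  obtain ⟨s, hs, u, hu⟩ := WfDvdMonoid.exists_factors P hP0
  have hprod : s.toList.prod = s.prod := Multiset.prod_toList s
  have hk : aeval f s.toList.prod w = 0 := by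
    have h1 : s.prod = P * ((u⁻¹ : F[X]ˣ) : F[X]) := by
      rw [← hu, mul_assoc, ← Units.val_mul, mul_inv_cancel, Units.val_one, mul_one]
    rw [hprod, h1, mul_comm, map_mul, Module.End.mul_apply, hkill w hwW, map_zero]
  obtain ⟨φ, hφ, z, hzW, hz0, hzk⟩ := testss_exists_factor f hW s.toList w hwW hw0 hk
  have hφs : φ ∈ s := Multiset.mem_toList.mp hφ
  refine ⟨φ, hs φ hφs, ?_, ?_⟩
  · have h1 : φ ∣ s.prod := Multiset.dvd_prod hφs
    exact h1.trans ⟨(u : F[X]), hu.symm⟩
  · intro hbot
    have : z ∈ W ⊓ LinearMap.ker (aeval f φ) := ⟨hzW, LinearMap.mem_ker.mpr hzk⟩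
    rw [hbot, Submodule.mem_bot] at this
    exact hz0 this

end abstract

section finite

variable {F V : Type*} [Field F] [Fintype F] [AddCommGroup V] [Module F V] [FiniteDimensional F V]
variable {B : V →ₗ[F] V →ₗ[F] F}

/-- in a minimal block (`dim = c`, no fixed vectors) some irreducible factor of `Φ_r` has a kernel of dimension `i` -/
theorem testss_block {p : ℕ} [Fact p.Prime] [CharP F p] (h2 : (2 : F) ≠ 0)
    (hs : ∀ u v, B u v = B v u) {f : Module.End F V} (hf : Isom B f) (r : ℕ) [Fact r.Prime]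
    (hr2 : r ≠ 2) (hrp : r ≠ p) (hfr : f ^ r = 1) (i c : ℕ)
    (hi : i = orderOf ((Fintype.card F : ℕ) : ZMod r)) (hc : c = if Even i then i else 2 * i)
    {W : Submodule F V} (hWi : Inv f W) (hW : Nd B W) (hfix : W ⊓ Fix f = ⊥)
    (hWc : finrank F W = c) :
    ∃ φ : F[X], Irreducible φ ∧ φ ∣ cyclotomic r F ∧
      finrank F ↥(W ⊓ LinearMap.ker (aeval f φ)) = i := by
  classical
  have hr : r.Prime := Fact.out
  have hrodd : Odd r := hr.odd_of_ne_two hr2
  have hr1 : r - 1 + 1 = r := by have := hr.one_lt; omega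
  have hrF : (r : F) ≠ 0 := natCast_ne_zero_of_ne_char hrp
  have hipos : 0 < i := by rw [hi]; exact orderOf_card_pos hrp
  have hcpos : 0 < c := by
    rw [hc]; split_ifs <;> omega
  have hP0 : cyclotomic r F ≠ 0 := cyclotomic_ne_zero r F
  have hcyc : cyclotomic r F * (X - 1) = X ^ r - 1 := cyclotomic_prime_mul_X_sub_one F r
  have hdeg : AllIrrDeg (cyclotomic r F) i := by rw [hi]; exact allIrrDeg_cyclotomic hrp
  have hkill : ∀ w ∈ W, aeval f (cyclotomic r F) w = 0 := by
    intro w hw
    have hu : aeval f (cyclotomic r F) w ∈ W := hWi.aeval _ w hw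
    have hfixu : aeval f (cyclotomic r F) w ∈ Fix f := by
      show _ ∈ LinearMap.ker (f - 1)
      rw [LinearMap.mem_ker]
      have h1 : (f - 1) (aeval f (cyclotomic r F) w) = aeval f ((X - 1) * cyclotomic r F) w := by
        rw [map_mul, Module.End.mul_apply, map_sub, aeval_X, map_one]
      rw [h1, mul_comm, hcyc, map_sub, map_pow, aeval_X, map_one, hfr, sub_self,
        LinearMap.zero_apply]
    have h3 : aeval f (cyclotomic r F) w ∈ W ⊓ Fix f := ⟨hu, hfixu⟩
    rw [hfix, Submodule.mem_bot] at h3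
    exact h3
  have hss : f.IsSemisimple := by
    apply Module.End.isSemisimple_of_squarefree_aeval_eq_zero (squarefree_X_pow_sub_one hrF)
    rw [map_sub, map_pow, aeval_X, map_one, hfr, sub_self]
  have hWne : W ≠ ⊥ := by
    intro h
    rw [h, finrank_bot] at hWc
    omega
  obtain ⟨φ, hφ, hφP, hKne⟩ := testss_exists_irr f hWi hP0 hkill hWne
  have hφdeg : φ.natDegree = i := hdeg φ hφ hφP
  have hKi : Inv f (W ⊓ LinearMap.ker (aeval f φ)) := hWi.inf (inv_ker_aeval f φ)
  have hKkill : ∀ v ∈ W ⊓ LinearMap.ker (aeval f φ), aeval f φ v = 0 :=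
    fun v hv => LinearMap.mem_ker.mp hv.2
  have hφirr : AllIrrDeg φ i := by
    have := allIrrDeg_of_irreducible hφ
    rwa [hφdeg] at this
  have hdvd : i ∣ finrank F ↥(W ⊓ LinearMap.ker (aeval f φ)) :=
    dvd_finrank_of_inv hss hφ.ne_zero hφirr _ _ rfl hKi hKkill
  have hKpos : 0 < finrank F ↥(W ⊓ LinearMap.ker (aeval f φ)) := by
    rw [Nat.pos_iff_ne_zero]
    intro h
    exact hKne (Submodule.finrank_eq_zero.mp h)
  have hKle : finrank F ↥(W ⊓ LinearMap.ker (aeval f φ)) ≤ c := by
    rw [← hWc]; exact Submodule.finrank_mono inf_le_left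
  refine ⟨φ, hφ, hφP, ?_⟩
  obtain ⟨t, ht⟩ := hdvd
  have ht1 : 1 ≤ t := by
    rcases Nat.eq_zero_or_pos t with h | h
    · rw [h, mul_zero] at ht; omega
    · exact h
  by_cases hev : Even i
  · rw [if_pos hev] at hc
    have : t = 1 := by
      rw [ht, hc] at hKle
      have : i * t ≤ i * 1 := by rw [mul_one]; exact hKle
      have := Nat.le_of_mul_le_mul_left this hipos
      omega
    rw [ht, this, mul_one]
  · rw [if_neg hev] at hc
    have hiodd : Odd i := Nat.not_even_iff_odd.mp hev
    have ht2 : t ≤ 2 := by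
      rw [ht, hc, mul_comm 2 i] at hKle
      exact Nat.le_of_mul_le_mul_left hKle hipos
    rcases (by omega : t = 1 ∨ t = 2) with h | h
    · rw [ht, h, mul_one]
    · exfalso
      -- `φ(f)` kills `W`
      have hKW : W ⊓ LinearMap.ker (aeval f φ) = W := by
        apply Submodule.eq_of_le_of_finrank_eq inf_le_left
        rw [ht, h, hWc, hc, mul_comm]
      have hφW : ∀ w ∈ W, aeval f φ w = 0 := by
        intro w hw
        have : w ∈ W ⊓ LinearMap.ker (aeval f φ) := by rw [hKW]; exact hw
        exact LinearMap.mem_ker.mp this.2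
      have hff' : f * f ^ (r - 1) = 1 := by rw [← pow_succ', hr1, hfr]
      have hWi' : Inv (f ^ (r - 1)) W := hWi.pow (r - 1)
      have hψW : ∀ w ∈ W, aeval f (φ.comp (X ^ (r - 1))) w = 0 := by
        intro w hw
        rw [aeval_comp, map_pow, aeval_X]
        apply hW _ (hWi'.aeval φ w hw)
        intro u hu
        rw [hs, ← testss_adj_aeval hf hff' φ u w, hφW u hu, map_zero, LinearMap.zero_apply]
      have h1 : φ.eval 1 ≠ 0 := by
        intro h0
        have hdv : (X - C (1 : F)) ∣ φ := dvd_iff_isRoot.mpr h0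
        rw [map_one] at hdv
        have hcop := isCoprime_X_sub_one_cyclotomic (F := F) (r := r) hrF
        have hunit : IsUnit (X - 1 : F[X]) :=
          hcop.isUnit_of_dvd' (dvd_refl _) (hdv.trans hφP)
        have := Polynomial.not_isUnit_X_sub_C (1 : F)
        rw [map_one] at this
        exact this hunit
      have hnd := testss_not_dvd_comp h2 r hrodd φ hφ
        (hφP.trans (cyclotomic.dvd_X_pow_sub_one r F)) (by rw [hφdeg]; exact hiodd) h1
      obtain ⟨a, b, hab⟩ := (Irreducible.coprime_iff_not_dvd hφ).2 hnd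
      apply hWne
      rw [Submodule.eq_bot_iff]
      intro w hw
      have h3 : aeval f (a * φ + b * φ.comp (X ^ (r - 1))) w = w := by
        rw [hab, map_one, Module.End.one_apply]
      rw [map_add, map_mul, map_mul, LinearMap.add_apply, Module.End.mul_apply,
        Module.End.mul_apply, hφW w hw, hψW w hw, map_zero, map_zero, add_zero] at h3
      exact h3.symm

end finite

end Cfsg.Agent.Lib.Helper44.Oc
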