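import Mathlib
import Cfsg.Agent.Lib.Helper99.OcTESTSScore

/-! # OC-TESTSS (helper44's Oc hive), abstract part 2: extend an isometry of a nondegenerate subspace by the identity
on the orthogonal complement -/

set_option autoImplicit false
set_option linter.unusedVariables false
set_option linter.unusedSectionVars false

namespace Cfsg.Agent.Lib.Helper44.Oc

open Polynomial Module
open Cfsg.Agent.Lib.Helper2.BG Cfsg.Agent.Lib.Helper99 Cfsg.Agent.Lib.Helper48.Ti
open Cfsg.Agent.Lib.Helper5.Hy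

section ext

variable {F V : Type*} [Field F] [Fintype F] [AddCommGroup V] [Module F V] [FiniteDimensional F V]
variable {B : V →ₗ[F] V →ₗ[F] F}

/-- the extension data -/
structure TestssExt (B : V →ₗ[F] V →ₗ[F] F) (f g : Module.End F V) (W : Submodule F V) : Prop where
  left : ∀ w ∈ W, g w = f w
  right : ∀ m, (∀ u ∈ W, B u m = 0) → g m = m
  dec : ∀ v : V, ∃ w ∈ W, ∃ m, (∀ u ∈ W, B u m = 0) ∧ v = w + m

theorem testss_extend (hs : ∀ u v, B u v = B v u) (hV : Nd B ⊤) (f : Module.End F V)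
    {W : Submodule F V} (hW : Nd B W) : ∃ g : Module.End F V, TestssExt B f g W := by
  obtain ⟨-, hdisj, hsup⟩ := t3_nd_perp hs hV (le_top : W ≤ ⊤) hW
  have hc : IsCompl W (⊤ ⊓ LinearMap.BilinForm.orthogonal B W) :=
    ⟨hdisj, codisjoint_iff.mpr hsup⟩
  have hmem : ∀ m, m ∈ (⊤ ⊓ LinearMap.BilinForm.orthogonal B W : Submodule F V) ↔
      ∀ u ∈ W, B u m = 0 := by
    intro m
    rw [Submodule.mem_inf, LinearMap.BilinForm.mem_orthogonal_iff]
    constructor
    · rintro ⟨-, h⟩ u hu
      exact h u hu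
    · intro h
      exact ⟨Submodule.mem_top, fun u hu => h u hu⟩
  refine ⟨LinearMap.ofIsCompl hc (f.domRestrict W)
    (⊤ ⊓ LinearMap.BilinForm.orthogonal B W : Submodule F V).subtype, ?_, ?_, ?_⟩
  · intro w hw
    have := LinearMap.ofIsCompl_left_apply hc (φ := f.domRestrict W)
      (ψ := (⊤ ⊓ LinearMap.BilinForm.orthogonal B W : Submodule F V).subtype) ⟨w, hw⟩
    rw [this, LinearMap.domRestrict_apply]
  · intro m hm
    have := LinearMap.ofIsCompl_right_apply hc (φ := f.domRestrict W)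
      (ψ := (⊤ ⊓ LinearMap.BilinForm.orthogonal B W : Submodule F V).subtype)
      ⟨m, (hmem m).2 hm⟩
    rw [this, Submodule.subtype_apply]
  · intro v
    have hv : v ∈ W ⊔ (⊤ ⊓ LinearMap.BilinForm.orthogonal B W : Submodule F V) := by
      rw [hsup]; exact Submodule.mem_top
    obtain ⟨w, hw, m, hm, rfl⟩ := Submodule.mem_sup.mp hv
    exact ⟨w, hw, m, (hmem m).1 hm, rfl⟩

omit [Fintype F] [FiniteDimensional F V] in
theorem TestssExt.isom (hs : ∀ u v, B u v = B v u) {f g : Module.End F V} {W : Submodule F V}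
    (h : TestssExt B f g W) (hf : Isom B f) (hWi : Inv f W) : Isom B g := by
  intro a b
  obtain ⟨w, hw, m, hm, rfl⟩ := h.dec a
  obtain ⟨w', hw', m', hm', rfl⟩ := h.dec b
  have hga : g (w + m) = f w + m := by rw [map_add, h.left w hw, h.right m hm]
  have hgb : g (w' + m') = f w' + m' := by rw [map_add, h.left w' hw', h.right m' hm']
  rw [hga, hgb]
  simp only [map_add, LinearMap.add_apply]
  rw [hf w w', hm' _ (hWi w hw), hm' w hw, hs m (f w'), hm _ (hWi w' hw'), hs m w', hm w' hw']

omit [Fintype F] [FiniteDimensional F V] in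
theorem TestssExt.pow_apply {f g : Module.End F V} {W : Submodule F V}
    (h : TestssExt B f g W) (hWi : Inv f W) (k : ℕ) :
    ∀ w ∈ W, ∀ m, (∀ u ∈ W, B u m = 0) → (g ^ k) (w + m) = (f ^ k) w + m := by
  induction k with
  | zero => intro w hw m hm; simp
  | succ k ih =>
    intro w hw m hm
    rw [pow_succ, Module.End.mul_apply, map_add, h.left w hw, h.right m hm, ih _ (hWi w hw) m hm,
      pow_succ, Module.End.mul_apply]

omit [Fintype F] [FiniteDimensional F V] in
theorem TestssExt.pow_eq_one {f g : Module.End F V} {W : Submodule F V}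
    (h : TestssExt B f g W) (hWi : Inv f W) (r : ℕ) (hfr : f ^ r = 1) : g ^ r = 1 := by
  apply LinearMap.ext
  intro v
  obtain ⟨w, hw, m, hm, rfl⟩ := h.dec v
  rw [h.pow_apply hWi r w hw m hm, hfr, Module.End.one_apply, Module.End.one_apply]

omit [Fintype F] [FiniteDimensional F V] in
theorem TestssExt.aeval_apply {f g : Module.End F V} {W : Submodule F V}
    (h : TestssExt B f g W) (hWi : Inv f W) (A : F[X]) :
    ∀ w ∈ W, ∀ m, (∀ u ∈ W, B u m = 0) → aeval g A (w + m) = aeval f A w + A.eval 1 • m := by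
  induction A using Polynomial.induction_on' with
  | add p q hp hq =>
    intro w hw m hm
    rw [map_add (aeval g), LinearMap.add_apply, hp w hw m hm, hq w hw m hm, map_add (aeval f),
      LinearMap.add_apply, eval_add, add_smul]
    abel
  | monomial n a =>
    intro w hw m hm
    rw [aeval_monomial, aeval_monomial, Module.End.mul_apply, Module.End.mul_apply,
      Module.algebraMap_end_apply, Module.algebraMap_end_apply, h.pow_apply hWi n w hw m hm,
      smul_add, eval_monomial, one_pow, mul_one]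

omit [Fintype F] [FiniteDimensional F V] in
theorem TestssExt.ker_aeval (hs : ∀ u v, B u v = B v u) {f g : Module.End F V}
    {W : Submodule F V} (h : TestssExt B f g W) (hWi : Inv f W) (hW : Nd B W) (A : F[X])
    (hA : A.eval 1 ≠ 0) :
    LinearMap.ker (aeval g A) = W ⊓ LinearMap.ker (aeval f A) := by
  ext v
  rw [LinearMap.mem_ker, Submodule.mem_inf, LinearMap.mem_ker]
  constructor
  · intro hv
    obtain ⟨w, hw, m, hm, rfl⟩ := h.dec v
    rw [h.aeval_apply hWi A w hw m hm] at hv
    have hx : aeval f A w = -(A.eval 1 • m) := eq_neg_of_add_eq_zero_left hv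
    have hxW : aeval f A w ∈ W := hWi.aeval A w hw
    have hx0 : aeval f A w = 0 := by
      apply hW _ hxW
      intro u hu
      rw [hx, map_neg, map_smul, LinearMap.neg_apply, LinearMap.smul_apply, hs m u, hm u hu,
        smul_zero, neg_zero]
    rw [hx0, zero_add] at hv
    have hm0 : m = 0 := by
      rcases smul_eq_zero.mp hv with h' | h'
      · exact (hA h').elim
      · exact h'
    rw [hm0, add_zero]
    exact ⟨hw, hx0⟩
  · rintro ⟨hvW, hv⟩
    have h0 : ∀ u ∈ W, B u (0 : V) = 0 := fun u _ => map_zero _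
    have := h.aeval_apply hWi A v hvW 0 h0
    rw [add_zero, smul_zero, add_zero] at this
    rw [this, hv]

omit [Fintype F] [FiniteDimensional F V] in
theorem TestssExt.not_scalar (hs : ∀ u v, B u v = B v u) {f g : Module.End F V}
    {W : Submodule F V} (h : TestssExt B f g W) (hf : Isom B f) (hWi : Inv f W) (hW : Nd B W)
    (hWne : W ≠ ⊥) (hfix : W ⊓ Fix f = ⊥) (r : ℕ) (hr : Odd r) (hfr : f ^ r = 1) (z : F) :
    g ≠ z • (1 : Module.End F V) := by
  intro hg
  obtain ⟨w₀, hw₀, hw₀0⟩ := (Submodule.ne_bot_iff W).mp hWne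
  have hgr := h.pow_eq_one hWi r hfr
  have hzr : z ^ r = 1 := by
    have h1 : (g ^ r) w₀ = (z ^ r) • w₀ := by
      rw [hg, _root_.smul_pow, one_pow, LinearMap.smul_apply, Module.End.one_apply]
    rw [hgr, Module.End.one_apply] at h1
    have h2 : (z ^ r - 1) • w₀ = 0 := by rw [sub_smul, one_smul, ← h1, sub_self]
    rcases smul_eq_zero.mp h2 with h3 | h3
    · exact sub_eq_zero.mp h3
    · exact (hw₀0 h3).elim
  have hz2 : z ^ 2 = 1 := by
    have hex : ∃ v ∈ W, B w₀ v ≠ 0 := by
      by_contra hcon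
      push Not at hcon
      exact hw₀0 (hW w₀ hw₀ hcon)
    obtain ⟨v, hv, hBv⟩ := hex
    have hiso := h.isom hs hf hWi w₀ v
    rw [hg, LinearMap.smul_apply, LinearMap.smul_apply, Module.End.one_apply,
      Module.End.one_apply, map_smul, map_smul, LinearMap.smul_apply, smul_eq_mul, smul_eq_mul,
      ← mul_assoc] at hiso
    have h4 : (z * z - 1) * B w₀ v = 0 := by rw [sub_mul, one_mul, hiso, sub_self]
    rcases mul_eq_zero.mp h4 with h5 | h5
    · rw [pow_two]; exact sub_eq_zero.mp h5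
    · exact (hBv h5).elim
  have hz1 : z = 1 := by
    obtain ⟨t, ht⟩ := hr
    rw [ht, pow_succ, pow_mul, hz2, one_pow, one_mul] at hzr
    exact hzr
  have hfw : f w₀ = w₀ := by
    rw [← h.left w₀ hw₀, hg, hz1, one_smul, Module.End.one_apply]
  have : w₀ ∈ W ⊓ Fix f := by
    refine ⟨hw₀, ?_⟩
    show w₀ ∈ LinearMap.ker (f - 1)
    rw [LinearMap.mem_ker, LinearMap.sub_apply, hfw, Module.End.one_apply, sub_self]
  rw [hfix, Submodule.mem_bot] at this
  exact hw₀0 this

/-- the abstract core of OC-TESTSS -/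
theorem testss_core {p : ℕ} [Fact p.Prime] [CharP F p] (h2 : (2 : F) ≠ 0)
    (hs : ∀ u v, B u v = B v u) (hV : Nd B ⊤) {f : Module.End F V} (hf : Isom B f) (r : ℕ)
    [Fact r.Prime] (hr2 : r ≠ 2) (hrp : r ≠ p) (hfr : f ^ r = 1) (hf1 : f ≠ 1) :
    ∃ g : Module.End F V, Isom B g ∧ g ^ r = 1 ∧ (∀ z : F, g ≠ z • (1 : Module.End F V)) ∧
      ∃ φ : F[X], Irreducible φ ∧ φ ∣ cyclotomic r F ∧
        finrank F ↥(LinearMap.ker (aeval g φ)) = orderOf ((Fintype.card F : ℕ) : ZMod r) := by
  classical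
  have hr : r.Prime := Fact.out
  have hp : p.Prime := Fact.out
  have hrodd : Odd r := hr.odd_of_ne_two hr2
  have hrF : (r : F) ≠ 0 := natCast_ne_zero_of_ne_char hrp
  have hrq : ¬ r ∣ Fintype.card F := by
    intro hdvd
    obtain ⟨k, -, hk⟩ := FiniteField.card F p
    rw [hk] at hdvd
    exact hrp ((Nat.prime_dvd_prime_iff_eq hr hp).mp (hr.dvd_of_dvd_pow hdvd))
  obtain ⟨-, s, hfin, hbl⟩ := sym_blocks h2 hs hf r hr2 hrq hfr
    (orderOf ((Fintype.card F : ℕ) : ZMod r))
    (if Even (orderOf ((Fintype.card F : ℕ) : ZMod r)) then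
      orderOf ((Fintype.card F : ℕ) : ZMod r)
      else 2 * orderOf ((Fintype.card F : ℕ) : ZMod r)) rfl rfl (inv_top f) hV
  have hs1 : 1 ≤ s := by
    rcases Nat.eq_zero_or_pos s with h0 | h0
    · exfalso
      rw [h0, zero_mul, add_zero] at hfin
      have htop : (⊤ ⊓ Fix f : Submodule F V) = ⊤ :=
        Submodule.eq_of_le_of_finrank_eq inf_le_left hfin.symm
      apply hf1
      apply LinearMap.ext
      intro v
      have hv : v ∈ (⊤ ⊓ Fix f : Submodule F V) := by rw [htop]; exact Submodule.mem_top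
      have hv' := LinearMap.mem_ker.mp hv.2
      rw [LinearMap.sub_apply, Module.End.one_apply, sub_eq_zero] at hv'
      rw [hv', Module.End.one_apply]
    · exact h0
  obtain ⟨W, -, hWi, hW, hfix, -, hWc⟩ := hbl 1 hs1
  rw [one_mul] at hWc
  obtain ⟨φ, hφ, hφP, hφK⟩ := testss_block h2 hs hf r hr2 hrp hfr _ _ rfl rfl hWi hW hfix hWc
  obtain ⟨g, hg⟩ := testss_extend hs hV f hW
  have hipos : 0 < orderOf ((Fintype.card F : ℕ) : ZMod r) := orderOf_card_pos hrp
  have hWne : W ≠ ⊥ := by
    intro h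
    rw [h, finrank_bot] at hWc
    split_ifs at hWc <;> omega
  have h1 : φ.eval 1 ≠ 0 := by
    intro h0
    have hdv : (X - C (1 : F)) ∣ φ := dvd_iff_isRoot.mpr h0
    rw [map_one] at hdv
    have hcop := isCoprime_X_sub_one_cyclotomic (F := F) (r := r) hrF
    have hunit : IsUnit (X - 1 : F[X]) :=
      hcop.isUnit_of_dvd' (dvd_refl _) (hdv.trans hφP)
    have := Polynomial.not_isUnit_X_sub_C (1 : F)
    rw [map_one] at this
    exact this hunit
  refine ⟨g, hg.isom hs hf hWi, hg.pow_eq_one hWi r hfr,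
    fun z => hg.not_scalar hs hf hWi hW hWne hfix r hrodd hfr z, φ, hφ, hφP, ?_⟩
  rw [hg.ker_aeval hs hWi hW φ h1, hφK]

end ext

end Cfsg.Agent.Lib.Helper44.Oc
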