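import Mathlib
import Cfsg.Prelude.Def_GeometricClasses
import Cfsg.Agent.Lib.Helper44.OcDefs
import Cfsg.Agent.Lib.Helper99.OcTESTSSext
import Cfsg.Agent.Lib.Helper37.ParabolicBridge
import Cfsg.Agent.Lib.Helper37.SpinorNorm
import Cfsg.Agent.Lib.Helper37.OrthStruct
import Cfsg.Agent.Lib.Helper9.TsOMEGAODD

/-! # OC-TESTSS (helper44's Oc hive): a semisimple test element of `Ω(Q)` -/

set_option autoImplicit false
set_option linter.unusedVariables false
open scoped MatrixGroups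
open Matrix Polynomial

namespace Cfsg.Agent.Lib.Helper44.Oc

universe v

variable {F : Type v} [Field F] {ι : Type} [Fintype ι] [DecidableEq ι]

/-- OC-TESTSS -/
theorem exists_test_ss [Fintype F] {p : ℕ} [Fact p.Prime] [CharP F p] (h2 : (2 : F) ≠ 0) (d : ℕ) (hd : 4 ≤ d)
    (hcard : Fintype.card ι = 2 * d) (Q : (ι → F) → F) (hQ : Cfsg.Geo.IsNondegenerateQuadraticForm Q)
    (r : ℕ) [Fact r.Prime] (hr2 : r ≠ 2) (hrp : r ≠ p) (hrO : r ∣ Nat.card (Cfsg.Geo.omegaGL Q))
    (hi4 : orderOf ((Fintype.card F : ℕ) : ZMod r) % 4 ≠ 0) :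
    ∃ x : GL ι F, x ∈ Cfsg.Geo.omegaGL Q ∧ x ^ r = 1 ∧
      (∀ z : F, (x : Matrix ι ι F) ≠ z • (1 : Matrix ι ι F)) ∧
      ∃ φ : F[X], Irreducible φ ∧ φ ∣ cyclotomic r F ∧
        (aeval (x : Matrix ι ι F) φ).rank + orderOf ((Fintype.card F : ℕ) : ZMod r) = 2 * d := by
  classical
  have hr : r.Prime := Fact.out
  have hrodd : Odd r := hr.odd_of_ne_two hr2
  have hr1 : r - 1 + 1 = r := by have := hr.one_lt; omega
  -- the bilinear form
  let Q' : QuadraticForm F (ι → F) := Cfsg.Agent.Lib.Helper37.toQF Q hQ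
  let B : (ι → F) →ₗ[F] (ι → F) →ₗ[F] F := QuadraticMap.polarBilin Q'
  have hB : ∀ u v, B u v = QuadraticMap.polar Q u v := fun u v => rfl
  have hs : ∀ u v, B u v = B v u := fun u v => by rw [hB, hB, QuadraticMap.polar_comm]
  have hV : Cfsg.Agent.Lib.Helper99.Nd B ⊤ := by
    intro u _ hu
    by_contra hu0
    obtain ⟨-, y, hy⟩ := hQ.nondegenerate u hu0
    exact hy (by rw [← hB]; exact hu y Submodule.mem_top)
  have hQB : ∀ v, Q v = 2⁻¹ * B v v := by
    intro v
    have h1 : Q (v + v) = 2 ^ 2 * Q v := by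
      have := hQ.smul 2 v
      rwa [two_smul] at this
    rw [hB]
    unfold QuadraticMap.polar
    rw [h1]
    field_simp
    ring
  -- Cauchy
  obtain ⟨y, hy⟩ := exists_prime_orderOf_dvd_card' (G := ↥(Cfsg.Geo.omegaGL Q)) r hrO
  have hyiso : (y : GL ι F) ∈ Cfsg.isometryGroup F Q := by
    obtain ⟨g, -, hg⟩ := y.2
    rw [← hg]
    exact g.2
  have hyQ : ∀ u, Q (((y : GL ι F) : Matrix ι ι F) *ᵥ u) = Q u := fun u => hyiso u u
  have hyr : ((y : GL ι F) : Matrix ι ι F) ^ r = 1 := by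
    have h1 : y ^ r = 1 := by rw [← hy]; exact pow_orderOf_eq_one y
    have h3 : ((y : GL ι F) ^ r : GL ι F) = 1 := by
      have := congrArg (Subtype.val) h1
      simpa using this
    have := congrArg (fun g : GL ι F => (g : Matrix ι ι F)) h3
    simpa using this
  have hy1 : ((y : GL ι F) : Matrix ι ι F) ≠ 1 := by
    intro h
    have h3 : (y : GL ι F) = 1 := Units.ext h
    have h4 : y = 1 := Subtype.ext h3
    rw [h4, orderOf_one] at hy
    exact hr.one_lt.ne hy
  -- the endomorphism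
  have hf : Cfsg.Agent.Lib.Helper48.Ti.Isom B (Matrix.toLin' ((y : GL ι F) : Matrix ι ι F)) := by
    intro u w
    rw [hB, hB, Matrix.toLin'_apply, Matrix.toLin'_apply]
    unfold QuadraticMap.polar
    rw [← Matrix.mulVec_add, hyQ, hyQ, hyQ]
  have hfr : (Matrix.toLin' ((y : GL ι F) : Matrix ι ι F)) ^ r = 1 := by
    rw [← Matrix.toLin'_pow, hyr, Matrix.toLin'_one]
    rfl
  have hf1 : Matrix.toLin' ((y : GL ι F) : Matrix ι ι F) ≠ 1 := by
    intro h
    apply hy1
    have := congrArg LinearMap.toMatrix' h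
    rwa [LinearMap.toMatrix'_toLin', LinearMap.toMatrix'_one] at this
  obtain ⟨g, hgiso, hgr, hgns, φ, hφ, hφP, hφK⟩ :=
    testss_core h2 hs hV hf r hr2 hrp hfr hf1
  -- back to matrices
  have hMr : (LinearMap.toMatrixAlgEquiv' g) ^ r = 1 := by
    rw [← map_pow, hgr, map_one]
  have hMv : ∀ u, (LinearMap.toMatrixAlgEquiv' g) *ᵥ u = g u := fun u =>
    LinearMap.toMatrix'_mulVec g u
  let x : GL ι F := ⟨LinearMap.toMatrixAlgEquiv' g, (LinearMap.toMatrixAlgEquiv' g) ^ (r - 1),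
    by rw [← pow_succ', hr1, hMr], by rw [← pow_succ, hr1, hMr]⟩
  have hxval : (x : Matrix ι ι F) = LinearMap.toMatrixAlgEquiv' g := rfl
  have hxiso : x ∈ Cfsg.isometryGroup F Q := by
    intro u w
    show Q ((x : Matrix ι ι F) *ᵥ u) = Q u
    rw [hxval, hMv, hQB, hQB, hgiso]
  have hxr : x ^ r = 1 := by
    apply Units.ext
    rw [Units.val_pow_eq_pow_val, hxval, hMr, Units.val_one]
  have hxΩ : x ∈ Cfsg.Geo.omegaGL Q := by
    have hmem : (⟨x, hxiso⟩ : ↥(Cfsg.isometryGroup F Q)) ∈ Cfsg.Omega F Q := by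
      refine Cfsg.Agent.Lib.Helper79.TsSwap.omegaodd_mem_omega
        (Cfsg.Agent.Lib.Helper37.isGram_of_quadraticForm h2 Q')
        (Cfsg.Agent.Lib.Helper37.det_ne_zero_of_nondegenerate Q'
          (Cfsg.Agent.Lib.Helper37.toQF_nondeg Q hQ)) ⟨x, hxiso⟩ r hrodd ?_
      apply Subtype.ext
      simpa using hxr
    exact ⟨⟨x, hxiso⟩, hmem, rfl⟩
  refine ⟨x, hxΩ, hxr, ?_, φ, hφ, hφP, ?_⟩
  · intro z hz
    apply hgns z
    have h3 : LinearMap.toMatrixAlgEquiv' g = LinearMap.toMatrixAlgEquiv' (z • (1 : Module.End F (ι → F))) := by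
      rw [map_smul, map_one, ← hxval, hz]
    exact LinearMap.toMatrixAlgEquiv'.injective h3
  · rw [hxval, aeval_algHom_apply]
    have hrank : (LinearMap.toMatrixAlgEquiv' (aeval g φ)).rank =
        Module.finrank F ↥(LinearMap.range (aeval g φ)) := by
      have h5 : (LinearMap.toMatrixAlgEquiv' (aeval g φ)).mulVecLin = aeval g φ :=
        Matrix.toLin'_toMatrix' (aeval g φ)
      unfold Matrix.rank
      rw [h5]
    rw [hrank, ← hφK, LinearMap.finrank_range_add_finrank_ker, Module.finrank_fintype_fun_eq_card,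
      hcard]

end Cfsg.Agent.Lib.Helper44.Oc
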