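import Mathlib
import Cfsg.Prelude.Def_GeometricClasses
import Cfsg.Agent.Lib.Helper44.UfDefs
import Cfsg.Agent.Lib.Helper99.QuadStd

set_option autoImplicit false
set_option linter.unusedVariables false
open scoped MatrixGroups
open Matrix Polynomial

/-! OF-ODDSIM (S5981 hive of helper44): in odd dimension all nondegenerate quadratic forms over a finite
field are similar. -/

namespace Cfsg.Agent.Lib.Helper44.Of

universe v

variable {F : Type v} [Field F]

/-- OF-ODDSIM : in odd dimension all nondegenerate quadratic forms over a finite field of odd characteristic are similar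
(`Cfsg.Agent.Lib.Helper37.OrthField.hcls_odd` in `Lib/Helper37/OrthField5.lean`, twice, and reindexing
`Fin n ≃ Unit ⊕ (Fin m ⊕ Fin m)`) -/
theorem exists_similar_of_odd [Fintype F] (h2 : (2 : F) ≠ 0) {n : ℕ} (hn : Odd n)
    (Q Q' : (Fin n → F) → F) (hQ : Cfsg.Geo.IsNondegenerateQuadraticForm Q)
    (hQ' : Cfsg.Geo.IsNondegenerateQuadraticForm Q') :
    ∃ (R : GL (Fin n) F) (l : F), l ≠ 0 ∧ ∀ v, Q' v = l * Q ((R : Matrix (Fin n) (Fin n) F) *ᵥ v) := by
  classical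
  obtain ⟨m, hm⟩ := hn
  have hcard : Fintype.card (Fin n) = Fintype.card (Unit ⊕ (Fin m ⊕ Fin m)) := by
    simp only [Fintype.card_fin, Fintype.card_sum, Fintype.card_unit]
    omega
  let e : Fin n ≃ Unit ⊕ (Fin m ⊕ Fin m) := Fintype.equivOfCardEq hcard
  obtain ⟨B, l, hB⟩ := Cfsg.Agent.Lib.Helper99.QuadStd.exists_std_odd m e Q hQ
  obtain ⟨B', l', hB'⟩ := Cfsg.Agent.Lib.Helper99.QuadStd.exists_std_odd m e Q' hQ'
  refine ⟨B⁻¹ * B', (l' : F)⁻¹ * (l : F), mul_ne_zero (inv_ne_zero l'.ne_zero) l.ne_zero, fun v => ?_⟩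
  have h1 := hB' v
  have h2 := hB (((B⁻¹ * B' : GL (Fin n) F) : Matrix (Fin n) (Fin n) F) *ᵥ v)
  have h3 : (B : Matrix (Fin n) (Fin n) F) *ᵥ
      (((B⁻¹ * B' : GL (Fin n) F) : Matrix (Fin n) (Fin n) F) *ᵥ v)
      = (B' : Matrix (Fin n) (Fin n) F) *ᵥ v := by
    rw [Matrix.mulVec_mulVec, ← Units.val_mul, mul_inv_cancel_left]
  rw [h3, h1] at h2
  have hl' : (l' : F) ≠ 0 := l'.ne_zero
  rw [mul_assoc, ← h2, ← mul_assoc, inv_mul_cancel₀ hl', one_mul]

end Cfsg.Agent.Lib.Helper44.Of
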