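import Mathlib
import Cfsg.Prelude.Def_GeometricClasses
import Cfsg.Agent.Lib.Helper44.UfDefs
import Cfsg.Agent.Lib.Helper99.OfODDSIM

set_option autoImplicit false
set_option linter.unusedVariables false
open scoped MatrixGroups
open Matrix Polynomial

/-! OF-PERMQ (S5981 hive of helper44) -/

namespace Cfsg.Agent.Lib.Helper44.Of

universe v

variable {F : Type v} [Field F]

/-- the "permutation" quadratic form `Σᵢ vᵢ v_{ι i}` in the coordinates of a basis `b` -/
noncomputable def permq_Q {n : ℕ} {I : Type} [Fintype I] (b : Module.Basis I F (Fin n → F)) (ι : I → I)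
    (v : Fin n → F) : F :=
  ∑ i, b.repr v i * b.repr v (ι i)

theorem permq_sum_comp {I : Type} [Fintype I] (ι : I → I) (hι : ∀ i, ι (ι i) = i) (f : I → F) :
    ∑ i, f (ι i) = ∑ i, f i :=
  Equiv.sum_comp (Function.Involutive.toPerm ι hι) f

theorem permq_polar {n : ℕ} {I : Type} [Fintype I] (b : Module.Basis I F (Fin n → F)) (ι : I → I)
    (u v : Fin n → F) :
    QuadraticMap.polar (permq_Q b ι) u v
      = ∑ i, (b.repr u i * b.repr v (ι i) + b.repr v i * b.repr u (ι i)) := by
  unfold QuadraticMap.polar permq_Q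
  rw [← Finset.sum_sub_distrib, ← Finset.sum_sub_distrib]
  apply Finset.sum_congr rfl
  intro i _
  rw [map_add, Finsupp.add_apply, Finsupp.add_apply]
  ring

theorem permq_nondeg (h2 : (2 : F) ≠ 0) {n : ℕ} {I : Type} [Fintype I] [DecidableEq I]
    (b : Module.Basis I F (Fin n → F)) (ι : I → I) (hι : ∀ i, ι (ι i) = i) :
    Cfsg.Geo.IsNondegenerateQuadraticForm (permq_Q b ι) := by
  have hinj : Function.Injective ι := (Function.Involutive.injective hι)
  have hsymm : ∀ u v, QuadraticMap.polar (permq_Q b ι) u v = QuadraticMap.polar (permq_Q b ι) v u :=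
    fun u v => QuadraticMap.polar_comm _ u v
  have hkey : ∀ (v : Fin n → F) (i : I),
      QuadraticMap.polar (permq_Q b ι) (b (ι i)) v = 2 * b.repr v i := by
    intro v i
    rw [permq_polar]
    simp only [Module.Basis.repr_self, Finsupp.single_apply]
    rw [Finset.sum_add_distrib]
    have e1 : ∑ j, (if ι i = j then (1 : F) else 0) * b.repr v (ι j) = b.repr v i := by
      have : ∀ j, (if ι i = j then (1 : F) else 0) * b.repr v (ι j)
          = if ι i = j then b.repr v (ι j) else 0 := by
        intro j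
        split_ifs <;> simp
      simp only [this]
      rw [Finset.sum_ite_eq Finset.univ (ι i) (fun j => b.repr v (ι j))]
      simp [hι]
    have e2 : ∑ j, b.repr v j * (if ι i = ι j then (1 : F) else 0) = b.repr v i := by
      have : ∀ j, b.repr v j * (if ι i = ι j then (1 : F) else 0)
          = if i = j then b.repr v j else 0 := by
        intro j
        by_cases hij : i = j
        · subst hij
          simp
        · have : ι i ≠ ι j := fun h => hij (hinj h)
          simp [hij, this]
      simp only [this]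
      rw [Finset.sum_ite_eq Finset.univ i (fun j => b.repr v j)]
      simp
    rw [e1, e2]
    ring
  refine ⟨fun a v => ?_, ⟨?_, ?_, ?_, ?_⟩, ?_⟩
  · unfold permq_Q
    rw [Finset.mul_sum]
    apply Finset.sum_congr rfl
    intro i _
    rw [map_smul, Finsupp.smul_apply, Finsupp.smul_apply, smul_eq_mul, smul_eq_mul]
    ring
  · intro x y v
    rw [permq_polar, permq_polar, permq_polar, ← Finset.sum_add_distrib]
    apply Finset.sum_congr rfl
    intro i _
    rw [map_add, Finsupp.add_apply, Finsupp.add_apply]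
    ring
  · intro a x v
    rw [permq_polar, permq_polar, Finset.mul_sum]
    apply Finset.sum_congr rfl
    intro i _
    rw [map_smul, Finsupp.smul_apply, Finsupp.smul_apply, smul_eq_mul, smul_eq_mul]
    ring
  · intro v x y
    rw [permq_polar, permq_polar, permq_polar, ← Finset.sum_add_distrib]
    apply Finset.sum_congr rfl
    intro i _
    rw [map_add, Finsupp.add_apply, Finsupp.add_apply]
    ring
  · intro a v x
    rw [permq_polar, permq_polar, Finset.mul_sum]
    apply Finset.sum_congr rfl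
    intro i _
    rw [map_smul, Finsupp.smul_apply, Finsupp.smul_apply, smul_eq_mul, smul_eq_mul]
    ring
  · intro v hv
    have hex : ∃ i, b.repr v i ≠ 0 := by
      by_contra hcon
      apply hv
      have h0 : b.repr v = 0 := by
        ext i
        by_contra hne
        exact hcon ⟨i, hne⟩
      exact (LinearEquiv.map_eq_zero_iff b.repr).1 h0
    obtain ⟨i, hi⟩ := hex
    have hne : QuadraticMap.polar (permq_Q b ι) (b (ι i)) v ≠ 0 := by
      rw [hkey]
      exact mul_ne_zero h2 hi
    exact ⟨⟨b (ι i), hne⟩, ⟨b (ι i), by rw [hsymm]; exact hne⟩⟩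

theorem permq_repr {n : ℕ} {I : Type} [Fintype I] [DecidableEq I]
    (b : Module.Basis I F (Fin n → F)) (d : I → F) (x : GL (Fin n) F)
    (hx : ∀ i, (x : Matrix (Fin n) (Fin n) F) *ᵥ b i = d i • b i) (v : Fin n → F) (i : I) :
    b.repr ((x : Matrix (Fin n) (Fin n) F) *ᵥ v) i = d i * b.repr v i := by
  have h : (Finsupp.lapply i ∘ₗ b.repr.toLinearMap) ∘ₗ
        Matrix.mulVecLin (x : Matrix (Fin n) (Fin n) F)
      = (d i) • (Finsupp.lapply i ∘ₗ b.repr.toLinearMap) := by
    apply b.ext
    intro j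
    simp only [LinearMap.comp_apply, Matrix.mulVecLin_apply, hx, LinearEquiv.coe_coe, map_smul,
      Module.Basis.repr_self, Finsupp.lapply_apply, Finsupp.single_apply,
      LinearMap.smul_apply, smul_eq_mul]
    by_cases hji : j = i
    · subst hji
      simp
    · simp [hji]
  have := LinearMap.congr_fun h v
  simpa using this

/-- OF-PERMQ : `Q'(v) = Σᵢ vᵢ v_{ι i}` (coordinates in `b`) is a nondegenerate quadratic form of which `x` is a
similitude with multiplier `c`; then OF-ODDSIM -/
theorem exists_conj_mem_of_eigenbasis_odd [Fintype F] (h2 : (2 : F) ≠ 0) {n : ℕ} (hn : Odd n)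
    (Q : (Fin n → F) → F) (hQ : Cfsg.Geo.IsNondegenerateQuadraticForm Q)
    {I : Type} [Fintype I] [DecidableEq I] (b : Module.Basis I F (Fin n → F)) (d : I → F) (ι : I → I)
    (hι : ∀ i, ι (ι i) = i) (c : F) (hc : c ≠ 0) (hd : ∀ i, d i * d (ι i) = c) (x : GL (Fin n) F)
    (hx : ∀ i, (x : Matrix (Fin n) (Fin n) F) *ᵥ b i = d i • b i) :
    ∃ R : GL (Fin n) F, R * x * R⁻¹ ∈ Cfsg.Geo.quadSimilarityGroup Q := by
  have hQ' := permq_nondeg h2 b ι hι
  have hsim : ∀ v, permq_Q b ι ((x : Matrix (Fin n) (Fin n) F) *ᵥ v) = c * permq_Q b ι v := by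
    intro v
    unfold permq_Q
    rw [Finset.mul_sum]
    apply Finset.sum_congr rfl
    intro i _
    rw [permq_repr b d x hx, permq_repr b d x hx, ← hd i]
    ring
  obtain ⟨R, l, hl, hR⟩ := exists_similar_of_odd h2 hn Q (permq_Q b ι) hQ hQ'
  refine ⟨R, Units.mk0 c hc, fun w => ?_⟩
  have hRi : (R : Matrix (Fin n) (Fin n) F) *ᵥ (((R⁻¹ : GL (Fin n) F) : Matrix (Fin n) (Fin n) F) *ᵥ w)
      = w := by
    rw [Matrix.mulVec_mulVec, ← Units.val_mul, mul_inv_cancel, Units.val_one, Matrix.one_mulVec]
  have h1 := hR ((x : Matrix (Fin n) (Fin n) F) *ᵥ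
    (((R⁻¹ : GL (Fin n) F) : Matrix (Fin n) (Fin n) F) *ᵥ w))
  have h3 := hR (((R⁻¹ : GL (Fin n) F) : Matrix (Fin n) (Fin n) F) *ᵥ w)
  rw [hRi] at h3
  rw [hsim, h3] at h1
  rw [Units.val_mul, Units.val_mul, ← Matrix.mulVec_mulVec, ← Matrix.mulVec_mulVec, Units.val_mk0]
  apply mul_left_cancel₀ hl
  rw [← h1]
  ring

end Cfsg.Agent.Lib.Helper44.Of
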