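import Mathlib
import Cfsg.Prelude.Def_ClassicalGeometry
import Cfsg.Prelude.Def_GeometricClasses
import Cfsg.Agent.Lib.Helper48.TiDefs
import Cfsg.Agent.Lib.Helper37.OrthField5
import Cfsg.Agent.Lib.Helper43.OddOrthGram

/-! # TS-EXTO (S5972 Ts hive, odd-r reduction of helper79) -/

set_option autoImplicit false
set_option linter.unusedVariables false

namespace Cfsg.Agent.Lib.Helper79.TsSwap

open Polynomial Module
open Cfsg.Agent.Lib.Helper2.BG Cfsg.Agent.Lib.Helper99 Cfsg.Agent.Lib.Helper48.Ti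

/-- the linear equivalence `w ↦ k *ᵥ w` of an element of `GL` -/
noncomputable def exto_glEquiv {κ : Type} [Fintype κ] [DecidableEq κ] {F : Type*} [Field F]
    (k : GL κ F) : (κ → F) ≃ₗ[F] (κ → F) :=
  LinearEquiv.ofLinearMap (Matrix.mulVecLin (k : Matrix κ κ F))
    (Matrix.mulVecLin ((k⁻¹ : GL κ F) : Matrix κ κ F))
    (by
      apply LinearMap.ext
      intro w
      simp only [LinearMap.comp_apply, Matrix.mulVecLin_apply, LinearMap.id_apply]
      rw [Matrix.mulVec_mulVec, ← Units.val_mul, mul_inv_cancel, Units.val_one,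
        Matrix.one_mulVec])
    (by
      apply LinearMap.ext
      intro w
      simp only [LinearMap.comp_apply, Matrix.mulVecLin_apply, LinearMap.id_apply]
      rw [Matrix.mulVec_mulVec, ← Units.val_mul, inv_mul_cancel, Units.val_one,
        Matrix.one_mulVec])

theorem exto_glEquiv_apply {κ : Type} [Fintype κ] [DecidableEq κ] {F : Type*} [Field F]
    (k : GL κ F) (w : κ → F) : exto_glEquiv k w = (k : Matrix κ κ F).mulVec w := rfl

/-- the quadratic form `u ↦ β u u / 2` -/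
noncomputable def exto_QM {F : Type*} [Field F] {M : Type*} [AddCommGroup M] [Module F M]
    (β : M →ₗ[F] M →ₗ[F] F) : QuadraticForm F M :=
  (2⁻¹ : F) • LinearMap.BilinMap.toQuadraticMap β

theorem exto_QM_apply {F : Type*} [Field F] {M : Type*} [AddCommGroup M] [Module F M]
    (β : M →ₗ[F] M →ₗ[F] F) (u : M) : exto_QM β u = 2⁻¹ * β u u := by
  unfold exto_QM
  rw [smul_apply, LinearMap.BilinMap.toQuadraticMap_apply, smul_eq_mul]

theorem exto_polar_QM {F : Type*} [Field F] (h2 : (2 : F) ≠ 0) {M : Type*} [AddCommGroup M]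
    [Module F M] (β : M →ₗ[F] M →ₗ[F] F) (hsymm : ∀ u v, β u v = β v u) (u v : M) :
    QuadraticMap.polar (exto_QM β) u v = β u v := by
  unfold QuadraticMap.polar
  simp only [exto_QM_apply, map_add, LinearMap.add_apply]
  rw [hsymm v u]
  field_simp
  ring

/-- the abstract version: everything from a coordinate system `Θ` of `M × N` -/
theorem exto_of_coords {F : Type*} [Field F] [Fintype F] (h2 : (2 : F) ≠ 0) (d : ℕ)
    {M : Type*} [AddCommGroup M] [Module F M] [FiniteDimensional F M]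
    {N : Type*} [AddCommGroup N] [Module F N] [FiniteDimensional F N]
    (β : M →ₗ[F] M →ₗ[F] F) (hsymm : ∀ u v, β u v = β v u)
    (hnd : ∀ u, (∀ v, β u v = 0) → u = 0) (QN : QuadraticForm F N)
    (φ : M →ₗ[F] M) (hφ : ∀ u v, β (φ u) (φ v) = β u v)
    (Θ : (M × N) ≃ₗ[F] (Unit ⊕ (Fin d ⊕ Fin d) → F)) (l : F) (hl : l ≠ 0)
    (hΘ : ∀ z : M × N, Cfsg.quadFormOdd d F (Θ z) = l * ((exto_QM β).prod QN) z) :
    ∃ (x : GL (Unit ⊕ (Fin d ⊕ Fin d)) F) (j : M →ₗ[F] (Unit ⊕ (Fin d ⊕ Fin d) → F)) (l : F),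
      x ∈ Cfsg.isometryGroup F (Cfsg.quadFormOdd d F) ∧ l ≠ 0 ∧ Function.Injective j ∧
      (∀ u v, QuadraticMap.polar (Cfsg.quadFormOdd d F) (j u) (j v) = l * β u v) ∧
      (∀ u, Matrix.toLin' (x : Matrix (Unit ⊕ (Fin d ⊕ Fin d)) (Unit ⊕ (Fin d ⊕ Fin d)) F) (j u)
        = j (φ u)) ∧
      (∀ w, (∀ u, QuadraticMap.polar (Cfsg.quadFormOdd d F) (j u) w = 0) →
        Matrix.toLin' (x : Matrix (Unit ⊕ (Fin d ⊕ Fin d)) (Unit ⊕ (Fin d ⊕ Fin d)) F) w = w) := by
  classical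
  -- polar of the standard form through `Θ`
  have hpolΘ : ∀ z z' : M × N, QuadraticMap.polar (Cfsg.quadFormOdd d F) (Θ z) (Θ z')
      = l * QuadraticMap.polar ((exto_QM β).prod QN) z z' := by
    intro z z'
    unfold QuadraticMap.polar
    rw [← map_add, hΘ, hΘ, hΘ]
    ring
  -- `φ` is injective
  have hφinj : Function.Injective φ := by
    rw [← LinearMap.ker_eq_bot, LinearMap.ker_eq_bot']
    intro u hu
    apply hnd
    intro v
    have h1 := hφ u v
    rw [hu, map_zero, LinearMap.zero_apply] at h1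
    exact h1.symm
  let g : (M × N) →ₗ[F] (M × N) := φ.prodMap LinearMap.id
  have hg : ∀ z : M × N, g z = (φ z.1, z.2) := fun z => rfl
  have hginj : Function.Injective g := by
    intro z z' hzz
    rw [hg, hg] at hzz
    have h1 := congrArg Prod.fst hzz
    have h2 := congrArg Prod.snd hzz
    exact Prod.ext (hφinj h1) h2
  let gE : (M × N) ≃ₗ[F] (M × N) := LinearEquiv.ofInjectiveEndo g hginj
  have hgE : ∀ z, gE z = g z := fun z => rfl
  have hgQ : ∀ z : M × N, ((exto_QM β).prod QN) (g z) = ((exto_QM β).prod QN) z := by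
    intro z
    rw [hg, QuadraticMap.prod_apply, QuadraticMap.prod_apply, exto_QM_apply, exto_QM_apply, hφ]
  let L : (Unit ⊕ (Fin d ⊕ Fin d) → F) ≃ₗ[F] (Unit ⊕ (Fin d ⊕ Fin d) → F) :=
    (Θ.symm.trans gE).trans Θ
  have hL : ∀ w, L w = Θ (g (Θ.symm w)) := fun w => rfl
  let x : GL (Unit ⊕ (Fin d ⊕ Fin d)) F := Cfsg.Agent.Lib.Helper37.OrthField.glOfEquiv L
  have hx : ∀ w, (x : Matrix (Unit ⊕ (Fin d ⊕ Fin d)) (Unit ⊕ (Fin d ⊕ Fin d)) F).mulVec w
      = Θ (g (Θ.symm w)) := by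
    intro w
    rw [Cfsg.Agent.Lib.Helper37.OrthField.glOfEquiv_mulVec, hL]
  let j : M →ₗ[F] (Unit ⊕ (Fin d ⊕ Fin d) → F) := Θ.toLinearMap.comp (LinearMap.inl F M N)
  have hj : ∀ u, j u = Θ (u, 0) := fun u => rfl
  refine ⟨x, j, l, ?_, hl, ?_, ?_, ?_, ?_⟩
  · intro w _
    show Cfsg.quadFormOdd d F
      ((x : Matrix (Unit ⊕ (Fin d ⊕ Fin d)) (Unit ⊕ (Fin d ⊕ Fin d)) F).mulVec w)
      = Cfsg.quadFormOdd d F w
    rw [hx, hΘ, hgQ, ← hΘ, LinearEquiv.apply_symm_apply]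
  · intro u u' huu
    rw [hj, hj] at huu
    have h1 := Θ.injective huu
    exact congrArg Prod.fst h1
  · intro u v
    rw [hj, hj, hpolΘ, QuadraticMap.polar_prod]
    simp only [QuadraticMap.polar_zero_left, add_zero]
    rw [exto_polar_QM h2 β hsymm]
  · intro u
    rw [Matrix.toLin'_apply, hx, hj, LinearEquiv.symm_apply_apply, hg, hj]
  · intro w hw
    rw [Matrix.toLin'_apply, hx]
    obtain ⟨z, rfl⟩ := Θ.surjective w
    rw [LinearEquiv.symm_apply_apply]
    have hz1 : z.1 = 0 := by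
      apply hnd
      intro v
      have h1 := hw v
      rw [hj, hpolΘ, QuadraticMap.polar_prod] at h1
      simp only [QuadraticMap.polar_zero_left, add_zero] at h1
      rw [exto_polar_QM h2 β hsymm] at h1
      have h3 := (mul_eq_zero.1 h1).resolve_left hl
      rw [hsymm]
      exact h3
    have hgz : g z = z := by
      rw [hg, hz1, map_zero]
      exact Prod.ext hz1.symm rfl
    rw [hgz]

/-- TS-EXTO.  An isometry `φ` of an abstract nondegenerate SYMMETRIC space `M` of dimension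
`2e ≤ 2d` over a finite field of odd characteristic extends (by the identity on a complement) to an
isometry of `x₀² + Σ xᵢyᵢ` in dimension `2d+1`, up to a scalar `l` on the form. -/
theorem exists_orth_ext {F : Type*} [Field F] [Fintype F] (h2 : (2 : F) ≠ 0) (d e : ℕ)
    (hed : e ≤ d) {M : Type*} [AddCommGroup M] [Module F M] [FiniteDimensional F M]
    (β : M →ₗ[F] M →ₗ[F] F) (hsymm : ∀ u v, β u v = β v u)
    (hnd : ∀ u, (∀ v, β u v = 0) → u = 0) (hfr : finrank F M = 2 * e)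
    (φ : M →ₗ[F] M) (hφ : ∀ u v, β (φ u) (φ v) = β u v) :
    ∃ (x : GL (Unit ⊕ (Fin d ⊕ Fin d)) F) (j : M →ₗ[F] (Unit ⊕ (Fin d ⊕ Fin d) → F)) (l : F),
      x ∈ Cfsg.isometryGroup F (Cfsg.quadFormOdd d F) ∧ l ≠ 0 ∧ Function.Injective j ∧
      (∀ u v, QuadraticMap.polar (Cfsg.quadFormOdd d F) (j u) (j v) = l * β u v) ∧
      (∀ u, Matrix.toLin' (x : Matrix (Unit ⊕ (Fin d ⊕ Fin d)) (Unit ⊕ (Fin d ⊕ Fin d)) F) (j u)
        = j (φ u)) ∧
      (∀ w, (∀ u, QuadraticMap.polar (Cfsg.quadFormOdd d F) (j u) w = 0) →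
        Matrix.toLin' (x : Matrix (Unit ⊕ (Fin d ⊕ Fin d)) (Unit ⊕ (Fin d ⊕ Fin d)) F) w = w) := by
  classical
  let QN : QuadraticForm F (Unit ⊕ (Fin (d - e) ⊕ Fin (d - e)) → F) :=
    Cfsg.Agent.Lib.Helper43.oddForm (d - e) F
  let QW : QuadraticForm F (M × (Unit ⊕ (Fin (d - e) ⊕ Fin (d - e)) → F)) := (exto_QM β).prod QN
  have hdim : finrank F (M × (Unit ⊕ (Fin (d - e) ⊕ Fin (d - e)) → F))
      = finrank F (Unit ⊕ (Fin d ⊕ Fin d) → F) := by
    rw [Module.finrank_prod, hfr, Module.finrank_fintype_fun_eq_card,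
      Module.finrank_fintype_fun_eq_card]
    simp only [Fintype.card_sum, Fintype.card_unit, Fintype.card_fin]
    omega
  let Ψ : (M × (Unit ⊕ (Fin (d - e) ⊕ Fin (d - e)) → F)) ≃ₗ[F] (Unit ⊕ (Fin d ⊕ Fin d) → F) :=
    LinearEquiv.ofFinrankEq _ _ hdim
  let P : QuadraticForm F (Unit ⊕ (Fin d ⊕ Fin d) → F) := QW.comp Ψ.symm.toLinearMap
  have hPapp : ∀ w, P w = QW (Ψ.symm w) := fun w => rfl
  have hpolP : ∀ w w', QuadraticMap.polar P w w' = QuadraticMap.polar QW (Ψ.symm w) (Ψ.symm w') := by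
    intro w w'
    unfold QuadraticMap.polar
    rw [hPapp, hPapp, hPapp, map_add]
  have hQNnd := Cfsg.Agent.Lib.Helper43.OddOrth.oddForm_nondegenerate (m := d - e) (F := F) h2
  have hleft : (QuadraticMap.polarBilin P).SeparatingLeft := by
    intro w hw
    have hw' : ∀ z', QuadraticMap.polar QW (Ψ.symm w) z' = 0 := by
      intro z'
      have h1 := hw (Ψ z')
      rw [QuadraticMap.polarBilin_apply_apply, hpolP, LinearEquiv.symm_apply_apply] at h1
      exact h1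
    have h1 : (Ψ.symm w).1 = 0 := by
      apply hnd
      intro v
      have h3 := hw' (v, 0)
      rw [QuadraticMap.polar_prod] at h3
      simp only [QuadraticMap.polar_zero_right, add_zero] at h3
      rw [exto_polar_QM h2 β hsymm] at h3
      exact h3
    have h3 : (Ψ.symm w).2 = 0 := by
      apply hQNnd.1
      intro b
      have h4 := hw' (0, b)
      rw [QuadraticMap.polar_prod] at h4
      simp only [QuadraticMap.polar_zero_right, zero_add] at h4
      exact h4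
    have h5 : Ψ.symm w = 0 := Prod.ext h1 h3
    exact (LinearEquiv.map_eq_zero_iff Ψ.symm).1 h5
  have hP : (QuadraticMap.polarBilin P).Nondegenerate := by
    refine ⟨hleft, ?_⟩
    intro y hy
    apply hleft
    intro w
    have h1 := hy w
    simp only [QuadraticMap.polarBilin_apply_apply] at h1 ⊢
    rw [QuadraticMap.polar_comm]
    exact h1
  obtain ⟨k₀, l₀, hk⟩ := Cfsg.Agent.Lib.Helper37.OrthField.hcls_odd d P hP
  let Θ : (M × (Unit ⊕ (Fin (d - e) ⊕ Fin (d - e)) → F)) ≃ₗ[F] (Unit ⊕ (Fin d ⊕ Fin d) → F) :=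
    Ψ.trans (exto_glEquiv k₀⁻¹)
  have hΘapp : ∀ z, Θ z
      = ((k₀⁻¹ : GL (Unit ⊕ (Fin d ⊕ Fin d)) F) :
          Matrix (Unit ⊕ (Fin d ⊕ Fin d)) (Unit ⊕ (Fin d ⊕ Fin d)) F).mulVec (Ψ z) := fun z => rfl
  have hl₀ : (l₀ : F) ≠ 0 := l₀.ne_zero
  have hΘ : ∀ z, Cfsg.quadFormOdd d F (Θ z) = (l₀ : F)⁻¹ * ((exto_QM β).prod QN) z := by
    intro z
    have h1 := hk (Θ z)
    rw [hΘapp, Matrix.mulVec_mulVec, ← Units.val_mul, mul_inv_cancel, Units.val_one,
      Matrix.one_mulVec, hPapp, LinearEquiv.symm_apply_apply] at h1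
    rw [hΘapp]
    have h3 : (l₀ : F)⁻¹ * ((exto_QM β).prod QN) z
        = (l₀ : F)⁻¹ * ((l₀ : F) * Cfsg.quadFormOdd d F
          (((k₀⁻¹ : GL (Unit ⊕ (Fin d ⊕ Fin d)) F) :
            Matrix (Unit ⊕ (Fin d ⊕ Fin d)) (Unit ⊕ (Fin d ⊕ Fin d)) F).mulVec (Ψ z))) := by
      rw [← h1]
    rw [h3, ← mul_assoc, inv_mul_cancel₀ hl₀, one_mul]
  exact exto_of_coords h2 d β hsymm hnd QN φ hφ Θ (l₀ : F)⁻¹ (inv_ne_zero hl₀) hΘ

end Cfsg.Agent.Lib.Helper79.TsSwap
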