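import Mathlib
import Cfsg.Prelude.Def_ClassicalGeometry
import Cfsg.Prelude.Def_GeometricClasses
import Cfsg.Agent.Lib.Helper99.SympForm
import Cfsg.Agent.Lib.Helper59.TqDefs
import Cfsg.Agent.Lib.Helper83.TqBRP
import Cfsg.Agent.Lib.Helper83.TqBRM
import Cfsg.Agent.Lib.Helper43.QbarFacts

/-! # TQ-DEREVEN sub-hive (helper48; helper59's Tq hive S5973 + S5987), leaf DE-FORM -/

set_option autoImplicit false

namespace Cfsg.Agent.Lib.Helper59.Tq

open Module Polynomial
open Cfsg.Agent.Lib.Helper99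

section leaves1

variable {F : Type*} [Field F] [Fintype F]

omit [Fintype F] in
/-- transport of a nondegenerate form on `ι → F` to `Fin n → F` along an index bijection -/
theorem deform_transport {ι : Type} [Fintype ι] [DecidableEq ι] (n : ℕ) (e : ι ≃ Fin n)
    (QF : QuadraticForm F (ι → F)) (hnd : (QuadraticMap.polarBilin QF).Nondegenerate) :
    ∃ Qc : QuadraticForm F (Fin n → F),
      Nd (QuadraticMap.polarBilin Qc) ⊤ ∧ (PlusOn Qc ⊤ ↔ IsPlus (⇑QF)) := by
  classical
  have hpol : ∀ u v : Fin n → F,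
      QuadraticMap.polar (⇑(QF.comp ((LinearEquiv.funCongrLeft F F e : (Fin n → F) ≃ₗ[F] (ι → F)) :
        (Fin n → F) →ₗ[F] (ι → F)))) u v =
      QuadraticMap.polar (⇑QF) (LinearEquiv.funCongrLeft F F e u) (LinearEquiv.funCongrLeft F F e v) := by
    intro u v
    simp only [QuadraticMap.polar, QuadraticMap.comp_apply, LinearEquiv.coe_coe, map_add]
  have hcard : Fintype.card ι = n := by rw [Fintype.card_congr e, Fintype.card_fin]
  have htop : finrank F (⊤ : Submodule F (Fin n → F)) = n := by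
    rw [finrank_top, Module.finrank_fintype_fun_eq_card, Fintype.card_fin]
  refine ⟨QF.comp ((LinearEquiv.funCongrLeft F F e : (Fin n → F) ≃ₗ[F] (ι → F)) :
    (Fin n → F) →ₗ[F] (ι → F)), ?_, ?_, ?_⟩
  · intro u _ hu
    have h0 : LinearEquiv.funCongrLeft F F e u = 0 := by
      apply hnd.1
      intro y
      have := hu ((LinearEquiv.funCongrLeft F F e).symm y) Submodule.mem_top
      rw [QuadraticMap.polarBilin_apply_apply, hpol, LinearEquiv.apply_symm_apply] at this
      exact this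
    exact (LinearEquiv.map_eq_zero_iff _).mp h0
  · rintro ⟨U, -, hU, hdim⟩
    refine ⟨U.map ((LinearEquiv.funCongrLeft F F e : (Fin n → F) ≃ₗ[F] (ι → F)) :
      (Fin n → F) →ₗ[F] (ι → F)), ?_, ?_⟩
    · rintro _ ⟨u, hu, rfl⟩
      have := hU u hu
      rwa [QuadraticMap.comp_apply] at this
    · rw [LinearEquiv.finrank_map_eq, hdim, htop, hcard]
  · rintro ⟨U, hU, hdim⟩
    refine ⟨U.map (((LinearEquiv.funCongrLeft F F e).symm : (ι → F) ≃ₗ[F] (Fin n → F)) :
      (ι → F) →ₗ[F] (Fin n → F)), le_top, ?_, ?_⟩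
    · rintro _ ⟨u, hu, rfl⟩
      rw [QuadraticMap.comp_apply, LinearEquiv.coe_coe, LinearEquiv.coe_coe,
        LinearEquiv.apply_symm_apply]
      exact hU u hu
    · rw [LinearEquiv.finrank_map_eq, hdim, htop, hcard]

/-- DE-FORM: a nondegenerate quadratic form of prescribed type on `Fin (2 k) → F` -/
theorem dereven_exists_form (k : ℕ) (plus : Prop) (hk : k = 0 → plus) :
    ∃ Qc : QuadraticForm F (Fin (2 * k) → F),
      Nd (QuadraticMap.polarBilin Qc) ⊤ ∧ (PlusOn Qc ⊤ ↔ plus) := by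
  classical
  by_cases hp : plus
  · have hcard : Fintype.card (Fin k ⊕ Fin k) = 2 * k := by
      rw [Fintype.card_sum, Fintype.card_fin]; ring
    obtain ⟨Qc, hnd, hiff⟩ := deform_transport (F := F) (2 * k) (Fintype.equivFinOfCardEq hcard)
      (Cfsg.Agent.Lib.Helper8.plusForm k F) (Cfsg.Agent.Lib.Helper8.plusForm_nondegenerate k F)
    refine ⟨Qc, hnd, ?_⟩
    rw [hiff, ← Cfsg.Agent.Lib.Helper8.plusForm_coe]
    have hplus : IsPlus (Cfsg.quadFormPlus k F) := by
      rcases typeE_plus (F := F) k with ⟨-, h⟩ | ⟨h01, -⟩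
      · exact h
      · exact (zero_ne_one h01).elim
    exact ⟨fun _ => hp, fun _ => hplus⟩
  · have hk1 : 1 ≤ k := by
      rcases Nat.eq_zero_or_pos k with h | h
      · exact (hp (hk h)).elim
      · exact h
    obtain ⟨a, c, hac⟩ := Cfsg.Agent.Lib.Helper43.OrthGen.exists_aniso F
    have hcard : Fintype.card ((Fin (k - 1) ⊕ Fin (k - 1)) ⊕ Fin 2) = 2 * k := by
      rw [Fintype.card_sum, Fintype.card_sum, Fintype.card_fin, Fintype.card_fin]; omega
    obtain ⟨Qc, hnd, hiff⟩ := deform_transport (F := F) (2 * k) (Fintype.equivFinOfCardEq hcard)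
      (Cfsg.Agent.Lib.Helper8.minusForm (k - 1) F a c)
      (Cfsg.Agent.Lib.Helper43.ZeroCount.minusForm_nondeg F a c hac (k - 1))
    refine ⟨Qc, hnd, ?_⟩
    rw [hiff, ← Cfsg.Agent.Lib.Helper8.minusForm_coe]
    have hminus : ¬ IsPlus (Cfsg.quadFormMinus (k - 1) F a c) := by
      rcases typeE_minus (F := F) k hk1 a c hac with ⟨h10, -⟩ | ⟨-, h⟩
      · exact (one_ne_zero h10).elim
      · exact h
    exact ⟨fun h => (hminus h).elim, fun h => (hp h).elim⟩

end leaves1

end Cfsg.Agent.Lib.Helper59.Tq
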