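import Cfsg.Agent.Lib.Helper99.SubspaceMax
import Cfsg.Agent.Lib.Helper13.GU
import Cfsg.Agent.Lib.Helper8.WittHerm

set_option autoImplicit false

/-!
Unitary geometry over a finite field: shared infrastructure for maximality of stabilizers in `SU`.
-/

namespace Cfsg.Agent.Lib.Helper99

open Matrix

section general

variable {ι : Type} [Fintype ι] [DecidableEq ι] {F : Type*} [Field F]

/-- The element of `GL` attached to a linear equivalence (general index type). -/
noncomputable def glOfEquiv' (e : (ι → F) ≃ₗ[F] (ι → F)) : GL ι F :=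
  ⟨LinearMap.toMatrix' e.toLinearMap, LinearMap.toMatrix' e.symm.toLinearMap, by
    rw [← LinearMap.toMatrix'_comp]
    simp, by
    rw [← LinearMap.toMatrix'_comp]
    simp⟩

theorem glOfEquiv'_mulVec (e : (ι → F) ≃ₗ[F] (ι → F)) (x : ι → F) :
    ((glOfEquiv' e : GL ι F) : Matrix ι ι F) *ᵥ x = e x :=
  LinearMap.toMatrix'_mulVec _ _

theorem gl_inv_mulVec_mulVec (g : GL ι F) (x : ι → F) :
    ((g⁻¹ : GL ι F) : Matrix ι ι F) *ᵥ ((g : Matrix ι ι F) *ᵥ x) = x := by
  rw [mulVec_mulVec, ← Units.val_mul, inv_mul_cancel, Units.val_one, one_mulVec]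

theorem gl_mulVec_inv_mulVec (g : GL ι F) (x : ι → F) :
    (g : Matrix ι ι F) *ᵥ (((g⁻¹ : GL ι F) : Matrix ι ι F) *ᵥ x) = x := by
  rw [mulVec_mulVec, ← Units.val_mul, mul_inv_cancel, Units.val_one, one_mulVec]

end general

section unitary

variable {F : Type*} [Field F] [Fintype F] {q n : ℕ}

/-- Frobenius `x ↦ x ^ q` as a ring homomorphism. -/
noncomputable def frobU (hF : Fintype.card F = q ^ 2) : F →+* F := Classical.choose (Helper13.exists_powRingHom hF)

theorem frobU_apply (hF : Fintype.card F = q ^ 2) (a : F) : frobU hF a = a ^ q :=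
  Classical.choose_spec (Helper13.exists_powRingHom hF) a

theorem frobU_frobU (hF : Fintype.card F = q ^ 2) (a : F) : frobU hF (frobU hF a) = a := by
  rw [frobU_apply, frobU_apply, Helper13.pow_q_pow_q hF]

theorem q_ge_two (hF : Fintype.card F = q ^ 2) : 2 ≤ q := Helper13.two_le_q hF

theorem exists_pow_q_ne (hF : Fintype.card F = q ^ 2) : ∃ a : F, a ^ q ≠ a := by
  classical
  by_contra hcon
  push Not at hcon
  have hq := q_ge_two hF
  obtain ⟨g, hg⟩ := IsCyclic.exists_generator (α := Fˣ)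
  have hord : orderOf g = Fintype.card Fˣ := by rw [orderOf_eq_card_of_forall_mem_zpowers hg, Nat.card_eq_fintype_card]
  rw [Fintype.card_units, hF] at hord
  have h1 : g ^ (q - 1) = 1 := by
    apply Units.ext
    rw [Units.val_pow_eq_pow_val, Units.val_one]
    have h2 := hcon (g : F)
    have h3 : (g : F) ^ (q - 1) * (g : F) = (g : F) := by
      rw [← pow_succ, Nat.sub_add_cancel (by omega)]
      exact h2
    have hg0 : (g : F) ≠ 0 := g.ne_zero
    have h4 : ((g : F) ^ (q - 1) - 1) * (g : F) = 0 := by rw [sub_mul, h3, one_mul, sub_self]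
    rcases mul_eq_zero.mp h4 with h | h
    · exact sub_eq_zero.mp h
    · exact absurd h hg0
  have hdvd := orderOf_dvd_of_pow_eq_one h1
  rw [hord] at hdvd
  have hle := Nat.le_of_dvd (by omega) hdvd
  have : q ^ 2 ≥ 2 * q := by nlinarith
  omega

theorem frobU_ne_id (hF : Fintype.card F = q ^ 2) : frobU hF ≠ RingHom.id F := by
  intro h
  obtain ⟨a, ha⟩ := exists_pow_q_ne hF
  apply ha
  rw [← frobU_apply hF, h, RingHom.id_apply]

theorem frob_add (hF : Fintype.card F = q ^ 2) (a b : F) : (a + b) ^ q = a ^ q + b ^ q := by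
  rw [← frobU_apply hF, map_add, frobU_apply, frobU_apply]

theorem frob_sub (hF : Fintype.card F = q ^ 2) (a b : F) : (a - b) ^ q = a ^ q - b ^ q := by
  rw [← frobU_apply hF, map_sub, frobU_apply, frobU_apply]

theorem frob_neg (hF : Fintype.card F = q ^ 2) (a : F) : (-a) ^ q = -a ^ q := by
  rw [← frobU_apply hF, map_neg, frobU_apply]

theorem frob_inv (a : F) : (a⁻¹) ^ q = (a ^ q)⁻¹ := inv_pow a q

/-- A nonzero element of trace zero. -/
theorem exists_trace_zero (hF : Fintype.card F = q ^ 2) : ∃ τ : F, τ ≠ 0 ∧ τ + τ ^ q = 0 := by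
  obtain ⟨a, ha⟩ := exists_pow_q_ne hF
  refine ⟨a - a ^ q, fun h => ha (sub_eq_zero.mp h).symm, ?_⟩
  rw [frob_sub hF, Helper13.pow_q_pow_q hF]
  ring

theorem exists_trace_eq' (hF : Fintype.card F = q ^ 2) (r : F) (hr : r ^ q = r) : ∃ c : F, c + c ^ q = r := by
  obtain ⟨c, hc⟩ := Helper8.exists_trace_eq (frobU hF) (frobU_ne_id hF) (frobU_frobU hF) r
    (by rw [frobU_apply, hr])
  exact ⟨c, by rw [← frobU_apply hF]; exact hc⟩

theorem hermForm_zero_left (v : Fin n → F) : Cfsg.hermForm n F q 0 v = 0 := by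
  have := Helper13.hermForm_smul_left n q (0 : F) (0 : Fin n → F) v
  rw [zero_smul, zero_mul] at this
  exact this

theorem hermForm_zero_right (hF : Fintype.card F = q ^ 2) (v : Fin n → F) : Cfsg.hermForm n F q v 0 = 0 := by
  have := Helper13.hermForm_conj hF n (0 : Fin n → F) v
  rw [hermForm_zero_left, zero_pow (by have := q_ge_two hF; omega)] at this
  exact this.symm

theorem hermForm_neg_left (u v : Fin n → F) :
    Cfsg.hermForm n F q (-u) v = -Cfsg.hermForm n F q u v := by
  have := Helper13.hermForm_smul_left n q (-1 : F) u v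
  rw [neg_one_smul, neg_one_mul] at this
  exact this

theorem hermForm_sub_left (u u' v : Fin n → F) :
    Cfsg.hermForm n F q (u - u') v = Cfsg.hermForm n F q u v - Cfsg.hermForm n F q u' v := by
  rw [sub_eq_add_neg, Helper13.hermForm_add_left, hermForm_neg_left, ← sub_eq_add_neg]

theorem hermForm_neg_right (hF : Fintype.card F = q ^ 2) (u v : Fin n → F) :
    Cfsg.hermForm n F q u (-v) = -Cfsg.hermForm n F q u v := by
  have := Helper13.hermForm_smul_right n q (-1 : F) u v
  rw [neg_one_smul, frob_neg hF, one_pow, neg_one_mul] at this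
  exact this

theorem hermForm_sub_right (hF : Fintype.card F = q ^ 2) (u v v' : Fin n → F) :
    Cfsg.hermForm n F q u (v - v') = Cfsg.hermForm n F q u v - Cfsg.hermForm n F q u v' := by
  rw [sub_eq_add_neg, Helper13.hermForm_add_right hF, hermForm_neg_right hF, ← sub_eq_add_neg]

theorem hermForm_self_pow (hF : Fintype.card F = q ^ 2) (v : Fin n → F) :
    (Cfsg.hermForm n F q v v) ^ q = Cfsg.hermForm n F q v v :=
  Helper13.hermForm_conj hF n v v

theorem hermForm_eq_zero_comm (hF : Fintype.card F = q ^ 2) {u v : Fin n → F} (h : Cfsg.hermForm n F q u v = 0) :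
    Cfsg.hermForm n F q v u = 0 := by
  rw [← Helper13.hermForm_conj hF n u v, h, zero_pow (by have := q_ge_two hF; omega)]

theorem hermForm_single_right (hF : Fintype.card F = q ^ 2) (u : Fin n → F) (i : Fin n) :
    Cfsg.hermForm n F q u (Pi.single i 1) = u i := by
  have hq : q ≠ 0 := by have := q_ge_two hF; omega
  unfold Cfsg.hermForm
  rw [Finset.sum_eq_single i]
  · rw [Pi.single_eq_same, one_pow, mul_one]
  · intro j _ hj
    rw [Pi.single_eq_of_ne hj, zero_pow hq, mul_zero]
  · intro h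
    exact absurd (Finset.mem_univ i) h

theorem hermForm_nd_left (hF : Fintype.card F = q ^ 2) {u : Fin n → F} (h : ∀ v, Cfsg.hermForm n F q u v = 0) : u = 0 := by
  funext i
  rw [← hermForm_single_right hF u i, h]
  rfl

theorem hermForm_nd_right (hF : Fintype.card F = q ^ 2) {v : Fin n → F} (h : ∀ u, Cfsg.hermForm n F q u v = 0) : v = 0 :=
  hermForm_nd_left hF (fun u => hermForm_eq_zero_comm hF (h u))

/-- The hermitian form as a sesquilinear map: `hermB u v = hermForm v u`. -/
noncomputable def hermB (hF : Fintype.card F = q ^ 2) (n : ℕ) : (Fin n → F) →ₛₗ[frobU hF] (Fin n → F) →ₗ[F] F :=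
  LinearMap.mk₂'ₛₗ (frobU hF) (RingHom.id F) (fun u v => Cfsg.hermForm n F q v u)
    (fun u u' v => Helper13.hermForm_add_right hF n v u u')
    (fun c u v => by rw [Helper13.hermForm_smul_right, frobU_apply, smul_eq_mul])
    (fun u v v' => Helper13.hermForm_add_left n q v v' u)
    (fun c u v => by rw [Helper13.hermForm_smul_left, RingHom.id_apply, smul_eq_mul])

theorem hermB_apply (hF : Fintype.card F = q ^ 2) (u v : Fin n → F) : hermB hF n u v = Cfsg.hermForm n F q v u := rfl

theorem hermB_isSymm (hF : Fintype.card F = q ^ 2) : (hermB hF n).IsSymm :=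
  ⟨fun x y => by rw [hermB_apply, hermB_apply, frobU_apply, Helper13.hermForm_conj hF]⟩

theorem hermB_nondegenerate (hF : Fintype.card F = q ^ 2) : (hermB hF n).Nondegenerate := by
  constructor
  · intro x hx
    exact hermForm_nd_right hF (fun u => hx u)
  · intro y hy
    exact hermForm_nd_left hF (fun u => hy u)

/-- The orthogonal complement for the hermitian form. -/
def hperp (q : ℕ) (W : Submodule F (Fin n → F)) : Submodule F (Fin n → F) where
  carrier := {x | ∀ w ∈ W, Cfsg.hermForm n F q x w = 0}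
  add_mem' := by
    intro a b ha hb w hw
    rw [Helper13.hermForm_add_left, ha w hw, hb w hw, add_zero]
  zero_mem' := by
    intro w _
    exact hermForm_zero_left w
  smul_mem' := by
    intro c x hx w hw
    rw [Helper13.hermForm_smul_left, hx w hw, mul_zero]

theorem mem_hperp (W : Submodule F (Fin n → F)) (x : Fin n → F) :
    x ∈ hperp q W ↔ ∀ w ∈ W, Cfsg.hermForm n F q x w = 0 := Iff.rfl

theorem mem_hperp' (hF : Fintype.card F = q ^ 2) (W : Submodule F (Fin n → F)) (x : Fin n → F) :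
    x ∈ hperp q W ↔ ∀ w ∈ W, Cfsg.hermForm n F q w x = 0 := by
  rw [mem_hperp]
  constructor
  · intro h w hw
    exact hermForm_eq_zero_comm hF (h w hw)
  · intro h w hw
    exact hermForm_eq_zero_comm hF (h w hw)

/-- If `x ∉ W` there is a vector of `W^⊥` not orthogonal to `x`. -/
theorem exists_hperp_not_orth (hF : Fintype.card F = q ^ 2) (W : Submodule F (Fin n → F)) (x : Fin n → F) (hx : x ∉ W) :
    ∃ u ∈ hperp q W, Cfsg.hermForm n F q x u ≠ 0 := by
  obtain ⟨u, hu1, hu2⟩ := Helper8.herm_exists_orth_of_notMem (frobU hF) (frobU_frobU hF)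
    (hermB hF n) (hermB_nondegenerate hF) W x hx
  refine ⟨u, ?_, ?_⟩
  · rw [mem_hperp' hF]
    intro w hw
    exact hu1 w hw
  · exact hu2

theorem hperp_hperp_le (hF : Fintype.card F = q ^ 2) (W : Submodule F (Fin n → F)) : hperp q (hperp q W) ≤ W := by
  intro x hx
  by_contra hxW
  obtain ⟨u, hu, hne⟩ := exists_hperp_not_orth hF W x hxW
  exact hne ((mem_hperp _ x).mp hx u hu)

theorem le_hperp_hperp (hF : Fintype.card F = q ^ 2) (W : Submodule F (Fin n → F)) : W ≤ hperp q (hperp q W) := by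
  intro x hx
  rw [mem_hperp]
  intro u hu
  exact hermForm_eq_zero_comm hF ((mem_hperp W u).mp hu x hx)

theorem hperp_hperp (hF : Fintype.card F = q ^ 2) (W : Submodule F (Fin n → F)) : hperp q (hperp q W) = W :=
  le_antisymm (hperp_hperp_le hF W) (le_hperp_hperp hF W)

/-- Make a vector isotropic by adding a multiple of an isotropic vector not orthogonal to it. -/
theorem exists_isotropic_add (hF : Fintype.card F = q ^ 2) (x y : Fin n → F) (hy : Cfsg.hermForm n F q y y = 0)
    (hxy : Cfsg.hermForm n F q x y ≠ 0) :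
    ∃ μ : F, Cfsg.hermForm n F q (x + μ • y) (x + μ • y) = 0 := by
  obtain ⟨ν, hν⟩ := exists_trace_eq' hF (-Cfsg.hermForm n F q x x)
    (by rw [frob_neg hF, hermForm_self_pow hF])
  refine ⟨(ν / Cfsg.hermForm n F q x y) ^ q, ?_⟩
  rw [Helper13.hermForm_add_left, Helper13.hermForm_add_right hF, Helper13.hermForm_add_right hF,
    Helper13.hermForm_smul_left, Helper13.hermForm_smul_left, Helper13.hermForm_smul_right,
    Helper13.hermForm_smul_right, hy, Helper13.pow_q_pow_q hF, mul_zero, mul_zero, add_zero,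
    div_mul_cancel₀ _ hxy]
  have h1 : (ν / Cfsg.hermForm n F q x y) ^ q * Cfsg.hermForm n F q y x = ν ^ q := by
    rw [div_pow, Helper13.hermForm_conj hF, div_mul_cancel₀]
    exact fun h => hxy (hermForm_eq_zero_comm hF h)
  rw [h1]
  have : Cfsg.hermForm n F q x x + ν + ν ^ q = Cfsg.hermForm n F q x x + (ν + ν ^ q) := by ring
  rw [this, hν]
  ring

/-- The unitary transvection `x ↦ x + c h(x,u) u`, as an element of `GL` (junk if not invertible). -/
noncomputable def utv (q : ℕ) (u : Fin n → F) (c : F) : GL (Fin n) F :=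
  rk1GL u (fun j => c * (u j) ^ q)

theorem utv_dot (u : Fin n → F) (c : F) (x : Fin n → F) :
    (fun j => c * (u j) ^ q) ⬝ᵥ x = c * Cfsg.hermForm n F q x u := by
  unfold Cfsg.hermForm dotProduct
  rw [Finset.mul_sum]
  apply Finset.sum_congr rfl
  intro j _
  ring

theorem utv_mulVec (u : Fin n → F) (hu : Cfsg.hermForm n F q u u = 0) (c : F) (x : Fin n → F) :
    ((utv q u c : GL (Fin n) F) : Matrix (Fin n) (Fin n) F) *ᵥ x =
      x + (c * Cfsg.hermForm n F q x u) • u := by
  unfold utv
  rw [coe_rk1GL, rk1_mulVec, utv_dot]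
  rw [utv_dot, hu, mul_zero, add_zero]
  exact one_ne_zero

theorem utv_mem_SL (u : Fin n → F) (hu : Cfsg.hermForm n F q u u = 0) (c : F) :
    utv q u c ∈ Cfsg.Geo.specialLinear (Fin n) F := by
  rw [mem_specialLinear_iff]
  unfold utv
  rw [coe_rk1GL, det_rk1, utv_dot, hu, mul_zero, add_zero]
  rw [utv_dot, hu, mul_zero, add_zero]
  exact one_ne_zero

theorem utv_mem_GU (hF : Fintype.card F = q ^ 2) (u : Fin n → F) (hu : Cfsg.hermForm n F q u u = 0) (c : F)
    (hc : c + c ^ q = 0) : utv q u c ∈ Cfsg.GU n F q := by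
  rw [Helper13.mem_GU_iff]
  intro x y
  rw [utv_mulVec u hu, utv_mulVec u hu]
  rw [Helper13.hermForm_add_left, Helper13.hermForm_add_right hF, Helper13.hermForm_add_right hF,
    Helper13.hermForm_smul_left, Helper13.hermForm_smul_left, Helper13.hermForm_smul_right,
    Helper13.hermForm_smul_right, hu, mul_pow, Helper13.hermForm_conj hF]
  have hc' : c ^ q = -c := by
    have := eq_neg_of_add_eq_zero_right hc
    exact this
  rw [hc']
  ring

/-- The group `SU` as a subgroup of `GL`. -/
def suGL (n q : ℕ) : Subgroup (GL (Fin n) F) := Cfsg.GU n F q ⊓ Cfsg.Geo.specialLinear (Fin n) F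

theorem utv_mem_suGL (hF : Fintype.card F = q ^ 2) (u : Fin n → F) (hu : Cfsg.hermForm n F q u u = 0) (c : F)
    (hc : c + c ^ q = 0) : utv q u c ∈ suGL (F := F) n q :=
  ⟨utv_mem_GU hF u hu c hc, utv_mem_SL u hu c⟩

theorem GU_preserves {g : GL (Fin n) F} (hg : g ∈ Cfsg.GU n F q) (x y : Fin n → F) :
    Cfsg.hermForm n F q ((g : Matrix (Fin n) (Fin n) F) *ᵥ x)
      ((g : Matrix (Fin n) (Fin n) F) *ᵥ y) = Cfsg.hermForm n F q x y :=
  (Helper13.mem_GU_iff n q g).mp hg x y

theorem GU_preserves_inv {g : GL (Fin n) F} (hg : g ∈ Cfsg.GU n F q) (x y : Fin n → F) :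
    Cfsg.hermForm n F q (((g⁻¹ : GL (Fin n) F) : Matrix (Fin n) (Fin n) F) *ᵥ x) y =
      Cfsg.hermForm n F q x ((g : Matrix (Fin n) (Fin n) F) *ᵥ y) := by
  have := GU_preserves hg (((g⁻¹ : GL (Fin n) F) : Matrix (Fin n) (Fin n) F) *ᵥ x) y
  rw [gl_mulVec_inv_mulVec] at this
  exact this.symm

/-- Conjugating a unitary transvection by an isometry. -/
theorem conj_utv (g : GL (Fin n) F) (hg : g ∈ Cfsg.GU n F q) (u : Fin n → F)
    (hu : Cfsg.hermForm n F q u u = 0) (c : F) :
    g * utv q u c * g⁻¹ = utv q ((g : Matrix (Fin n) (Fin n) F) *ᵥ u) c := by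
  have hu' : Cfsg.hermForm n F q ((g : Matrix (Fin n) (Fin n) F) *ᵥ u)
      ((g : Matrix (Fin n) (Fin n) F) *ᵥ u) = 0 := by rw [GU_preserves hg, hu]
  apply Units.ext
  rw [Matrix.ext_iff_mulVec]
  intro x
  rw [Units.val_mul, Units.val_mul, ← mulVec_mulVec, ← mulVec_mulVec, utv_mulVec u hu,
    utv_mulVec _ hu', mulVec_add, mulVec_smul, gl_mulVec_inv_mulVec]
  have h1 := GU_preserves hg (((g⁻¹ : GL (Fin n) F) : Matrix (Fin n) (Fin n) F) *ᵥ x) u
  rw [gl_mulVec_inv_mulVec] at h1
  rw [h1]

theorem utv_smul (u : Fin n → F) (hu : Cfsg.hermForm n F q u u = 0) (c l : F) :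
    utv q (l • u) c = utv q u (c * l ^ (q + 1)) := by
  have hu' : Cfsg.hermForm n F q (l • u) (l • u) = 0 := by
    rw [Helper13.hermForm_smul_left, Helper13.hermForm_smul_right, hu, mul_zero, mul_zero]
  apply Units.ext
  rw [Matrix.ext_iff_mulVec]
  intro x
  rw [utv_mulVec u hu, utv_mulVec _ hu', Helper13.hermForm_smul_right, smul_smul]
  congr 2
  ring

theorem utv_mem_stabilizer_of_mem (W : Submodule F (Fin n → F)) (u : Fin n → F)
    (hu : Cfsg.hermForm n F q u u = 0) (c : F) (huW : u ∈ W) :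
    utv q u c ∈ Cfsg.Geo.subspaceStabilizer W := by
  apply mem_subspaceStabilizer_of_forall
  intro x hx
  rw [utv_mulVec u hu]
  exact W.add_mem hx (W.smul_mem _ huW)

theorem utv_mem_stabilizer_of_perp (W : Submodule F (Fin n → F)) (u : Fin n → F)
    (hu : Cfsg.hermForm n F q u u = 0) (c : F) (huW : ∀ w ∈ W, Cfsg.hermForm n F q w u = 0) :
    utv q u c ∈ Cfsg.Geo.subspaceStabilizer W := by
  apply mem_subspaceStabilizer_of_forall
  intro x hx
  rw [utv_mulVec u hu, huW x hx, mul_zero, zero_smul, add_zero]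
  exact hx

end unitary

end Cfsg.Agent.Lib.Helper99
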