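import Cfsg.Agent.Lib.Helper75.C2gGen

/-!
# S2405 rank-2 sub-hive (helper67), leaf C2G-G2B : `g2_finish_ne3`

`G₂(F)`, characteristic `≠ 3`: from the six short root groups and the Coxeter lift in `K0` we get the long root group
`X_0` by the commutator formula (`commTerms 2 3 = [(0, 3, 1, 1)]`, engine `PX_commMulti` with `c = 3`), then all long
root groups along the Coxeter orbit `0 → 5 → 10 → 11 → 6 → 1`, and `group_le`.
-/

set_option autoImplicit false

namespace Cfsg.Agent.Lib.Helper67.C2g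

open Cfsg Cfsg.Lie Cfsg.Agent.Lib.Helper36 Cfsg.Agent.Lib.Helper40.C2g

/-- C2G-G2B, core (any proof `hD` of the membership of `chevG2` in the list of types) -/
theorem c2gg2b_core (hD : chevG2 ∈ [chevG2, chevB2, chevD4, chevF4, chevE6, chevE7, chevE8])
    (F : Type*) [Field F] (h3 : (3 : F) ≠ 0) (K0 : Subgroup (GL chevG2.Idx F))
    (hn : coxN chevG2 hD F ∈ K0) (hs : ∀ s ∈ [2, 3, 4, 7, 8, 9], PX chevG2 hD F K0 s) :
    chevG2.group F ≤ K0 := by
  have hnr : chevG2.nroots = 12 := by decide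
  have h2 : PX chevG2 hD F K0 2 := hs 2 (by simp)
  have h3' : PX chevG2 hD F K0 3 := hs 3 (by simp)
  -- the long root 0 from the commutator of the short roots 2 and 3
  have h0 : PX chevG2 hD F K0 0 := by
    refine PX_commMulti chevG2 hD F K0 2 3 (by rw [hnr]; norm_num) (by rw [hnr]; norm_num)
      (by decide) (by decide) h2 h3' [] [] 0 3 1 1 (by decide) (by simp) (by simp) ?_ (Or.inl rfl)
    exact_mod_cast h3
  -- the Coxeter orbit of the long roots
  have c0 : coxRoot chevG2 0 = 5 := by decide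
  have c5 : coxRoot chevG2 5 = 10 := by decide
  have c10 : coxRoot chevG2 10 = 11 := by decide
  have c11 : coxRoot chevG2 11 = 6 := by decide
  have c6 : coxRoot chevG2 6 = 1 := by decide
  have h5 : PX chevG2 hD F K0 5 := by
    have := PX_cox chevG2 hD F K0 hn 0 (by rw [hnr]; norm_num) h0
    rwa [c0] at this
  have h10 : PX chevG2 hD F K0 10 := by
    have := PX_cox chevG2 hD F K0 hn 5 (by rw [hnr]; norm_num) h5
    rwa [c5] at this
  have h11 : PX chevG2 hD F K0 11 := by
    have := PX_cox chevG2 hD F K0 hn 10 (by rw [hnr]; norm_num) h10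
    rwa [c10] at this
  have h6 : PX chevG2 hD F K0 6 := by
    have := PX_cox chevG2 hD F K0 hn 11 (by rw [hnr]; norm_num) h11
    rwa [c11] at this
  have h1 : PX chevG2 hD F K0 1 := by
    have := PX_cox chevG2 hD F K0 hn 6 (by rw [hnr]; norm_num) h6
    rwa [c6] at this
  apply group_le chevG2 hD F K0
  intro r hr t
  rw [hnr] at hr
  interval_cases r
  · exact h0 t
  · exact h1 t
  · exact h2 t
  · exact h3' t
  · exact hs 4 (by simp) t
  · exact h5 t
  · exact h6 t
  · exact hs 7 (by simp) t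
  · exact hs 8 (by simp) t
  · exact hs 9 (by simp) t
  · exact h10 t
  · exact h11 t

/-- C2G-G2B -/
theorem g2_finish_ne3 (F : Type*) [Field F] (h3 : (3 : F) ≠ 0) (K0 : Subgroup (GL chevG2.Idx F))
    (hn : coxN chevG2 hG2 F ∈ K0) (hs : ∀ s ∈ [2, 3, 4, 7, 8, 9], PX chevG2 hG2 F K0 s) :
    chevG2.group F ≤ K0 :=
  c2gg2b_core hG2 F h3 K0 hn hs

end Cfsg.Agent.Lib.Helper67.C2g
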