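import Mathlib
import Cfsg.Agent.Lib.Helper67.OgDefs

/-!
# Og hive (S2413 / S2414 / S2415, helper67), leaf OG-COMM:
commutation of Levi elements with isometries of disjoint support.
-/

set_option autoImplicit false
set_option linter.unusedSectionVars false
set_option linter.unusedVariables false

namespace Cfsg.Agent.Lib.Helper67.Og

open Matrix Module QuadraticMap
open Cfsg.Agent.Lib.Helper37 Cfsg.Agent.Lib.Helper8

section comm

variable {ι : Type} [Fintype ι] [DecidableEq ι] {F : Type*} [Field F]
variable (Q : QuadraticForm F (ι → F))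
variable {k : ℕ} {e f : Fin k → ι → F}
variable {L : Matrix.SpecialLinearGroup (Fin k) F →* ↥(Cfsg.isometryGroup F ⇑Q)}

theorem comm_act_zero (g : ↥(Cfsg.isometryGroup F ⇑Q)) : act Q g 0 = 0 := Matrix.mulVec_zero _

theorem comm_act_sum {κ : Type*} (s : Finset κ) (g : ↥(Cfsg.isometryGroup F ⇑Q))
    (x : κ → ι → F) : act Q g (∑ i ∈ s, x i) = ∑ i ∈ s, act Q g (x i) := by
  classical
  induction s using Finset.induction_on with
  | empty => simpa using comm_act_zero Q g
  | insert a s ha ih => rw [Finset.sum_insert ha, Finset.sum_insert ha, act_add, ih]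

theorem comm_decomp (x : ι → F) :
    x = ∑ i, (polar ⇑Q (f i) x • e i + polar ⇑Q (e i) x • f i) + Wpart Q e f x := by
  unfold Wpart
  abel

theorem comm_wpart_inW (h : HypFam Q k e f) (x : ι → F) : InW Q e f (Wpart Q e f x) := by
  intro j
  have hpol : ∀ a b : ι → F, polar ⇑Q a b = QuadraticMap.polarBilin Q a b := fun _ _ => rfl
  constructor
  · unfold Wpart
    rw [hpol, map_sub, map_sum, ← hpol]
    have : ∀ i, QuadraticMap.polarBilin Q (e j) (polar ⇑Q (f i) x • e i + polar ⇑Q (e i) x • f i)
        = if j = i then polar ⇑Q (e i) x else 0 := by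
      intro i
      rw [map_add, map_smul, map_smul, ← hpol, ← hpol, h.ee, h.ef]
      split_ifs <;> simp
    simp only [this, Finset.sum_ite_eq, Finset.mem_univ, if_true, sub_self]
  · unfold Wpart
    rw [hpol, map_sub, map_sum, ← hpol]
    have : ∀ i, QuadraticMap.polarBilin Q (f j) (polar ⇑Q (f i) x • e i + polar ⇑Q (e i) x • f i)
        = if i = j then polar ⇑Q (f i) x else 0 := by
      intro i
      rw [map_add, map_smul, map_smul, ← hpol, ← hpol, h.ff, polar_comm ⇑Q (f j) (e i), h.ef]
      split_ifs <;> simp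
    simp only [this, Finset.sum_ite_eq', Finset.mem_univ, if_true, sub_self]

/-- the action of an isometry in terms of the decomposition along the family -/
theorem comm_act_decomp (g : ↥(Cfsg.isometryGroup F ⇑Q)) (x : ι → F) :
    act Q g x = ∑ i, (polar ⇑Q (f i) x • act Q g (e i) + polar ⇑Q (e i) x • act Q g (f i))
      + act Q g (Wpart Q e f x) := by
  conv_lhs => rw [comm_decomp Q (e := e) (f := f) x]
  rw [act_add, comm_act_sum]
  congr 1
  apply Finset.sum_congr rfl
  intro i _
  rw [act_add, act_smul, act_smul]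

/-- two isometries agreeing on the `e i`, the `f i` and on `W` are equal -/
theorem comm_iso_ext (h : HypFam Q k e f) (g g' : ↥(Cfsg.isometryGroup F ⇑Q))
    (he : ∀ i, act Q g (e i) = act Q g' (e i)) (hf : ∀ i, act Q g (f i) = act Q g' (f i))
    (hw : ∀ w, InW Q e f w → act Q g w = act Q g' w) : g = g' := by
  apply reflElt_ext
  intro x
  rw [comm_act_decomp Q (e := e) (f := f) g x, comm_act_decomp Q (e := e) (f := f) g' x,
    hw _ (comm_wpart_inW Q h x)]
  congr 1
  apply Finset.sum_congr rfl
  intro i _
  rw [he, hf]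

/-- an isometry fixing all `e i`, `f i` commutes with the whole Levi image -/
theorem levi_commute_W (D : LeviData Q k e f L) (g : ↥(Cfsg.isometryGroup F ⇑Q))
    (hge : ∀ i, act Q g (e i) = e i) (hgf : ∀ i, act Q g (f i) = f i)
    (A : Matrix.SpecialLinearGroup (Fin k) F) : Commute g (L A) := by
  show g * L A = L A * g
  apply comm_iso_ext Q D.fam
  · intro i
    rw [act_mul, act_mul, hge, D.act_e, comm_act_sum]
    apply Finset.sum_congr rfl
    intro j _
    rw [act_smul, hge]
  · intro i
    rw [act_mul, act_mul, hgf, D.act_f, comm_act_sum]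
    apply Finset.sum_congr rfl
    intro j _
    rw [act_smul, hgf]
  · intro w hw
    rw [act_mul, act_mul, D.act_w A w hw]
    have hgw : InW Q e f (act Q g w) := by
      intro i
      constructor
      · have := polar_act Q g (e i) w
        rw [hge] at this
        rw [this]; exact (hw i).1
      · have := polar_act Q g (f i) w
        rw [hgf] at this
        rw [this]; exact (hw i).2
    rw [D.act_w A _ hgw]

/-- the inverse of a matrix supported on the indices `< 2` has the same support -/
theorem comm_inv_supp (b : Matrix.SpecialLinearGroup (Fin k) F)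
    (hb : ∀ i j : Fin k, (2 ≤ i.val ∨ 2 ≤ j.val) →
      (b : Matrix (Fin k) (Fin k) F) i j = if i = j then 1 else 0)
    (i j : Fin k) (hij : 2 ≤ i.val ∨ 2 ≤ j.val) :
    ((b⁻¹ : Matrix.SpecialLinearGroup (Fin k) F) : Matrix (Fin k) (Fin k) F) i j
      = if i = j then 1 else 0 := by
  have h1 : (b : Matrix (Fin k) (Fin k) F) *
      ((b⁻¹ : Matrix.SpecialLinearGroup (Fin k) F) : Matrix (Fin k) (Fin k) F) = 1 := by
    rw [← Matrix.SpecialLinearGroup.coe_mul, mul_inv_cancel, Matrix.SpecialLinearGroup.coe_one]
  have h2 : ((b⁻¹ : Matrix.SpecialLinearGroup (Fin k) F) : Matrix (Fin k) (Fin k) F) *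
      (b : Matrix (Fin k) (Fin k) F) = 1 := by
    rw [← Matrix.SpecialLinearGroup.coe_mul, inv_mul_cancel, Matrix.SpecialLinearGroup.coe_one]
  rcases hij with hi | hj
  · have := congrFun (congrFun h1 i) j
    rw [Matrix.mul_apply, Matrix.one_apply] at this
    rw [← this]
    have hrow : ∀ l, (b : Matrix (Fin k) (Fin k) F) i l = if i = l then 1 else 0 :=
      fun l => hb i l (Or.inl hi)
    simp only [hrow, ite_mul, one_mul, zero_mul, Finset.sum_ite_eq, Finset.mem_univ, if_true]
  · have := congrFun (congrFun h2 i) j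
    rw [Matrix.mul_apply, Matrix.one_apply] at this
    rw [← this]
    have hcol : ∀ l, (b : Matrix (Fin k) (Fin k) F) l j = if l = j then 1 else 0 :=
      fun l => hb l j (Or.inr hj)
    simp only [hcol, mul_ite, mul_one, mul_zero, Finset.sum_ite_eq', Finset.mem_univ, if_true]

/-- `L b` fixes `e i` for `2 ≤ i` -/
theorem comm_levi_e (D : LeviData Q k e f L) (b : Matrix.SpecialLinearGroup (Fin k) F)
    (hb : ∀ i j : Fin k, (2 ≤ i.val ∨ 2 ≤ j.val) →
      (b : Matrix (Fin k) (Fin k) F) i j = if i = j then 1 else 0)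
    (i : Fin k) (hi : 2 ≤ i.val) : act Q (L b) (e i) = e i := by
  rw [D.act_e]
  have : ∀ j, (b : Matrix (Fin k) (Fin k) F) j i • e j = if j = i then e j else 0 := by
    intro j
    rw [hb j i (Or.inr hi)]
    split_ifs <;> simp
  simp only [this, Finset.sum_ite_eq', Finset.mem_univ, if_true]

/-- `L b` fixes `f i` for `2 ≤ i` -/
theorem comm_levi_f (D : LeviData Q k e f L) (b : Matrix.SpecialLinearGroup (Fin k) F)
    (hb : ∀ i j : Fin k, (2 ≤ i.val ∨ 2 ≤ j.val) →
      (b : Matrix (Fin k) (Fin k) F) i j = if i = j then 1 else 0)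
    (i : Fin k) (hi : 2 ≤ i.val) : act Q (L b) (f i) = f i := by
  rw [D.act_f]
  have : ∀ j, ((b⁻¹ : Matrix.SpecialLinearGroup (Fin k) F) : Matrix (Fin k) (Fin k) F) i j • f j
      = if i = j then f j else 0 := by
    intro j
    rw [comm_inv_supp b hb i j (Or.inl hi)]
    split_ifs <;> simp
  simp only [this, Finset.sum_ite_eq, Finset.mem_univ, if_true]

/-- `L b` fixes every vector orthogonal to `e j`, `f j`, `j < 2` -/
theorem comm_levi_fix (D : LeviData Q k e f L) (b : Matrix.SpecialLinearGroup (Fin k) F)
    (hb : ∀ i j : Fin k, (2 ≤ i.val ∨ 2 ≤ j.val) →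
      (b : Matrix (Fin k) (Fin k) F) i j = if i = j then 1 else 0)
    (y : ι → F)
    (hy : ∀ j : Fin k, j.val < 2 → polar ⇑Q (e j) y = 0 ∧ polar ⇑Q (f j) y = 0) :
    act Q (L b) y = y := by
  rw [comm_act_decomp Q (e := e) (f := f) (L b) y, D.act_w b _ (comm_wpart_inW Q D.fam y)]
  conv_rhs => rw [comm_decomp Q (e := e) (f := f) y]
  congr 1
  apply Finset.sum_congr rfl
  intro i _
  by_cases hi : i.val < 2
  · rw [(hy i hi).1, (hy i hi).2]
    simp
  · rw [comm_levi_e Q D b hb i (by omega), comm_levi_f Q D b hb i (by omega)]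

/-- `L b`, `b` supported on the indices `< 2`, commutes with an isometry fixing
`e i, f i` for `i < 2` -/
theorem levi_commute (D : LeviData Q k e f L) (b : Matrix.SpecialLinearGroup (Fin k) F)
    (hb : ∀ i j : Fin k, (2 ≤ i.val ∨ 2 ≤ j.val) →
      (b : Matrix (Fin k) (Fin k) F) i j = if i = j then 1 else 0)
    (g : ↥(Cfsg.isometryGroup F ⇑Q))
    (hge : ∀ i : Fin k, i.val < 2 → act Q g (e i) = e i)
    (hgf : ∀ i : Fin k, i.val < 2 → act Q g (f i) = f i) : Commute (L b) g := by
  show L b * g = g * L b
  -- `g` preserves orthogonality to the first two pairs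
  have hpres : ∀ y : ι → F,
      (∀ j : Fin k, j.val < 2 → polar ⇑Q (e j) y = 0 ∧ polar ⇑Q (f j) y = 0) →
      ∀ j : Fin k, j.val < 2 → polar ⇑Q (e j) (act Q g y) = 0 ∧ polar ⇑Q (f j) (act Q g y) = 0 := by
    intro y hy j hj
    constructor
    · have := polar_act Q g (e j) y
      rw [hge j hj] at this
      rw [this]; exact (hy j hj).1
    · have := polar_act Q g (f j) y
      rw [hgf j hj] at this
      rw [this]; exact (hy j hj).2
  apply comm_iso_ext Q D.fam
  · intro i
    rw [act_mul, act_mul]
    by_cases hi : i.val < 2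
    · rw [hge i hi, D.act_e, comm_act_sum]
      apply Finset.sum_congr rfl
      intro j _
      rw [act_smul]
      by_cases hj : j.val < 2
      · rw [hge j hj]
      · have hji : j ≠ i := fun h => hj (h ▸ hi)
        rw [hb j i (Or.inl (by omega)), if_neg hji, zero_smul, zero_smul]
    · rw [comm_levi_e Q D b hb i (by omega)]
      apply comm_levi_fix Q D b hb
      apply hpres
      intro j hj
      have hij : i ≠ j := fun h => hi (h ▸ hj)
      constructor
      · exact D.fam.ee j i
      · rw [polar_comm, D.fam.ef, if_neg hij]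
  · intro i
    rw [act_mul, act_mul]
    by_cases hi : i.val < 2
    · rw [hgf i hi, D.act_f, comm_act_sum]
      apply Finset.sum_congr rfl
      intro j _
      rw [act_smul]
      by_cases hj : j.val < 2
      · rw [hgf j hj]
      · have hij : i ≠ j := fun h => hj (h ▸ hi)
        rw [comm_inv_supp b hb i j (Or.inr (by omega)), if_neg hij, zero_smul, zero_smul]
    · rw [comm_levi_f Q D b hb i (by omega)]
      apply comm_levi_fix Q D b hb
      apply hpres
      intro j hj
      have hji : j ≠ i := fun h => hi (h ▸ hj)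
      constructor
      · rw [D.fam.ef, if_neg hji]
      · exact D.fam.ff j i
  · intro w hw
    rw [act_mul, act_mul, D.act_w b w hw]
    apply comm_levi_fix Q D b hb
    apply hpres
    intro j _
    exact hw j

end comm

end Cfsg.Agent.Lib.Helper67.Og
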