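import Mathlib
import Cfsg.Agent.Lib.Helper83.FpDefs

/-!
# Fp hive (S2276), leaf FP-B3c : `b3c : B3cStmt`

`m = p ^ a = μ * l`, `l = p ^ i`, `μ ≥ 2` (so `μ ≥ 3` is a power of `p`).  With `r = μ - 1` the
permutation `d` is `x ↦ x - 1` on `[0, l)` (cyclically) and `x ↦ l + ((x - l + r) mod (m - l))` on
`[l, m)`: all cycles have length `l`.  `c * d` fixes exactly the points `1, …, l - 1`,
`z₁ = [c, d]` is `(0 l)(l-1 l+r)`, `z₂ = c z₁ c⁻¹` is `(1 l+1)(l l+r+1)`: the supports meet in `l`.
-/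

set_option autoImplicit false

namespace Cfsg.Agent.Lib.Helper83.Fp

open Equiv

/-- the underlying function of `d` -/
def fpb3c_df (m l r x : ℕ) : ℕ :=
  if x < l then (if x = 0 then l - 1 else x - 1)
  else (if x + r < m then x + r else x + r - (m - l))

/-- the underlying function of `d⁻¹` -/
def fpb3c_di (m l r x : ℕ) : ℕ :=
  if x < l then (if x + 1 = l then 0 else x + 1)
  else (if l + r ≤ x then x - r else x + (m - l) - r)

theorem fpb3c_df_lt (m l r x : ℕ) (h0 : 0 < l) (hlr : l + r ≤ m) (hx : x < m) :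
    fpb3c_df m l r x < m := by
  unfold fpb3c_df
  split_ifs <;> omega

theorem fpb3c_di_lt (m l r x : ℕ) (h0 : 0 < l) (hlr : l + r ≤ m) (hx : x < m) :
    fpb3c_di m l r x < m := by
  unfold fpb3c_di
  split_ifs <;> omega

theorem fpb3c_di_df (m l r x : ℕ) (h0 : 0 < l) (hlr : l + r ≤ m) (hx : x < m) :
    fpb3c_di m l r (fpb3c_df m l r x) = x := by
  unfold fpb3c_di fpb3c_df
  split_ifs <;> omega

theorem fpb3c_df_di (m l r x : ℕ) (h0 : 0 < l) (hlr : l + r ≤ m) (hx : x < m) :
    fpb3c_df m l r (fpb3c_di m l r x) = x := by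
  unfold fpb3c_di fpb3c_df
  split_ifs <;> first | omega | contradiction

/-- the permutation `d` -/
def fpb3c_d (m l r : ℕ) (h0 : 0 < l) (hlr : l + r ≤ m) : Perm (Fin m) where
  toFun x := ⟨fpb3c_df m l r x.val, fpb3c_df_lt m l r x.val h0 hlr x.isLt⟩
  invFun x := ⟨fpb3c_di m l r x.val, fpb3c_di_lt m l r x.val h0 hlr x.isLt⟩
  left_inv x := Fin.ext (fpb3c_di_df m l r x.val h0 hlr x.isLt)
  right_inv x := Fin.ext (fpb3c_df_di m l r x.val h0 hlr x.isLt)

theorem fpb3c_d_val (m l r : ℕ) (h0 : 0 < l) (hlr : l + r ≤ m) (x : Fin m) :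
    ((fpb3c_d m l r h0 hlr) x).val = fpb3c_df m l r x.val := rfl

theorem fpb3c_dinv_val (m l r : ℕ) (h0 : 0 < l) (hlr : l + r ≤ m) (x : Fin m) :
    ((fpb3c_d m l r h0 hlr)⁻¹ x).val = fpb3c_di m l r x.val := rfl

theorem fpb3c_rot_val (m : ℕ) (x : Fin m) :
    (finRotate m x).val = if x.val + 1 = m then 0 else x.val + 1 := by
  cases m with
  | zero => exact x.elim0
  | succ n =>
    rw [coe_finRotate]
    by_cases h : x = Fin.last n
    · subst h
      simp
    · have h' : x.val ≠ n := fun e => h (Fin.ext e)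
      rw [if_neg h, if_neg (by omega)]

theorem fpb3c_rotinv_val (m : ℕ) (x : Fin m) :
    ((finRotate m)⁻¹ x).val = if x.val = 0 then m - 1 else x.val - 1 := by
  have h1 : (finRotate m ((finRotate m)⁻¹ x)).val = x.val :=
    congrArg Fin.val ((finRotate m).apply_symm_apply x)
  rw [fpb3c_rot_val] at h1
  have h2 := ((finRotate m)⁻¹ x).isLt
  have h3 := x.isLt
  split_ifs at h1 ⊢ <;> omega

set_option maxHeartbeats 1600000 in
/-- `z₁ = [c, d]` is `(0 l)(l-1 l+r)` -/
theorem fpb3c_z1_val (m l r : ℕ) (hl3 : 3 ≤ l) (hr2 : 2 ≤ r) (hlr2 : l + r + 2 ≤ m)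
    (h0 : 0 < l) (hlr : l + r ≤ m) (x : Fin m) :
    ((finRotate m * fpb3c_d m l r h0 hlr * (finRotate m)⁻¹ * (fpb3c_d m l r h0 hlr)⁻¹) x).val =
      if x.val = 0 then l else if x.val = l then 0 else if x.val + 1 = l then l + r
      else if x.val = l + r then l - 1 else x.val := by
  simp only [Perm.mul_apply]
  rw [fpb3c_rot_val, fpb3c_d_val, fpb3c_rotinv_val, fpb3c_dinv_val]
  unfold fpb3c_df fpb3c_di
  have := x.isLt
  split_ifs <;> first | omega | contradiction

/-- `z₂ = c z₁ c⁻¹` is `(1 l+1)(l l+r+1)` -/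
theorem fpb3c_z2_val (m l r : ℕ) (hl3 : 3 ≤ l) (hr2 : 2 ≤ r) (hlr2 : l + r + 2 ≤ m)
    (z : Perm (Fin m))
    (hz : ∀ x : Fin m, (z x).val = if x.val = 0 then l else if x.val = l then 0
      else if x.val + 1 = l then l + r else if x.val = l + r then l - 1 else x.val)
    (x : Fin m) :
    ((finRotate m * z * (finRotate m)⁻¹) x).val =
      if x.val = 1 then l + 1 else if x.val = l + 1 then 1 else if x.val = l then l + r + 1
      else if x.val = l + r + 1 then l else x.val := by
  simp only [Perm.mul_apply]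
  rw [fpb3c_rot_val, hz, fpb3c_rotinv_val]
  have := x.isLt
  split_ifs <;> omega

/-- the value of `c * d` -/
theorem fpb3c_cd_fix (m l r : ℕ) (hl3 : 3 ≤ l) (hr2 : 2 ≤ r) (hlr2 : l + r + 2 ≤ m)
    (h0 : 0 < l) (hlr : l + r ≤ m) (x : Fin m) :
    (finRotate m * fpb3c_d m l r h0 hlr) x = x ↔ 0 < x.val ∧ x.val < l := by
  rw [Fin.ext_iff, Perm.mul_apply, fpb3c_rot_val, fpb3c_d_val]
  unfold fpb3c_df
  have := x.isLt
  split_ifs <;> omega

theorem fpb3c_fixCard (m l r : ℕ) (hl3 : 3 ≤ l) (hr2 : 2 ≤ r) (hlr2 : l + r + 2 ≤ m)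
    (h0 : 0 < l) (hlr : l + r ≤ m) :
    FixCard (finRotate m * fpb3c_d m l r h0 hlr) = l - 1 := by
  unfold FixCard
  have hm0 : 0 < m := by omega
  have hlm : l < m := by omega
  have : (Finset.univ.filter fun x : Fin m => (finRotate m * fpb3c_d m l r h0 hlr) x = x) =
      Finset.Ioo (⟨0, hm0⟩ : Fin m) ⟨l, hlm⟩ := by
    ext x
    simp only [Finset.mem_filter, Finset.mem_univ, true_and, Finset.mem_Ioo, Fin.lt_def]
    exact fpb3c_cd_fix m l r hl3 hr2 hlr2 h0 hlr x
  rw [this, Fin.card_Ioo]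
  simp

/-- powers of `d` -/
theorem fpb3c_pow_val (m l r : ℕ) (h0 : 0 < l) (hlr : l + r ≤ m) (hN : m = l + l * r)
    (k : ℕ) (hk : k ≤ l) (x : Fin m) :
    ((fpb3c_d m l r h0 hlr ^ k) x).val =
      if x.val < l then (if k ≤ x.val then x.val - k else x.val + l - k)
      else (if x.val + k * r < m then x.val + k * r else x.val + k * r - (m - l)) := by
  induction k with
  | zero =>
    have := x.isLt
    simp only [pow_zero, Perm.one_apply, Nat.zero_mul, Nat.add_zero]
    split_ifs <;> omega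
  | succ k ih =>
    have ih' := ih (by omega)
    rw [pow_succ', Perm.mul_apply, fpb3c_d_val, ih']
    unfold fpb3c_df
    have hkr : (k + 1) * r = k * r + r := by ring
    have hle : (k + 1) * r ≤ l * r := Nat.mul_le_mul_right r hk
    have := x.isLt
    rw [hkr] at hle ⊢
    generalize k * r = A at *
    generalize l * r = B at *
    split_ifs <;> omega

/-- cycle type of a permutation all of whose cycles have length `p ^ i` -/
theorem fpb3c_cycleType_eq {α : Type*} [Fintype α] [DecidableEq α] (σ : Perm α) {p i μ : ℕ}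
    (hp : p.Prime) (hi : 1 ≤ i) (hcard : Fintype.card α = μ * p ^ i)
    (h1 : ∀ x, (σ ^ (p ^ i)) x = x) (h2 : ∀ x, (σ ^ (p ^ (i - 1))) x ≠ x) :
    σ.cycleType = Multiset.replicate μ (p ^ i) := by
  have hall : ∀ n ∈ σ.cycleType, n = p ^ i := by
    intro n hn
    have hdvd : n ∣ p ^ i := by
      have : orderOf σ ∣ p ^ i := orderOf_dvd_of_pow_eq_one (Perm.ext h1)
      exact (Perm.dvd_of_mem_cycleType hn).trans this
    obtain ⟨j, hj, rfl⟩ := (Nat.dvd_prime_pow hp).mp hdvd
    by_contra hne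
    have hlt : j ≤ i - 1 := by
      have : j ≠ i := fun h => hne (by rw [h])
      omega
    obtain ⟨c, τ, rfl, hd, hc, hcs⟩ := (Perm.mem_cycleType_iff).mp hn
    obtain ⟨x, hx, hcx⟩ := hc
    have hτx : τ x = x := (hd x).resolve_left hx
    have hco : c ^ (p ^ (i - 1)) = 1 := by
      apply orderOf_dvd_iff_pow_eq_one.mp
      rw [Perm.IsCycle.orderOf ⟨x, hx, hcx⟩, hcs]
      exact pow_dvd_pow p hlt
    apply h2 x
    rw [hd.commute.mul_pow, Perm.mul_apply, Perm.pow_apply_eq_self_of_apply_eq_self hτx, hco,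
      Perm.one_apply]
  have hs : σ.cycleType = Multiset.replicate (Multiset.card σ.cycleType) (p ^ i) :=
    Multiset.eq_replicate_card.2 hall
  have hsupp : σ.support = Finset.univ := by
    ext x
    simp only [Perm.mem_support, Finset.mem_univ, iff_true]
    intro hx
    exact h2 x (Perm.pow_apply_eq_self_of_apply_eq_self hx _)
  have hsum : σ.cycleType.sum = μ * p ^ i := by
    rw [Perm.sum_cycleType, hsupp, Finset.card_univ, hcard]
  rw [hs, Multiset.sum_replicate, smul_eq_mul] at hsum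
  have hpos : 0 < p ^ i := pow_pos hp.pos i
  have hcardeq : Multiset.card σ.cycleType = μ := Nat.eq_of_mul_eq_mul_right hpos hsum
  rw [hs, hcardeq]

/-- the certificate for `d` -/
theorem fpb3c_cert (p m l r : ℕ) (hl3 : 3 ≤ l) (hr2 : 2 ≤ r) (hN : m = l + l * r) (h9 : 9 < m)
    (hpl : ¬ p ∣ l - 1) (h0 : 0 < l) (hlr : l + r ≤ m) : CertO p (fpb3c_d m l r h0 hlr) := by
  have h3r : 3 * r ≤ l * r := Nat.mul_le_mul_right r hl3
  have hlr2 : l + r + 2 ≤ m := by omega
  have hlm : l < m := by omega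
  refine ⟨?_, ?_⟩
  · unfold FixOK
    rw [fpb3c_fixCard m l r hl3 hr2 hlr2 h0 hlr]
    exact hpl
  · obtain ⟨d, hd⟩ : ∃ d : Perm (Fin m), d = fpb3c_d m l r h0 hlr := ⟨_, rfl⟩
    rw [← hd]
    have hcH : finRotate m ∈ Hcd d := Subgroup.subset_closure (by simp)
    have hdH : d ∈ Hcd d := Subgroup.subset_closure (by simp)
    obtain ⟨z₁, hz₁⟩ : ∃ z : Perm (Fin m), z = finRotate m * d * (finRotate m)⁻¹ * d⁻¹ :=
      ⟨_, rfl⟩
    have hz1H : z₁ ∈ Hcd d := by
      rw [hz₁]
      exact mul_mem (mul_mem (mul_mem hcH hdH) (inv_mem hcH)) (inv_mem hdH)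
    have hz1 : ∀ x : Fin m, (z₁ x).val = if x.val = 0 then l else if x.val = l then 0
        else if x.val + 1 = l then l + r else if x.val = l + r then l - 1 else x.val := by
      intro x
      rw [hz₁, hd]
      exact fpb3c_z1_val m l r hl3 hr2 hlr2 h0 hlr x
    obtain ⟨z₂, hz₂⟩ : ∃ z : Perm (Fin m), z = finRotate m * z₁ * (finRotate m)⁻¹ := ⟨_, rfl⟩
    have hz2H : z₂ ∈ Hcd d := by
      rw [hz₂]
      exact mul_mem (mul_mem hcH hz1H) (inv_mem hcH)
    have hz2 : ∀ x : Fin m, (z₂ x).val = if x.val = 1 then l + 1 else if x.val = l + 1 then 1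
        else if x.val = l then l + r + 1 else if x.val = l + r + 1 then l else x.val := by
      intro x
      rw [hz₂]
      exact fpb3c_z2_val m l r hl3 hr2 hlr2 z₁ hz1 x
    have hq1 : (z₁ ⟨l, hlm⟩).val = 0 := by
      rw [hz1]
      dsimp only
      split_ifs <;> omega
    have hq2 : (z₂ ⟨l, hlm⟩).val = l + r + 1 := by
      rw [hz2]
      dsimp only
      split_ifs <;> omega
    refine ⟨z₁, hz1H, z₂, hz2H, ⟨l, hlm⟩, ?_, ?_⟩
    · ext x
      simp only [Finset.mem_inter, Perm.mem_support, Finset.mem_singleton]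
      constructor
      · rintro ⟨h1, h2⟩
        have h1' : (z₁ x).val ≠ x.val := fun h => h1 (Fin.ext h)
        have h2' : (z₂ x).val ≠ x.val := fun h => h2 (Fin.ext h)
        rw [hz1] at h1'
        rw [hz2] at h2'
        apply Fin.ext
        show x.val = l
        split_ifs at h1' h2' <;> omega
      · rintro rfl
        constructor
        · intro h
          have h' := congrArg Fin.val h
          rw [hq1] at h'
          dsimp only at h'
          omega
        · intro h
          have h' := congrArg Fin.val h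
          rw [hq2] at h'
          dsimp only at h'
          omega
    · by_cases hl : l = 3
      · refine ⟨z₁ ⟨l, hlm⟩, by simp, ⟨l, hlm⟩, by simp, ?_, ?_, ?_⟩
        · rw [hq1]; dsimp only; omega
        · rw [hq1]; dsimp only; omega
        · rw [hq1]; dsimp only; omega
      · refine ⟨⟨l, hlm⟩, by simp, z₂ ⟨l, hlm⟩, by simp, ?_, ?_, ?_⟩
        · rw [hq2]; dsimp only; omega
        · rw [hq2]; dsimp only
          intro h
          -- 3 * (r + 1) = l + l * r = l * (r + 1)
          have h1 : 3 * (r + 1) = l * (r + 1) := by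
            rw [Nat.mul_add l r 1, Nat.mul_one]
            omega
          exact hl (Nat.eq_of_mul_eq_mul_right (by omega) h1).symm
        · rw [hq2]; dsimp only
          intro h
          have h1 : 3 * (r + 1) = (2 * l) * (r + 1) := by
            rw [Nat.mul_assoc, Nat.mul_add l r 1, Nat.mul_one]
            omega
          have h2 : 3 = 2 * l := Nat.eq_of_mul_eq_mul_right (by omega) h1
          omega

/-- FP-B3c -/
theorem b3c : B3cStmt := by
  unfold B3cStmt
  intro p hp hp3 a m hma hm9 i l μ hi hl hμ2 hμl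
  -- `μ` is a power of `p`, so `μ ≥ 3`
  have hμ3 : 3 ≤ μ := by
    have hdvd : μ ∣ p ^ a := by
      rw [← hma, ← hμl]
      exact dvd_mul_right μ l
    obtain ⟨j, -, hj⟩ := (Nat.dvd_prime_pow hp).mp hdvd
    rcases Nat.eq_zero_or_pos j with h0 | h0
    · rw [h0, pow_zero] at hj
      omega
    · have : p ^ 1 ≤ p ^ j := Nat.pow_le_pow_right hp.pos h0
      rw [pow_one] at this
      omega
  have hl3 : 3 ≤ l := by
    have : p ^ 1 ≤ p ^ i := Nat.pow_le_pow_right hp.pos hi
    rw [pow_one] at this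
    omega
  obtain ⟨r, rfl⟩ : ∃ r, μ = r + 1 := ⟨μ - 1, by omega⟩
  have hr2 : 2 ≤ r := by omega
  have hN : m = l + l * r := by
    rw [← hμl]
    ring
  have h3r : 3 * r ≤ l * r := Nat.mul_le_mul_right r hl3
  have h0 : 0 < l := by omega
  have hlr : l + r ≤ m := by omega
  have hpl : ¬ p ∣ l - 1 := by
    intro h
    have h1 : p ∣ l := by
      rw [hl]
      exact dvd_pow_self p (by omega)
    have h2 : p ∣ l - (l - 1) := Nat.dvd_sub h1 h
    have h3 : l - (l - 1) = 1 := by omega
    rw [h3] at h2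
    have := Nat.le_of_dvd Nat.one_pos h2
    omega
  refine ⟨fpb3c_d m l r h0 hlr, ?_, fpb3c_cert p m l r hl3 hr2 hN hm9 hpl h0 hlr⟩
  -- the cycle type
  suffices hct : (fpb3c_d m l r h0 hlr).cycleType = Multiset.replicate (r + 1) (p ^ i) by
    rw [hct, hl]
  apply fpb3c_cycleType_eq _ hp hi
  · rw [Fintype.card_fin, ← hl, hμl]
  · intro x
    apply Fin.ext
    rw [← hl, fpb3c_pow_val m l r h0 hlr hN l le_rfl x]
    have := x.isLt
    generalize l * r = B at *
    split_ifs <;> omega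
  · intro x hx
    have hk : p ^ (i - 1) * p = l := by
      rw [hl, ← pow_succ]
      congr 1
      omega
    have hk0 : 0 < p ^ (i - 1) := pow_pos hp.pos _
    have hkl : p ^ (i - 1) < l := by
      have : p ^ (i - 1) * 2 ≤ p ^ (i - 1) * p := Nat.mul_le_mul_left _ hp.two_le
      omega
    have hx' := congrArg Fin.val hx
    rw [fpb3c_pow_val m l r h0 hlr hN (p ^ (i - 1)) hkl.le x] at hx'
    have hA0 : 0 < p ^ (i - 1) * r := Nat.mul_pos hk0 (by omega)
    have hAB : p ^ (i - 1) * r < l * r := Nat.mul_lt_mul_of_pos_right hkl (by omega)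
    have := x.isLt
    generalize p ^ (i - 1) = k at *
    generalize k * r = A at *
    generalize l * r = B at *
    split_ifs at hx' <;> omega

end Cfsg.Agent.Lib.Helper83.Fp
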