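import Mathlib
import Cfsg.Agent.Lib.Helper83.FpDefs

/-! # Fp hive (helper83, S2276): leaf FP-BASE6b `base6b` (helper99)

`c = (0 1 2)(3 4 5)`, `d = (0 2 3)` on `Fin 6`: `c * d` has order `5`; A5 certificate `t₁ = d`, `t₂ = c * d * c⁻¹ = (0 4 1)`. -/

set_option autoImplicit false

namespace Cfsg.Agent.Lib.Helper83.Fp

open Equiv Equiv.Perm

/-- `c = (0 1 2)(3 4 5)` -/
def fpbase6b_c : Perm (Fin 6) := (swap 0 1 * swap 1 2) * (swap 3 4 * swap 4 5)

/-- `d = (0 2 3)` -/
def fpbase6b_d : Perm (Fin 6) := swap 0 2 * swap 2 3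

set_option maxRecDepth 100000 in
theorem fpbase6b_c_type : fpbase6b_c.cycleType = {3, 3} := by decide

set_option maxRecDepth 100000 in
theorem fpbase6b_d_type : fpbase6b_d.cycleType = {3} := by decide

set_option maxRecDepth 100000 in
theorem fpbase6b_pow : (fpbase6b_c * fpbase6b_d) ^ 5 = 1 := by decide

set_option maxRecDepth 100000 in
theorem fpbase6b_ne : fpbase6b_c * fpbase6b_d ≠ 1 := by decide

set_option maxRecDepth 100000 in
theorem fpbase6b_t2_type : (fpbase6b_c * fpbase6b_d * fpbase6b_c⁻¹).cycleType = {3} := by decide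

set_option maxRecDepth 100000 in
theorem fpbase6b_inter :
    (fpbase6b_d.support ∩ (fpbase6b_c * fpbase6b_d * fpbase6b_c⁻¹).support).card = 1 := by decide

theorem fpbase6b_order : orderOf (fpbase6b_c * fpbase6b_d) = 5 := by
  have : Fact (Nat.Prime 5) := ⟨by norm_num⟩
  exact orderOf_eq_prime fpbase6b_pow fpbase6b_ne

/-- FP-BASE6b -/
theorem base6b : A5Stmt → Base6bStmt := by
  intro hA5
  refine ⟨fpbase6b_c, fpbase6b_d, fpbase6b_c_type, fpbase6b_d_type, ?_, ?_⟩
  · rintro ⟨k, hk⟩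
    rw [fpbase6b_order] at hk
    rcases k with _ | _ | k
    · norm_num at hk
    · norm_num at hk
    · have : 9 ≤ 3 ^ (k + 1 + 1) := by
        calc 9 = 3 ^ 2 := by norm_num
          _ ≤ 3 ^ (k + 1 + 1) := Nat.pow_le_pow_right (by norm_num) (by omega)
      omega
  · apply hA5 6
    have hc : fpbase6b_c ∈ Subgroup.closure ({fpbase6b_c, fpbase6b_d} : Set (Perm (Fin 6))) :=
      Subgroup.subset_closure (by simp)
    have hd : fpbase6b_d ∈ Subgroup.closure ({fpbase6b_c, fpbase6b_d} : Set (Perm (Fin 6))) :=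
      Subgroup.subset_closure (by simp)
    refine ⟨fpbase6b_d, hd, fpbase6b_c * fpbase6b_d * fpbase6b_c⁻¹,
      Subgroup.mul_mem _ (Subgroup.mul_mem _ hc hd) (Subgroup.inv_mem _ hc), ?_, ?_, fpbase6b_inter⟩
    · exact fpbase6b_d_type
    · exact fpbase6b_t2_type

end Cfsg.Agent.Lib.Helper83.Fp
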