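import Mathlib
import Cfsg.Agent.Lib.Helper22.FStar
import Cfsg.Agent.Lib.Helper91.Components

/-! # Mc hive (S1305), leaf MC4b: a component `K` of `C_X(a)` inside `E(X)` that does not
centralize the component `J` of `X` lies in `J J^a`.  `mc4b_core` takes the conclusion of leaf MC4c
as a hypothesis. -/

set_option autoImplicit false
open Cfsg Subgroup

namespace Cfsg.Agent.Lib.Helper99.McMC4b

universe u

/-- The layer normalizes the join of two components. -/
theorem layer_le_normalizer_sup {X : Type u} [Group X] [Finite X] {J J' : Subgroup X}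
    (hJ : IsComponent J) (hJ' : IsComponent J') :
    layer X ≤ normalizer ((J ⊔ J' : Subgroup X) : Set X) := by
  apply sSup_le
  intro L hL
  by_cases h1 : L = J
  · subst h1; exact le_sup_left.trans le_normalizer
  by_cases h2 : L = J'
  · subst h2; exact le_sup_right.trans le_normalizer
  · have c1 := Helper91.component_commute_of_ne hL hJ h1
    have c2 := Helper91.component_commute_of_ne hL hJ' h2
    have h3 : L ≤ centralizer ((J ⊔ J' : Subgroup X) : Set X) := by
      rw [le_centralizer_iff]
      apply sup_le
      · intro x hx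
        rw [mem_centralizer_iff]
        intro l hl
        exact c1 l hl x hx
      · intro x hx
        rw [mem_centralizer_iff]
        intro l hl
        exact c2 l hl x hx
    exact h3.trans (centralizer_le_normalizer _)

/-- A subgroup of a normal subgroup `E` that is normalized by `E` is subnormal. -/
theorem isSubnormal_of_le_normalizer {X : Type u} [Group X] {E N : Subgroup X} [hE : E.Normal]
    (hNE : N ≤ E) (hnorm : E ≤ normalizer (N : Set X)) : N.IsSubnormal := by
  refine IsSubnormal.step N E hNE hE.isSubnormal ?_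
  refine (Subgroup.normal_subgroupOf_iff hNE).mpr ?_
  intro n e hn he
  exact (mem_normalizer_iff.mp (hnorm he) n).mp hn

/-- The centralizer in `E` of a subgroup normalized by `E` is normalized by `E`. -/
theorem le_normalizer_centralizer_inf {X : Type u} [Group X] {E N : Subgroup X} [hE : E.Normal]
    (hnorm : E ≤ normalizer (N : Set X)) :
    E ≤ normalizer ((centralizer (N : Set X) ⊓ E : Subgroup X) : Set X) := by
  intro e he
  have key : ∀ e ∈ E, ∀ c ∈ centralizer (N : Set X) ⊓ E,
      e * c * e⁻¹ ∈ centralizer (N : Set X) ⊓ E := by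
    intro e he c hc
    refine ⟨?_, hE.conj_mem c hc.2 e⟩
    show e * c * e⁻¹ ∈ centralizer (N : Set X)
    rw [mem_centralizer_iff]
    intro n hn
    have h1 : e⁻¹ * n * e ∈ N := (mem_normalizer_iff''.mp (hnorm he) n).mp hn
    have h2 := (mem_centralizer_iff.mp hc.1) _ h1
    -- h2 : e⁻¹ * n * e * c = c * (e⁻¹ * n * e)
    calc n * (e * c * e⁻¹) = e * (e⁻¹ * n * e * c) * e⁻¹ := by group
      _ = e * (c * (e⁻¹ * n * e)) * e⁻¹ := by rw [h2]
      _ = e * c * e⁻¹ * n := by group
  rw [mem_normalizer_iff]
  intro c
  constructor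
  · intro hc; exact key e he c hc
  · intro hc
    have := key e⁻¹ (E.inv_mem he) _ hc
    have h3 : e⁻¹ * (e * c * e⁻¹) * e⁻¹⁻¹ = c := by group
    rwa [h3] at this

theorem mc4b_core {X : Type u} [Group X] [Finite X] (a : X) (K : Subgroup X)
    (hKa : K ≤ centralizer ({a} : Set X)) (hKL : K ≤ layer X)
    (hK : IsComponent (K.subgroupOf (centralizer ({a} : Set X))))
    (J : Subgroup X) (hJ : IsComponent J) (hKJ : ¬ (∀ k ∈ K, ∀ x ∈ J, k * x = x * k))
    (h4c : ∀ y ∈ layer X ⊓ centralizer ({a} : Set X), ∀ y' ∈ layer X ⊓ centralizer ({a} : Set X),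
      y * y' * y⁻¹ * y'⁻¹ ∈ ((J ⊔ J.map (MulAut.conj a).toMonoidHom) ⊓ centralizer ({a} : Set X)) ⊔
        (centralizer ((J ⊔ J.map (MulAut.conj a).toMonoidHom : Subgroup X) : Set X) ⊓ layer X ⊓
          centralizer ({a} : Set X))) :
    K ≤ J ⊔ J.map (MulAut.conj a).toMonoidHom := by
  have hJa : IsComponent (J.map (MulAut.conj a).toMonoidHom) :=
    Helper22.isComponent_map_equiv (MulAut.conj a) hJ
  have hEn : (layer X).Normal := Helper22.layer_normal X
  have hNE : J ⊔ J.map (MulAut.conj a).toMonoidHom ≤ layer X :=
    sup_le (Helper22.component_le_layer hJ) (Helper22.component_le_layer hJa)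
  have hnorm := layer_le_normalizer_sup hJ hJa
  have hNsub : (J ⊔ J.map (MulAut.conj a).toMonoidHom).IsSubnormal :=
    isSubnormal_of_le_normalizer hNE hnorm
  have hCsub : (centralizer ((J ⊔ J.map (MulAut.conj a).toMonoidHom : Subgroup X) : Set X) ⊓
      layer X).IsSubnormal :=
    isSubnormal_of_le_normalizer inf_le_right (le_normalizer_centralizer_inf hnorm)
  -- the dichotomies inside `C_X(a)`
  have d1 := Helper91.component_le_or_le_centralizer_aux
    (Nat.card ↥(centralizer ({a} : Set X))) ↥(centralizer ({a} : Set X)) rfl _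
    (((J ⊔ J.map (MulAut.conj a).toMonoidHom) ⊓ centralizer ({a} : Set X)).subgroupOf
      (centralizer ({a} : Set X))) hK
    (by rw [inf_subgroupOf_right]; exact hNsub.subgroupOf)
  have d2 := Helper91.component_le_or_le_centralizer_aux
    (Nat.card ↥(centralizer ({a} : Set X))) ↥(centralizer ({a} : Set X)) rfl _
    ((centralizer ((J ⊔ J.map (MulAut.conj a).toMonoidHom : Subgroup X) : Set X) ⊓ layer X ⊓
      centralizer ({a} : Set X)).subgroupOf (centralizer ({a} : Set X))) hK
    (by rw [inf_subgroupOf_right]; exact hCsub.subgroupOf)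
  have e1 := Helper91.transport_le_or_le_centralizer hKa inf_le_right d1
  have e2 := Helper91.transport_le_or_le_centralizer hKa inf_le_right d2
  rcases e1 with e1 | e1
  · exact e1.trans inf_le_left
  rcases e2 with e2 | e2
  · exfalso
    apply hKJ
    intro k hk x hx
    have h1 : k ∈ centralizer ((J ⊔ J.map (MulAut.conj a).toMonoidHom : Subgroup X) : Set X) :=
      (e2 hk).1.1
    exact ((mem_centralizer_iff.mp h1) x (le_sup_left (a := J) hx)).symm
  · exfalso
    -- `K` is perfect
    have hperf' := Helper22.component_perfect hK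
    have hperf : ⁅K, K⁆ = K := by
      have h2 := congrArg (Subgroup.map (centralizer ({a} : Set X)).subtype) hperf'
      rw [map_commutator, subgroupOf_map_subtype, inf_of_le_left hKa] at h2
      exact h2
    -- `K` centralizes all commutators of elements of `K`
    have habel : K ≤ centralizer (K : Set X) := by
      rw [le_centralizer_iff]
      intro k hk
      have h3 : ((J ⊔ J.map (MulAut.conj a).toMonoidHom) ⊓ centralizer ({a} : Set X)) ⊔
          (centralizer ((J ⊔ J.map (MulAut.conj a).toMonoidHom : Subgroup X) : Set X) ⊓ layer X ⊓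
            centralizer ({a} : Set X)) ≤ centralizer ({k} : Set X) := by
        apply sup_le
        · intro m hm
          rw [mem_centralizer_singleton_iff]
          exact (mem_centralizer_iff.mp (e1 hk)) m hm
        · intro m hm
          rw [mem_centralizer_singleton_iff]
          exact (mem_centralizer_iff.mp (e2 hk)) m hm
      have h4 : ⁅K, K⁆ ≤ centralizer ({k} : Set X) := by
        rw [commutator_le]
        intro g₁ hg₁ g₂ hg₂
        rw [commutatorElement_def]
        exact h3 (h4c g₁ ⟨hKL hg₁, hKa hg₁⟩ g₂ ⟨hKL hg₂, hKa hg₂⟩)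
      rw [hperf] at h4
      intro x hx
      exact mem_centralizer_singleton_iff.mp (h4 hx)
    have hbot : ⁅K, K⁆ = ⊥ := commutator_eq_bot_iff_le_centralizer.mpr habel
    rw [hperf] at hbot
    apply hKJ
    intro k hk x _
    rw [hbot, mem_bot] at hk
    rw [hk, one_mul, mul_one]

end Cfsg.Agent.Lib.Helper99.McMC4b
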