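import Mathlib
import Cfsg.Agent.Lib.Helper22.FStar
import Cfsg.Agent.Lib.Helper91.Components

/-! # Mc hive (S1305), leaf MC4c (second hand): commutators of elements of `C_E(a)` lie in
`C_N(a) C_{C_E(N)}(a)`, `E = E(X)`, `N = J J^a`. -/

set_option autoImplicit false
open Cfsg Subgroup

namespace Cfsg.Agent.Lib.Helper99.McMC4c

universe u

theorem comm_mul_central {X : Type u} [Group X] (n n' z z' : X) (h1 : Commute z n')
    (h2 : Commute z z') (h3 : Commute z' n) :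
    (n * z) * (n' * z') * (n * z)⁻¹ * (n' * z')⁻¹ = n * n' * n⁻¹ * n'⁻¹ := by
  have e1 : z * (n' * z') = (n' * z') * z := (h1.mul_right h2).eq
  have e2 : z' * n⁻¹ = n⁻¹ * z' := (h3.inv_right).eq
  calc (n * z) * (n' * z') * (n * z)⁻¹ * (n' * z')⁻¹
      = n * (z * (n' * z')) * z⁻¹ * n⁻¹ * z'⁻¹ * n'⁻¹ := by group
    _ = n * ((n' * z') * z) * z⁻¹ * n⁻¹ * z'⁻¹ * n'⁻¹ := by rw [e1]
    _ = n * n' * (z' * n⁻¹) * z'⁻¹ * n'⁻¹ := by group
    _ = n * n' * (n⁻¹ * z') * z'⁻¹ * n'⁻¹ := by rw [e2]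
    _ = n * n' * n⁻¹ * n'⁻¹ := by group

theorem comm_split {X : Type u} [Group X] (n n' c c' : X) (hcn : Commute c n)
    (hcn' : Commute c n') (hc'n : Commute c' n) (hc'n' : Commute c' n') :
    (n * c) * (n' * c') * (n * c)⁻¹ * (n' * c')⁻¹ =
      (n * n' * n⁻¹ * n'⁻¹) * (c * c' * c⁻¹ * c'⁻¹) := by
  have hc2 : Commute (c * c' * c⁻¹) n⁻¹ :=
    ((hcn.mul_left hc'n).mul_left hcn.inv_left).inv_right
  have hc3 : Commute (c * c' * c⁻¹ * c'⁻¹) n'⁻¹ :=
    (((hcn'.mul_left hc'n').mul_left hcn'.inv_left).mul_left hc'n'.inv_left).inv_right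
  calc (n * c) * (n' * c') * (n * c)⁻¹ * (n' * c')⁻¹
      = n * (c * n') * c' * c⁻¹ * n⁻¹ * c'⁻¹ * n'⁻¹ := by group
    _ = n * (n' * c) * c' * c⁻¹ * n⁻¹ * c'⁻¹ * n'⁻¹ := by rw [hcn'.eq]
    _ = n * n' * ((c * c' * c⁻¹) * n⁻¹) * c'⁻¹ * n'⁻¹ := by group
    _ = n * n' * (n⁻¹ * (c * c' * c⁻¹)) * c'⁻¹ * n'⁻¹ := by rw [hc2.eq]
    _ = n * n' * n⁻¹ * ((c * c' * c⁻¹ * c'⁻¹) * n'⁻¹) := by group
    _ = n * n' * n⁻¹ * (n'⁻¹ * (c * c' * c⁻¹ * c'⁻¹)) := by rw [hc3.eq]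
    _ = (n * n' * n⁻¹ * n'⁻¹) * (c * c' * c⁻¹ * c'⁻¹) := by group

/-- `E(X) ≤ N · C_E(N)` for `N` the join of two components. -/
theorem layer_le_sup_centralizer {X : Type u} [Group X] [Finite X] {J J' : Subgroup X}
    (hJ : IsComponent J) (hJ' : IsComponent J') :
    layer X ≤ (J ⊔ J') ⊔ (centralizer ((J ⊔ J' : Subgroup X) : Set X) ⊓ layer X) := by
  apply sSup_le
  intro L hL
  by_cases h1 : L = J
  · subst h1; exact le_sup_left.trans le_sup_left
  by_cases h2 : L = J'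
  · subst h2; exact le_sup_right.trans le_sup_left
  · have c1 := Helper91.component_commute_of_ne hL hJ h1
    have c2 := Helper91.component_commute_of_ne hL hJ' h2
    have h3 : L ≤ centralizer ((J ⊔ J' : Subgroup X) : Set X) := by
      rw [le_centralizer_iff]
      apply sup_le
      · intro x hx
        rw [mem_centralizer_iff]
        intro l hl
        exact c1 l hl x hx
      · intro x hx
        rw [mem_centralizer_iff]
        intro l hl
        exact c2 l hl x hx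
    exact (le_inf h3 (Helper22.component_le_layer hL)).trans le_sup_right

theorem mc4c {X : Type u} [Group X] [Finite X] (a : X) (ha : a ^ 2 = 1) (J : Subgroup X)
    (hJ : IsComponent J) :
    ∀ y ∈ layer X ⊓ centralizer ({a} : Set X), ∀ y' ∈ layer X ⊓ centralizer ({a} : Set X),
      y * y' * y⁻¹ * y'⁻¹ ∈ ((J ⊔ J.map (MulAut.conj a).toMonoidHom) ⊓ centralizer ({a} : Set X)) ⊔
        (centralizer ((J ⊔ J.map (MulAut.conj a).toMonoidHom : Subgroup X) : Set X) ⊓ layer X ⊓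
          centralizer ({a} : Set X)) := by
  have hJa : IsComponent (J.map (MulAut.conj a).toMonoidHom) :=
    Helper22.isComponent_map_equiv (MulAut.conj a) hJ
  have hEn : (layer X).Normal := Helper22.layer_normal X
  have hainv : a⁻¹ = a := by
    have : a * a = 1 := by rw [← pow_two]; exact ha
    exact inv_eq_of_mul_eq_one_left this
  -- `N` is `a`-invariant
  have hNa : ∀ n ∈ J ⊔ J.map (MulAut.conj a).toMonoidHom,
      a * n * a⁻¹ ∈ J ⊔ J.map (MulAut.conj a).toMonoidHom := by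
    have hle : J ⊔ J.map (MulAut.conj a).toMonoidHom ≤
        (J ⊔ J.map (MulAut.conj a).toMonoidHom).comap (MulAut.conj a).toMonoidHom := by
      apply sup_le
      · intro j hj
        rw [mem_comap]
        exact le_sup_right (a := J) (mem_map_of_mem _ hj)
      · rintro x ⟨j, hj, rfl⟩
        rw [mem_comap]
        have : (MulAut.conj a).toMonoidHom ((MulAut.conj a).toMonoidHom j) = j := by
          simp only [MulEquiv.coe_toMonoidHom, MulAut.conj_apply]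
          rw [hainv]
          have h2 : a * a = 1 := by rw [← pow_two]; exact ha
          calc a * (a * j * a) * a = (a * a) * j * (a * a) := by group
            _ = j := by rw [h2]; group
        rw [this]
        exact le_sup_left (b := J.map (MulAut.conj a).toMonoidHom) hj
    intro n hn
    have := hle hn
    rw [mem_comap] at this
    simpa using this
  -- `C_E(N)` is `a`-invariant
  have hCa : ∀ c ∈ centralizer ((J ⊔ J.map (MulAut.conj a).toMonoidHom : Subgroup X) : Set X) ⊓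
      layer X, a * c * a⁻¹ ∈
        centralizer ((J ⊔ J.map (MulAut.conj a).toMonoidHom : Subgroup X) : Set X) ⊓ layer X := by
    intro c hc
    refine ⟨?_, hEn.conj_mem c hc.2 a⟩
    show a * c * a⁻¹ ∈ centralizer ((J ⊔ J.map (MulAut.conj a).toMonoidHom : Subgroup X) : Set X)
    rw [mem_centralizer_iff]
    intro n hn
    have h1 : a * n * a⁻¹ ∈ J ⊔ J.map (MulAut.conj a).toMonoidHom := hNa n hn
    have h1' : a⁻¹ * n * a ∈ J ⊔ J.map (MulAut.conj a).toMonoidHom := by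
      have := h1
      rw [hainv] at this
      rw [hainv]
      exact this
    have h2 := (mem_centralizer_iff.mp hc.1) _ h1'
    calc n * (a * c * a⁻¹) = a * (a⁻¹ * n * a * c) * a⁻¹ := by group
      _ = a * (c * (a⁻¹ * n * a)) * a⁻¹ := by rw [h2]
      _ = a * c * a⁻¹ * n := by group
  -- elementwise commutation of `N` and `C_E(N)`
  have hcomm : ∀ n ∈ J ⊔ J.map (MulAut.conj a).toMonoidHom,
      ∀ c ∈ centralizer ((J ⊔ J.map (MulAut.conj a).toMonoidHom : Subgroup X) : Set X) ⊓ layer X,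
        n * c = c * n := by
    intro n hn c hc
    exact (mem_centralizer_iff.mp hc.1) n hn
  have hdec := layer_le_sup_centralizer hJ hJa
  -- the key: decomposition of an `a`-fixed element
  have key : ∀ y ∈ layer X ⊓ centralizer ({a} : Set X),
      ∃ n ∈ J ⊔ J.map (MulAut.conj a).toMonoidHom,
      ∃ c ∈ centralizer ((J ⊔ J.map (MulAut.conj a).toMonoidHom : Subgroup X) : Set X) ⊓ layer X,
      ∃ z ∈ (J ⊔ J.map (MulAut.conj a).toMonoidHom) ⊓
        (centralizer ((J ⊔ J.map (MulAut.conj a).toMonoidHom : Subgroup X) : Set X) ⊓ layer X),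
        y = n * c ∧ a * n * a⁻¹ = n * z ∧ a * c * a⁻¹ = c * z⁻¹ := by
    intro y hy
    obtain ⟨n, hn, c, hc, rfl⟩ := Helper91.exists_mul_of_mem_sup_of_commute hcomm (hdec hy.1)
    have hya : n * c * a = a * (n * c) := mem_centralizer_singleton_iff.mp hy.2
    have hfix : (a * n * a⁻¹) * (a * c * a⁻¹) = n * c := by
      calc (a * n * a⁻¹) * (a * c * a⁻¹) = a * (n * c) * a⁻¹ := by group
        _ = n * c * a * a⁻¹ := by rw [hya]
        _ = n * c := by group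
    have hz : n⁻¹ * (a * n * a⁻¹) = c * (a * c * a⁻¹)⁻¹ := by
      calc n⁻¹ * (a * n * a⁻¹) = n⁻¹ * ((a * n * a⁻¹) * (a * c * a⁻¹)) * (a * c * a⁻¹)⁻¹ := by group
        _ = n⁻¹ * (n * c) * (a * c * a⁻¹)⁻¹ := by rw [hfix]
        _ = c * (a * c * a⁻¹)⁻¹ := by group
    have hzN : n⁻¹ * (a * n * a⁻¹) ∈ J ⊔ J.map (MulAut.conj a).toMonoidHom :=
      mul_mem (inv_mem hn) (hNa n hn)
    have hzC : n⁻¹ * (a * n * a⁻¹) ∈
        centralizer ((J ⊔ J.map (MulAut.conj a).toMonoidHom : Subgroup X) : Set X) ⊓ layer X := by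
      rw [hz]
      exact mul_mem hc (inv_mem (hCa c hc))
    refine ⟨n, hn, c, hc, n⁻¹ * (a * n * a⁻¹), ⟨hzN, hzC⟩, rfl, by group, ?_⟩
    -- `a c a⁻¹ = c z⁻¹`
    have h5 : c * (n⁻¹ * (a * n * a⁻¹))⁻¹ = (n⁻¹ * (a * n * a⁻¹))⁻¹ * c := by
      have := hcomm _ (inv_mem hzN) c hc
      exact this.symm
    rw [h5, hz]
    group
  intro y hy y' hy'
  obtain ⟨n, hn, c, hc, z, hz, rfl, hnz, hcz⟩ := key y hy
  obtain ⟨n', hn', c', hc', z', hz', rfl, hnz', hcz'⟩ := key y' hy'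
  rw [comm_split n n' c c' (hcomm n hn c hc).symm (hcomm n' hn' c hc).symm
    (hcomm n hn c' hc').symm (hcomm n' hn' c' hc').symm]
  apply mul_mem_sup
  · have hP : n * n' * n⁻¹ * n'⁻¹ ∈ J ⊔ J.map (MulAut.conj a).toMonoidHom :=
      mul_mem (mul_mem (mul_mem hn hn') (inv_mem hn)) (inv_mem hn')
    refine ⟨hP, ?_⟩
    show n * n' * n⁻¹ * n'⁻¹ ∈ centralizer ({a} : Set X)
    rw [mem_centralizer_singleton_iff]
    have h1 : a * (n * n' * n⁻¹ * n'⁻¹) * a⁻¹ = n * n' * n⁻¹ * n'⁻¹ := by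
      calc a * (n * n' * n⁻¹ * n'⁻¹) * a⁻¹
          = (a * n * a⁻¹) * (a * n' * a⁻¹) * (a * n * a⁻¹)⁻¹ * (a * n' * a⁻¹)⁻¹ := by group
        _ = (n * z) * (n' * z') * (n * z)⁻¹ * (n' * z')⁻¹ := by rw [hnz, hnz']
        _ = n * n' * n⁻¹ * n'⁻¹ :=
          comm_mul_central n n' z z' (hcomm n' hn' z hz.2).symm (hcomm z' hz'.1 z hz.2).symm
            (hcomm n hn z' hz'.2).symm
    calc n * n' * n⁻¹ * n'⁻¹ * a = (a * (n * n' * n⁻¹ * n'⁻¹) * a⁻¹) * a := by rw [h1]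
      _ = a * (n * n' * n⁻¹ * n'⁻¹) := by group
  · have hQ : c * c' * c⁻¹ * c'⁻¹ ∈
        centralizer ((J ⊔ J.map (MulAut.conj a).toMonoidHom : Subgroup X) : Set X) ⊓ layer X :=
      mul_mem (mul_mem (mul_mem hc hc') (inv_mem hc)) (inv_mem hc')
    refine ⟨hQ, ?_⟩
    show c * c' * c⁻¹ * c'⁻¹ ∈ centralizer ({a} : Set X)
    rw [mem_centralizer_singleton_iff]
    have h1 : a * (c * c' * c⁻¹ * c'⁻¹) * a⁻¹ = c * c' * c⁻¹ * c'⁻¹ := by
      calc a * (c * c' * c⁻¹ * c'⁻¹) * a⁻¹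
          = (a * c * a⁻¹) * (a * c' * a⁻¹) * (a * c * a⁻¹)⁻¹ * (a * c' * a⁻¹)⁻¹ := by group
        _ = (c * z⁻¹) * (c' * z'⁻¹) * (c * z⁻¹)⁻¹ * (c' * z'⁻¹)⁻¹ := by rw [hcz, hcz']
        _ = c * c' * c⁻¹ * c'⁻¹ :=
          comm_mul_central c c' z⁻¹ z'⁻¹ (hcomm _ (inv_mem hz.1) c' hc')
            (hcomm _ (inv_mem hz.1) _ (inv_mem hz'.2)) (hcomm _ (inv_mem hz'.1) c hc)
    calc c * c' * c⁻¹ * c'⁻¹ * a = (a * (c * c' * c⁻¹ * c'⁻¹) * a⁻¹) * a := by rw [h1]
      _ = a * (c * c' * c⁻¹ * c'⁻¹) := by group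

end Cfsg.Agent.Lib.Helper99.McMC4c
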