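import Mathlib
import Cfsg.Agent.Lib.Helper99.McMC4b
import Cfsg.Agent.Lib.Helper99.McMC4c

/-! # Mc hive (S1305), leaf MC4b, exact skeleton statement. -/

set_option autoImplicit false
open Cfsg Subgroup

namespace Cfsg.Agent.Lib.Helper99.McMC4bFin

universe u

/-- MC4b. If the component `K` of `C_X(a)` lies in `E(X)` and does not centralize the component `J`
of `X`, then `K ≤ J J^a`. -/
theorem mc4b {X : Type u} [Group X] [Finite X] (a : X) (ha : a ^ 2 = 1) (K : Subgroup X)
    (hKa : K ≤ centralizer ({a} : Set X)) (hKL : K ≤ layer X)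
    (hK : IsComponent (K.subgroupOf (centralizer ({a} : Set X))))
    (J : Subgroup X) (hJ : IsComponent J) (hKJ : ¬ (∀ k ∈ K, ∀ x ∈ J, k * x = x * k)) :
    K ≤ J ⊔ J.map (MulAut.conj a).toMonoidHom :=
  McMC4b.mc4b_core a K hKa hKL hK J hJ hKJ (McMC4c.mc4c a ha J hJ)

end Cfsg.Agent.Lib.Helper99.McMC4bFin
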