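import Cfsg.Agent.Lib.Helper92.Sz8.Defs
import Cfsg.Agent.Lib.Helper6.SzSimple

/-!
# Sz8 hive (S2112, helper92), leaf GENK: the two generators generate `GK`, given words for all
`T a b`, `D t`, `W`.
-/

set_option autoImplicit false

namespace Cfsg.Agent.Lib.Helper92.Sz8

open Cfsg Cfsg.Agent.Lib.Helper6.Sz Cfsg.Agent.Lib.Helper89.CosetCert

/-- words with letters `< 4` evaluate inside the closure of the two generators -/
theorem genk_ev_mem (w : List ℕ) (hw : ∀ l ∈ w, l < 4) :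
    ev gK w ∈ Subgroup.closure {y : GK | ∃ i < 2, y = gK i} := by
  induction w with
  | nil => exact Subgroup.one_mem _
  | cons l w ih =>
    rw [ev_cons]
    refine Subgroup.mul_mem _ ?_ (ih fun l' hl' => hw l' (List.mem_cons_of_mem _ hl'))
    have hl := hw l List.mem_cons_self
    unfold lv
    split_ifs
    · exact Subgroup.subset_closure ⟨l / 2, by omega, rfl⟩
    · exact Subgroup.inv_mem _ (Subgroup.subset_closure ⟨l / 2, by omega, rfl⟩)

/-- an element of `GK` whose matrix is the matrix of a word lies in the closure -/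
theorem genk_mem_of_matrix
    (hbr : ∀ w : List ℕ, (∀ l ∈ w, l < 4) →
      (((ev gK w : GK) : Matrix.SpecialLinearGroup (Fin 4) K8) : Matrix (Fin 4) (Fin 4) K8) =
        semK (evP w))
    (g : GK) (w : List ℕ) (hw : ∀ l ∈ w, l < 4)
    (hg : semK (evP w) = ((g : Matrix.SpecialLinearGroup (Fin 4) K8) : Matrix (Fin 4) (Fin 4) K8)) :
    g ∈ Subgroup.closure {y : GK | ∃ i < 2, y = gK i} := by
  have h : ev gK w = g := by
    apply Subtype.ext
    apply Subtype.ext
    rw [hbr w hw, hg]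
  rw [← h]
  exact genk_ev_mem w hw

theorem closure_gK_core
    (hbr : ∀ w : List ℕ, (∀ l ∈ w, l < 4) →
      (((ev gK w : GK) : Matrix.SpecialLinearGroup (Fin 4) K8) : Matrix (Fin 4) (Fin 4) K8) =
        semK (evP w))
    (wT : K8 → K8 → List ℕ)
    (hwT : ∀ a b, (∀ l ∈ wT a b, l < 4) ∧ semK (evP (wT a b)) = Tm sK a b)
    (wD : K8 → List ℕ)
    (hwD : ∀ t : K8, t ≠ 0 → (∀ l ∈ wD t, l < 4) ∧ semK (evP (wD t)) = Dm sK t)
    (wW : List ℕ) (hwW : (∀ l ∈ wW, l < 4) ∧ semK (evP wW) = Wm) :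
    Subgroup.closure {y : GK | ∃ i < 2, y = gK i} = ⊤ := by
  apply eq_top_of_mem sK hsK hntK
  · intro a b
    exact genk_mem_of_matrix hbr _ (wT a b) (hwT a b).1 (hwT a b).2
  · intro t
    exact genk_mem_of_matrix hbr _ (wD (t : K8)) (hwD _ t.ne_zero).1 (hwD _ t.ne_zero).2
  · refine ⟨Wg sK hsK, genk_mem_of_matrix hbr _ wW hwW.1 hwW.2, ?_⟩
    rw [Wg_smul_oinf]
    exact opt_ne_oinf sK 0 0

end Cfsg.Agent.Lib.Helper92.Sz8
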