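import Mathlib
import Cfsg.Agent.Lib.Helper37.POmegaCard
import Cfsg.Agent.Lib.Helper37.OrthOdd1
import Cfsg.Agent.Lib.Helper43.OrthCardForms

/-! # S1686-CARD (leaf for helper98): `|PΩ_7(3)| ≤ 4585351680` -/

set_option autoImplicit false

namespace Cfsg.Agent.Lib.Helper99

open Cfsg.Agent.Lib.Helper37 Cfsg.Agent.Lib.Helper43

/-- `|PΩ_{2m+1}(F)| * 4 ≤ |O_{2m+1}(F)|` in odd characteristic (`m ≥ 1`). -/
theorem card_POmega_odd_mul_four_le {F : Type*} [Field F] [Fintype F] (h2 : (2 : F) ≠ 0) (m : ℕ)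
    (hm : 1 ≤ m) :
    Nat.card (Cfsg.POmega F (Cfsg.quadFormOdd m F)) * 4 ≤
      Nat.card ↥(Cfsg.isometryGroup F (Cfsg.quadFormOdd m F)) := by
  classical
  rw [oddForm_coe]
  have hmul := card_pomega_mul (F := F) (⇑(oddForm m F))
  have hidx : (Cfsg.Omega F ⇑(oddForm m F)).index = 4 :=
    index_omega_eq_four (isGram_of_quadraticForm h2 (oddForm m F))
      (det_ne_zero_of_nondegenerate (oddForm m F) (OrthField.odd_nondeg m h2))
      (by simp only [Fintype.card_sum, Fintype.card_fin, Fintype.card_unit]; omega)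
  rw [hidx] at hmul
  have hc : 1 ≤ Nat.card (Subgroup.center ↥(Cfsg.Omega F ⇑(oddForm m F))) := Nat.card_pos
  calc Nat.card (Cfsg.POmega F ⇑(oddForm m F)) * 4
      = Nat.card (Cfsg.POmega F ⇑(oddForm m F)) * 1 * 4 := by ring
    _ ≤ Nat.card (Cfsg.POmega F ⇑(oddForm m F)) *
          Nat.card (Subgroup.center ↥(Cfsg.Omega F ⇑(oddForm m F))) * 4 := by gcongr
    _ = _ := hmul

theorem card_POmega_7_3_le :
    Nat.card (Cfsg.POmega (ZMod 3) (Cfsg.quadFormOdd 3 (ZMod 3))) ≤ 4585351680 := by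
  have h2 : (2 : ZMod 3) ≠ 0 := by decide
  have : Fact (Nat.Prime 3) := ⟨by norm_num⟩
  have h := card_POmega_odd_mul_four_le (F := ZMod 3) h2 3 (by norm_num)
  rw [card_isometryGroup_odd (m := 3) (F := ZMod 3) h2, ZMod.card] at h
  have e : 2 * 3 ^ (3 ^ 2) * ∏ i ∈ Finset.range 3, (3 ^ (2 * (i + 1)) - 1) = 4585351680 * 4 := by
    simp [Finset.prod_range_succ]
  rw [e] at h
  omega

end Cfsg.Agent.Lib.Helper99
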