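import Cfsg.Agent.Lib.Helper20.F4cDefs

/-! # F4c hive (S2179): leaf F4C-COL (helper99)

The `h_i`-column of a product of root elements of `F₄(F)` along a list, when every earlier factor fixes the root
vectors of the later ones: `(∏ x_{s_j}(c_j)) h_i = h_i - Σ_j A_{i,s_j} c_j e_{s_j}`.  Generalises the column lemmas of
`Lib/Helper20/G2cNRIG.lean` (`chevG2 → chevF4`, three factors → a list). -/

set_option autoImplicit false

namespace Cfsg.Agent.Lib.Helper20.F4c

open Cfsg Cfsg.Lie Cfsg.Agent.Lib.Helper36 Matrix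

variable (F : Type*) [Field F]

/-- column `h_i` of `x_r(c)` -/
theorem f4ccol_col_h (r : ℕ) (hr : r < chevF4.nroots) (c : F) (i : Fin chevF4.rank) (idx : chevF4.Idx) :
    chevF4.x F r c idx (Sum.inl i) =
      if idx = Sum.inl i then 1 else
        if idx = Sum.inr ⟨r, hr⟩ then -((chevF4.cartan i r : ℤ) : F) * c else 0 := by
  unfold ChevalleyDatum.x
  rw [dif_pos hr]
  simp only [ChevalleyDatum.xMat, Matrix.of_apply]
  rcases idx with i' | u
  · simp
  · simp only [reduceCtorEq, if_false, Sum.inr.injEq]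
    rfl

/-- column `e_s` of `x_r(c)` when `e_s` is fixed -/
theorem f4ccol_col_e (r s : ℕ) (hr : r < chevF4.nroots) (hs : s < chevF4.nroots)
    (hfix : s = r ∨ (s ≠ chevF4.neg r ∧ ∀ u < chevF4.nroots, chevF4.chainCoeff r s u = [])) (c : F)
    (idx : chevF4.Idx) :
    chevF4.x F r c idx (Sum.inr ⟨s, hs⟩) = if idx = Sum.inr ⟨s, hs⟩ then 1 else 0 := by
  unfold ChevalleyDatum.x
  rw [dif_pos hr]
  simp only [ChevalleyDatum.xMat, Matrix.of_apply]
  rcases hfix with rfl | ⟨hneg, hch⟩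
  · rw [if_pos rfl]
    rcases idx with i' | u
    · simp
    · simp only [Sum.inr.injEq]
  · by_cases hsr : s = r
    · subst hsr
      rw [if_pos rfl]
      rcases idx with i' | u
      · simp
      · simp only [Sum.inr.injEq]
    · have h1 : (⟨s, hs⟩ : Fin chevF4.nroots) ≠ ⟨r, hr⟩ := fun e => hsr (Fin.mk.inj_iff.1 e)
      rw [if_neg h1]
      have h2 : ¬ ((⟨s, hs⟩ : Fin chevF4.nroots).val = chevF4.negIdx.getD (⟨r, hr⟩ : Fin chevF4.nroots).val 0) := hneg
      rw [if_neg h2]
      rcases idx with i' | u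
      · simp
      · simp only [Sum.inr.injEq]
        rw [hch u.val u.isLt]
        simp

/-- `x_r(c) h_i = h_i - A_{i r} c e_r` -/
theorem f4ccol_mulVec_h (r : ℕ) (hr : r < chevF4.nroots) (c : F) (i : Fin chevF4.rank) :
    chevF4.x F r c *ᵥ Pi.single (Sum.inl i) 1 =
      Pi.single (Sum.inl i) 1 + (-((chevF4.cartan i r : ℤ) : F) * c) • Pi.single (Sum.inr ⟨r, hr⟩) 1 := by
  ext idx
  rw [Matrix.mulVec_single_one]
  simp only [Matrix.col_apply, Pi.add_apply, Pi.smul_apply, smul_eq_mul, Pi.single_apply]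
  rw [f4ccol_col_h F r hr c i idx]
  by_cases h1 : idx = Sum.inl i
  · subst h1
    simp
  · by_cases h2 : idx = Sum.inr ⟨r, hr⟩
    · subst h2
      simp
    · simp [h1, h2]

/-- `x_r(c) e_s = e_s` when `e_s` is fixed -/
theorem f4ccol_mulVec_e (r s : ℕ) (hr : r < chevF4.nroots) (hs : s < chevF4.nroots)
    (hfix : s = r ∨ (s ≠ chevF4.neg r ∧ ∀ u < chevF4.nroots, chevF4.chainCoeff r s u = [])) (c : F) :
    chevF4.x F r c *ᵥ Pi.single (Sum.inr ⟨s, hs⟩) 1 = Pi.single (Sum.inr ⟨s, hs⟩) 1 := by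
  ext idx
  rw [Matrix.mulVec_single_one]
  simp only [Matrix.col_apply, Pi.single_apply]
  rw [f4ccol_col_e F r s hr hs hfix c idx]

/-- the (cheap) fixing condition, as a `Bool`: `s = r`, or `s ≠ -r` and the chain table of `r` has no entry at `s` -/
def f4ccolFix (r s : ℕ) : Bool :=
  s == r || (s != chevF4.neg r && ((chevF4.chain.getD r #[]).toList.filter (fun e => e.1 = s)).isEmpty)

theorem f4ccolFix_spec (r s : ℕ) (h : f4ccolFix r s = true) :
    s = r ∨ (s ≠ chevF4.neg r ∧ ∀ u < chevF4.nroots, chevF4.chainCoeff r s u = []) := by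
  unfold f4ccolFix at h
  simp only [Bool.or_eq_true, beq_iff_eq, Bool.and_eq_true, bne_iff_ne, ne_eq, List.isEmpty_iff] at h
  rcases h with h | ⟨h1, h2⟩
  · exact Or.inl h
  · refine Or.inr ⟨h1, fun u _ => ?_⟩
    unfold ChevalleyDatum.chainCoeff
    rw [h2]
    rfl

/-- the root vector `e_r` as a vector (`0` if `r` is out of range) -/
def f4ccol_eR (r : ℕ) : chevF4.Idx → F := fun idx =>
  match idx with
  | Sum.inl _ => 0
  | Sum.inr u => if u.val = r then 1 else 0

theorem f4ccol_eR_eq (r : ℕ) (hr : r < chevF4.nroots) :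
    f4ccol_eR F r = Pi.single (Sum.inr ⟨r, hr⟩) 1 := by
  ext idx
  rcases idx with i | u
  · simp [f4ccol_eR]
  · simp only [f4ccol_eR, Pi.single_apply, Sum.inr.injEq, Fin.ext_iff]

theorem f4ccol_eR_apply (r s : ℕ) (hs : s < chevF4.nroots) :
    f4ccol_eR F r (Sum.inr ⟨s, hs⟩) = if s = r then 1 else 0 := rfl

/-- the product of the root elements `x_{p.1}(p.2)` along a list -/
noncomputable def f4ccol_word (L : List (ℕ × F)) : Matrix chevF4.Idx chevF4.Idx F :=
  (L.map fun p => chevF4.x F p.1 p.2).prod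

theorem f4ccol_word_nil : f4ccol_word F [] = 1 := rfl

theorem f4ccol_word_cons (p : ℕ × F) (L : List (ℕ × F)) :
    f4ccol_word F (p :: L) = chevF4.x F p.1 p.2 * f4ccol_word F L := by
  unfold f4ccol_word
  rw [List.map_cons, List.prod_cons]

/-- `x_r(c)` fixes a combination of root vectors it fixes -/
theorem f4ccol_fix_sum (r : ℕ) (hr : r < chevF4.nroots) (c : F) (g : ℕ × F → F) (L : List (ℕ × F))
    (hlt : ∀ q ∈ L, q.1 < chevF4.nroots) (hfix : ∀ q ∈ L, f4ccolFix r q.1 = true) :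
    chevF4.x F r c *ᵥ (L.map fun q => g q • f4ccol_eR F q.1).sum = (L.map fun q => g q • f4ccol_eR F q.1).sum := by
  induction L with
  | nil => simp
  | cons q L ih =>
    rw [List.map_cons, List.sum_cons, Matrix.mulVec_add, Matrix.mulVec_smul,
      ih (fun q' hq' => hlt q' (List.mem_cons_of_mem _ hq')) (fun q' hq' => hfix q' (List.mem_cons_of_mem _ hq'))]
    have hq := hlt q (List.mem_cons_self ..)
    rw [f4ccol_eR_eq F q.1 hq,
      f4ccol_mulVec_e F r q.1 hr hq (f4ccolFix_spec r q.1 (hfix q (List.mem_cons_self ..))) c]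

/-- **F4C-COL**: the column `h_i` of a product of root elements, every factor fixing the root vectors of the later
ones: `(∏ x_{s_j}(c_j)) h_i = h_i - Σ_j A_{i,s_j} c_j e_{s_j}` -/
theorem f4ccol_list (L : List (ℕ × F)) (hlt : ∀ p ∈ L, p.1 < chevF4.nroots)
    (hfix : L.Pairwise fun p q => f4ccolFix p.1 q.1 = true) (i : Fin chevF4.rank) :
    f4ccol_word F L *ᵥ Pi.single (Sum.inl i) 1 =
      Pi.single (Sum.inl i) 1 +
        (L.map fun p => (-((chevF4.cartan i p.1 : ℤ) : F) * p.2) • f4ccol_eR F p.1).sum := by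
  induction L with
  | nil => rw [f4ccol_word_nil, Matrix.one_mulVec, List.map_nil, List.sum_nil, add_zero]
  | cons p L ih =>
    rw [List.pairwise_cons] at hfix
    have hp := hlt p (List.mem_cons_self ..)
    rw [f4ccol_word_cons, ← Matrix.mulVec_mulVec,
      ih (fun q hq => hlt q (List.mem_cons_of_mem _ hq)) hfix.2, Matrix.mulVec_add,
      f4ccol_mulVec_h F p.1 hp p.2 i,
      f4ccol_fix_sum F p.1 hp p.2 (fun q => -((chevF4.cartan i q.1 : ℤ) : F) * q.2) L
        (fun q hq => hlt q (List.mem_cons_of_mem _ hq)) hfix.1,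
      List.map_cons, List.sum_cons, f4ccol_eR_eq F p.1 hp, add_assoc]

/-- the coordinate at `e_s` of a combination of root vectors -/
theorem f4ccol_sum_apply (g : ℕ × F → F) (L : List (ℕ × F)) (s : ℕ) (hs : s < chevF4.nroots) :
    (L.map fun q => g q • f4ccol_eR F q.1).sum (Sum.inr ⟨s, hs⟩) =
      (L.map fun q => if s = q.1 then g q else 0).sum := by
  induction L with
  | nil => simp
  | cons q L ih =>
    rw [List.map_cons, List.sum_cons, Pi.add_apply, ih, List.map_cons, List.sum_cons, Pi.smul_apply,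
      f4ccol_eR_apply, smul_eq_mul, mul_ite, mul_one, mul_zero]

/-- **F4C-COL**, coordinate form: the `e_s`-coordinate of `(∏ x_{s_j}(c_j)) h_i` is `- Σ_{s_j = s} A_{i,s} c_j` -/
theorem f4ccol_coord (L : List (ℕ × F)) (hlt : ∀ p ∈ L, p.1 < chevF4.nroots)
    (hfix : L.Pairwise fun p q => f4ccolFix p.1 q.1 = true) (i : Fin chevF4.rank) (s : ℕ)
    (hs : s < chevF4.nroots) :
    (f4ccol_word F L *ᵥ Pi.single (Sum.inl i) 1) (Sum.inr ⟨s, hs⟩) =
      (L.map fun p => if s = p.1 then -((chevF4.cartan i p.1 : ℤ) : F) * p.2 else 0).sum := by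
  rw [f4ccol_list F L hlt hfix i, Pi.add_apply, f4ccol_sum_apply, Pi.single_apply, if_neg (by simp), zero_add]

end Cfsg.Agent.Lib.Helper20.F4c
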