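import Cfsg.Agent.Lib.Helper43.FwDefs

/-! # Fw hive (S3211, helper43): leaf FW-PHI (helper99) -/

set_option autoImplicit false

namespace Cfsg.Agent.Lib.Helper43.Fw

variable {G : Type*} [Group G] {L₁ L₂ : Subgroup G} {j n : G}

/-- FW-PHI -/
theorem phi_phi (h : Setup L₁ L₂ j n) (y : G) (hy : y ∈ Subgroup.centralizer ({j} : Set G)) :
    n * (n * y * n⁻¹) * n⁻¹ = y := by
  have e : n * (n * y * n⁻¹) * n⁻¹ = (n * n) * y * (n * n)⁻¹ := by group
  rw [e, h.nsq]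
  have hjy : j * y = y * j := (Subgroup.mem_centralizer_iff.1 hy) j (Set.mem_singleton j)
  rw [hjy, mul_inv_cancel_right]

/-- FW-PHI: `n` also conjugates `L₂` into `L₁`. -/
theorem phi_L₂ (h : Setup L₁ L₂ j n) (b : G) (hb : b ∈ L₂) : n * b * n⁻¹ ∈ L₁ := by
  rw [h.swap (n * b * n⁻¹)]
  have hbC : b ∈ Subgroup.centralizer ({j} : Set G) := h.le (le_sup_right (a := L₁) hb)
  rw [phi_phi h b hbC]
  exact hb

end Cfsg.Agent.Lib.Helper43.Fw
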