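import Mathlib
import Cfsg.Agent.Lib.Helper37.OrthPlusMain

set_option autoImplicit false
set_option linter.unusedSectionVars false
set_option linter.unusedVariables false

/-!
# Transport of `PΩ(Q)` and of its automorphisms along a rectangular isometry
-/

namespace Cfsg.Agent.Lib.Helper99.GF

open Matrix
open Cfsg.Agent.Lib.Helper37 Cfsg.Agent.Lib.Helper37.OrthField

universe u

/-! ### generic group theory -/

theorem map_commutator_equiv {G H : Type*} [Group G] [Group H] (e : G ≃* H) :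
    (commutator G).map e.toMonoidHom = commutator H := by
  rw [commutator_def, commutator_def, Subgroup.map_commutator,
    Subgroup.map_top_of_surjective _ e.surjective]

theorem map_center_equiv {G H : Type*} [Group G] [Group H] (e : G ≃* H) :
    (Subgroup.center G).map e.toMonoidHom = Subgroup.center H := by
  ext y
  constructor
  · rintro ⟨x, hx, rfl⟩
    rw [SetLike.mem_coe, Subgroup.mem_center_iff] at hx
    rw [Subgroup.mem_center_iff]
    intro z
    obtain ⟨w, rfl⟩ := e.surjective z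
    show e w * e x = e x * e w
    rw [← map_mul, ← map_mul, hx w]
  · intro hy
    refine ⟨e.symm y, ?_, by simp⟩
    rw [Subgroup.mem_center_iff] at hy
    rw [SetLike.mem_coe, Subgroup.mem_center_iff]
    intro z
    apply e.injective
    rw [map_mul, map_mul, e.apply_symm_apply]
    exact hy (e z)

/-- an isomorphism of groups induces an isomorphism of commutator subgroups -/
noncomputable def commCongr {G H : Type*} [Group G] [Group H] (e : G ≃* H) :
    ↥(commutator G) ≃* ↥(commutator H) :=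
  (e.subgroupMap (commutator G)).trans (MulEquiv.subgroupCongr (map_commutator_equiv e))

theorem commCongr_val {G H : Type*} [Group G] [Group H] (e : G ≃* H) (s : ↥(commutator G)) :
    ((commCongr e s : ↥(commutator H)) : H) = e s.1 := rfl

/-- an isomorphism of groups induces an isomorphism of the quotients by the centres -/
noncomputable def quotCenterCongr {G H : Type*} [Group G] [Group H] (e : G ≃* H) :
    G ⧸ Subgroup.center G ≃* H ⧸ Subgroup.center H :=
  QuotientGroup.congr (Subgroup.center G) (Subgroup.center H) e (map_center_equiv e)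

theorem quotCenterCongr_mk {G H : Type*} [Group G] [Group H] (e : G ≃* H) (x : G) :
    quotCenterCongr e (QuotientGroup.mk x) = QuotientGroup.mk (e x) := rfl

theorem quotCenterCongr_symm_mk {G H : Type*} [Group G] [Group H] (e : G ≃* H) (y : H) :
    (quotCenterCongr e).symm (QuotientGroup.mk y) = QuotientGroup.mk (e.symm y) := by
  apply (quotCenterCongr e).injective
  rw [MulEquiv.apply_symm_apply, quotCenterCongr_mk, MulEquiv.apply_symm_apply]

variable {ι₁ ι₂ : Type} [Fintype ι₁] [DecidableEq ι₁] [Fintype ι₂] [DecidableEq ι₂]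
  {F : Type u} [Field F]

/-- a rectangular isometry between two quadratic spaces -/
structure RIso (Q₁ : (ι₁ → F) → F) (Q₂ : (ι₂ → F) → F) where
  A : Matrix ι₂ ι₁ F
  A' : Matrix ι₁ ι₂ F
  hAA' : A * A' = 1
  hA'A : A' * A = 1
  hQ : ∀ v, Q₂ (A *ᵥ v) = Q₁ v

namespace RIso

variable {Q₁ : (ι₁ → F) → F} {Q₂ : (ι₂ → F) → F} (R : RIso Q₁ Q₂)

theorem A_A' (u : ι₂ → F) : R.A *ᵥ (R.A' *ᵥ u) = u := by
  rw [Matrix.mulVec_mulVec, R.hAA', Matrix.one_mulVec]

theorem A'_A (v : ι₁ → F) : R.A' *ᵥ (R.A *ᵥ v) = v := by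
  rw [Matrix.mulVec_mulVec, R.hA'A, Matrix.one_mulVec]

theorem hQ' (u : ι₂ → F) : Q₁ (R.A' *ᵥ u) = Q₂ u := by
  rw [← R.hQ, R.A_A']

/-- the inverse rectangular isometry -/
def symm : RIso Q₂ Q₁ where
  A := R.A'
  A' := R.A
  hAA' := R.hA'A
  hA'A := R.hAA'
  hQ := R.hQ'

/-- conjugation of matrices -/
def cMat : Matrix ι₁ ι₁ F →* Matrix ι₂ ι₂ F where
  toFun M := R.A * M * R.A'
  map_one' := by rw [Matrix.mul_one, R.hAA']
  map_mul' M N := by
    calc R.A * (M * N) * R.A' = R.A * (M * 1 * N) * R.A' := by rw [Matrix.mul_one]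
      _ = R.A * (M * (R.A' * R.A) * N) * R.A' := by rw [R.hA'A]
      _ = R.A * M * R.A' * (R.A * N * R.A') := by simp only [Matrix.mul_assoc]

theorem cMat_apply (M : Matrix ι₁ ι₁ F) : R.cMat M = R.A * M * R.A' := rfl

theorem cMat_symm_cMat (M : Matrix ι₁ ι₁ F) : R.symm.cMat (R.cMat M) = M := by
  show R.A' * (R.A * M * R.A') * R.A = M
  calc R.A' * (R.A * M * R.A') * R.A = (R.A' * R.A) * M * (R.A' * R.A) := by
        simp only [Matrix.mul_assoc]
    _ = M := by rw [R.hA'A, Matrix.one_mul, Matrix.mul_one]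

/-- conjugation on the general linear groups -/
def cGL : GL ι₁ F ≃* GL ι₂ F where
  toFun := Units.map R.cMat
  invFun := Units.map R.symm.cMat
  left_inv g := by
    apply Units.ext
    exact R.cMat_symm_cMat g.1
  right_inv g := by
    apply Units.ext
    exact R.symm.cMat_symm_cMat g.1
  map_mul' := map_mul _

theorem cGL_val (g : GL ι₁ F) : ((R.cGL g : GL ι₂ F) : Matrix ι₂ ι₂ F) = R.A * g.1 * R.A' := rfl

theorem cGL_symm_val (g : GL ι₂ F) :
    ((R.cGL.symm g : GL ι₁ F) : Matrix ι₁ ι₁ F) = R.A' * g.1 * R.A := rfl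

theorem cGL_mulVec (g : GL ι₁ F) (v : ι₁ → F) :
    ((R.cGL g : GL ι₂ F) : Matrix ι₂ ι₂ F) *ᵥ (R.A *ᵥ v) = R.A *ᵥ (g.1 *ᵥ v) := by
  rw [cGL_val, Matrix.mulVec_mulVec, Matrix.mul_assoc, Matrix.mul_assoc, R.hA'A, Matrix.mul_one,
    Matrix.mulVec_mulVec]

theorem cGL_mulVec' (g : GL ι₁ F) (u : ι₂ → F) :
    ((R.cGL g : GL ι₂ F) : Matrix ι₂ ι₂ F) *ᵥ u = R.A *ᵥ (g.1 *ᵥ (R.A' *ᵥ u)) := by
  rw [cGL_val, Matrix.mulVec_mulVec, Matrix.mulVec_mulVec, Matrix.mul_assoc]

/-- a matrix intertwining with `g` is its conjugate -/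
theorem eq_cGL_of_intertwine (g : GL ι₁ F) (X : GL ι₂ F)
    (h : ∀ v, (X : Matrix ι₂ ι₂ F) *ᵥ (R.A *ᵥ v) = R.A *ᵥ (g.1 *ᵥ v)) : X = R.cGL g := by
  apply Units.ext
  apply Matrix.mulVec_injective
  funext u
  rw [← R.A_A' u, h, cGL_mulVec]

theorem cGL_mem_iso (g : GL ι₁ F) (hg : g ∈ Cfsg.isometryGroup F Q₁) :
    R.cGL g ∈ Cfsg.isometryGroup F Q₂ := by
  rw [Cfsg.Agent.Lib.Helper94.mem_isom] at hg ⊢
  intro u
  rw [cGL_mulVec', R.hQ, hg, R.hQ']

theorem cGL_mem_sim (g : GL ι₁ F) (hg : g ∈ Cfsg.Geo.quadSimilarityGroup (F := F) Q₁) :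
    R.cGL g ∈ Cfsg.Geo.quadSimilarityGroup (F := F) Q₂ := by
  obtain ⟨c, hc⟩ := hg
  refine ⟨c, fun u => ?_⟩
  rw [cGL_mulVec', R.hQ, hc, R.hQ']

theorem symm_cGL : R.symm.cGL = R.cGL.symm := rfl

/-- the isomorphism of isometry groups -/
def cIso : ↥(Cfsg.isometryGroup F Q₁) ≃* ↥(Cfsg.isometryGroup F Q₂) where
  toFun g := ⟨R.cGL g.1, R.cGL_mem_iso g.1 g.2⟩
  invFun g := ⟨R.cGL.symm g.1, R.symm.cGL_mem_iso g.1 g.2⟩
  left_inv g := Subtype.ext (R.cGL.symm_apply_apply g.1)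
  right_inv g := Subtype.ext (R.cGL.apply_symm_apply g.1)
  map_mul' a b := Subtype.ext (map_mul R.cGL a.1 b.1)

theorem cIso_val (g : ↥(Cfsg.isometryGroup F Q₁)) : ((R.cIso g).1 : GL ι₂ F) = R.cGL g.1 := rfl

/-- the isomorphism of similarity groups -/
def cSim : ↥(Cfsg.Geo.quadSimilarityGroup (F := F) Q₁) ≃*
    ↥(Cfsg.Geo.quadSimilarityGroup (F := F) Q₂) where
  toFun g := ⟨R.cGL g.1, R.cGL_mem_sim g.1 g.2⟩
  invFun g := ⟨R.cGL.symm g.1, R.symm.cGL_mem_sim g.1 g.2⟩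
  left_inv g := Subtype.ext (R.cGL.symm_apply_apply g.1)
  right_inv g := Subtype.ext (R.cGL.apply_symm_apply g.1)
  map_mul' a b := Subtype.ext (map_mul R.cGL a.1 b.1)

theorem cSim_val (g : ↥(Cfsg.Geo.quadSimilarityGroup (F := F) Q₁)) :
    ((R.cSim g).1 : GL ι₂ F) = R.cGL g.1 := rfl

/-- the isomorphism of `Ω` -/
noncomputable def cOm : ↥(Cfsg.Omega F Q₁) ≃* ↥(Cfsg.Omega F Q₂) := commCongr R.cIso

theorem cOm_val (s : ↥(Cfsg.Omega F Q₁)) : ((R.cOm s).1.1 : GL ι₂ F) = R.cGL s.1.1 := rfl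

/-- the isomorphism of `PΩ` -/
noncomputable def cPO : Cfsg.POmega F Q₁ ≃* Cfsg.POmega F Q₂ := quotCenterCongr R.cOm

theorem cPO_mk (s : ↥(Cfsg.Omega F Q₁)) :
    R.cPO (QuotientGroup.mk s) = QuotientGroup.mk (R.cOm s) := rfl

theorem cPO_symm_mk (s : ↥(Cfsg.Omega F Q₂)) :
    R.cPO.symm (QuotientGroup.mk s) = QuotientGroup.mk (R.cOm.symm s) :=
  quotCenterCongr_symm_mk R.cOm s

/-- the isomorphism of automorphism groups -/
noncomputable def cAut : MulAut (Cfsg.POmega F Q₁) ≃* MulAut (Cfsg.POmega F Q₂) :=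
  MulAut.congr R.cPO

theorem cAut_apply (β : MulAut (Cfsg.POmega F Q₁)) (y : Cfsg.POmega F Q₂) :
    R.cAut β y = R.cPO (β (R.cPO.symm y)) := rfl

/-! ### semilinear pairs -/

theorem map_mulVec_vm' {κ₁ κ₂ : Type} [Fintype κ₁] [Fintype κ₂] (σ : F ≃+* F)
    (M : Matrix κ₂ κ₁ F) (w : κ₁ → F) : (M.map σ) *ᵥ (vm σ w) = vm σ (M *ᵥ w) := by
  ext i
  simp [Matrix.mulVec, dotProduct, vm, map_sum, map_mul]

theorem map_mul_map (σ : F ≃+* F) {κ₁ κ₂ κ₃ : Type} [Fintype κ₁] [Fintype κ₂] [Fintype κ₃]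
    (M : Matrix κ₁ κ₂ F) (N : Matrix κ₂ κ₃ F) : M.map σ * N.map σ = (M * N).map σ := by
  ext i k
  simp [Matrix.mul_apply, map_sum, map_mul]

theorem one_map (σ : F ≃+* F) {κ : Type} [DecidableEq κ] :
    (1 : Matrix κ κ F).map σ = 1 := by
  ext i k
  by_cases h : i = k
  · subst h; simp
  · simp [Matrix.one_apply, h]

/-- the left component of the transported pair -/
def cSemiLeft (p : GamL ι₁ F) : GL ι₂ F :=
  ⟨R.A * p.left.1 * R.A'.map p.right, R.A.map p.right * (p.left⁻¹).1 * R.A', by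
    calc R.A * p.left.1 * R.A'.map p.right * (R.A.map p.right * (p.left⁻¹).1 * R.A')
        = R.A * (p.left.1 * (R.A'.map p.right * R.A.map p.right) * (p.left⁻¹).1) * R.A' := by
          simp only [Matrix.mul_assoc]
      _ = 1 := by
          rw [map_mul_map, R.hA'A, one_map, Matrix.mul_one, ← Units.val_mul, mul_inv_cancel,
            Units.val_one, Matrix.mul_one, R.hAA'], by
    calc R.A.map p.right * (p.left⁻¹).1 * R.A' * (R.A * p.left.1 * R.A'.map p.right)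
        = R.A.map p.right * ((p.left⁻¹).1 * (R.A' * R.A) * p.left.1) * R.A'.map p.right := by
          simp only [Matrix.mul_assoc]
      _ = 1 := by
          rw [R.hA'A, Matrix.mul_one, ← Units.val_mul, inv_mul_cancel, Units.val_one,
            Matrix.mul_one, map_mul_map, R.hAA', one_map]⟩

/-- the transported pair -/
def cSemi (p : GamL ι₁ F) : GamL ι₂ F := ⟨R.cSemiLeft p, p.right⟩

theorem cSemi_right (p : GamL ι₁ F) : (R.cSemi p).right = p.right := rfl

theorem sm_cSemi (p : GamL ι₁ F) (v : ι₁ → F) : sm (R.cSemi p) (R.A *ᵥ v) = R.A *ᵥ sm p v := by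
  unfold sm
  show (R.A * p.left.1 * R.A'.map p.right) *ᵥ vm p.right (R.A *ᵥ v) = _
  rw [← map_mulVec_vm', Matrix.mulVec_mulVec, Matrix.mul_assoc, map_mul_map, R.hA'A, one_map,
    Matrix.mul_one, Matrix.mulVec_mulVec]

theorem sm_cSemi' (p : GamL ι₁ F) (u : ι₂ → F) :
    sm (R.cSemi p) u = R.A *ᵥ sm p (R.A' *ᵥ u) := by
  rw [← sm_cSemi, R.A_A']

theorem cSemi_mem (p : GamL ι₁ F) (hp : p ∈ semiO Q₁) : R.cSemi p ∈ semiO Q₂ := by
  obtain ⟨c, hc⟩ := hp
  refine ⟨c, fun u => ?_⟩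
  rw [sm_cSemi', R.hQ, hc, R.hQ', cSemi_right]

theorem cSemi_inl (g : GL ι₁ F) :
    R.cSemi (SemidirectProduct.inl g : GamL ι₁ F) = SemidirectProduct.inl (R.cGL g) := by
  apply sm_injective
  · rfl
  · intro u
    rw [sm_cSemi', sm_inl, sm_inl, cGL_mulVec']

theorem cSemi_mul (p q : GamL ι₁ F) : R.cSemi (p * q) = R.cSemi p * R.cSemi q := by
  apply sm_injective
  · rfl
  · intro u
    rw [sm_cSemi', sm_mul, sm_mul, sm_cSemi', sm_cSemi', R.A'_A]

/-- transport of the automorphisms induced by semisimilarities -/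
theorem cAut_Psi (p : ↥(semiO Q₁)) :
    R.cAut (Psi Q₁ p) = Psi Q₂ ⟨R.cSemi p.1, R.cSemi_mem p.1 p.2⟩ := by
  rw [← isInduced_iff_Psi]
  intro s s' hs
  rw [cAut_apply, cPO_symm_mk, Psi_mk, cPO_mk]
  congr 1
  apply Subtype.ext
  apply Subtype.ext
  symm
  rw [cOm_val]
  apply R.eq_cGL_of_intertwine
  intro v
  have hs' : ((s'.1.1 : GL ι₂ F)) = actGL (R.cSemi p.1) s.1.1 := by
    apply Units.ext
    rw [hs, actGL_apply, Units.val_mul, Units.val_mul, gm_val]
  obtain ⟨t, ht⟩ : ∃ t, t = R.cOm.symm s := ⟨_, rfl⟩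
  have hst : (s.1.1 : GL ι₂ F) = R.cGL t.1.1 := by
    have : s = R.cOm t := by rw [ht, MulEquiv.apply_symm_apply]
    rw [this, cOm_val]
  have hv : v = sm p.1 (sm p.1⁻¹ v) := (sm_sm_inv p.1 v).symm
  rw [← ht, Psi_mk_val, ← actGL_apply, hv]
  generalize sm p.1⁻¹ v = w
  rw [hs', ← sm_cSemi, actGL_mulVec, hst, cGL_mulVec, sm_cSemi, actGL_mulVec]

/-- transport of the automorphisms induced by similarities -/
theorem cAut_Phi (g : ↥(Cfsg.Geo.quadSimilarityGroup (F := F) Q₁)) :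
    R.cAut (Phi Q₁ g) = Phi Q₂ (R.cSim g) := by
  rw [← Psi_simToSemi, cAut_Psi, ← Psi_simToSemi]
  congr 1

end RIso

end Cfsg.Agent.Lib.Helper99.GF
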