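import Mathlib
import Cfsg.Prelude.Def_LieTypeDatum

set_option autoImplicit false
set_option linter.unusedSectionVars false
set_option linter.unusedVariables false

/-!
# Transport of class preservation along a semilinear bijection
-/

namespace Cfsg.Agent.Lib.Helper99.GF

open Matrix Module

section transport

variable {K F : Type*} [Field K] [Field F] (ψ : K ≃+* F)
  {κ κ' : Type} [Fintype κ] [DecidableEq κ] [Fintype κ'] [DecidableEq κ']
  (L : (κ → K) → (κ' → F)) (hLbij : Function.Bijective L)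
  (hLadd : ∀ v w, L (v + w) = L v + L w) (hLsmul : ∀ (c : K) v, L (c • v) = ψ c • L v)

include hLadd in
theorem L_zero : L 0 = 0 := by
  have h := hLadd 0 0
  rw [add_zero] at h
  exact left_eq_add.1 h

/-- the preimage of a subspace -/
def pull (W : Submodule F (κ' → F)) : Submodule K (κ → K) where
  carrier := {v | L v ∈ W}
  add_mem' := by
    intro a b ha hb
    show L (a + b) ∈ W
    rw [hLadd]
    exact W.add_mem ha hb
  zero_mem' := by
    show L 0 ∈ W
    rw [L_zero L hLadd]
    exact W.zero_mem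
  smul_mem' := by
    intro c x hx
    show L (c • x) ∈ W
    rw [hLsmul]
    exact W.smul_mem _ hx

theorem mem_pull (W : Submodule F (κ' → F)) (v : κ → K) :
    v ∈ pull ψ L hLadd hLsmul W ↔ L v ∈ W := Iff.rfl

include hLbij in
theorem exists_pre (w : κ' → F) : ∃ v, L v = w := hLbij.2 w

/-- the image of a subspace -/
def push (U : Submodule K (κ → K)) : Submodule F (κ' → F) where
  carrier := {w | ∃ v ∈ U, L v = w}
  add_mem' := by
    rintro _ _ ⟨a, ha, rfl⟩ ⟨b, hb, rfl⟩
    exact ⟨a + b, U.add_mem ha hb, hLadd a b⟩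
  zero_mem' := ⟨0, U.zero_mem, L_zero L hLadd⟩
  smul_mem' := by
    rintro c _ ⟨a, ha, rfl⟩
    refine ⟨ψ.symm c • a, U.smul_mem _ ha, ?_⟩
    rw [hLsmul, RingEquiv.apply_symm_apply]

include hLbij in
theorem pull_push (U : Submodule K (κ → K)) :
    pull ψ L hLadd hLsmul (push ψ L hLadd hLsmul U) = U := by
  ext v
  constructor
  · rintro ⟨a, ha, hav⟩
    rw [← hLbij.1 hav]
    exact ha
  · intro hv
    exact ⟨v, hv, rfl⟩

include hLbij in
theorem push_pull (W : Submodule F (κ' → F)) :
    push ψ L hLadd hLsmul (pull ψ L hLadd hLsmul W) = W := by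
  ext w
  constructor
  · rintro ⟨a, ha, rfl⟩
    exact ha
  · intro hw
    obtain ⟨v, rfl⟩ := hLbij.2 w
    exact ⟨v, hw, rfl⟩

theorem push_mono {U U' : Submodule K (κ → K)} (h : U ≤ U') :
    push ψ L hLadd hLsmul U ≤ push ψ L hLadd hLsmul U' := by
  rintro _ ⟨a, ha, rfl⟩
  exact ⟨a, h ha, rfl⟩

theorem pull_inf (W₁ W₂ : Submodule F (κ' → F)) :
    pull ψ L hLadd hLsmul (W₁ ⊓ W₂) = pull ψ L hLadd hLsmul W₁ ⊓ pull ψ L hLadd hLsmul W₂ := by
  ext v
  exact Iff.rfl

include hLbij in
theorem finrank_pull [Finite K] (W : Submodule F (κ' → F)) :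
    finrank K ↥(pull ψ L hLadd hLsmul W) = finrank F ↥W := by
  haveI : Finite F := Finite.of_equiv K ψ.toEquiv
  have hcard : Nat.card K = Nat.card F := Nat.card_congr ψ.toEquiv
  let e : ↥(pull ψ L hLadd hLsmul W) ≃ ↥W :=
    { toFun := fun v => ⟨L v.1, v.2⟩
      invFun := fun w => ⟨(Equiv.ofBijective L hLbij).symm w.1, by
        show L ((Equiv.ofBijective L hLbij).symm w.1) ∈ W
        have := (Equiv.ofBijective L hLbij).apply_symm_apply w.1
        rw [Equiv.ofBijective_apply] at this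
        rw [this]
        exact w.2⟩
      left_inv := fun v => Subtype.ext ((Equiv.ofBijective L hLbij).symm_apply_apply v.1)
      right_inv := fun w => Subtype.ext (by
        have := (Equiv.ofBijective L hLbij).apply_symm_apply w.1
        rw [Equiv.ofBijective_apply] at this
        exact this) }
  have h1 : Nat.card ↥(pull ψ L hLadd hLsmul W) = Nat.card ↥W := Nat.card_congr e
  rw [Module.natCard_eq_pow_finrank (K := K) (V := ↥(pull ψ L hLadd hLsmul W)),
    Module.natCard_eq_pow_finrank (K := F) (V := ↥W), hcard] at h1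
  have h2 : 1 < Nat.card F := Finite.one_lt_card
  exact Nat.pow_right_injective h2 h1

variable (QK : (κ → K) → K) (QF : (κ' → F) → F) (hQ : ∀ v, QF (L v) = ψ (QK v))

include hQ in
theorem ts_pull (W : Submodule F (κ' → F)) (hW : Cfsg.Geo.IsTotallySingularQuad QF W) :
    Cfsg.Geo.IsTotallySingularQuad QK (pull ψ L hLadd hLsmul W) := by
  intro v hv
  have h1 := hW (L v) hv
  rw [hQ] at h1
  exact (map_eq_zero ψ).1 h1

include hQ in
theorem ts_push (U : Submodule K (κ → K)) (hU : Cfsg.Geo.IsTotallySingularQuad QK U) :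
    Cfsg.Geo.IsTotallySingularQuad QF (push ψ L hLadd hLsmul U) := by
  rintro _ ⟨a, ha, rfl⟩
  rw [hQ, hU a ha, map_zero]

include hQ hLbij in
theorem isMax_pull (W : Submodule F (κ' → F)) (hW : Cfsg.IsMaxTotallySingular QF W) :
    Cfsg.IsMaxTotallySingular QK (pull ψ L hLadd hLsmul W) := by
  refine ⟨ts_pull ψ L hLadd hLsmul QK QF hQ W hW.1, ?_⟩
  intro U' hU' hle
  have h1 : W ≤ push ψ L hLadd hLsmul U' := by
    rw [← push_pull ψ L hLbij hLadd hLsmul W]
    exact push_mono ψ L hLadd hLsmul hle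
  have h2 := hW.2 _ (ts_push ψ L hLadd hLsmul QK QF hQ U' hU') h1
  rw [← pull_push ψ L hLbij hLadd hLsmul U', h2]

variable (M : Matrix κ κ K) (M' : Matrix κ' κ' F) (hM : ∀ v, M' *ᵥ (L v) = L (M *ᵥ v))

include hLbij hM in
theorem pull_image (W : Submodule F (κ' → F)) :
    pull ψ L hLadd hLsmul (Cfsg.imageSubmodule M' W) =
      Cfsg.imageSubmodule M (pull ψ L hLadd hLsmul W) := by
  ext v
  unfold Cfsg.imageSubmodule
  rw [mem_pull, Submodule.mem_map, Submodule.mem_map]
  constructor
  · rintro ⟨w, hw, hwv⟩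
    obtain ⟨u, rfl⟩ := hLbij.2 w
    refine ⟨u, hw, ?_⟩
    rw [Matrix.toLin'_apply] at hwv ⊢
    rw [hM] at hwv
    exact hLbij.1 hwv
  · rintro ⟨u, hu, rfl⟩
    refine ⟨L u, hu, ?_⟩
    rw [Matrix.toLin'_apply, Matrix.toLin'_apply, hM]

include hLbij hQ hM hLadd hLsmul in
/-- class preservation transfers along a semilinear bijection of quadratic spaces -/
theorem preserves_transport [Finite K] (h : Cfsg.PreservesSingularClasses QK M) :
    Cfsg.PreservesSingularClasses QF M' := by
  intro W hW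
  have h1 := h _ (isMax_pull ψ L hLbij hLadd hLsmul QK QF hQ W hW)
  unfold Cfsg.SameParityClass at h1 ⊢
  rw [← pull_image ψ L hLbij hLadd hLsmul M M' hM, ← pull_inf,
    finrank_pull ψ L hLbij hLadd hLsmul, finrank_pull ψ L hLbij hLadd hLsmul] at h1
  exact h1

end transport

end Cfsg.Agent.Lib.Helper99.GF
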