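import Mathlib
import Cfsg.Agent.Lib.Helper99.GF1

set_option autoImplicit false
set_option linter.unusedSectionVars false
set_option linter.unusedVariables false

/-!
# The split minus form is the plus form
-/

namespace Cfsg.Agent.Lib.Helper99.GF

open Matrix
open Cfsg.Agent.Lib.Helper37 Cfsg.Agent.Lib.Helper37.OrthField Cfsg.Agent.Lib.Helper8

universe u

variable (k : ℕ) {F : Type u} [Field F] (θ θ' : F)

/-- the splitting map -/
def splitFun (v : (Fin k ⊕ Fin k) ⊕ Fin 2 → F) : Fin (k + 1) ⊕ Fin (k + 1) → F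
  | Sum.inl i => Fin.lastCases (v (Sum.inr 0) - θ * v (Sum.inr 1))
      (fun i' => v (Sum.inl (Sum.inl i'))) i
  | Sum.inr i => Fin.lastCases (v (Sum.inr 0) - θ' * v (Sum.inr 1))
      (fun i' => v (Sum.inl (Sum.inr i'))) i

theorem splitFun_inl_cast (v : (Fin k ⊕ Fin k) ⊕ Fin 2 → F) (i : Fin k) :
    splitFun k θ θ' v (Sum.inl i.castSucc) = v (Sum.inl (Sum.inl i)) := by
  simp [splitFun]

theorem splitFun_inr_cast (v : (Fin k ⊕ Fin k) ⊕ Fin 2 → F) (i : Fin k) :
    splitFun k θ θ' v (Sum.inr i.castSucc) = v (Sum.inl (Sum.inr i)) := by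
  simp [splitFun]

theorem splitFun_inl_last (v : (Fin k ⊕ Fin k) ⊕ Fin 2 → F) :
    splitFun k θ θ' v (Sum.inl (Fin.last k)) = v (Sum.inr 0) - θ * v (Sum.inr 1) := by
  simp [splitFun]

theorem splitFun_inr_last (v : (Fin k ⊕ Fin k) ⊕ Fin 2 → F) :
    splitFun k θ θ' v (Sum.inr (Fin.last k)) = v (Sum.inr 0) - θ' * v (Sum.inr 1) := by
  simp [splitFun]

/-- the splitting map as a linear map -/
def splitLin : ((Fin k ⊕ Fin k) ⊕ Fin 2 → F) →ₗ[F] (Fin (k + 1) ⊕ Fin (k + 1) → F) where
  toFun := splitFun k θ θ'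
  map_add' v w := by
    funext j
    rcases j with i | i
    · refine Fin.lastCases ?_ (fun i' => ?_) i
      · simp only [Pi.add_apply, splitFun_inl_last]; ring
      · simp only [Pi.add_apply, splitFun_inl_cast]
    · refine Fin.lastCases ?_ (fun i' => ?_) i
      · simp only [Pi.add_apply, splitFun_inr_last]; ring
      · simp only [Pi.add_apply, splitFun_inr_cast]
  map_smul' c v := by
    funext j
    rcases j with i | i
    · refine Fin.lastCases ?_ (fun i' => ?_) i
      · simp only [Pi.smul_apply, smul_eq_mul, splitFun_inl_last, RingHom.id_apply]; ring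
      · simp only [Pi.smul_apply, smul_eq_mul, splitFun_inl_cast, RingHom.id_apply]
    · refine Fin.lastCases ?_ (fun i' => ?_) i
      · simp only [Pi.smul_apply, smul_eq_mul, splitFun_inr_last, RingHom.id_apply]; ring
      · simp only [Pi.smul_apply, smul_eq_mul, splitFun_inr_cast, RingHom.id_apply]

/-- the inverse of the splitting map -/
def unsplitFun (d : F) (u : Fin (k + 1) ⊕ Fin (k + 1) → F) : (Fin k ⊕ Fin k) ⊕ Fin 2 → F
  | Sum.inl (Sum.inl i) => u (Sum.inl i.castSucc)
  | Sum.inl (Sum.inr i) => u (Sum.inr i.castSucc)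
  | Sum.inr j => ![d * (θ' * u (Sum.inl (Fin.last k)) - θ * u (Sum.inr (Fin.last k))),
      d * (u (Sum.inl (Fin.last k)) - u (Sum.inr (Fin.last k)))] j

/-- the inverse splitting map as a linear map -/
def unsplitLin (d : F) :
    (Fin (k + 1) ⊕ Fin (k + 1) → F) →ₗ[F] ((Fin k ⊕ Fin k) ⊕ Fin 2 → F) where
  toFun := unsplitFun k θ θ' d
  map_add' v w := by
    funext j
    rcases j with (i | i) | i
    · rfl
    · rfl
    · fin_cases i
      · simp only [unsplitFun, Pi.add_apply]
        show d * (θ' * (v _ + w _) - θ * (v _ + w _)) = d * _ + d * _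
        ring
      · simp only [unsplitFun, Pi.add_apply]
        show d * ((v _ + w _) - (v _ + w _)) = d * _ + d * _
        ring
  map_smul' c v := by
    funext j
    rcases j with (i | i) | i
    · rfl
    · rfl
    · fin_cases i
      · simp only [unsplitFun, Pi.smul_apply, smul_eq_mul, RingHom.id_apply]
        show d * (θ' * (c * v _) - θ * (c * v _)) = c * (d * _)
        ring
      · simp only [unsplitFun, Pi.smul_apply, smul_eq_mul, RingHom.id_apply]
        show d * ((c * v _) - (c * v _)) = c * (d * _)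
        ring

theorem split_unsplit (hθ : θ ≠ θ') (u : Fin (k + 1) ⊕ Fin (k + 1) → F) :
    splitFun k θ θ' (unsplitFun k θ θ' (θ' - θ)⁻¹ u) = u := by
  have hd : θ' - θ ≠ 0 := sub_ne_zero.2 (Ne.symm hθ)
  funext j
  rcases j with i | i
  · refine Fin.lastCases ?_ (fun i' => ?_) i
    · rw [splitFun_inl_last]
      show (θ' - θ)⁻¹ * (θ' * u _ - θ * u _) - θ * ((θ' - θ)⁻¹ * (u _ - u _)) = _
      field_simp
      ring
    · rw [splitFun_inl_cast]
      rfl
  · refine Fin.lastCases ?_ (fun i' => ?_) i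
    · rw [splitFun_inr_last]
      show (θ' - θ)⁻¹ * (θ' * u _ - θ * u _) - θ' * ((θ' - θ)⁻¹ * (u _ - u _)) = _
      field_simp
      ring
    · rw [splitFun_inr_cast]
      rfl

theorem unsplit_split (hθ : θ ≠ θ') (v : (Fin k ⊕ Fin k) ⊕ Fin 2 → F) :
    unsplitFun k θ θ' (θ' - θ)⁻¹ (splitFun k θ θ' v) = v := by
  have hd : θ' - θ ≠ 0 := sub_ne_zero.2 (Ne.symm hθ)
  funext j
  rcases j with (i | i) | i
  · show splitFun k θ θ' v (Sum.inl i.castSucc) = _
    rw [splitFun_inl_cast]
  · show splitFun k θ θ' v (Sum.inr i.castSucc) = _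
    rw [splitFun_inr_cast]
  · fin_cases i
    · show (θ' - θ)⁻¹ * (θ' * splitFun k θ θ' v (Sum.inl (Fin.last k)) -
        θ * splitFun k θ θ' v (Sum.inr (Fin.last k))) = v (Sum.inr 0)
      rw [splitFun_inl_last, splitFun_inr_last]
      field_simp
      ring
    · show (θ' - θ)⁻¹ * (splitFun k θ θ' v (Sum.inl (Fin.last k)) -
        splitFun k θ θ' v (Sum.inr (Fin.last k))) = v (Sum.inr 1)
      rw [splitFun_inl_last, splitFun_inr_last]
      field_simp
      ring

theorem plus_splitFun (a b : F) (ha : θ + θ' = -a) (hb : θ * θ' = b)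
    (v : (Fin k ⊕ Fin k) ⊕ Fin 2 → F) :
    Cfsg.quadFormPlus (k + 1) F (splitFun k θ θ' v) = Cfsg.quadFormMinus k F a b v := by
  unfold Cfsg.quadFormPlus Cfsg.quadFormMinus
  rw [Fin.sum_univ_castSucc, splitFun_inl_last, splitFun_inr_last]
  simp only [splitFun_inl_cast, splitFun_inr_cast]
  have ha' : a = -(θ + θ') := by rw [ha, neg_neg]
  rw [ha', ← hb]
  ring

/-- the rectangular isometry from the split minus form to the plus form -/
noncomputable def splitIso (a b : F) (ha : θ + θ' = -a) (hb : θ * θ' = b) (hθ : θ ≠ θ') :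
    RIso (⇑(minusForm k F a b)) (⇑(plusForm (k + 1) F)) where
  A := LinearMap.toMatrix' (splitLin k θ θ')
  A' := LinearMap.toMatrix' (unsplitLin k θ θ' (θ' - θ)⁻¹)
  hAA' := by
    rw [← LinearMap.toMatrix'_comp, ← LinearMap.toMatrix'_id]
    congr 1
    apply LinearMap.ext
    intro u
    exact split_unsplit k θ θ' hθ u
  hA'A := by
    rw [← LinearMap.toMatrix'_comp, ← LinearMap.toMatrix'_id]
    congr 1
    apply LinearMap.ext
    intro v
    exact unsplit_split k θ θ' hθ v
  hQ v := by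
    rw [LinearMap.toMatrix'_mulVec, ← plusForm_coe, ← minusForm_coe]
    exact plus_splitFun k θ θ' a b ha hb v

theorem splitIso_A_mulVec (a b : F) (ha : θ + θ' = -a) (hb : θ * θ' = b) (hθ : θ ≠ θ')
    (v : (Fin k ⊕ Fin k) ⊕ Fin 2 → F) :
    (splitIso k θ θ' a b ha hb hθ).A *ᵥ v = splitFun k θ θ' v :=
  LinearMap.toMatrix'_mulVec _ v

theorem splitIso_A'_mulVec (a b : F) (ha : θ + θ' = -a) (hb : θ * θ' = b) (hθ : θ ≠ θ')
    (u : Fin (k + 1) ⊕ Fin (k + 1) → F) :
    (splitIso k θ θ' a b ha hb hθ).A' *ᵥ u = unsplitFun k θ θ' (θ' - θ)⁻¹ u :=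
  LinearMap.toMatrix'_mulVec _ u

/-! ### the twisted pair -/

/-- exchanging the last hyperbolic pair -/
def swapLast (x : Fin (k + 1) ⊕ Fin (k + 1) → F) : Fin (k + 1) ⊕ Fin (k + 1) → F
  | Sum.inl i => Fin.lastCases (x (Sum.inr (Fin.last k))) (fun i' => x (Sum.inl i'.castSucc)) i
  | Sum.inr i => Fin.lastCases (x (Sum.inl (Fin.last k))) (fun i' => x (Sum.inr i'.castSucc)) i

theorem split_vm (σ : F ≃+* F) (hσθ : σ θ = θ') (hσθ' : σ θ' = θ)
    (w : (Fin k ⊕ Fin k) ⊕ Fin 2 → F) :
    splitFun k θ θ' (vm σ w) = swapLast k (vm σ (splitFun k θ θ' w)) := by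
  funext j
  rcases j with i | i
  · refine Fin.lastCases ?_ (fun i' => ?_) i
    · simp only [swapLast, Fin.lastCases_last, vm_apply, splitFun_inl_last, splitFun_inr_last,
        map_sub, map_mul, hσθ']
    · simp only [swapLast, Fin.lastCases_castSucc, vm_apply, splitFun_inl_cast]
  · refine Fin.lastCases ?_ (fun i' => ?_) i
    · simp only [swapLast, Fin.lastCases_last, vm_apply, splitFun_inl_last, splitFun_inr_last,
        map_sub, map_mul, hσθ]
    · simp only [swapLast, Fin.lastCases_castSucc, vm_apply, splitFun_inr_cast]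

/-- the vector whose reflection exchanges the last hyperbolic pair -/
def lastVec (k : ℕ) (F : Type u) [Field F] : Fin (k + 1) ⊕ Fin (k + 1) → F :=
  Pi.single (Sum.inl (Fin.last k)) 1 - Pi.single (Sum.inr (Fin.last k)) 1

theorem plus_lastVec : plusForm (k + 1) F (lastVec k F) = -1 := by
  rw [← plusForm_coe]
  unfold Cfsg.quadFormPlus lastVec
  rw [Finset.sum_eq_single (Fin.last k)]
  · simp
  · intro i _ hi
    simp [Pi.single_apply, hi]
  · intro h
    exact absurd (Finset.mem_univ _) h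

theorem plus_lastVec_ne : plusForm (k + 1) F (lastVec k F) ≠ 0 := by
  rw [plus_lastVec]
  exact neg_ne_zero.2 one_ne_zero

theorem polar_lastVec (x : Fin (k + 1) ⊕ Fin (k + 1) → F) :
    QuadraticMap.polar (⇑(plusForm (k + 1) F)) (lastVec k F) x =
      x (Sum.inr (Fin.last k)) - x (Sum.inl (Fin.last k)) := by
  rw [polar_plusForm, Finset.sum_eq_single (Fin.last k)]
  · simp [lastVec]
    ring
  · intro i _ hi
    simp [lastVec, Pi.single_apply, hi]
  · intro h
    exact absurd (Finset.mem_univ _) h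

theorem refl_lastVec (x : Fin (k + 1) ⊕ Fin (k + 1) → F) :
    Cfsg.reflectionMatrix (⇑(plusForm (k + 1) F)) (lastVec k F) *ᵥ x = swapLast k x := by
  rw [Cfsg.Agent.Lib.Helper13.reflectionMatrix_mulVec, plus_lastVec, polar_lastVec]
  funext j
  rcases j with i | i
  · refine Fin.lastCases ?_ (fun i' => ?_) i
    · simp [swapLast, lastVec]
    · simp [swapLast, lastVec, Pi.single_apply]
  · refine Fin.lastCases ?_ (fun i' => ?_) i
    · simp [swapLast, lastVec]
    · simp [swapLast, lastVec, Pi.single_apply]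

/-- the transported field automorphism is the reflection times the field automorphism -/
theorem cSemi_inr (a b : F) (ha : θ + θ' = -a) (hb : θ * θ' = b) (hθ : θ ≠ θ')
    (σ : F ≃+* F) (hσθ : σ θ = θ') (hσθ' : σ θ' = θ) :
    (splitIso k θ θ' a b ha hb hθ).cSemi (SemidirectProduct.inr σ) =
      SemidirectProduct.inl (reflElt (plusForm (k + 1) F) (lastVec k F) (plus_lastVec_ne k)).1 *
        SemidirectProduct.inr σ := by
  apply sm_injective
  · rw [RIso.cSemi_right, SemidirectProduct.mul_right, SemidirectProduct.right_inl,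
      SemidirectProduct.right_inr, one_mul, SemidirectProduct.right_inr]
  · intro u
    rw [RIso.sm_cSemi', sm_mul, sm_inr, sm_inl, sm_inr, coe_reflElt, refl_lastVec,
      splitIso_A_mulVec, split_vm k θ θ' σ hσθ hσθ', ← splitIso_A_mulVec k θ θ' a b ha hb hθ,
      RIso.A_A']

end Cfsg.Agent.Lib.Helper99.GF
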