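import Mathlib
import Cfsg.Agent.Lib.Helper99.GF2
import Cfsg.Agent.Lib.Helper99.GF3
import Cfsg.Agent.Lib.Helper37.MinusDiag

set_option autoImplicit false
set_option linter.unusedSectionVars false
set_option linter.unusedVariables false

/-!
# Class preservation for the minus form over the small field and for the plus form
-/

namespace Cfsg.Agent.Lib.Helper99.GF

open Matrix Module Polynomial
open Cfsg.Agent.Lib.Helper37 Cfsg.Agent.Lib.Helper37.OrthField Cfsg.Agent.Lib.Helper8

universe u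

theorem exists_algEquiv_of_card_eq {F₀ K F : Type*} [Field F₀] [Field K] [Field F] [Fintype K]
    [Fintype F] [Algebra F₀ K] [Algebra F₀ F] (h : Fintype.card K = Fintype.card F) :
    Nonempty (K ≃ₐ[F₀] F) := by
  haveI h1 : IsSplittingField F₀ K (X ^ Fintype.card K - X) :=
    FiniteField.isSplittingField_sub K F₀
  haveI h2 : IsSplittingField F₀ F (X ^ Fintype.card K - X) := by
    rw [h]; exact FiniteField.isSplittingField_sub F F₀
  exact ⟨(IsSplittingField.algEquiv K (X ^ Fintype.card K - X : F₀[X])).trans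
    (IsSplittingField.algEquiv F (X ^ Fintype.card K - X : F₀[X])).symm⟩

theorem exists_ringEquiv_over {F₀ F K : Type*} [Field F₀] [Field F] [Fintype F₀] [Fintype F]
    (j : F₀ →+* F) (hcard : Fintype.card F = Fintype.card F₀ ^ 2)
    [Field K] [Algebra F₀ K] (hK : finrank F₀ K = 2) :
    ∃ ψ : K ≃+* F, ∀ a, ψ (algebraMap F₀ K a) = j a := by
  haveI : Module.Finite F₀ K := Module.finite_of_finrank_pos (by rw [hK]; norm_num)
  haveI : Finite K := Module.finite_of_finite F₀
  haveI : Fintype K := Fintype.ofFinite K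
  have hcK : Fintype.card K = Fintype.card F := by
    rw [hcard, ← Nat.card_eq_fintype_card, Module.natCard_eq_pow_finrank (K := F₀) (V := K), hK,
      Nat.card_eq_fintype_card]
  letI : Algebra F₀ F := j.toAlgebra
  obtain ⟨e⟩ := exists_algEquiv_of_card_eq (F₀ := F₀) hcK
  refine ⟨e.toRingEquiv, fun a => ?_⟩
  show e (algebraMap F₀ K a) = j a
  rw [e.commutes]
  rfl

section main

variable {F₀ : Type*} {F : Type u} [Field F₀] [Field F] [Fintype F₀] [Fintype F] (j : F₀ →+* F)
  (hcard : Fintype.card F = Fintype.card F₀ ^ 2) (k : ℕ) (a₀ b₀ : F₀)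
  (hab : ∀ z₁ z₂ : F₀, z₁ ^ 2 + a₀ * z₁ * z₂ + b₀ * z₂ ^ 2 = 0 → z₁ = 0 ∧ z₂ = 0)
  (θ θ' : F) (ha : θ + θ' = -(j a₀)) (hb : θ * θ' = j b₀) (hθ : θ ≠ θ')

theorem minus_map {K₁ K₂ : Type*} [Field K₁] [Field K₂] (f : K₁ →+* K₂) (a b : K₁)
    (v : (Fin k ⊕ Fin k) ⊕ Fin 2 → K₁) :
    Cfsg.quadFormMinus k K₂ (f a) (f b) (fun i => f (v i)) =
      f (Cfsg.quadFormMinus k K₁ a b v) := by
  unfold Cfsg.quadFormMinus
  simp only [map_add, map_sum, map_mul, map_pow]

theorem map_mulVec_comp {K₁ K₂ : Type*} [Field K₁] [Field K₂] (f : K₁ →+* K₂)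
    {κ₁ κ₂ : Type} [Fintype κ₁] [Fintype κ₂] (M : Matrix κ₂ κ₁ K₁) (v : κ₁ → K₁) :
    (M.map f) *ᵥ (fun i => f (v i)) = fun i => f ((M *ᵥ v) i) := by
  funext i
  simp [Matrix.mulVec, dotProduct, map_sum, map_mul]

include hcard hab in
/-- class preservation over the small field (read in a quadratic extension) is class
preservation of the transported matrix for the plus form -/
theorem preservesMinus_iff (g₀ : GL ((Fin k ⊕ Fin k) ⊕ Fin 2) F₀) :
    Cfsg.PreservesSingularClassesMinus k a₀ b₀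
        (g₀ : Matrix ((Fin k ⊕ Fin k) ⊕ Fin 2) ((Fin k ⊕ Fin k) ⊕ Fin 2) F₀) ↔
      Cfsg.PreservesSingularClasses (Cfsg.quadFormPlus (k + 1) F)
        (((splitIso k θ θ' (j a₀) (j b₀) ha hb hθ).cGL (mapGL j g₀) :
          GL (Fin (k + 1) ⊕ Fin (k + 1)) F) :
          Matrix (Fin (k + 1) ⊕ Fin (k + 1)) (Fin (k + 1) ⊕ Fin (k + 1)) F) := by
  obtain ⟨R, hR⟩ : ∃ R, R = splitIso k θ θ' (j a₀) (j b₀) ha hb hθ := ⟨_, rfl⟩
  rw [← hR]
  constructor
  · rintro ⟨K, instK, instA, hK, hP⟩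
    obtain ⟨ψ, hψ⟩ := exists_ringEquiv_over j hcard hK
    haveI : Finite K := Finite.of_equiv F ψ.symm.toEquiv
    have hmat : ((g₀ : Matrix ((Fin k ⊕ Fin k) ⊕ Fin 2) ((Fin k ⊕ Fin k) ⊕ Fin 2) F₀).map
        (algebraMap F₀ K)).map (ψ : K →+* F) = (mapGL j g₀ : GL _ F).1 := by
      ext x y
      simp [mapGL_val, hψ]
    refine preserves_transport ψ (fun v => R.A *ᵥ (fun i => ψ (v i))) ?_ ?_ ?_ _ _ ?_ _ _ ?_ hP
    · constructor
      · intro v w hvw
        have h1 := congrArg (fun u => R.A' *ᵥ u) hvw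
        simp only [R.A'_A] at h1
        funext i
        exact ψ.injective (congrFun h1 i)
      · intro u
        refine ⟨fun i => ψ.symm ((R.A' *ᵥ u) i), ?_⟩
        simp only [RingEquiv.apply_symm_apply]
        exact R.A_A' u
    · intro v w
      rw [← Matrix.mulVec_add]
      congr 1
      funext i
      simp
    · intro c v
      rw [← Matrix.mulVec_smul]
      congr 1
      funext i
      simp
    · intro v
      have h1 : Cfsg.quadFormPlus (k + 1) F (R.A *ᵥ (fun i => ψ (v i))) =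
          Cfsg.quadFormMinus k F (j a₀) (j b₀) (fun i => ψ (v i)) := by
        rw [plusForm_coe, minusForm_coe]
        exact R.hQ _
      show Cfsg.quadFormPlus (k + 1) F (R.A *ᵥ (fun i => ψ (v i))) = _
      rw [h1, ← hψ, ← hψ]
      exact minus_map k (ψ : K →+* F) _ _ v
    · intro v
      rw [R.cGL_mulVec, ← hmat]
      congr 1
      exact map_mulVec_comp (ψ : K →+* F) _ v
  · intro hP
    obtain ⟨K, instK, instA, hK⟩ := exists_quadratic_extension a₀ b₀ hab
    obtain ⟨ψ, hψ⟩ := exists_ringEquiv_over j hcard hK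
    have hψ' : ∀ a, ψ.symm (j a) = algebraMap F₀ K a := by
      intro a
      rw [← hψ, RingEquiv.symm_apply_apply]
    refine ⟨K, instK, instA, hK, ?_⟩
    have hmat : ((mapGL j g₀ : GL _ F).1).map (ψ.symm : F →+* K) =
        (g₀ : Matrix ((Fin k ⊕ Fin k) ⊕ Fin 2) ((Fin k ⊕ Fin k) ⊕ Fin 2) F₀).map
        (algebraMap F₀ K) := by
      ext x y
      simp [mapGL_val, hψ']
    refine preserves_transport ψ.symm (fun u => fun i => ψ.symm ((R.A' *ᵥ u) i)) ?_ ?_ ?_ _ _ ?_
      _ _ ?_ hP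
    · constructor
      · intro v w hvw
        have h1 : R.A' *ᵥ v = R.A' *ᵥ w := by
          funext i
          exact ψ.symm.injective (congrFun hvw i)
        have h2 := congrArg (fun u => R.A *ᵥ u) h1
        simpa only [R.A_A'] using h2
      · intro u
        refine ⟨R.A *ᵥ (fun i => ψ (u i)), ?_⟩
        funext i
        show ψ.symm ((R.A' *ᵥ (R.A *ᵥ fun i => ψ (u i))) i) = u i
        rw [R.A'_A, RingEquiv.symm_apply_apply]
    · intro v w
      funext i
      rw [Matrix.mulVec_add]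
      simp
    · intro c v
      funext i
      rw [Matrix.mulVec_smul]
      simp
    · intro u
      have h1 : Cfsg.quadFormMinus k F (j a₀) (j b₀) (R.A' *ᵥ u) =
          Cfsg.quadFormPlus (k + 1) F u := by
        rw [plusForm_coe, minusForm_coe]
        exact R.hQ' _
      rw [← h1, ← hψ', ← hψ']
      exact minus_map k (ψ.symm : F →+* K) _ _ _
    · intro u
      rw [← hmat]
      have h2 : ((mapGL j g₀ : GL _ F).1.map (ψ.symm : F →+* K)) *ᵥ
          (fun i => ψ.symm ((R.A' *ᵥ u) i)) =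
          fun i => ψ.symm (((mapGL j g₀ : GL _ F).1 *ᵥ (R.A' *ᵥ u)) i) :=
        map_mulVec_comp (ψ.symm : F →+* K) _ _
      refine h2.trans ?_
      funext i
      congr 1
      have h3 : R.A' *ᵥ ((R.cGL (mapGL j g₀) : GL _ F).1 *ᵥ u) =
          (mapGL j g₀ : GL _ F).1 *ᵥ (R.A' *ᵥ u) := by
        rw [R.cGL_mulVec', R.A'_A]
      exact (congrFun h3 i).symm

end main

end Cfsg.Agent.Lib.Helper99.GF
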