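import Mathlib
import Cfsg.Agent.Lib.Helper99.GF4
import Cfsg.Agent.S0294

set_option autoImplicit false
set_option linter.unusedSectionVars false
set_option linter.unusedVariables false
set_option maxHeartbeats 800000

/-!
# The centralizer of the model graph-field involution
-/

namespace Cfsg.Agent.Lib.Helper99.GF

open Matrix Module QuadraticMap
open Cfsg.Agent.Lib.Helper37 Cfsg.Agent.Lib.Helper37.OrthField Cfsg.Agent.Lib.Helper8
open Cfsg.Agent.Lib.Helper37.ParGen Cfsg.Agent.Lib.Helper14 Cfsg.Agent.Lib.Helper43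

universe u

theorem map_inf_centralizer {X Y : Type*} [Group X] [Group Y] (Ξ : X ≃* Y) (S : Subgroup X)
    (y : X) :
    (S ⊓ Subgroup.centralizer {y}).map (Ξ : X →* Y) =
      S.map (Ξ : X →* Y) ⊓ Subgroup.centralizer {Ξ y} := by
  ext z
  constructor
  · rintro ⟨w, hw, rfl⟩
    obtain ⟨hwS, hwc⟩ := Subgroup.mem_inf.1 hw
    refine Subgroup.mem_inf.2 ⟨⟨w, hwS, rfl⟩, ?_⟩
    rw [Subgroup.mem_centralizer_iff] at hwc ⊢
    intro t ht
    rw [Set.mem_singleton_iff] at ht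
    subst ht
    show Ξ y * Ξ w = Ξ w * Ξ y
    rw [← map_mul, ← map_mul, hwc y rfl]
  · intro hz
    obtain ⟨⟨w, hwS, rfl⟩, hc⟩ := Subgroup.mem_inf.1 hz
    refine ⟨w, Subgroup.mem_inf.2 ⟨hwS, ?_⟩, rfl⟩
    rw [Subgroup.mem_centralizer_iff] at hc ⊢
    intro t ht
    rw [Set.mem_singleton_iff] at ht
    subst ht
    apply Ξ.injective
    rw [map_mul, map_mul]
    exact hc (Ξ t) rfl

theorem RIso.nondeg {ι₁ ι₂ : Type} [Fintype ι₁] [DecidableEq ι₁] [Fintype ι₂] [DecidableEq ι₂]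
    {F : Type u} [Field F] (Q₁ : QuadraticForm F (ι₁ → F)) (Q₂ : QuadraticForm F (ι₂ → F))
    (R : RIso (⇑Q₁) (⇑Q₂)) (h : (polarBilin Q₂).Nondegenerate) :
    (polarBilin Q₁).Nondegenerate := by
  have hpol : ∀ x y, polar (⇑Q₁) x y = polar (⇑Q₂) (R.A *ᵥ x) (R.A *ᵥ y) := by
    intro x y
    unfold polar
    rw [← Matrix.mulVec_add, R.hQ, R.hQ, R.hQ]
  have hleft : (polarBilin Q₁).SeparatingLeft := by
    intro x hx
    have hx' : ∀ y, polar (⇑Q₁) x y = 0 := hx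
    have h1 : R.A *ᵥ x = 0 := by
      apply h.1
      intro u
      show polar (⇑Q₂) (R.A *ᵥ x) u = 0
      rw [← R.A_A' u, ← hpol]
      exact hx' _
    have h2 := congrArg (fun u => R.A' *ᵥ u) h1
    simpa only [R.A'_A, Matrix.mulVec_zero] using h2
  refine ⟨hleft, ?_⟩
  intro y hy
  apply hleft
  intro x
  have := hy x
  simp only [polarBilin_apply_apply] at this ⊢
  rw [polar_comm]; exact this

section model

variable {F₀ : Type*} {F : Type u} [Field F₀] [Field F] [Fintype F₀] [Fintype F] (j : F₀ →+* F)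
  (hcard : Fintype.card F = Fintype.card F₀ ^ 2) (k : ℕ) (hk : 4 ≤ k) (a₀ b₀ : F₀)
  (hab : ∀ z₁ z₂ : F₀, z₁ ^ 2 + a₀ * z₁ * z₂ + b₀ * z₂ ^ 2 = 0 → z₁ = 0 ∧ z₂ = 0)
  (θ θ' : F) (ha : θ + θ' = -(j a₀)) (hb : θ * θ' = j b₀) (hθ : θ ≠ θ')
  (σ : F ≃+* F) (hj : ∀ a, σ a = a ↔ a ∈ Set.range j) (hσ2 : orderOf σ = 2)
  (hσθ : σ θ = θ') (hσθ' : σ θ' = θ)

/-- the model pair: the reflection exchanging the last hyperbolic pair, times `σ` -/
noncomputable def modelPair : GamL (Fin (k + 1) ⊕ Fin (k + 1)) F :=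
  SemidirectProduct.inl (reflElt (plusForm (k + 1) F) (lastVec k F) (plus_lastVec_ne k)).1 *
    SemidirectProduct.inr σ

theorem modelPair_mem : modelPair k σ ∈ semiO ⇑(plusForm (k + 1) F) :=
  (semiO ⇑(plusForm (k + 1) F)).mul_mem
    (inl_mem_semiO (plusForm (k + 1) F)
      ⟨_, isom_le_sim _ (reflElt (plusForm (k + 1) F) (lastVec k F) (plus_lastVec_ne k)).2⟩)
    (inr_mem_semiO _ σ (plus_inv σ))

theorem modelPair_right : (modelPair k σ).right = σ := by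
  unfold modelPair
  rw [SemidirectProduct.mul_right, SemidirectProduct.right_inl, SemidirectProduct.right_inr,
    one_mul]

theorem minus_compat (w : (Fin k ⊕ Fin k) ⊕ Fin 2 → F₀) :
    j (minusForm k F₀ a₀ b₀ w) = minusForm k F (j a₀) (j b₀) (jv j w) := by
  rw [← minusForm_coe, ← minusForm_coe]
  exact (minus_map k j a₀ b₀ w).symm

include hj in
theorem minus_inv (v : (Fin k ⊕ Fin k) ⊕ Fin 2 → F) :
    minusForm k F (j a₀) (j b₀) (vm σ v) = σ (minusForm k F (j a₀) (j b₀) v) := by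
  rw [← minusForm_coe]
  have h1 : σ (j a₀) = j a₀ := (hj _).2 ⟨_, rfl⟩
  have h2 : σ (j b₀) = j b₀ := (hj _).2 ⟨_, rfl⟩
  have := minus_map k (σ : F →+* F) (j a₀) (j b₀) v
  simp only [RingEquiv.coe_toRingHom, h1, h2] at this
  exact this

/-- the class preserving similarities of the split minus form -/
noncomputable def simPm :
    Subgroup ↥(Cfsg.Geo.quadSimilarityGroup (F := F) ⇑(minusForm k F (j a₀) (j b₀))) :=
  (simP (plusForm (k + 1) F) (plusForm_nondegenerate (k + 1) F) plus_hV (stdL (k + 1) F)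
    plus_lag).comap (splitIso k θ θ' (j a₀) (j b₀) ha hb hθ).cSim.toMonoidHom

/-- the class preserving similarities over the small field -/
noncomputable def simP₀ :
    Subgroup ↥(Cfsg.Geo.quadSimilarityGroup (F := F₀) ⇑(minusForm k F₀ a₀ b₀)) :=
  (simPm j k a₀ b₀ θ θ' ha hb hθ).comap
    (mapGO j (minusForm k F (j a₀) (j b₀)) (minusForm k F₀ a₀ b₀) (minus_compat j k a₀ b₀))

include hcard hab in
theorem mem_simP₀_iff
    (g : ↥(Cfsg.Geo.quadSimilarityGroup (F := F₀) ⇑(minusForm k F₀ a₀ b₀))) :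
    Cfsg.PreservesSingularClassesMinus k a₀ b₀
      ((g.1 : GL ((Fin k ⊕ Fin k) ⊕ Fin 2) F₀) :
        Matrix ((Fin k ⊕ Fin k) ⊕ Fin 2) ((Fin k ⊕ Fin k) ⊕ Fin 2) F₀) ↔
      g ∈ simP₀ j k a₀ b₀ θ θ' ha hb hθ := by
  rw [preservesMinus_iff j hcard k a₀ b₀ hab θ θ' ha hb hθ g.1, plusForm_coe]
  unfold simP₀ simPm
  rw [Subgroup.mem_comap, Subgroup.mem_comap, mem_simP_iff_preserves]
  rfl

/-- `Inndiag` of the minus type group is the image of the class preserving similarities -/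
theorem inndiagMinus_equiv (D₀ : Subgroup
      ↥(Cfsg.Geo.quadSimilarityGroup (F := F₀) ⇑(minusForm k F₀ a₀ b₀)))
    (hD₀ : ∀ g : ↥(Cfsg.Geo.quadSimilarityGroup (F := F₀) ⇑(minusForm k F₀ a₀ b₀)),
      Cfsg.PreservesSingularClassesMinus k a₀ b₀
        ((g.1 : GL ((Fin k ⊕ Fin k) ⊕ Fin 2) F₀) :
          Matrix ((Fin k ⊕ Fin k) ⊕ Fin 2) ((Fin k ⊕ Fin k) ⊕ Fin 2) F₀) ↔ g ∈ D₀) :
    Nonempty (↥(Cfsg.inndiagPOmegaMinus k F₀ a₀ b₀) ≃*
      ↥(D₀.map (Phi ⇑(minusForm k F₀ a₀ b₀)))) := by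
  classical
  have key : ∀ (Qf : ((Fin k ⊕ Fin k) ⊕ Fin 2 → F₀) → F₀) (h : Qf = ⇑(minusForm k F₀ a₀ b₀)),
      Nonempty (↥(Cfsg.autSubgroupOf (fun β : Cfsg.POmega F₀ Qf ≃* Cfsg.POmega F₀ Qf =>
        ∃ g : GL ((Fin k ⊕ Fin k) ⊕ Fin 2) F₀, g ∈ Cfsg.Geo.quadSimilarityGroup (F := F₀) Qf ∧
          Cfsg.PreservesSingularClassesMinus k a₀ b₀
            (g : Matrix ((Fin k ⊕ Fin k) ⊕ Fin 2) ((Fin k ⊕ Fin k) ⊕ Fin 2) F₀) ∧
          Cfsg.IsInducedBySemilinearPOmega Qf g (RingEquiv.refl F₀) β)) ≃*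
        ↥(D₀.map (Phi ⇑(minusForm k F₀ a₀ b₀)))) := by
    intro Qf h
    subst h
    rw [autSubgroupOf_eq_map (Q := ⇑(minusForm k F₀ a₀ b₀))
      (fun g => Cfsg.PreservesSingularClassesMinus k a₀ b₀
        (g : Matrix ((Fin k ⊕ Fin k) ⊕ Fin 2) ((Fin k ⊕ Fin k) ⊕ Fin 2) F₀)) D₀ hD₀]
    exact ⟨MulEquiv.refl _⟩
  exact key _ (minusForm_coe k F₀ a₀ b₀)

include hcard hk hab hj hσ2 hσθ hσθ' ha hb hθ in
/-- the centralizer of the model graph-field involution -/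
theorem model_cent :
    Nonempty (↥((simP (plusForm (k + 1) F) (plusForm_nondegenerate (k + 1) F) plus_hV
        (stdL (k + 1) F) plus_lag).map (Phi ⇑(plusForm (k + 1) F)) ⊓
        Subgroup.centralizer {Psi ⇑(plusForm (k + 1) F) ⟨modelPair k σ, modelPair_mem k σ⟩}) ≃*
      ↥(Cfsg.inndiagPOmegaMinus k F₀ a₀ b₀)) := by
  classical
  haveI : Nonempty ((Fin k ⊕ Fin k) ⊕ Fin 2) := ⟨Sum.inr 0⟩
  obtain ⟨R, hR⟩ : ∃ R, R = splitIso k θ θ' (j a₀) (j b₀) ha hb hθ := ⟨_, rfl⟩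
  have hnd' : (polarBilin (minusForm k F (j a₀) (j b₀))).Nondegenerate :=
    RIso.nondeg _ _ R (plusForm_nondegenerate (k + 1) F)
  have hnd₀ : (polarBilin (minusForm k F₀ a₀ b₀)).Nondegenerate :=
    (minus_family k F₀ a₀ b₀).nondegenerate (minusForm_zero_nondegenerate F₀ a₀ b₀ hab)
  have hfr : finrank F ((Fin k ⊕ Fin k) ⊕ Fin 2 → F) = k + k + 2 := by simp
  have hfr₀ : finrank F₀ ((Fin k ⊕ Fin k) ⊕ Fin 2 → F₀) = k + k + 2 := by simp
  have hker' := Phi_eq_one_iff (minusForm k F (j a₀) (j b₀)) hnd'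
    (Cfsg.Agent.S0294.minus_hypFam k F (j a₀) (j b₀)) (by omega) (Or.inr (by omega)) (by omega)
    (fun _ => by omega)
  have hker₀ := Phi_eq_one_iff (minusForm k F₀ a₀ b₀) hnd₀
    (Cfsg.Agent.S0294.minus_hypFam k F₀ a₀ b₀) (by omega) (Or.inr (by omega)) (by omega)
    (fun _ => by omega)
  have hne₀ : ∃ w, minusForm k F₀ a₀ b₀ w ≠ 0 := by
    obtain ⟨h1, -, -⟩ := (Cfsg.Agent.S0294.minus_hypFam k F₀ a₀ b₀).compl_vec ⟨0, by omega⟩ 1
    exact ⟨_, by rw [h1]; exact one_ne_zero⟩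
  have hsc : ∀ c : Fˣ, scO (minusForm k F (j a₀) (j b₀)) c ∈ simPm j k a₀ b₀ θ θ' ha hb hθ := by
    intro c
    unfold simPm
    rw [Subgroup.mem_comap, mem_simP]
    have h1 : ((splitIso k θ θ' (j a₀) (j b₀) ha hb hθ).cSim.toMonoidHom
        (scO (minusForm k F (j a₀) (j b₀)) c)).1 = Matrix.GeneralLinearGroup.scalar _ c := by
      apply Units.ext
      rw [show ((splitIso k θ θ' (j a₀) (j b₀) ha hb hθ).cSim.toMonoidHom
        (scO (minusForm k F (j a₀) (j b₀)) c)).1 = (splitIso k θ θ' (j a₀) (j b₀) ha hb hθ).cGL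
          (scO (minusForm k F (j a₀) (j b₀)) c).1 from rfl, RIso.cGL_val,
        scO_val, coe_scalar_eq_smul, coe_scalar_eq_smul, Matrix.mul_smul, Matrix.mul_one,
        Matrix.smul_mul, (splitIso k θ θ' (j a₀) (j b₀) ha hb hθ).hAA']
    rw [h1]
    exact parS_sc _ plus_lag c
  obtain ⟨E1⟩ := cent_equiv j (minusForm k F (j a₀) (j b₀)) (minusForm k F₀ a₀ b₀)
    (minus_compat j k a₀ b₀) σ hj (minus_inv j k a₀ b₀ σ hj) hker' hker₀
    (simPm j k a₀ b₀ θ θ' ha hb hθ) (simP₀ j k a₀ b₀ θ θ' ha hb hθ) hsc (fun g₀ => Iff.rfl)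
    hne₀ 2 hσ2 (by norm_num)
  obtain ⟨E3⟩ := inndiagMinus_equiv k a₀ b₀ (simP₀ j k a₀ b₀ θ θ' ha hb hθ)
    (mem_simP₀_iff j hcard k a₀ b₀ hab θ θ' ha hb hθ)
  -- transport to the plus form
  have hmapD : ((simPm j k a₀ b₀ θ θ' ha hb hθ).map
      (Phi ⇑(minusForm k F (j a₀) (j b₀)))).map (R.cAut : MulAut _ →* MulAut _) =
      (simP (plusForm (k + 1) F) (plusForm_nondegenerate (k + 1) F) plus_hV
        (stdL (k + 1) F) plus_lag).map (Phi ⇑(plusForm (k + 1) F)) := by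
    ext z
    constructor
    · rintro ⟨_, ⟨g, hg, rfl⟩, rfl⟩
      refine ⟨R.cSim g, ?_, ?_⟩
      · rw [hR]; exact hg
      · exact (R.cAut_Phi g).symm
    · rintro ⟨g, hg, rfl⟩
      refine ⟨_, ⟨R.cSim.symm g, ?_, rfl⟩, ?_⟩
      · unfold simPm
        rw [SetLike.mem_coe, Subgroup.mem_comap, ← hR]
        show R.cSim (R.cSim.symm g) ∈ _
        rw [MulEquiv.apply_symm_apply]
        exact hg
      · show R.cAut (Phi _ (R.cSim.symm g)) = _
        rw [R.cAut_Phi, MulEquiv.apply_symm_apply]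
  have hmapx : R.cAut (phiF (minusForm k F (j a₀) (j b₀)) σ (minus_inv j k a₀ b₀ σ hj)) =
      Psi ⇑(plusForm (k + 1) F) ⟨modelPair k σ, modelPair_mem k σ⟩ := by
    rw [phiF_def, R.cAut_Psi]
    congr 1
    apply Subtype.ext
    show R.cSemi (SemidirectProduct.inr σ) = modelPair k σ
    rw [hR]
    exact cSemi_inr k θ θ' (j a₀) (j b₀) ha hb hθ σ hσθ hσθ'
  have E2 := (R.cAut.subgroupMap ((simPm j k a₀ b₀ θ θ' ha hb hθ).map
      (Phi ⇑(minusForm k F (j a₀) (j b₀))) ⊓ Subgroup.centralizer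
        {phiF (minusForm k F (j a₀) (j b₀)) σ (minus_inv j k a₀ b₀ σ hj)}))
  rw [map_inf_centralizer, hmapD, hmapx] at E2
  exact ⟨(E2.symm.trans E1).trans E3.symm⟩

end model

end Cfsg.Agent.Lib.Helper99.GF
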