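import Mathlib
import Cfsg.Agent.Lib.Helper99.GF5
import Cfsg.Agent.Lib.Helper5.AutPSLnGraphField

set_option autoImplicit false
set_option linter.unusedSectionVars false
set_option linter.unusedVariables false
set_option maxHeartbeats 800000

/-!
# Conjugacy of involutory graph-field automorphisms to the model
-/

namespace Cfsg.Agent.Lib.Helper99.GF

open Matrix Module QuadraticMap
open Cfsg.Agent.Lib.Helper37 Cfsg.Agent.Lib.Helper37.OrthField Cfsg.Agent.Lib.Helper8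
open Cfsg.Agent.Lib.Helper37.ParGen Cfsg.Agent.Lib.Helper14 Cfsg.Agent.Lib.Helper43

universe u

/-! ### generic group lemmas -/

/-- conjugation by an element of `H` carries the centralizer of `x` in `H` to that of the
conjugate -/
def centConjEquivMem {X : Type*} [Group X] (H : Subgroup X) (α : X) (hα : α ∈ H) (x : X) :
    ↥(H ⊓ Subgroup.centralizer {x}) ≃* ↥(H ⊓ Subgroup.centralizer {α * x * α⁻¹}) where
  toFun g := ⟨α * g.1 * α⁻¹, by
    obtain ⟨h1, h2⟩ := Subgroup.mem_inf.1 g.2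
    refine Subgroup.mem_inf.2 ⟨H.mul_mem (H.mul_mem hα h1) (H.inv_mem hα), ?_⟩
    rw [Subgroup.mem_centralizer_iff] at h2 ⊢
    intro t ht
    rw [Set.mem_singleton_iff] at ht
    subst ht
    have := h2 x rfl
    calc α * x * α⁻¹ * (α * g.1 * α⁻¹) = α * (x * g.1) * α⁻¹ := by group
      _ = α * (g.1 * x) * α⁻¹ := by rw [this]
      _ = _ := by group⟩
  invFun g := ⟨α⁻¹ * g.1 * α, by
    obtain ⟨h1, h2⟩ := Subgroup.mem_inf.1 g.2
    refine Subgroup.mem_inf.2 ⟨H.mul_mem (H.mul_mem (H.inv_mem hα) h1) hα, ?_⟩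
    rw [Subgroup.mem_centralizer_iff] at h2 ⊢
    intro t ht
    rw [Set.mem_singleton_iff] at ht
    subst ht
    have := h2 _ rfl
    calc t * (α⁻¹ * g.1 * α) = α⁻¹ * ((α * t * α⁻¹) * g.1) * α := by group
      _ = α⁻¹ * (g.1 * (α * t * α⁻¹)) * α := by rw [this]
      _ = _ := by group⟩
  left_inv g := by
    apply Subtype.ext
    show α⁻¹ * (α * g.1 * α⁻¹) * α = g.1
    group
  right_inv g := by
    apply Subtype.ext
    show α * (α⁻¹ * g.1 * α) * α⁻¹ = g.1
    group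
  map_mul' a b := by
    apply Subtype.ext
    show α * (a.1 * b.1) * α⁻¹ = (α * a.1 * α⁻¹) * (α * b.1 * α⁻¹)
    group

theorem isConjUnder_conj_iff {X : Type*} [Group X] (H : Subgroup X) (α : X) (hα : α ∈ H)
    (x y : X) : Cfsg.IsConjUnder H (α * x * α⁻¹) y ↔ Cfsg.IsConjUnder H x y := by
  constructor
  · rintro ⟨h, hh, rfl⟩
    exact ⟨h * α, H.mul_mem hh hα, by group⟩
  · rintro ⟨h, hh, rfl⟩
    exact ⟨h * α⁻¹, H.mul_mem hh (H.inv_mem hα), by group⟩

/-- the number of split classes is invariant under conjugation by an element of `H` -/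
theorem splitClassCount_conj_mem {X : Type*} [Group X] (H K : Subgroup X) (α : X) (hα : α ∈ H)
    (x : X) : Cfsg.splitClassCount H K (α * x * α⁻¹) = Cfsg.splitClassCount H K x := by
  unfold Cfsg.splitClassCount
  have hset : ∀ y, Cfsg.IsConjUnder H (α * x * α⁻¹) y ↔ Cfsg.IsConjUnder H x y :=
    isConjUnder_conj_iff H α hα x
  let e : {y : X // Cfsg.IsConjUnder H (α * x * α⁻¹) y} ≃ {y : X // Cfsg.IsConjUnder H x y} :=
    Equiv.subtypeEquivRight hset
  apply Nat.card_congr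
  refine Quot.congr e ?_
  intro a b
  exact Iff.rfl

variable {F : Type u} [Field F] [Fintype F] {k : ℕ}

/-! ### the model pair -/

theorem swapLast_swapLast (x : Fin (k + 1) ⊕ Fin (k + 1) → F) :
    swapLast k (swapLast k x) = x := by
  funext j
  rcases j with i | i
  · refine Fin.lastCases ?_ (fun i' => ?_) i <;> simp [swapLast]
  · refine Fin.lastCases ?_ (fun i' => ?_) i <;> simp [swapLast]

theorem swapLast_vm (σ : F ≃+* F) (x : Fin (k + 1) ⊕ Fin (k + 1) → F) :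
    swapLast k (vm σ x) = vm σ (swapLast k x) := by
  funext j
  rcases j with i | i
  · refine Fin.lastCases ?_ (fun i' => ?_) i <;> simp [swapLast, vm]
  · refine Fin.lastCases ?_ (fun i' => ?_) i <;> simp [swapLast, vm]

theorem sm_modelPair (σ : F ≃+* F) (u : Fin (k + 1) ⊕ Fin (k + 1) → F) :
    sm (modelPair k σ) u = swapLast k (vm σ u) := by
  unfold modelPair
  rw [sm_mul, sm_inl, sm_inr, coe_reflElt, refl_lastVec]

theorem modelPair_sq (σ : F ≃+* F) (hσ : σ * σ = 1) : modelPair k σ ^ 2 = 1 := by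
  apply sm_injective
  · rw [pow_right, modelPair_right, SemidirectProduct.one_right, pow_two, hσ]
  · intro u
    rw [pow_two, sm_mul, sm_modelPair, sm_modelPair, swapLast_vm, swapLast_swapLast, ← vm_mul, hσ,
      vm_one, sm_one]

theorem parS_modelPair (σ : F ≃+* F) :
    parS (k + 1) (stdL (k + 1) F) (modelPair k σ) = 1 := by
  have hqs := qsys_of_form (plusForm (k + 1) F) (plusForm_nondegenerate (k + 1) F)
  unfold modelPair
  rw [parS_mul hqs plus_hV _ plus_lag _ _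
    (inl_mem_semiO (plusForm (k + 1) F)
      ⟨_, isom_le_sim _ (reflElt (plusForm (k + 1) F) (lastVec k F) (plus_lastVec_ne k)).2⟩)
    (inr_mem_semiO _ σ (plus_inv σ)), parS_inr,
    parS_refl (plusForm (k + 1) F) (plusForm_nondegenerate (k + 1) F) plus_hV _ plus_lag _
      (plus_lastVec_ne k)]

section conj

variable (hk : 4 ≤ k)

include hk

theorem plus_facts :
    (3 ≤ k + 1) ∧ (Fintype.card F ≠ 2 ∨ finrank F (Fin (k + 1) ⊕ Fin (k + 1) → F) ≠ 4) ∧
    (5 ≤ finrank F (Fin (k + 1) ⊕ Fin (k + 1) → F)) ∧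
    ((2 : F) = 0 → 7 ≤ finrank F (Fin (k + 1) ⊕ Fin (k + 1) → F)) := by
  have hn : finrank F (Fin (k + 1) ⊕ Fin (k + 1) → F) = 2 * (k + 1) := plus_hV
  refine ⟨by omega, Or.inr (by rw [hn]; omega), by rw [hn]; omega, fun _ => by rw [hn]; omega⟩

/-- a graph-field automorphism (as a class) is induced by a pair with non-trivial field part
and odd parity -/
theorem graph_field_class_pair' (hAut : AutSemi ⇑(plusForm (k + 1) F))
    (x : MulAut (Cfsg.POmega F ⇑(plusForm (k + 1) F)))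
    (hx : ∃ (α γ φ : MulAut (Cfsg.POmega F ⇑(plusForm (k + 1) F))) (σ : F ≃+* F)
      (v : Fin (k + 1) ⊕ Fin (k + 1) → F) (r₀ : GL (Fin (k + 1) ⊕ Fin (k + 1)) F),
      σ ≠ RingEquiv.refl F ∧ plusForm (k + 1) F v ≠ 0 ∧ (∀ i, σ (v i) = v i) ∧
      (r₀ : Matrix (Fin (k + 1) ⊕ Fin (k + 1)) (Fin (k + 1) ⊕ Fin (k + 1)) F) =
        Cfsg.reflectionMatrix ⇑(plusForm (k + 1) F) v ∧
      Cfsg.IsInducedBySemilinearPOmega ⇑(plusForm (k + 1) F) r₀ (RingEquiv.refl F) γ ∧
      Cfsg.IsFieldAutPOmegaOf ⇑(plusForm (k + 1) F) σ φ ∧ α * x * α⁻¹ = γ * φ) :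
    ∃ p : ↥(semiO ⇑(plusForm (k + 1) F)), x = Psi ⇑(plusForm (k + 1) F) p ∧ p.1.right ≠ 1 ∧
      parS (k + 1) (stdL (k + 1) F) p.1 = 1 := by
  haveI : Nonempty (Fin (k + 1) ⊕ Fin (k + 1)) := ⟨Sum.inl 0⟩
  obtain ⟨hk3, hcard, hn5, hn2⟩ := plus_facts (F := F) hk
  have hQ := plusForm_nondegenerate (k + 1) F
  have hfam := plus_hypFam37 (k + 1) F
  have hqs := qsys_of_form (plusForm (k + 1) F) hQ
  obtain ⟨α, γ, φ, σ', v, r₀, hσ', hv, -, hr₀, hγ, hφ, hconj⟩ := hx
  obtain ⟨pα, rfl⟩ := hAut α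
  obtain ⟨px, rfl⟩ := hAut x
  have hr₀' : r₀ = (reflElt (plusForm (k + 1) F) v hv).1 := by
    apply Units.ext
    rw [hr₀, coe_reflElt]
  have hr₀m : r₀ ∈ Cfsg.Geo.quadSimilarityGroup (F := F) ⇑(plusForm (k + 1) F) := by
    rw [hr₀']
    exact isom_le_sim _ (reflElt (plusForm (k + 1) F) v hv).2
  rw [isInduced_iff _ r₀ hr₀m] at hγ
  rw [isFieldAutOf_iff _ σ' (plus_inv σ')] at hφ
  rw [hγ, hφ, ← Psi_simToSemi, ← map_inv, ← map_mul, ← map_mul, ← map_mul] at hconj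
  obtain ⟨q, hq⟩ : ∃ q : ↥(semiO ⇑(plusForm (k + 1) F)),
      q = simToSemi _ ⟨r₀, hr₀m⟩ * ⟨SemidirectProduct.inr σ', inr_mem_semiO _ σ' (plus_inv σ')⟩ :=
    ⟨_, rfl⟩
  rw [← hq] at hconj
  have h2 := right_eq_of_Psi_eq (plusForm (k + 1) F) hQ hfam hk3 hcard hn5 hn2 _ _ hconj
  have hqr : q.1.right = σ' := by
    rw [hq, Subgroup.coe_mul, SemidirectProduct.mul_right, simToSemi_right, one_mul]
    rfl
  have hcoe : (pα * px * pα⁻¹).1 = pα.1 * px.1 * pα.1⁻¹ := by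
    rw [Subgroup.coe_mul, Subgroup.coe_mul, Subgroup.coe_inv]
  refine ⟨px, rfl, ?_, ?_⟩
  · intro h1
    rw [hcoe, SemidirectProduct.mul_right, SemidirectProduct.mul_right, h1, mul_one,
      SemidirectProduct.inv_right, mul_inv_cancel, hqr] at h2
    exact hσ' h2.symm
  · -- the kernel of Psi consists of scalars
    have h3 : Psi ⇑(plusForm (k + 1) F) ((pα * px * pα⁻¹)⁻¹ * q) = 1 := by
      rw [map_mul, map_inv, hconj, inv_mul_cancel]
    obtain ⟨h4, c, hc⟩ := (Psi_eq_one_iff (plusForm (k + 1) F) hQ hfam hk3 hcard hn5 hn2 _).1 h3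
    obtain ⟨c', hc'⟩ := eq_sc_of _ h4 c hc
    have h5 : q.1 = (pα * px * pα⁻¹).1 * sc c' := by
      rw [← hc']
      show q.1 = (pα * px * pα⁻¹).1 * ((pα * px * pα⁻¹).1⁻¹ * q.1)
      rw [mul_inv_cancel_left]
    have hpq : parS (k + 1) (stdL (k + 1) F) q.1 = 1 := by
      rw [hq, Subgroup.coe_mul, parS_mul hqs plus_hV _ plus_lag _ _ (simToSemi _ ⟨r₀, hr₀m⟩).2
        (inr_mem_semiO _ σ' (plus_inv σ')), parS_inr]
      have : ((simToSemi ⇑(plusForm (k + 1) F) ⟨r₀, hr₀m⟩).1 : GamL _ F) =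
          SemidirectProduct.inl (reflElt (plusForm (k + 1) F) v hv).1 := by
        rw [← hr₀']; rfl
      rw [this, parS_refl (plusForm (k + 1) F) hQ plus_hV _ plus_lag v hv]
    rw [h5, parS_mul hqs plus_hV _ plus_lag _ _ (pα * px * pα⁻¹).2 (sc_mem_semiO _ c'),
      parS_sc _ plus_lag, add_zero, Nat.mod_eq_of_lt (parS_lt _ _), hcoe,
      parS_conj hqs plus_hV _ plus_lag px.1 pα.1 px.2 pα.2] at hpq
    exact hpq

/-- an involutory pair of odd parity is conjugate to the model pair under the class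
preserving similarities -/
theorem conj_model (px : ↥(semiO ⇑(plusForm (k + 1) F)))
    (hx2 : (Psi ⇑(plusForm (k + 1) F) px) ^ 2 = 1) (hσ : px.1.right ≠ 1)
    (hpar : parS (k + 1) (stdL (k + 1) F) px.1 = 1) :
    ∃ t ∈ simP (plusForm (k + 1) F) (plusForm_nondegenerate (k + 1) F) plus_hV
        (stdL (k + 1) F) plus_lag,
      Psi ⇑(plusForm (k + 1) F) ⟨modelPair k px.1.right, modelPair_mem k px.1.right⟩ =
        Phi ⇑(plusForm (k + 1) F) t * Psi ⇑(plusForm (k + 1) F) px *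
          (Phi ⇑(plusForm (k + 1) F) t)⁻¹ := by
  haveI : Nonempty (Fin (k + 1) ⊕ Fin (k + 1)) := ⟨Sum.inl 0⟩
  obtain ⟨hk3, hcard, hn5, hn2⟩ := plus_facts (F := F) hk
  have hQ := plusForm_nondegenerate (k + 1) F
  have hfam := plus_hypFam37 (k + 1) F
  obtain ⟨hord, -⟩ := order_facts (plusForm (k + 1) F) hQ hfam hk3 hcard hn5 hn2 px 2
    Nat.prime_two hx2 hσ
  have hσσ : px.1.right * px.1.right = 1 := by
    rw [← pow_two, ← hord]; exact pow_orderOf_eq_one _
  obtain ⟨py, hpy⟩ : ∃ py : ↥(semiO ⇑(plusForm (k + 1) F)),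
      py = ⟨modelPair k px.1.right, modelPair_mem k px.1.right⟩ := ⟨_, rfl⟩
  have hy2 : (Psi ⇑(plusForm (k + 1) F) py) ^ 2 = 1 := by
    rw [← map_pow]
    have : py ^ 2 = 1 := by
      apply Subtype.ext
      rw [Subgroup.coe_pow, hpy]
      exact modelPair_sq px.1.right hσσ
    rw [this, map_one]
  have hxy : py.1.right = px.1.right := by rw [hpy]; exact modelPair_right k _
  rw [← hpy]
  apply conj_of_same_type (plusForm (k + 1) F) hQ hfam hk3 hcard hn5 hn2 plus_hN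
    (simP (plusForm (k + 1) F) hQ plus_hV (stdL (k + 1) F) plus_lag)
    (simP_adj (plusForm (k + 1) F) hQ plus_hV (stdL (k + 1) F) plus_lag) px py 2 Nat.prime_two
    hx2 hy2 hσ hxy
  intro F₁ hF₁ z z' b b' μ μ' P₀ P₀' hL hL'
  haveI : Fintype F₁ := Fintype.ofFinite _
  have hj : ∀ a, px.1.right a = a ↔ a ∈ Set.range F₁.subtype := by
    intro a
    rw [← hF₁]
    constructor
    · intro h; exact ⟨⟨a, h⟩, rfl⟩
    · rintro ⟨b, rfl⟩; exact b.2
  apply count_eq_of_parS_eq F₁.subtype px.1.right hj (by omega) hord px.1 py.1 px.2 py.2 rfl hxy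
    z z' b b' μ μ' P₀ P₀' hL hL'
  rw [hpar, hpy]
  exact (parS_modelPair px.1.right).symm

end conj

end Cfsg.Agent.Lib.Helper99.GF
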