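import Mathlib
import Cfsg.Agent.Lib.Helper99.GF6
import Cfsg.Agent.Lib.Helper37.OrthOdd2

set_option autoImplicit false
set_option linter.unusedSectionVars false
set_option linter.unusedVariables false
set_option maxHeartbeats 800000

/-!
# Diagonal isometries of the plus form and the spinor norm
-/

namespace Cfsg.Agent.Lib.Helper99.GF

open Matrix Module QuadraticMap
open Cfsg.Agent.Lib.Helper37 Cfsg.Agent.Lib.Helper37.OrthField Cfsg.Agent.Lib.Helper8
open Cfsg.Agent.Lib.Helper43

universe u

variable {F : Type u} [Field F] {m : ℕ}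

/-- the vector `e_i - c f_i` -/
def hypVec (i : Fin m) (c : F) : Fin m ⊕ Fin m → F :=
  Pi.single (Sum.inl i) 1 - c • Pi.single (Sum.inr i) 1

theorem plus_hypVec (i : Fin m) (c : F) : plusForm m F (hypVec i c) = -c := by
  rw [← plusForm_coe]
  unfold Cfsg.quadFormPlus hypVec
  rw [Finset.sum_eq_single i]
  · simp
  · intro l _ hl
    simp [Pi.single_apply, hl]
  · intro h
    exact absurd (Finset.mem_univ _) h

theorem polar_hypVec (i : Fin m) (c : F) (x : Fin m ⊕ Fin m → F) :
    polar (⇑(plusForm m F)) (hypVec i c) x = x (Sum.inr i) - c * x (Sum.inl i) := by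
  unfold hypVec
  rw [polar_sub_left, polar_smul_left, polar_plusForm_inl, polar_plusForm_inr, smul_eq_mul]

/-- the diagonal vector of the elementary torus element -/
def torVec (i : Fin m) (c : F) : Fin m ⊕ Fin m → F :=
  Function.update (Function.update 1 (Sum.inl i) c) (Sum.inr i) c⁻¹

theorem refl_hypVec (i : Fin m) (c : F) (hc : c ≠ 0) (x : Fin m ⊕ Fin m → F) :
    Cfsg.reflectionMatrix (⇑(plusForm m F)) (hypVec i c) *ᵥ x =
      Function.update (Function.update x (Sum.inl i) (c⁻¹ * x (Sum.inr i))) (Sum.inr i)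
        (c * x (Sum.inl i)) := by
  rw [Cfsg.Agent.Lib.Helper13.reflectionMatrix_mulVec, plus_hypVec, polar_hypVec]
  funext κ
  rcases κ with l | l
  · by_cases hl : l = i
    · subst hl
      simp [hypVec]
      field_simp
      ring
    · simp [hypVec, Pi.single_apply, hl, Function.update_of_ne]
  · by_cases hl : l = i
    · subst hl
      simp [hypVec]
      field_simp
      ring
    · simp [hypVec, Pi.single_apply, hl, Function.update_of_ne]

theorem refl_refl_hypVec (i : Fin m) (c : F) (hc : c ≠ 0) :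
    Cfsg.reflectionMatrix (⇑(plusForm m F)) (hypVec i 1) *
      Cfsg.reflectionMatrix (⇑(plusForm m F)) (hypVec i c) = Matrix.diagonal (torVec i c) := by
  apply Matrix.mulVec_injective
  funext x
  rw [← Matrix.mulVec_mulVec, refl_hypVec i c hc, refl_hypVec i 1 one_ne_zero]
  funext κ
  rw [Matrix.mulVec_diagonal]
  rcases κ with l | l
  · by_cases hl : l = i
    · subst hl
      simp [torVec]
    · simp [torVec, hl, Function.update_of_ne]
  · by_cases hl : l = i
    · subst hl
      simp [torVec]
    · simp [torVec, hl, Function.update_of_ne]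

/-- a matrix is a product of an even number of reflections, with product of norms `c` -/
def Rep (M : Matrix (Fin m ⊕ Fin m) (Fin m ⊕ Fin m) F) (c : F) : Prop :=
  ∃ vs : List (Fin m ⊕ Fin m → F), (∀ v ∈ vs, plusForm m F v ≠ 0) ∧
    M = (vs.map (fun v => Cfsg.reflectionMatrix (⇑(plusForm m F)) v)).prod ∧
    Even vs.length ∧ (vs.map (fun v => plusForm m F v)).prod = c

theorem Rep.one : Rep (1 : Matrix (Fin m ⊕ Fin m) (Fin m ⊕ Fin m) F) 1 :=
  ⟨[], by simp, by simp, by simp, by simp⟩

theorem Rep.mul {M N : Matrix (Fin m ⊕ Fin m) (Fin m ⊕ Fin m) F} {c d : F}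
    (hM : Rep M c) (hN : Rep N d) : Rep (M * N) (c * d) := by
  obtain ⟨vs, h1, h2, h3, h4⟩ := hM
  obtain ⟨ws, k1, k2, k3, k4⟩ := hN
  refine ⟨vs ++ ws, ?_, ?_, ?_, ?_⟩
  · intro v hv
    rcases List.mem_append.1 hv with h | h
    · exact h1 v h
    · exact k1 v h
  · rw [List.map_append, List.prod_append, ← h2, ← k2]
  · rw [List.length_append]
    exact h3.add k3
  · rw [List.map_append, List.prod_append, h4, k4]

theorem Rep.tor (i : Fin m) (c : F) (hc : c ≠ 0) : Rep (Matrix.diagonal (torVec i c)) c := by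
  refine ⟨[hypVec i 1, hypVec i c], ?_, ?_, ?_, ?_⟩
  · intro v hv
    simp only [List.mem_cons, List.not_mem_nil, or_false] at hv
    rcases hv with rfl | rfl
    · rw [plus_hypVec]; simp
    · rw [plus_hypVec]; exact neg_ne_zero.2 hc
  · simp only [List.map_cons, List.map_nil, List.prod_cons, List.prod_nil, Matrix.mul_one]
    exact (refl_refl_hypVec i c hc).symm
  · exact ⟨1, rfl⟩
  · simp only [List.map_cons, List.map_nil, List.prod_cons, List.prod_nil, plus_hypVec]
    ring

/-- the diagonal vector of a torus element supported on `s` -/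
def torVecS (t : Fin m → F) (s : Finset (Fin m)) : Fin m ⊕ Fin m → F
  | Sum.inl i => if i ∈ s then t i else 1
  | Sum.inr i => if i ∈ s then (t i)⁻¹ else 1

theorem torVecS_insert (t : Fin m → F) (s : Finset (Fin m)) (a : Fin m) (ha : a ∉ s) :
    torVecS t (insert a s) = torVec a (t a) * torVecS t s := by
  funext κ
  rcases κ with l | l
  · by_cases hl : l = a
    · subst hl
      simp [torVecS, torVec, ha]
    · simp [torVecS, torVec, hl, Function.update_of_ne]
  · by_cases hl : l = a
    · subst hl
      simp [torVecS, torVec, ha]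
    · simp [torVecS, torVec, hl, Function.update_of_ne]

theorem Rep.torS (t : Fin m → F) (ht : ∀ i, t i ≠ 0) (s : Finset (Fin m)) :
    Rep (Matrix.diagonal (torVecS t s)) (∏ i ∈ s, t i) := by
  classical
  induction s using Finset.induction_on with
  | empty =>
    have : torVecS t ∅ = 1 := by
      funext κ
      rcases κ with l | l <;> simp [torVecS]
    have h1 : Matrix.diagonal (1 : Fin m ⊕ Fin m → F) = 1 := Matrix.diagonal_one
    rw [this, h1, Finset.prod_empty]
    exact Rep.one
  | insert a s ha ih =>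
    have h1 : Matrix.diagonal (torVec a (t a) * torVecS t s) =
        Matrix.diagonal (torVec a (t a)) * Matrix.diagonal (torVecS t s) :=
      (Matrix.diagonal_mul_diagonal' _ _).symm
    rw [torVecS_insert t s a ha, Finset.prod_insert ha, h1]
    exact (Rep.tor a (t a) (ht a)).mul ih

/-- **the spinor norm of a diagonal isometry** -/
theorem torus_mem_omega_iff [Fintype F] (h2 : (2 : F) ≠ 0) (t : Fin m → F) (ht : ∀ i, t i ≠ 0)
    (g : ↥(Cfsg.isometryGroup F ⇑(plusForm m F)))
    (hg : ((g : GL (Fin m ⊕ Fin m) F) : Matrix (Fin m ⊕ Fin m) (Fin m ⊕ Fin m) F) =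
      Matrix.diagonal (Sum.elim t (fun i => (t i)⁻¹))) :
    g ∈ Cfsg.Omega F ⇑(plusForm m F) ↔ IsSquare (∏ i, t i) := by
  have hvec : torVecS t Finset.univ = Sum.elim t (fun i => (t i)⁻¹) := by
    funext κ
    rcases κ with l | l <;> simp [torVecS]
  obtain ⟨vs, h1, h2', h3, h4⟩ := Rep.torS t ht Finset.univ
  rw [hvec] at h2'
  rw [mem_omega_iff (isGram_gramOf h2 (plusForm m F)) g vs h1 (hg.trans h2'), h4]
  exact ⟨fun h => h.2, fun h => ⟨h3, h⟩⟩

end Cfsg.Agent.Lib.Helper99.GF
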