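import Mathlib
import Cfsg.Agent.Lib.Helper99.GF7
import Cfsg.Agent.Lib.Helper37.PlusDiag
import Cfsg.Agent.Lib.Helper37.MinusDiag
import Cfsg.Agent.Lib.Helper45.SplitCount

set_option autoImplicit false
set_option linter.unusedSectionVars false
set_option linter.unusedVariables false
set_option maxHeartbeats 800000

/-!
# Rational similarities in the plus form: transport lemmas
-/

namespace Cfsg.Agent.Lib.Helper99.GF

open Matrix Module QuadraticMap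
open Cfsg.Agent.Lib.Helper37 Cfsg.Agent.Lib.Helper37.OrthField Cfsg.Agent.Lib.Helper8
open Cfsg.Agent.Lib.Helper37.ParGen Cfsg.Agent.Lib.Helper14 Cfsg.Agent.Lib.Helper43

universe u

/-- the index of `N ⊔ C` when `N` has index four and both lie in a proper subgroup -/
theorem index_sup_cases {G : Type*} [Group G] (N C M : Subgroup G)
    (hN : N.index = 4) (hNM : N ≤ M) (hCM : C ≤ M) (hM : M ≠ ⊤) :
    (C ≤ N → (N ⊔ C).index = 4) ∧ (¬ C ≤ N → (N ⊔ C).index = 2) := by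
  constructor
  · intro h
    rw [sup_eq_left.2 h, hN]
  · intro h
    have h1 : (N ⊔ C).index ∣ 4 := hN ▸ Subgroup.index_dvd_of_le le_sup_left
    have h2 : (N ⊔ C).index ≠ 1 := by
      intro h0
      rw [Subgroup.index_eq_one] at h0
      apply hM
      rw [eq_top_iff, ← h0]
      exact sup_le hNM hCM
    have h3 : (N ⊔ C).index ≠ 4 := by
      intro h0
      have h4 := Subgroup.relIndex_mul_index (le_sup_left : N ≤ N ⊔ C)
      rw [hN, h0] at h4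
      have h5 : N.relIndex (N ⊔ C) = 1 := by omega
      rw [Subgroup.relIndex_eq_one] at h5
      exact h (le_trans le_sup_right h5)
    generalize (N ⊔ C).index = n at h1 h2 h3
    have h4 : n ≤ 4 := Nat.le_of_dvd (by norm_num) h1
    interval_cases n <;> omega

section model

variable {F₀ : Type*} {F : Type u} [Field F₀] [Field F] [Fintype F₀] [Fintype F] (j : F₀ →+* F)
  (hcard : Fintype.card F = Fintype.card F₀ ^ 2) (k : ℕ) (hk : 4 ≤ k) (a₀ b₀ : F₀)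
  (hab : ∀ z₁ z₂ : F₀, z₁ ^ 2 + a₀ * z₁ * z₂ + b₀ * z₂ ^ 2 = 0 → z₁ = 0 ∧ z₂ = 0)
  (θ θ' : F) (ha : θ + θ' = -(j a₀)) (hb : θ * θ' = j b₀) (hθ : θ ≠ θ')
  (σ : F ≃+* F) (hj : ∀ a, σ a = a ↔ a ∈ Set.range j) (hσ2 : orderOf σ = 2)
  (hσθ : σ θ = θ') (hσθ' : σ θ' = θ)

/-- base change of rational similarities of the minus form into the plus form -/
noncomputable def rho :
    ↥(Cfsg.Geo.quadSimilarityGroup (F := F₀) ⇑(minusForm k F₀ a₀ b₀)) →*
      ↥(Cfsg.Geo.quadSimilarityGroup (F := F) ⇑(plusForm (k + 1) F)) :=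
  (splitIso k θ θ' (j a₀) (j b₀) ha hb hθ).cSim.toMonoidHom.comp
    (mapGO j (minusForm k F (j a₀) (j b₀)) (minusForm k F₀ a₀ b₀) (minus_compat j k a₀ b₀))

theorem rho_val (g₀ : ↥(Cfsg.Geo.quadSimilarityGroup (F := F₀) ⇑(minusForm k F₀ a₀ b₀))) :
    ((rho j k a₀ b₀ θ θ' ha hb hθ g₀).1 : GL (Fin (k + 1) ⊕ Fin (k + 1)) F) =
      (splitIso k θ θ' (j a₀) (j b₀) ha hb hθ).cGL (mapGL j g₀.1) := rfl

include hj hσθ hσθ' in
theorem cAut_phiF :
    (splitIso k θ θ' (j a₀) (j b₀) ha hb hθ).cAut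
      (phiF (minusForm k F (j a₀) (j b₀)) σ (minus_inv j k a₀ b₀ σ hj)) =
      Psi ⇑(plusForm (k + 1) F) ⟨modelPair k σ, modelPair_mem k σ⟩ := by
  rw [phiF_def, RIso.cAut_Psi]
  congr 1
  apply Subtype.ext
  show (splitIso k θ θ' (j a₀) (j b₀) ha hb hθ).cSemi (SemidirectProduct.inr σ) = modelPair k σ
  exact cSemi_inr k θ θ' (j a₀) (j b₀) ha hb hθ σ hσθ hσθ'

theorem cSim_scO (c : Fˣ) :
    (splitIso k θ θ' (j a₀) (j b₀) ha hb hθ).cSim (scO (minusForm k F (j a₀) (j b₀)) c) =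
      scO (plusForm (k + 1) F) c := by
  apply Subtype.ext
  apply Units.ext
  rw [RIso.cSim_val, RIso.cGL_val, scO_val, scO_val, coe_scalar_eq_smul, coe_scalar_eq_smul,
    Matrix.mul_smul, Matrix.mul_one, Matrix.smul_mul,
    (splitIso k θ θ' (j a₀) (j b₀) ha hb hθ).hAA']

include hcard hk hab hj hσ2 hσθ hσθ' in
/-- a similarity commuting with the model involution is rational up to a scalar -/
theorem cent_rational (g : ↥(Cfsg.Geo.quadSimilarityGroup (F := F) ⇑(plusForm (k + 1) F)))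
    (hg : Phi ⇑(plusForm (k + 1) F) g *
        Psi ⇑(plusForm (k + 1) F) ⟨modelPair k σ, modelPair_mem k σ⟩ =
      Psi ⇑(plusForm (k + 1) F) ⟨modelPair k σ, modelPair_mem k σ⟩ *
        Phi ⇑(plusForm (k + 1) F) g) :
    ∃ (e : Fˣ) (g₀ : ↥(Cfsg.Geo.quadSimilarityGroup (F := F₀) ⇑(minusForm k F₀ a₀ b₀))),
      rho j k a₀ b₀ θ θ' ha hb hθ g₀ = scO (plusForm (k + 1) F) e * g := by
  classical
  haveI : Nonempty ((Fin k ⊕ Fin k) ⊕ Fin 2) := ⟨Sum.inr 0⟩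
  obtain ⟨R, hR⟩ : ∃ R, R = splitIso k θ θ' (j a₀) (j b₀) ha hb hθ := ⟨_, rfl⟩
  have hnd' : (polarBilin (minusForm k F (j a₀) (j b₀))).Nondegenerate :=
    RIso.nondeg _ _ R (plusForm_nondegenerate (k + 1) F)
  have hfr : finrank F ((Fin k ⊕ Fin k) ⊕ Fin 2 → F) = k + k + 2 := by simp
  have hker' := Phi_eq_one_iff (minusForm k F (j a₀) (j b₀)) hnd'
    (Cfsg.Agent.S0294.minus_hypFam k F (j a₀) (j b₀)) (by omega) (Or.inr (by omega)) (by omega)
    (fun _ => by omega)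
  have hne₀ : ∃ w, minusForm k F₀ a₀ b₀ w ≠ 0 := by
    obtain ⟨h1, -, -⟩ := (Cfsg.Agent.S0294.minus_hypFam k F₀ a₀ b₀).compl_vec ⟨0, by omega⟩ 1
    exact ⟨_, by rw [h1]; exact one_ne_zero⟩
  have hx := cAut_phiF j k a₀ b₀ θ θ' ha hb hθ σ hj hσθ hσθ'
  rw [← hR] at hx
  have hcomm : Phi ⇑(minusForm k F (j a₀) (j b₀)) (R.cSim.symm g) *
      phiF (minusForm k F (j a₀) (j b₀)) σ (minus_inv j k a₀ b₀ σ hj) =
      phiF (minusForm k F (j a₀) (j b₀)) σ (minus_inv j k a₀ b₀ σ hj) *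
        Phi ⇑(minusForm k F (j a₀) (j b₀)) (R.cSim.symm g) := by
    apply R.cAut.injective
    rw [map_mul, map_mul, hx, R.cAut_Phi, MulEquiv.apply_symm_apply]
    exact hg
  obtain ⟨e, g₀, hg₀⟩ := exists_rational_of_comm j (minusForm k F (j a₀) (j b₀))
    (minusForm k F₀ a₀ b₀) (minus_compat j k a₀ b₀) σ hj (minus_inv j k a₀ b₀ σ hj) hker'
    (R.cSim.symm g) hcomm hne₀ 2 hσ2 (by norm_num)
  refine ⟨e, g₀, ?_⟩
  have h1 := congrArg R.cSim hg₀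
  rw [map_mul, MulEquiv.apply_symm_apply, hR, cSim_scO] at h1
  exact h1

include hk hj hσθ hσθ' in
/-- rational similarities commute with the model involution -/
theorem rho_comm (g₀ : ↥(Cfsg.Geo.quadSimilarityGroup (F := F₀) ⇑(minusForm k F₀ a₀ b₀))) :
    Phi ⇑(plusForm (k + 1) F) (rho j k a₀ b₀ θ θ' ha hb hθ g₀) *
        Psi ⇑(plusForm (k + 1) F) ⟨modelPair k σ, modelPair_mem k σ⟩ =
      Psi ⇑(plusForm (k + 1) F) ⟨modelPair k σ, modelPair_mem k σ⟩ *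
        Phi ⇑(plusForm (k + 1) F) (rho j k a₀ b₀ θ θ' ha hb hθ g₀) := by
  classical
  haveI : Nonempty ((Fin k ⊕ Fin k) ⊕ Fin 2) := ⟨Sum.inr 0⟩
  obtain ⟨R, hR⟩ : ∃ R, R = splitIso k θ θ' (j a₀) (j b₀) ha hb hθ := ⟨_, rfl⟩
  have hnd' : (polarBilin (minusForm k F (j a₀) (j b₀))).Nondegenerate :=
    RIso.nondeg _ _ R (plusForm_nondegenerate (k + 1) F)
  have hfr : finrank F ((Fin k ⊕ Fin k) ⊕ Fin 2 → F) = k + k + 2 := by simp
  have hker' := Phi_eq_one_iff (minusForm k F (j a₀) (j b₀)) hnd'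
    (Cfsg.Agent.S0294.minus_hypFam k F (j a₀) (j b₀)) (by omega) (Or.inr (by omega)) (by omega)
    (fun _ => by omega)
  have hx := cAut_phiF j k a₀ b₀ θ θ' ha hb hθ σ hj hσθ hσθ'
  rw [← hR] at hx
  have h1 := comm_of_rational j (minusForm k F (j a₀) (j b₀))
    (minusForm k F₀ a₀ b₀) (minus_compat j k a₀ b₀) σ hj (minus_inv j k a₀ b₀ σ hj) hker' g₀
  have h2 := congrArg R.cAut h1
  rw [map_mul, map_mul, hx, R.cAut_Phi, hR] at h2
  exact h2

theorem plus_hne (m : ℕ) (hm : 1 ≤ m) : ∃ v, (plusForm m F) v ≠ 0 := by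
  refine ⟨hypVec ⟨0, by omega⟩ (-1), ?_⟩
  rw [plus_hypVec, neg_neg]
  exact one_ne_zero

include hk hab in
/-- the multiplier of a rational similarity -/
theorem simMult_rho (g₀ : ↥(Cfsg.Geo.quadSimilarityGroup (F := F₀) ⇑(minusForm k F₀ a₀ b₀))) :
    (simMult ⇑(plusForm (k + 1) F) (rho j k a₀ b₀ θ θ' ha hb hθ g₀) : F) =
      j (simMult ⇑(minusForm k F₀ a₀ b₀) g₀ : F₀) := by
  obtain ⟨R, hR⟩ : ∃ R, R = splitIso k θ θ' (j a₀) (j b₀) ha hb hθ := ⟨_, rfl⟩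
  obtain ⟨w₀, hw₀⟩ : ∃ w, minusForm k F₀ a₀ b₀ w ≠ 0 := by
    obtain ⟨h1, -, -⟩ := (Cfsg.Agent.S0294.minus_hypFam k F₀ a₀ b₀).compl_vec ⟨0, by omega⟩ 1
    exact ⟨_, by rw [h1]; exact one_ne_zero⟩
  have hne : ∃ v, (plusForm (k + 1) F) v ≠ 0 := plus_hne (k + 1) (by omega)
  have hjw : minusForm k F (j a₀) (j b₀) (jv j w₀) ≠ 0 := by
    rw [← minus_compat]
    exact fun h => hw₀ ((map_eq_zero j).1 h)
  -- the multiplier on the minus side
  have h1 : (simMult ⇑(minusForm k F (j a₀) (j b₀))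
      (mapGO j (minusForm k F (j a₀) (j b₀)) (minusForm k F₀ a₀ b₀) (minus_compat j k a₀ b₀) g₀) :
        F) = j (simMult ⇑(minusForm k F₀ a₀ b₀) g₀ : F₀) := by
    have h2 := simMult_spec ⇑(minusForm k F (j a₀) (j b₀))
      (mapGO j (minusForm k F (j a₀) (j b₀)) (minusForm k F₀ a₀ b₀) (minus_compat j k a₀ b₀) g₀)
      (jv j w₀)
    rw [mapGO_val, mapGL_mulVec, ← minus_compat j k a₀ b₀ (g₀.1 *ᵥ w₀),
      simMult_spec ⇑(minusForm k F₀ a₀ b₀) g₀ w₀, map_mul, minus_compat j k a₀ b₀ w₀] at h2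
    exact (mul_right_cancel₀ hjw h2).symm
  rw [← h1]
  have h3 : simMult ⇑(plusForm (k + 1) F) (rho j k a₀ b₀ θ θ' ha hb hθ g₀) =
      simMult ⇑(minusForm k F (j a₀) (j b₀))
      (mapGO j (minusForm k F (j a₀) (j b₀)) (minusForm k F₀ a₀ b₀) (minus_compat j k a₀ b₀)
        g₀) := by
    apply simMult_unique hne
    intro u
    rw [rho_val, RIso.cGL_mulVec', (splitIso k θ θ' (j a₀) (j b₀) ha hb hθ).hQ,
      ← mapGO_val j (minusForm k F (j a₀) (j b₀)) (minusForm k F₀ a₀ b₀) (minus_compat j k a₀ b₀),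
      simMult_spec ⇑(minusForm k F (j a₀) (j b₀)), (splitIso k θ θ' (j a₀) (j b₀) ha hb hθ).hQ']
  rw [h3]

/-- the determinant of a rational similarity -/
theorem det_rho (g₀ : ↥(Cfsg.Geo.quadSimilarityGroup (F := F₀) ⇑(minusForm k F₀ a₀ b₀))) :
    ((rho j k a₀ b₀ θ θ' ha hb hθ g₀).1 : Matrix (Fin (k + 1) ⊕ Fin (k + 1))
      (Fin (k + 1) ⊕ Fin (k + 1)) F).det =
      j ((g₀.1 : Matrix ((Fin k ⊕ Fin k) ⊕ Fin 2) ((Fin k ⊕ Fin k) ⊕ Fin 2) F₀).det) := by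
  rw [rho_val, RIso.cGL_val,
    Matrix.det_conj_of_mul_eq_one (splitIso k θ θ' (j a₀) (j b₀) ha hb hθ).hAA'
      (splitIso k θ θ' (j a₀) (j b₀) ha hb hθ).hA'A, mapGL_val]
  exact (RingHom.map_det j _).symm

end model

end Cfsg.Agent.Lib.Helper99.GF
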