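import Mathlib
import Cfsg.Agent.Lib.Helper99.GF8

set_option autoImplicit false
set_option linter.unusedSectionVars false
set_option linter.unusedVariables false
set_option maxHeartbeats 800000

/-!
# Rational similarities inducing inner automorphisms
-/

namespace Cfsg.Agent.Lib.Helper99.GF

open Matrix Module QuadraticMap
open Cfsg.Agent.Lib.Helper37 Cfsg.Agent.Lib.Helper37.OrthField Cfsg.Agent.Lib.Helper8
open Cfsg.Agent.Lib.Helper37.ParGen Cfsg.Agent.Lib.Helper14 Cfsg.Agent.Lib.Helper43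

universe u

section rational

variable {ι : Type} [Fintype ι] [DecidableEq ι] {F : Type u} [Field F] [Fintype F]
  {F₀ : Type*} [Field F₀] [Fintype F₀] (j : F₀ →+* F)
  (Q : QuadraticForm F (ι → F)) (Q₀ : QuadraticForm F₀ (ι → F₀))
  (hQ₀ : ∀ w, j (Q₀ w) = Q (jv j w))

include hQ₀ in
/-- a rational isometry of determinant one lies in `Ω` over the big field, when all rational
scalars are squares there -/
theorem rational_iso_mem_omega (h2 : (2 : F) ≠ 0)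
    (hQnd₀ : (QuadraticMap.polarBilin Q₀).Nondegenerate)
    (hsq : ∀ a₀ : F₀, IsSquare (j a₀))
    (k₀ : ↥(Cfsg.isometryGroup F₀ ⇑Q₀)) (hdet : (toMat ⇑Q₀ k₀).det = 1) :
    ∃ kF : ↥(Cfsg.isometryGroup F ⇑Q), kF ∈ Cfsg.Omega F ⇑Q ∧
      toMat ⇑Q kF = (toMat ⇑Q₀ k₀).map j := by
  classical
  have h := isGram_gramOf h2 Q
  have h2₀ : (2 : F₀) ≠ 0 := two_ne_zero_of_map j h2
  have h₀ := isGram_gramOf h2₀ Q₀
  have hdet₀ := det_gramOf Q₀ hQnd₀
  obtain ⟨vs₀, hvs₀, hprod₀⟩ := h₀.cartan_dieudonne hdet₀ k₀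
  have hev : Even vs₀.length := by
    have h1 := h₀.det_list vs₀ hvs₀
    rw [← hprod₀, hdet] at h1
    by_contra hodd
    rw [Nat.not_even_iff_odd] at hodd
    rw [hodd.neg_one_pow] at h1
    apply h2₀
    linear_combination h1
  obtain ⟨vs, hvsdef⟩ : ∃ vs, vs = vs₀.map (jv j) := ⟨_, rfl⟩
  have hvs : ∀ v ∈ vs, Q v ≠ 0 := by
    intro v hv
    rw [hvsdef] at hv
    obtain ⟨w, hw, rfl⟩ := List.mem_map.1 hv
    rw [← hQ₀]
    exact fun h0 => hvs₀ w hw ((map_eq_zero j).1 h0)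
  refine ⟨(vs.map h.reflG').prod, ?_, ?_⟩
  · refine h.mem_omega_of_even_and_isSquare _ vs hvs (h.toMat_list vs hvs)
      (by rw [hvsdef, List.length_map]; exact hev) ?_
    have : (vs.map (fun v => Q v)).prod = j ((vs₀.map (fun v => Q₀ v)).prod) := by
      rw [hvsdef, map_list_prod, List.map_map, List.map_map]
      congr 1
      apply List.map_congr_left
      intro w _
      simp [hQ₀]
    rw [this]
    exact hsq _
  · rw [h.toMat_list vs hvs, hprod₀, hvsdef]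
    exact reflList_map j Q Q₀ hQ₀ vs₀

end rational

section plus

variable {F : Type u} [Field F] [Fintype F] [DecidableEq F] {m : ℕ}

theorem plus_isGram' (h2 : (2 : F) ≠ 0) (m : ℕ) : IsGram ⇑(plusForm m F) (gramP m F) := by
  rw [← plusForm_coe]
  exact plus_isGram h2 m

theorem plus_hker' (hm : 4 ≤ m) :
    ∀ g : ↥(Cfsg.Geo.quadSimilarityGroup (F := F) ⇑(plusForm m F)),
      Phi ⇑(plusForm m F) g = 1 ↔
        ∃ c : F, ((g.1 : GL (Fin m ⊕ Fin m) F) : Matrix (Fin m ⊕ Fin m) (Fin m ⊕ Fin m) F)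
          = c • (1 : Matrix (Fin m ⊕ Fin m) (Fin m ⊕ Fin m) F) := by
  rw [← plusForm_coe]
  exact plus_hker hm

theorem plus_preserves_iff' (h2 : (2 : F) ≠ 0) (hm : 1 ≤ m)
    (g : ↥(Cfsg.Geo.quadSimilarityGroup (F := F) ⇑(plusForm m F))) :
    Cfsg.PreservesSingularClasses ⇑(plusForm m F)
        (g.1 : Matrix (Fin m ⊕ Fin m) (Fin m ⊕ Fin m) F) ↔
      (g.1 : Matrix (Fin m ⊕ Fin m) (Fin m ⊕ Fin m) F).det =
        (simMult ⇑(plusForm m F) g : F) ^ m := by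
  have key : ∀ (Qf : (Fin m ⊕ Fin m → F) → F) (hQf : Qf = Cfsg.quadFormPlus m F)
      (g : ↥(Cfsg.Geo.quadSimilarityGroup (F := F) Qf)),
      Cfsg.PreservesSingularClasses Qf (g.1 : Matrix (Fin m ⊕ Fin m) (Fin m ⊕ Fin m) F) ↔
        (g.1 : Matrix (Fin m ⊕ Fin m) (Fin m ⊕ Fin m) F).det = (simMult Qf g : F) ^ m := by
    intro Qf hQf
    subst hQf
    exact plus_preserves_iff h2 hm
  exact key _ (plusForm_coe m F).symm g

/-- a class preserving similarity with prescribed multiplier -/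
theorem exists_plusSim (h2 : (2 : F) ≠ 0) (hm : 1 ≤ m) (c : Fˣ) :
    ∃ d : ↥(Cfsg.Geo.quadSimilarityGroup (F := F) ⇑(plusForm m F)),
      simMult ⇑(plusForm m F) d = c ∧
      (d.1 : Matrix (Fin m ⊕ Fin m) (Fin m ⊕ Fin m) F).det = (c : F) ^ m := by
  have key : ∀ (Qf : (Fin m ⊕ Fin m → F) → F) (hQf : Qf = Cfsg.quadFormPlus m F),
      ∃ d : ↥(Cfsg.Geo.quadSimilarityGroup (F := F) Qf), simMult Qf d = c ∧
        (d.1 : Matrix (Fin m ⊕ Fin m) (Fin m ⊕ Fin m) F).det = (c : F) ^ m := by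
    intro Qf hQf
    subst hQf
    exact ⟨plusSim m c, simMult_plusSim h2 hm c, plusSim_det c⟩
  exact key _ (plusForm_coe m F).symm

/-- in odd characteristic the class preserving similarities are those of determinant `μ^m` -/
theorem simP_eq_simC (h2 : (2 : F) ≠ 0) (hm : 4 ≤ m) (hn : 2 ≤ Fintype.card (Fin m ⊕ Fin m)) :
    simP (plusForm m F) (plusForm_nondegenerate m F) plus_hV (stdL m F) plus_lag =
      simC (plus_isGram' h2 m) (gramP_det_ne_zero m) (plus_card_two_mul m) hn := by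
  ext g
  rw [mem_simP_iff_preserves, mem_simC_iff _ _ _ _ (plus_hker' hm),
    plus_preserves_iff' h2 (by omega)]

/-- `-1 ∈ Ω` when `-1` is a square -/
theorem negO_mem_omega (h2 : (2 : F) ≠ 0) (hi : IsSquare (-1 : F)) :
    (plus_isGram' h2 m).negO ∈ Cfsg.Omega F ⇑(plusForm m F) := by
  rw [torus_mem_omega_iff h2 (fun _ => (-1 : F)) (fun _ => neg_ne_zero.2 one_ne_zero)]
  · rw [Finset.prod_const]
    exact hi.pow _
  · have h1 := (plus_isGram' h2 m).toMat_negO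
    rw [toMat_apply] at h1
    rw [h1]
    ext x y
    rcases x with x | x <;> rcases y with y | y <;>
      simp [Matrix.diagonal, Matrix.neg_apply, Matrix.one_apply, inv_neg] <;>
      split_ifs <;> simp

/-- similarities inducing inner automorphisms have square multiplier -/
theorem isSquare_simMult_of_mem_innPre (h2 : (2 : F) ≠ 0) (hm : 4 ≤ m)
    (g : ↥(Cfsg.Geo.quadSimilarityGroup (F := F) ⇑(plusForm m F)))
    (hg : g ∈ innPre ⇑(plusForm m F)) : IsSquare (simMult ⇑(plusForm m F) g : F) := by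
  have hne : ∃ v, (plusForm m F) v ≠ 0 := plus_hne m (by omega)
  obtain ⟨c, s, -, rfl⟩ := (mem_innPre_iff (plus_isGram' h2 m) hne (plus_hker' hm) g).1 hg
  have h1 : simMult ⇑(plusForm m F) (scalarGO (plus_isGram' h2 m) c * isoGO _ s) =
      simMult ⇑(plusForm m F) (scalarGO (plus_isGram' h2 m) c) *
        simMult ⇑(plusForm m F) (isoGO _ s) := (simMultHom hne).map_mul _ _
  rw [h1, simMult_scalarGO _ hne, simMult_isoGO hne, mul_one, Units.val_mul]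
  exact ⟨_, rfl⟩

end plus

section model

variable {F₀ : Type*} {F : Type u} [Field F₀] [Field F] [Fintype F₀] [Fintype F] [DecidableEq F]
  (j : F₀ →+* F)
  (hcard : Fintype.card F = Fintype.card F₀ ^ 2) (k : ℕ) (hk : 4 ≤ k) (a₀ b₀ : F₀)
  (hab : ∀ z₁ z₂ : F₀, z₁ ^ 2 + a₀ * z₁ * z₂ + b₀ * z₂ ^ 2 = 0 → z₁ = 0 ∧ z₂ = 0)
  (θ θ' : F) (ha : θ + θ' = -(j a₀)) (hb : θ * θ' = j b₀) (hθ : θ ≠ θ')
  (σ : F ≃+* F) (hj : ∀ a, σ a = a ↔ a ∈ Set.range j) (hσ2 : orderOf σ = 2)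
  (hσθ : σ θ = θ') (hσθ' : σ θ' = θ)

theorem isoGO_mem_innPre {ι : Type} [Fintype ι] [DecidableEq ι] (Q : (ι → F) → F)
    (s : ↥(Cfsg.isometryGroup F Q)) (hs : s ∈ Cfsg.Omega F Q) : isoGO Q s ∈ innPre Q := by
  unfold innPre
  rw [Subgroup.mem_comap, mem_inn_iff]
  exact ⟨s, hs, rfl⟩

include hk in
/-- rational scalars induce the trivial automorphism -/
theorem rho_scalar_mem_innPre
    (g₀ : ↥(Cfsg.Geo.quadSimilarityGroup (F := F₀) ⇑(minusForm k F₀ a₀ b₀))) (c₀ : F₀)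
    (hg₀ : ((g₀.1 : GL ((Fin k ⊕ Fin k) ⊕ Fin 2) F₀) :
      Matrix ((Fin k ⊕ Fin k) ⊕ Fin 2) ((Fin k ⊕ Fin k) ⊕ Fin 2) F₀) = c₀ • 1) :
    rho j k a₀ b₀ θ θ' ha hb hθ g₀ ∈ innPre ⇑(plusForm (k + 1) F) := by
  unfold innPre
  rw [Subgroup.mem_comap, (plus_hker' (by omega) _).2]
  · exact Subgroup.one_mem _
  · refine ⟨j c₀, ?_⟩
    rw [rho_val, RIso.cGL_val, mapGL_val, hg₀]
    have : ((c₀ • (1 : Matrix ((Fin k ⊕ Fin k) ⊕ Fin 2) ((Fin k ⊕ Fin k) ⊕ Fin 2) F₀)).map j) =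
        (j c₀) • (1 : Matrix ((Fin k ⊕ Fin k) ⊕ Fin 2) ((Fin k ⊕ Fin k) ⊕ Fin 2) F) := by
      ext x y
      simp [Matrix.one_apply]
      split_ifs <;> simp
    rw [this, Matrix.mul_smul, Matrix.mul_one, Matrix.smul_mul,
      (splitIso k θ θ' (j a₀) (j b₀) ha hb hθ).hAA']

include hab in
/-- rational isometries of determinant one induce inner automorphisms -/
theorem rho_iso_mem_innPre (h2 : (2 : F) ≠ 0) (hsq : ∀ c₀ : F₀, IsSquare (j c₀))
    (k₀ : ↥(Cfsg.isometryGroup F₀ ⇑(minusForm k F₀ a₀ b₀)))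
    (hdet : (toMat ⇑(minusForm k F₀ a₀ b₀) k₀).det = 1) :
    rho j k a₀ b₀ θ θ' ha hb hθ (isoGO ⇑(minusForm k F₀ a₀ b₀) k₀) ∈
      innPre ⇑(plusForm (k + 1) F) := by
  have hnd₀ : (polarBilin (minusForm k F₀ a₀ b₀)).Nondegenerate :=
    (minus_family k F₀ a₀ b₀).nondegenerate (minusForm_zero_nondegenerate F₀ a₀ b₀ hab)
  obtain ⟨kF, hkF, hmat⟩ := rational_iso_mem_omega j (minusForm k F (j a₀) (j b₀))
    (minusForm k F₀ a₀ b₀) (minus_compat j k a₀ b₀) h2 hnd₀ hsq k₀ hdet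
  have h1 : (splitIso k θ θ' (j a₀) (j b₀) ha hb hθ).cIso kF ∈
      Cfsg.Omega F ⇑(plusForm (k + 1) F) := by
    show _ ∈ commutator ↥(Cfsg.isometryGroup F ⇑(plusForm (k + 1) F))
    rw [← map_commutator_equiv (splitIso k θ θ' (j a₀) (j b₀) ha hb hθ).cIso]
    exact ⟨kF, hkF, rfl⟩
  have h2' : rho j k a₀ b₀ θ θ' ha hb hθ (isoGO ⇑(minusForm k F₀ a₀ b₀) k₀) =
      isoGO ⇑(plusForm (k + 1) F) ((splitIso k θ θ' (j a₀) (j b₀) ha hb hθ).cIso kF) := by
    apply Subtype.ext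
    rw [rho_val, isoGO_val, isoGO_val, RIso.cIso_val]
    congr 1
    apply Units.ext
    rw [mapGL_val]
    exact hmat.symm
  rw [h2']
  exact isoGO_mem_innPre _ _ h1

include hk hab in
/-- a class preserving rational similarity with square multiplier induces an inner
automorphism -/
theorem rho_mem_innPre_of_sq (h2 : (2 : F) ≠ 0) (hsq : ∀ c₀ : F₀, IsSquare (j c₀))
    (g₀ : ↥(Cfsg.Geo.quadSimilarityGroup (F := F₀) ⇑(minusForm k F₀ a₀ b₀))) (c₀ : F₀ˣ)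
    (hc : simMult ⇑(minusForm k F₀ a₀ b₀) g₀ = c₀ * c₀)
    (hP : rho j k a₀ b₀ θ θ' ha hb hθ g₀ ∈ simP (plusForm (k + 1) F)
      (plusForm_nondegenerate (k + 1) F) plus_hV (stdL (k + 1) F) plus_lag) :
    rho j k a₀ b₀ θ θ' ha hb hθ g₀ ∈ innPre ⇑(plusForm (k + 1) F) := by
  classical
  have h2₀ : (2 : F₀) ≠ 0 := two_ne_zero_of_map j h2
  have h₀ := isGram_gramOf h2₀ (minusForm k F₀ a₀ b₀)
  obtain ⟨k₀, hk₀⟩ := exists_scalar_mul_iso h₀ g₀ c₀ hc
  have hn : 2 ≤ Fintype.card (Fin (k + 1) ⊕ Fin (k + 1)) := by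
    rw [plus_card_two_mul]; omega
  rw [simP_eq_simC h2 (by omega) hn, mem_simC_iff _ _ _ _ (plus_hker' (by omega)), det_rho,
    simMult_rho j k hk a₀ b₀ hab, hc, ← map_pow] at hP
  have hP' := j.injective hP
  have hdet : (toMat ⇑(minusForm k F₀ a₀ b₀) k₀).det = 1 := by
    have h3 : ((g₀.1 : GL ((Fin k ⊕ Fin k) ⊕ Fin 2) F₀) :
        Matrix ((Fin k ⊕ Fin k) ⊕ Fin 2) ((Fin k ⊕ Fin k) ⊕ Fin 2) F₀) =
        (c₀ : F₀) • toMat ⇑(minusForm k F₀ a₀ b₀) k₀ := by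
      rw [hk₀, Subgroup.coe_mul, Units.val_mul, scalarGO_val, isoGO_val, Matrix.smul_mul,
        Matrix.one_mul, toMat_apply]
    rw [h3, Matrix.det_smul] at hP'
    have hcardι : Fintype.card ((Fin k ⊕ Fin k) ⊕ Fin 2) = 2 * (k + 1) := by
      simp [Fintype.card_sum]; omega
    rw [hcardι, Units.val_mul, ← pow_two, ← pow_mul] at hP'
    have hc0 : ((c₀ : F₀) ^ (2 * (k + 1))) ≠ 0 := pow_ne_zero _ c₀.ne_zero
    exact mul_left_cancel₀ hc0 (by rw [hP', mul_one])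
  rw [hk₀, map_mul]
  refine Subgroup.mul_mem _ ?_ (rho_iso_mem_innPre j k a₀ b₀ hab θ θ' ha hb hθ h2 hsq k₀ hdet)
  exact rho_scalar_mem_innPre j k hk a₀ b₀ θ θ' ha hb hθ _ (c₀ : F₀) (scalarGO_val h₀ c₀)

end model

end Cfsg.Agent.Lib.Helper99.GF
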