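import Mathlib
import Cfsg.Agent.Lib.Helper99.GF9

set_option autoImplicit false
set_option linter.unusedSectionVars false
set_option linter.unusedVariables false
set_option maxHeartbeats 800000

/-!
# Square classes in a quadratic extension of finite fields
-/

namespace Cfsg.Agent.Lib.Helper99.GF

open Matrix Module QuadraticMap
open Cfsg.Agent.Lib.Helper37 Cfsg.Agent.Lib.Helper37.OrthField Cfsg.Agent.Lib.Helper8
open Cfsg.Agent.Lib.Helper37.ParGen Cfsg.Agent.Lib.Helper14 Cfsg.Agent.Lib.Helper43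

universe u

section squares

variable {F₀ : Type*} {F : Type u} [Field F₀] [Field F] [Fintype F₀] [Fintype F] (j : F₀ →+* F)

/-- a square root of a rational non-square is a non-square iff `q₀ ≡ 1 mod 4` -/
theorem nu_not_isSquare_iff (h2 : (2 : F) ≠ 0)
    (hcard : Fintype.card F = Fintype.card F₀ ^ 2) (μ₀ : F₀) (hμ₀ : ¬ IsSquare μ₀) (ν : F)
    (hν : ν * ν = j μ₀) : ¬ IsSquare ν ↔ Fintype.card F₀ % 4 = 1 := by
  have h2₀ : (2 : F₀) ≠ 0 := two_ne_zero_of_map j h2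
  have hF := ringChar_ne_two_of_two_ne_zero h2
  have hF₀ := ringChar_ne_two_of_two_ne_zero h2₀
  have hodd₀ : Odd (Fintype.card F₀) :=
    Nat.odd_iff.2 (FiniteField.odd_card_of_char_ne_two hF₀)
  have hμ0 : μ₀ ≠ 0 := by
    rintro rfl
    exact hμ₀ ⟨0, by simp⟩
  have hν0 : ν ≠ 0 := by
    rintro rfl
    rw [mul_zero] at hν
    exact hμ0 ((map_eq_zero j).1 hν.symm)
  have h1 : μ₀ ^ (Fintype.card F₀ / 2) = -1 := by
    rcases FiniteField.pow_dichotomy hF₀ hμ0 with h | h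
    · exact absurd ((FiniteField.isSquare_iff hF₀ hμ0).2 h) hμ₀
    · exact h
  obtain ⟨n, hn⟩ := hodd₀
  have hq : Fintype.card F / 2 = 2 * (n * (n + 1)) := by
    rw [hcard, hn]
    have : (2 * n + 1) ^ 2 = 2 * (2 * (n * (n + 1))) + 1 := by ring
    omega
  have hq₀ : Fintype.card F₀ / 2 = n := by omega
  have h3 : ν ^ (Fintype.card F / 2) = (-1) ^ (n + 1) := by
    rw [hq, pow_mul, pow_two, hν, pow_mul, ← map_pow, ← hq₀, h1, map_neg, map_one]
  rw [FiniteField.isSquare_iff hF hν0, h3,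
    neg_one_pow_eq_one_iff_even (Ring.neg_one_ne_one_of_char_ne_two hF), Nat.not_even_iff_odd, hn]
  constructor
  · rintro ⟨t, ht⟩
    omega
  · intro h
    refine ⟨n / 2, ?_⟩
    omega

/-- an element of norm a rational non-square is a non-square -/
theorem lam_not_isSquare (σ : F ≃+* F) (hj : ∀ a, σ a = a ↔ a ∈ Set.range j)
    (hσσ : ∀ a, σ (σ a) = a) (μ₀ : F₀) (hμ₀ : ¬ IsSquare μ₀) (lam : F)
    (hlam : lam * σ lam = j μ₀) : ¬ IsSquare lam := by
  rintro ⟨κ, rfl⟩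
  have h1 : σ (κ * σ κ) = κ * σ κ := by
    rw [map_mul, hσσ, mul_comm]
  obtain ⟨c₀, hc₀⟩ := (hj _).1 h1
  apply hμ₀
  refine ⟨c₀, ?_⟩
  apply j.injective
  rw [map_mul, hc₀, ← hlam, map_mul]
  ring

/-- the criterion -/
theorem isSquare_torus_iff [DecidableEq F] (h2 : (2 : F) ≠ 0)
    (hcard : Fintype.card F = Fintype.card F₀ ^ 2) (σ : F ≃+* F)
    (hj : ∀ a, σ a = a ↔ a ∈ Set.range j) (hσσ : ∀ a, σ (σ a) = a) (μ₀ : F₀)
    (hμ₀ : ¬ IsSquare μ₀) (ν lam : F) (hν : ν * ν = j μ₀) (hlam : lam * σ lam = j μ₀) (k : ℕ) :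
    IsSquare (ν ^ k * (lam / ν)) ↔ (Odd (k + 1) ∧ Fintype.card F₀ % 4 = 1) := by
  have hμ0 : μ₀ ≠ 0 := by
    rintro rfl
    exact hμ₀ ⟨0, by simp⟩
  have hjμ : j μ₀ ≠ 0 := fun h => hμ0 ((map_eq_zero j).1 h)
  have hν0 : ν ≠ 0 := by
    rintro rfl
    rw [mul_zero] at hν
    exact hjμ hν.symm
  have hlam0 : lam ≠ 0 := by
    rintro rfl
    rw [zero_mul] at hlam
    exact hjμ hlam.symm
  have hlam' := lam_not_isSquare j σ hj hσσ μ₀ hμ₀ lam hlam
  rw [← nu_not_isSquare_iff j h2 hcard μ₀ hμ₀ ν hν]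
  have h1 : IsSquare (ν ^ k * (lam / ν)) ↔ IsSquare (ν ^ (k + 1) * lam) := by
    have e : ν ^ (k + 1) * lam = ν ^ k * (lam / ν) * (ν * ν) := by
      field_simp
      ring
    constructor
    · rintro ⟨y, hy⟩
      exact ⟨y * ν, by rw [e, hy]; ring⟩
    · rintro ⟨z, hz⟩
      refine ⟨z / ν, ?_⟩
      have : ν ^ k * (lam / ν) = ν ^ (k + 1) * lam / (ν * ν) := by
        rw [e]
        field_simp
      rw [this, hz]
      field_simp
  rw [h1, ← quadraticChar_one_iff_isSquare (mul_ne_zero (pow_ne_zero _ hν0) hlam0), map_mul,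
    map_pow, quadraticChar_neg_one_iff_not_isSquare.2 hlam',
    ← quadraticChar_neg_one_iff_not_isSquare (a := ν)]
  rcases quadraticChar_dichotomy hν0 with h | h
  · rw [h]
    simp
  · rw [h]
    constructor
    · intro h3
      refine ⟨?_, rfl⟩
      by_contra hne
      rw [Nat.not_odd_iff_even] at hne
      rw [hne.neg_one_pow] at h3
      norm_num at h3
    · rintro ⟨h3, -⟩
      rw [h3.neg_one_pow]
      norm_num

end squares

section diag

variable (k : ℕ) {F : Type u} [Field F]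

/-- the diagonal of the split similarity -/
def dvec (μ lam lam' : F) : Fin (k + 1) ⊕ Fin (k + 1) → F :=
  Sum.elim (Fin.lastCases lam (fun _ => μ)) (Fin.lastCases lam' (fun _ => 1))

theorem minusSimMat_ll (a b w1 w2 : F) (v : (Fin k ⊕ Fin k) ⊕ Fin 2 → F) (i : Fin k) :
    (minusSimMat k a b w1 w2 *ᵥ v) (.inl (.inl i)) =
      (w1 ^ 2 + a * w1 * w2 + b * w2 ^ 2) * v (.inl (.inl i)) := by
  unfold minusSimMat
  rw [Matrix.fromBlocks_mulVec, Sum.elim_inl, Matrix.zero_mulVec, add_zero,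
    Matrix.mulVec_diagonal]
  rfl

theorem minusSimMat_lr (a b w1 w2 : F) (v : (Fin k ⊕ Fin k) ⊕ Fin 2 → F) (i : Fin k) :
    (minusSimMat k a b w1 w2 *ᵥ v) (.inl (.inr i)) = v (.inl (.inr i)) := by
  unfold minusSimMat
  rw [Matrix.fromBlocks_mulVec, Sum.elim_inl, Matrix.zero_mulVec, add_zero,
    Matrix.mulVec_diagonal]
  simp

theorem minusSimMat_r0 (a b w1 w2 : F) (v : (Fin k ⊕ Fin k) ⊕ Fin 2 → F) :
    (minusSimMat k a b w1 w2 *ᵥ v) (.inr 0) = w1 * v (.inr 0) - b * w2 * v (.inr 1) := by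
  unfold minusSimMat
  rw [Matrix.fromBlocks_mulVec, Sum.elim_inr, Matrix.zero_mulVec, zero_add]
  simp [Matrix.mulVec, dotProduct, Fin.sum_univ_two]
  ring

theorem minusSimMat_r1 (a b w1 w2 : F) (v : (Fin k ⊕ Fin k) ⊕ Fin 2 → F) :
    (minusSimMat k a b w1 w2 *ᵥ v) (.inr 1) = w2 * v (.inr 0) + (w1 + a * w2) * v (.inr 1) := by
  unfold minusSimMat
  rw [Matrix.fromBlocks_mulVec, Sum.elim_inr, Matrix.zero_mulVec, zero_add]
  simp [Matrix.mulVec, dotProduct, Fin.sum_univ_two]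

/-- in split coordinates the similarity is diagonal -/
theorem split_minusSim (θ θ' a b w1 w2 : F) (ha : θ + θ' = -a) (hb : θ * θ' = b)
    (v : (Fin k ⊕ Fin k) ⊕ Fin 2 → F) :
    splitFun k θ θ' (minusSimMat k a b w1 w2 *ᵥ v) =
      fun κ => dvec k (w1 ^ 2 + a * w1 * w2 + b * w2 ^ 2) (w1 - θ * w2) (w1 - θ' * w2) κ *
        splitFun k θ θ' v κ := by
  have ha' : a = -(θ + θ') := by rw [ha, neg_neg]
  funext κ
  rcases κ with i | i
  · refine Fin.lastCases ?_ (fun i' => ?_) i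
    · rw [splitFun_inl_last, splitFun_inl_last, minusSimMat_r0, minusSimMat_r1]
      simp only [dvec, Sum.elim_inl, Fin.lastCases_last]
      rw [ha', ← hb]
      ring
    · rw [splitFun_inl_cast, splitFun_inl_cast, minusSimMat_ll]
      simp only [dvec, Sum.elim_inl, Fin.lastCases_castSucc]
  · refine Fin.lastCases ?_ (fun i' => ?_) i
    · rw [splitFun_inr_last, splitFun_inr_last, minusSimMat_r0, minusSimMat_r1]
      simp only [dvec, Sum.elim_inr, Fin.lastCases_last]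
      rw [ha', ← hb]
      ring
    · rw [splitFun_inr_cast, splitFun_inr_cast, minusSimMat_lr]
      simp only [dvec, Sum.elim_inr, Fin.lastCases_castSucc, one_mul]

theorem minusSimMat_map {F₀ : Type*} [Field F₀] (j : F₀ →+* F) (a b w1 w2 : F₀) :
    (minusSimMat k a b w1 w2).map j = minusSimMat k (j a) (j b) (j w1) (j w2) := by
  unfold minusSimMat
  rw [Matrix.fromBlocks_map]
  congr 1
  · rw [Matrix.diagonal_map (map_zero j)]
    congr 1
    funext i
    rcases i with i | i <;> simp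
  · ext x y; simp
  · ext x y; simp
  · ext x y
    fin_cases x <;> fin_cases y <;> simp

end diag

section model

variable {F₀ : Type*} {F : Type u} [Field F₀] [Field F] [Fintype F₀] [Fintype F] [DecidableEq F]
  (j : F₀ →+* F)
  (hcard : Fintype.card F = Fintype.card F₀ ^ 2) (k : ℕ) (hk : 4 ≤ k) (a₀ b₀ : F₀)
  (hab : ∀ z₁ z₂ : F₀, z₁ ^ 2 + a₀ * z₁ * z₂ + b₀ * z₂ ^ 2 = 0 → z₁ = 0 ∧ z₂ = 0)
  (θ θ' : F) (ha : θ + θ' = -(j a₀)) (hb : θ * θ' = j b₀) (hθ : θ ≠ θ')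
  (σ : F ≃+* F) (hj : ∀ a, σ a = a ↔ a ∈ Set.range j) (hσ2 : orderOf σ = 2)
  (hσθ : σ θ = θ') (hσθ' : σ θ' = θ)

/-- the rational similarity with multiplier the norm of `w1 + w2 θ` -/
noncomputable def minusSim' (w1 w2 : F₀) (hw : w1 ^ 2 + a₀ * w1 * w2 + b₀ * w2 ^ 2 ≠ 0) :
    ↥(Cfsg.Geo.quadSimilarityGroup (F := F₀) ⇑(minusForm k F₀ a₀ b₀)) :=
  ⟨Matrix.GeneralLinearGroup.mkOfDetNeZero (minusSimMat k a₀ b₀ w1 w2) (by
      rw [minusSimMat_det]
      exact mul_ne_zero (pow_ne_zero _ hw) hw),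
    Units.mk0 _ hw, fun v => by
      rw [← minusForm_coe]
      exact minusSimMat_Q k a₀ b₀ w1 w2 v⟩

include hk in
theorem simMult_minusSim' (w1 w2 : F₀) (hw : w1 ^ 2 + a₀ * w1 * w2 + b₀ * w2 ^ 2 ≠ 0) :
    simMult ⇑(minusForm k F₀ a₀ b₀) (minusSim' k a₀ b₀ w1 w2 hw) = Units.mk0 _ hw := by
  apply simMult_unique
  · obtain ⟨h1, -, -⟩ := (Cfsg.Agent.S0294.minus_hypFam k F₀ a₀ b₀).compl_vec ⟨0, by omega⟩ 1
    exact ⟨_, by rw [h1]; exact one_ne_zero⟩
  · intro v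
    have h := minusSimMat_Q k a₀ b₀ w1 w2 v
    rw [minusForm_coe] at h
    exact h

/-- the split rational similarity is diagonal -/
theorem rho_minusSim_val (w1 w2 : F₀) (hw : w1 ^ 2 + a₀ * w1 * w2 + b₀ * w2 ^ 2 ≠ 0) :
    ((rho j k a₀ b₀ θ θ' ha hb hθ (minusSim' k a₀ b₀ w1 w2 hw)).1 :
      Matrix (Fin (k + 1) ⊕ Fin (k + 1)) (Fin (k + 1) ⊕ Fin (k + 1)) F) =
      Matrix.diagonal (dvec k (j (w1 ^ 2 + a₀ * w1 * w2 + b₀ * w2 ^ 2)) (j w1 - θ * j w2)
        (j w1 - θ' * j w2)) := by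
  rw [rho_val, RIso.cGL_val, mapGL_val]
  have h1 : ((minusSim' k a₀ b₀ w1 w2 hw).1 : Matrix ((Fin k ⊕ Fin k) ⊕ Fin 2)
      ((Fin k ⊕ Fin k) ⊕ Fin 2) F₀) = minusSimMat k a₀ b₀ w1 w2 := rfl
  rw [h1, minusSimMat_map]
  have h2 : (splitIso k θ θ' (j a₀) (j b₀) ha hb hθ).A *
      minusSimMat k (j a₀) (j b₀) (j w1) (j w2) =
      Matrix.diagonal (dvec k (j (w1 ^ 2 + a₀ * w1 * w2 + b₀ * w2 ^ 2)) (j w1 - θ * j w2)
        (j w1 - θ' * j w2)) * (splitIso k θ θ' (j a₀) (j b₀) ha hb hθ).A := by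
    apply Matrix.mulVec_injective
    funext v
    rw [← Matrix.mulVec_mulVec, ← Matrix.mulVec_mulVec, splitIso_A_mulVec, splitIso_A_mulVec,
      split_minusSim k θ θ' (j a₀) (j b₀) (j w1) (j w2) ha hb v]
    funext κ
    rw [Matrix.mulVec_diagonal]
    simp only [map_add, map_mul, map_pow]
  rw [h2, Matrix.mul_assoc, (splitIso k θ θ' (j a₀) (j b₀) ha hb hθ).hAA', Matrix.mul_one]

include hk hab in
/-- the criterion for the diagonal element to induce an inner automorphism -/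
theorem rho_minusSim_mem_innPre_iff (h2 : (2 : F) ≠ 0) (hi : IsSquare (-1 : F))
    (w1 w2 : F₀) (hw : w1 ^ 2 + a₀ * w1 * w2 + b₀ * w2 ^ 2 ≠ 0) (ν : F)
    (hν : ν * ν = j (w1 ^ 2 + a₀ * w1 * w2 + b₀ * w2 ^ 2)) :
    rho j k a₀ b₀ θ θ' ha hb hθ (minusSim' k a₀ b₀ w1 w2 hw) ∈ innPre ⇑(plusForm (k + 1) F) ↔
      IsSquare (ν ^ k * ((j w1 - θ * j w2) / ν)) := by
  have hG := plus_isGram' (F := F) h2 (k + 1)
  have hdet := gramP_det_ne_zero (F := F) (k + 1)
  have hN := plus_card_two_mul (k + 1)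
  have hn : 2 ≤ Fintype.card (Fin (k + 1) ⊕ Fin (k + 1)) := by rw [hN]; omega
  have hker := plus_hker' (F := F) (m := k + 1) (by omega)
  have hneg := negO_mem_omega (F := F) (m := k + 1) h2 hi
  have hne : ∃ v, (plusForm (k + 1) F) v ≠ 0 := plus_hne (k + 1) (by omega)
  have hjμ : j (w1 ^ 2 + a₀ * w1 * w2 + b₀ * w2 ^ 2) ≠ 0 := fun h => hw ((map_eq_zero j).1 h)
  have hν0 : ν ≠ 0 := by
    rintro rfl
    rw [mul_zero] at hν
    exact hjμ hν.symm
  obtain ⟨X, hX⟩ : ∃ X, X = rho j k a₀ b₀ θ θ' ha hb hθ (minusSim' k a₀ b₀ w1 w2 hw) := ⟨_, rfl⟩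
  have hXm : simMult ⇑(plusForm (k + 1) F) X = Units.mk0 ν hν0 * Units.mk0 ν hν0 := by
    apply Units.ext
    rw [hX, simMult_rho j k hk a₀ b₀ hab, simMult_minusSim' k hk, Units.val_mul, Units.val_mk0,
      Units.val_mk0, hν]
  obtain ⟨T, hT⟩ := exists_scalar_mul_iso hG X (Units.mk0 ν hν0) hXm
  have hlam : (j w1 - θ * j w2) * (j w1 - θ' * j w2) = ν * ν := by
    rw [hν]
    simp only [map_add, map_mul, map_pow]
    have ha' : j a₀ = -(θ + θ') := by rw [ha, neg_neg]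
    rw [ha', ← hb]
    ring
  have hlam0 : j w1 - θ * j w2 ≠ 0 := by
    intro h0
    rw [h0, zero_mul] at hlam
    exact mul_ne_zero hν0 hν0 hlam.symm
  have hTmat : ((T : GL (Fin (k + 1) ⊕ Fin (k + 1)) F) :
      Matrix (Fin (k + 1) ⊕ Fin (k + 1)) (Fin (k + 1) ⊕ Fin (k + 1)) F) =
      Matrix.diagonal (Sum.elim (Fin.lastCases ((j w1 - θ * j w2) / ν) (fun _ => ν))
        (fun i => ((Fin.lastCases ((j w1 - θ * j w2) / ν) (fun _ => ν) : Fin (k + 1) → F) i)⁻¹)) := by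
    have h3 := congrArg (fun Y : ↥(Cfsg.Geo.quadSimilarityGroup (F := F) ⇑(plusForm (k + 1) F)) =>
      ((Y.1 : GL (Fin (k + 1) ⊕ Fin (k + 1)) F) :
        Matrix (Fin (k + 1) ⊕ Fin (k + 1)) (Fin (k + 1) ⊕ Fin (k + 1)) F)) hT
    simp only [Subgroup.coe_mul, Units.val_mul] at h3
    rw [hX, rho_minusSim_val, scalarGO_val, isoGO_val, Matrix.smul_mul, Matrix.one_mul,
      Units.val_mk0] at h3
    have h4 : ((T : GL (Fin (k + 1) ⊕ Fin (k + 1)) F) :
        Matrix (Fin (k + 1) ⊕ Fin (k + 1)) (Fin (k + 1) ⊕ Fin (k + 1)) F) =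
        ν⁻¹ • Matrix.diagonal (dvec k (j (w1 ^ 2 + a₀ * w1 * w2 + b₀ * w2 ^ 2))
          (j w1 - θ * j w2) (j w1 - θ' * j w2)) := by
      rw [h3, smul_smul, inv_mul_cancel₀ hν0, one_smul]
    rw [h4]
    ext x y
    rw [Matrix.smul_apply, Matrix.diagonal_apply, Matrix.diagonal_apply]
    by_cases hxy : x = y
    · subst hxy
      rw [if_pos rfl, if_pos rfl, smul_eq_mul]
      rcases x with i | i
      · refine Fin.lastCases ?_ (fun i' => ?_) i
        · simp only [dvec, Sum.elim_inl, Fin.lastCases_last]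
          field_simp
        · simp only [dvec, Sum.elim_inl, Fin.lastCases_castSucc]
          rw [← hν]
          field_simp
      · refine Fin.lastCases ?_ (fun i' => ?_) i
        · simp only [dvec, Sum.elim_inr, Fin.lastCases_last]
          rw [inv_div, eq_div_iff hlam0, mul_assoc, mul_comm (j w1 - θ' * j w2), hlam, ← mul_assoc,
            inv_mul_cancel₀ hν0, one_mul]
        · simp only [dvec, Sum.elim_inr, Fin.lastCases_castSucc, mul_one]
    · rw [if_neg hxy, if_neg hxy, smul_zero]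
  rw [← hX, hT, Subgroup.mul_mem_cancel_left _ (scalarGO_mem_innPre hG hdet hN hn hker _),
    isoGO_mem_innPre_iff hG hdet hN hn hker hneg,
    torus_mem_omega_iff h2 (Fin.lastCases ((j w1 - θ * j w2) / ν) (fun _ => ν)) ?_ T hTmat,
    Fin.prod_univ_castSucc]
  · simp only [Fin.lastCases_castSucc, Fin.lastCases_last, Finset.prod_const, Finset.card_univ,
      Fintype.card_fin]
  · intro i
    refine Fin.lastCases ?_ (fun i' => ?_) i
    · rw [Fin.lastCases_last]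
      exact div_ne_zero hlam0 hν0
    · rw [Fin.lastCases_castSucc]
      exact hν0

end model

end Cfsg.Agent.Lib.Helper99.GF
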