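import Mathlib
import Cfsg.Agent.Lib.Helper99.GF10
import Cfsg.Agent.Lib.Helper37.OrthOdd3

set_option autoImplicit false
set_option linter.unusedSectionVars false
set_option linter.unusedVariables false
set_option maxHeartbeats 1600000

/-!
# The number of classes of the model graph-field involution (odd characteristic)
-/

namespace Cfsg.Agent.Lib.Helper99.GF

open Matrix Module QuadraticMap
open Cfsg.Agent.Lib.Helper37 Cfsg.Agent.Lib.Helper37.OrthField Cfsg.Agent.Lib.Helper8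
open Cfsg.Agent.Lib.Helper37.ParGen Cfsg.Agent.Lib.Helper14 Cfsg.Agent.Lib.Helper43

universe u

/-- in a finite field of odd characteristic the quotient of two non-squares is a square -/
theorem isSquare_div_of_not {K : Type*} [Field K] [Fintype K] (h2 : (2 : K) ≠ 0) (a b : Kˣ)
    (ha : ¬ IsSquare (a : K)) (hb : ¬ IsSquare (b : K)) : IsSquare ((a * b⁻¹ : Kˣ) : K) := by
  have hF := ringChar_ne_two_of_two_ne_zero h2
  have h1 : (a : K) ^ (Fintype.card K / 2) = -1 := by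
    rcases FiniteField.pow_dichotomy hF a.ne_zero with h | h
    · exact absurd ((FiniteField.isSquare_iff hF a.ne_zero).2 h) ha
    · exact h
  have h3 : (b : K) ^ (Fintype.card K / 2) = -1 := by
    rcases FiniteField.pow_dichotomy hF b.ne_zero with h | h
    · exact absurd ((FiniteField.isSquare_iff hF b.ne_zero).2 h) hb
    · exact h
  rw [FiniteField.isSquare_iff hF (a * b⁻¹).ne_zero, Units.val_mul, mul_pow,
    Units.val_inv_eq_inv_val, inv_pow, h1, h3]
  norm_num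

section plus

variable {F : Type u} [Field F] [Fintype F] [DecidableEq F] {m : ℕ}

theorem simMult_scO (hm : 1 ≤ m) (e : Fˣ) :
    simMult ⇑(plusForm m F) (scO (plusForm m F) e) = e * e := by
  apply simMult_unique (plus_hne m hm)
  intro v
  rw [scO_val, coe_scalar_eq_smul, Matrix.smul_mulVec, Matrix.one_mulVec, QuadraticMap.map_smul,
    Units.val_mul]
  rfl

theorem scO_mem_innPre (hm : 4 ≤ m) (e : Fˣ) : scO (plusForm m F) e ∈ innPre ⇑(plusForm m F) := by
  unfold innPre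
  rw [Subgroup.mem_comap, (plus_hker' hm _).2]
  · exact Subgroup.one_mem _
  · exact ⟨(e : F), by rw [scO_val, coe_scalar_eq_smul]⟩

theorem scO_mem_simP (e : Fˣ) : scO (plusForm m F) e ∈
    simP (plusForm m F) (plusForm_nondegenerate m F) plus_hV (stdL m F) plus_lag := by
  rw [mem_simP, scO_val]
  exact parS_sc _ plus_lag e

end plus

section model

variable {F₀ : Type*} {F : Type u} [Field F₀] [Field F] [Fintype F₀] [Fintype F] [DecidableEq F]
  (j : F₀ →+* F)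
  (hcard : Fintype.card F = Fintype.card F₀ ^ 2) (k : ℕ) (hk : 4 ≤ k) (a₀ b₀ : F₀)
  (hab : ∀ z₁ z₂ : F₀, z₁ ^ 2 + a₀ * z₁ * z₂ + b₀ * z₂ ^ 2 = 0 → z₁ = 0 ∧ z₂ = 0)
  (θ θ' : F) (ha : θ + θ' = -(j a₀)) (hb : θ * θ' = j b₀) (hθ : θ ≠ θ')
  (σ : F ≃+* F) (hj : ∀ a, σ a = a ↔ a ∈ Set.range j) (hσ2 : orderOf σ = 2)
  (hσθ : σ θ = θ') (hσθ' : σ θ' = θ)

include hcard hk hab hj hσ2 hσθ hσθ' ha hb hθ in
/-- similarities centralizing the model involution have square multiplier -/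
theorem cent_isSquare (hsq : ∀ c₀ : F₀, IsSquare (j c₀))
    (g : ↥(Cfsg.Geo.quadSimilarityGroup (F := F) ⇑(plusForm (k + 1) F)))
    (hg : Phi ⇑(plusForm (k + 1) F) g *
        Psi ⇑(plusForm (k + 1) F) ⟨modelPair k σ, modelPair_mem k σ⟩ =
      Psi ⇑(plusForm (k + 1) F) ⟨modelPair k σ, modelPair_mem k σ⟩ *
        Phi ⇑(plusForm (k + 1) F) g) :
    IsSquare (simMult ⇑(plusForm (k + 1) F) g : F) := by
  have hne : ∃ v, (plusForm (k + 1) F) v ≠ 0 := plus_hne (k + 1) (by omega)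
  obtain ⟨e, g₀, hg₀⟩ := cent_rational j hcard k hk a₀ b₀ hab θ θ' ha hb hθ σ hj hσ2 hσθ hσθ' g hg
  have h1 : (simMult ⇑(plusForm (k + 1) F) (rho j k a₀ b₀ θ θ' ha hb hθ g₀) : F) =
      (simMult ⇑(plusForm (k + 1) F) (scO (plusForm (k + 1) F) e * g) : F) := by rw [hg₀]
  have h3 : simMult ⇑(plusForm (k + 1) F) (scO (plusForm (k + 1) F) e * g) =
      simMult ⇑(plusForm (k + 1) F) (scO (plusForm (k + 1) F) e) *
        simMult ⇑(plusForm (k + 1) F) g := (simMultHom hne).map_mul _ _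
  rw [simMult_rho j k hk a₀ b₀ hab, h3, simMult_scO (by omega), Units.val_mul, Units.val_mul]
    at h1
  obtain ⟨t, ht⟩ := hsq (simMult ⇑(minusForm k F₀ a₀ b₀) g₀ : F₀)
  refine ⟨t / e, ?_⟩
  have he : (e : F) ≠ 0 := e.ne_zero
  field_simp
  rw [pow_two t, ← ht, h1]
  ring

include hcard hk hab hj hσ2 hσθ hσθ' ha hb hθ in
/-- the centralizer of the model involution induces only inner automorphisms iff `k + 1` is odd
and `q₀ ≡ 1 mod 4` -/
theorem cent_le_innPre_iff (h2 : (2 : F) ≠ 0) (hsq : ∀ c₀ : F₀, IsSquare (j c₀)) :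
    (∀ g ∈ simP (plusForm (k + 1) F) (plusForm_nondegenerate (k + 1) F) plus_hV
        (stdL (k + 1) F) plus_lag,
      Phi ⇑(plusForm (k + 1) F) g *
          Psi ⇑(plusForm (k + 1) F) ⟨modelPair k σ, modelPair_mem k σ⟩ =
        Psi ⇑(plusForm (k + 1) F) ⟨modelPair k σ, modelPair_mem k σ⟩ *
          Phi ⇑(plusForm (k + 1) F) g → g ∈ innPre ⇑(plusForm (k + 1) F)) ↔
      (Odd (k + 1) ∧ Fintype.card F₀ % 4 = 1) := by
  classical
  have h2₀ : (2 : F₀) ≠ 0 := two_ne_zero_of_map j h2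
  obtain ⟨w1, w2, hw⟩ := exists_nonsquare_norm h2₀ a₀ b₀ hab
  have hw0 : w1 ^ 2 + a₀ * w1 * w2 + b₀ * w2 ^ 2 ≠ 0 := by
    intro h
    apply hw
    rw [h]
    exact ⟨0, by simp⟩
  obtain ⟨ν, hν⟩ := hsq (w1 ^ 2 + a₀ * w1 * w2 + b₀ * w2 ^ 2)
  have hi : IsSquare (-1 : F) := by
    have := hsq (-1)
    rwa [map_neg, map_one] at this
  have hσσ : ∀ a, σ (σ a) = a := by
    intro a
    have h1 : σ ^ 2 = 1 := by rw [← hσ2]; exact pow_orderOf_eq_one σ
    have h3 := congrArg (fun τ : F ≃+* F => τ a) h1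
    simpa [pow_two] using h3
  have hne₀ : ∃ w, minusForm k F₀ a₀ b₀ w ≠ 0 := by
    obtain ⟨h1, -, -⟩ := (Cfsg.Agent.S0294.minus_hypFam k F₀ a₀ b₀).compl_vec ⟨0, by omega⟩ 1
    exact ⟨_, by rw [h1]; exact one_ne_zero⟩
  have hn : 2 ≤ Fintype.card (Fin (k + 1) ⊕ Fin (k + 1)) := by
    rw [plus_card_two_mul]; omega
  obtain ⟨d₀, hd₀⟩ : ∃ d₀, d₀ = minusSim' k a₀ b₀ w1 w2 hw0 := ⟨_, rfl⟩
  have hd₀m : simMult ⇑(minusForm k F₀ a₀ b₀) d₀ = Units.mk0 _ hw0 := by
    rw [hd₀]; exact simMult_minusSim' k hk a₀ b₀ w1 w2 hw0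
  have hXP : rho j k a₀ b₀ θ θ' ha hb hθ d₀ ∈ simP (plusForm (k + 1) F)
      (plusForm_nondegenerate (k + 1) F) plus_hV (stdL (k + 1) F) plus_lag := by
    rw [simP_eq_simC h2 (by omega) hn, mem_simC_iff _ _ _ _ (plus_hker' (by omega)), det_rho,
      simMult_rho j k hk a₀ b₀ hab, hd₀m, Units.val_mk0, ← map_pow]
    congr 1
    rw [hd₀]
    show (minusSimMat k a₀ b₀ w1 w2).det = _
    rw [minusSimMat_det]
    ring
  have hXC := rho_comm j k hk a₀ b₀ θ θ' ha hb hθ σ hj hσθ hσθ' d₀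
  have hlam : (j w1 - θ * j w2) * σ (j w1 - θ * j w2) =
      j (w1 ^ 2 + a₀ * w1 * w2 + b₀ * w2 ^ 2) := by
    have e1 : σ (j w1) = j w1 := (hj _).2 ⟨_, rfl⟩
    have e2 : σ (j w2) = j w2 := (hj _).2 ⟨_, rfl⟩
    rw [map_sub, map_mul, e1, e2, hσθ]
    simp only [map_add, map_mul, map_pow]
    have ha' : j a₀ = -(θ + θ') := by rw [ha, neg_neg]
    rw [ha', ← hb]
    ring
  have hcrit : rho j k a₀ b₀ θ θ' ha hb hθ d₀ ∈ innPre ⇑(plusForm (k + 1) F) ↔
      (Odd (k + 1) ∧ Fintype.card F₀ % 4 = 1) := by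
    rw [hd₀, rho_minusSim_mem_innPre_iff j k hk a₀ b₀ hab θ θ' ha hb hθ h2 hi w1 w2 hw0 ν hν.symm]
    exact isSquare_torus_iff j h2 hcard σ hj hσσ _ hw ν (j w1 - θ * j w2) hν.symm hlam k
  constructor
  · intro h
    exact hcrit.1 (h _ hXP hXC)
  · intro h g hgP hgC
    have hX := hcrit.2 h
    obtain ⟨e, g₀, hg₀⟩ := cent_rational j hcard k hk a₀ b₀ hab θ θ' ha hb hθ σ hj hσ2 hσθ hσθ'
      g hgC
    have hrP : rho j k a₀ b₀ θ θ' ha hb hθ g₀ ∈ simP (plusForm (k + 1) F)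
        (plusForm_nondegenerate (k + 1) F) plus_hV (stdL (k + 1) F) plus_lag := by
      rw [hg₀]
      exact Subgroup.mul_mem _ (scO_mem_simP e) hgP
    suffices hr : rho j k a₀ b₀ θ θ' ha hb hθ g₀ ∈ innPre ⇑(plusForm (k + 1) F) by
      have h5 : g = (scO (plusForm (k + 1) F) e)⁻¹ * rho j k a₀ b₀ θ θ' ha hb hθ g₀ := by
        rw [hg₀]; group
      rw [h5]
      exact Subgroup.mul_mem _ (Subgroup.inv_mem _ (scO_mem_innPre (by omega) e)) hr
    by_cases hs : IsSquare (simMult ⇑(minusForm k F₀ a₀ b₀) g₀ : F₀)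
    · obtain ⟨c₀, hc₀⟩ := isSquare_units _ hs
      exact rho_mem_innPre_of_sq j k hk a₀ b₀ hab θ θ' ha hb hθ h2 hsq g₀ c₀ hc₀ hrP
    · have h5 := isSquare_div_of_not h2₀ (simMult ⇑(minusForm k F₀ a₀ b₀) g₀)
        (simMult ⇑(minusForm k F₀ a₀ b₀) d₀) hs (by rw [hd₀m, Units.val_mk0]; exact hw)
      obtain ⟨c₀, hc₀⟩ := isSquare_units _ h5
      have h6 : simMult ⇑(minusForm k F₀ a₀ b₀) (g₀ * d₀⁻¹) = c₀ * c₀ := by
        rw [← hc₀]
        have e1 := (simMultHom hne₀).map_mul g₀ d₀⁻¹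
        have e2 := (simMultHom hne₀).map_inv d₀
        rw [simMultHom_apply, simMultHom_apply, simMultHom_apply] at e1
        rw [simMultHom_apply, simMultHom_apply] at e2
        rw [e1, e2]
      have h7 : rho j k a₀ b₀ θ θ' ha hb hθ (g₀ * d₀⁻¹) ∈ simP (plusForm (k + 1) F)
          (plusForm_nondegenerate (k + 1) F) plus_hV (stdL (k + 1) F) plus_lag := by
        rw [map_mul, map_inv]
        exact Subgroup.mul_mem _ hrP (Subgroup.inv_mem _ hXP)
      have h8 := rho_mem_innPre_of_sq j k hk a₀ b₀ hab θ θ' ha hb hθ h2 hsq (g₀ * d₀⁻¹) c₀ h6 h7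
      have h9 : rho j k a₀ b₀ θ θ' ha hb hθ g₀ =
          rho j k a₀ b₀ θ θ' ha hb hθ (g₀ * d₀⁻¹) * rho j k a₀ b₀ θ θ' ha hb hθ d₀ := by
        rw [← map_mul, inv_mul_cancel_right]
      rw [h9]
      exact Subgroup.mul_mem _ h8 hX

include hcard hk hab hj hσ2 hσθ hσθ' ha hb hθ in
/-- **the number of `Inn`-classes in the `Inndiag`-class of the model involution**
(odd characteristic) -/
theorem model_count_odd (h2 : (2 : F) ≠ 0) (hsq : ∀ c₀ : F₀, IsSquare (j c₀)) :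
    Cfsg.splitClassCount
      ((simP (plusForm (k + 1) F) (plusForm_nondegenerate (k + 1) F) plus_hV
        (stdL (k + 1) F) plus_lag).map (Phi ⇑(plusForm (k + 1) F)))
      (Cfsg.Inn (Cfsg.POmega F ⇑(plusForm (k + 1) F)))
      (Psi ⇑(plusForm (k + 1) F) ⟨modelPair k σ, modelPair_mem k σ⟩) =
      if Odd (k + 1) ∧ Fintype.card F₀ % 4 = 1 then 4 else 2 := by
  classical
  have hG := plus_isGram' (F := F) h2 (k + 1)
  have hdet := gramP_det_ne_zero (F := F) (k + 1)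
  have hN := plus_card_two_mul (k + 1)
  have hn : 2 ≤ Fintype.card (Fin (k + 1) ⊕ Fin (k + 1)) := by rw [hN]; omega
  have hker := plus_hker' (F := F) (m := k + 1) (by omega)
  have hi : IsSquare (-1 : F) := by
    have := hsq (-1)
    rwa [map_neg, map_one] at this
  have hneg := negO_mem_omega (F := F) (m := k + 1) h2 hi
  have hne : ∃ v, (plusForm (k + 1) F) v ≠ 0 := plus_hne (k + 1) (by omega)
  have hPC := simP_eq_simC (F := F) (m := k + 1) h2 (by omega) hn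
  obtain ⟨P, hP⟩ : ∃ P, P = simP (plusForm (k + 1) F) (plusForm_nondegenerate (k + 1) F) plus_hV
      (stdL (k + 1) F) plus_lag := ⟨_, rfl⟩
  obtain ⟨x₀, hx₀⟩ : ∃ x₀, x₀ = Psi ⇑(plusForm (k + 1) F) ⟨modelPair k σ, modelPair_mem k σ⟩ :=
    ⟨_, rfl⟩
  rw [← hP, ← hx₀]
  -- a class preserving similarity with non-square multiplier
  obtain ⟨c, hc⟩ := exists_nonsquare_unit h2 (F := F)
  obtain ⟨d, hdm, hdd⟩ := exists_plusSim (F := F) (m := k + 1) h2 (by omega) c
  have hdP : d ∈ P := by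
    rw [hP, hPC, mem_simC_iff _ _ _ _ hker, hdd, hdm]
  have hinnP : innPre ⇑(plusForm (k + 1) F) ≤ P := by
    rw [hP, hPC]
    exact innPre_le_simC hG hdet hN hn hker
  -- the count as an index
  have hrange : ((Phi ⇑(plusForm (k + 1) F)).comp P.subtype).range =
      P.map (Phi ⇑(plusForm (k + 1) F)) := by
    rw [← MonoidHom.map_range, Subgroup.range_subtype]
  have hNmap : ((innPre ⇑(plusForm (k + 1) F)).subgroupOf P).map
      ((Phi ⇑(plusForm (k + 1) F)).comp P.subtype) =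
      Cfsg.Inn (Cfsg.POmega F ⇑(plusForm (k + 1) F)) := by
    rw [← Subgroup.map_map, Subgroup.subgroupOf_map_subtype, inf_eq_left.2 hinnP,
      ← inn_eq_map_innPre]
  have hcount := Cfsg.Agent.Lib.Helper45.AutPSL.splitClassCount_eq_index
    ((Phi ⇑(plusForm (k + 1) F)).comp P.subtype) ((innPre ⇑(plusForm (k + 1) F)).subgroupOf P) x₀
  rw [hrange, hNmap] at hcount
  rw [hcount]
  -- the squares
  obtain ⟨M, hM⟩ : ∃ M : Subgroup ↥P, M = ((Subgroup.square Fˣ).comap (simMultHom hne)).subgroupOf P :=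
    ⟨_, rfl⟩
  have hMmem : ∀ g : ↥P, g ∈ M ↔ IsSquare (simMult ⇑(plusForm (k + 1) F) g.1 : F) := by
    intro g
    rw [hM, Subgroup.mem_subgroupOf, Subgroup.mem_comap, Subgroup.mem_square, simMultHom_apply]
    constructor
    · rintro ⟨u, hu⟩
      exact ⟨(u : F), by rw [hu, Units.val_mul]⟩
    · intro h
      obtain ⟨u, hu⟩ := isSquare_units _ h
      exact ⟨u, hu⟩
  have hCmem : ∀ g : ↥P, g ∈ (Subgroup.centralizer {x₀}).comap
      ((Phi ⇑(plusForm (k + 1) F)).comp P.subtype) ↔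
      Phi ⇑(plusForm (k + 1) F) g.1 * x₀ = x₀ * Phi ⇑(plusForm (k + 1) F) g.1 := by
    intro g
    rw [Subgroup.mem_comap, Subgroup.mem_centralizer_iff]
    constructor
    · intro h
      exact (h x₀ rfl).symm
    · intro h y hy
      rw [Set.mem_singleton_iff] at hy
      subst hy
      exact h.symm
  have hidx : ((innPre ⇑(plusForm (k + 1) F)).subgroupOf P).index = 4 := by
    have := relIndex_innPre_simC hG hdet hN hn hker d (by rw [hdm]; exact hc) hneg
    rw [← hPC, ← hP] at this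
    exact this
  have hcases := index_sup_cases ((innPre ⇑(plusForm (k + 1) F)).subgroupOf P)
    ((Subgroup.centralizer {x₀}).comap ((Phi ⇑(plusForm (k + 1) F)).comp P.subtype)) M hidx
    (by
      intro g hg
      rw [hMmem]
      exact isSquare_simMult_of_mem_innPre h2 (by omega) g.1 (Subgroup.mem_subgroupOf.1 hg))
    (by
      intro g hg
      rw [hMmem]
      rw [hCmem, hx₀] at hg
      exact cent_isSquare j hcard k hk a₀ b₀ hab θ θ' ha hb hθ σ hj hσ2 hσθ hσθ' hsq g.1 hg)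
    (by
      intro htop
      have h1 : (⟨d, hdP⟩ : ↥P) ∈ M := by rw [htop]; exact Subgroup.mem_top _
      rw [hMmem, hdm] at h1
      exact hc h1)
  have hiff := cent_le_innPre_iff j hcard k hk a₀ b₀ hab θ θ' ha hb hθ σ hj hσ2 hσθ hσθ' h2 hsq
  rw [← hP, ← hx₀] at hiff
  have hle : (Subgroup.centralizer {x₀}).comap ((Phi ⇑(plusForm (k + 1) F)).comp P.subtype) ≤
      (innPre ⇑(plusForm (k + 1) F)).subgroupOf P ↔ (Odd (k + 1) ∧ Fintype.card F₀ % 4 = 1) := by
    rw [← hiff]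
    constructor
    · intro h g hgP hgC
      have := h ((hCmem ⟨g, hgP⟩).2 hgC)
      exact Subgroup.mem_subgroupOf.1 this
    · intro h g hg
      rw [Subgroup.mem_subgroupOf]
      exact h g.1 g.2 ((hCmem g).1 hg)
  by_cases hcr : Odd (k + 1) ∧ Fintype.card F₀ % 4 = 1
  · rw [if_pos hcr]
    exact hcases.1 (hle.2 hcr)
  · rw [if_neg hcr]
    exact hcases.2 (fun h => hcr (hle.1 h))

end model

end Cfsg.Agent.Lib.Helper99.GF
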