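import Mathlib
import Cfsg.Agent.Lib.Helper99.GF11

set_option autoImplicit false
set_option linter.unusedSectionVars false
set_option linter.unusedVariables false
set_option maxHeartbeats 800000

/-!
# Characteristic two: class preserving similarities induce inner automorphisms
-/

namespace Cfsg.Agent.Lib.Helper99.GF

open Matrix Module QuadraticMap
open Cfsg.Agent.Lib.Helper37 Cfsg.Agent.Lib.Helper37.OrthField Cfsg.Agent.Lib.Helper8
open Cfsg.Agent.Lib.Helper37.ParGen Cfsg.Agent.Lib.Helper14 Cfsg.Agent.Lib.Helper43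

universe u

/-- if `H ≤ K` the `H`-class of `x` is a single `K`-class -/
theorem splitClassCount_eq_one_of_le {X : Type*} [Group X] (H K : Subgroup X) (hHK : H ≤ K)
    (x : X) : Cfsg.splitClassCount H K x = 1 := by
  unfold Cfsg.splitClassCount
  rw [Nat.card_eq_one_iff_unique]
  refine ⟨⟨fun a b => ?_⟩, ⟨Quot.mk _ ⟨x, 1, H.one_mem, by simp⟩⟩⟩
  induction a using Quot.ind with
  | mk y =>
    induction b using Quot.ind with
    | mk z =>
      apply Quot.sound
      obtain ⟨h, hh, hy⟩ := y.2
      obtain ⟨h', hh', hz⟩ := z.2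
      refine ⟨h' * h⁻¹, hHK (H.mul_mem hh' (H.inv_mem hh)), ?_⟩
      rw [hz, hy]
      group

section char2

variable {F : Type u} [Field F] [Fintype F] {m : ℕ}

/-- the class parity on the isometry group -/
noncomputable def parHom (m : ℕ) (F : Type u) [Field F] [Fintype F] :
    ↥(Cfsg.isometryGroup F ⇑(plusForm m F)) →* Multiplicative (ZMod 2) where
  toFun s := Multiplicative.ofAdd
    ((parS m (stdL m F) (SemidirectProduct.inl s.1 : GamL (Fin m ⊕ Fin m) F) : ℕ) : ZMod 2)
  map_one' := by
    rw [OneMemClass.coe_one, map_one, parS_one _ plus_lag]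
    rfl
  map_mul' a b := by
    rw [Subgroup.coe_mul, map_mul, parS_mul (qsys_of_form (plusForm m F)
      (plusForm_nondegenerate m F)) plus_hV _ plus_lag _ _
      (inl_mem_semiO (plusForm m F) ⟨a.1, isom_le_sim _ a.2⟩)
      (inl_mem_semiO (plusForm m F) ⟨b.1, isom_le_sim _ b.2⟩), ZMod.natCast_mod, Nat.cast_add,
      ofAdd_add]

theorem parHom_eq_one_iff (s : ↥(Cfsg.isometryGroup F ⇑(plusForm m F))) :
    parHom m F s = 1 ↔
      parS m (stdL m F) (SemidirectProduct.inl s.1 : GamL (Fin m ⊕ Fin m) F) = 0 := by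
  show Multiplicative.ofAdd _ = 1 ↔ _
  rw [ofAdd_eq_one, ZMod.natCast_eq_zero_iff]
  have := parS_lt (N := m) (stdL m F) (SemidirectProduct.inl s.1 : GamL (Fin m ⊕ Fin m) F)
  omega

/-- in characteristic two `Ω` is the kernel of the class parity -/
theorem mem_omega_of_parS_char2 (h2 : (2 : F) = 0) (hm : 3 ≤ m)
    (s : ↥(Cfsg.isometryGroup F ⇑(plusForm m F)))
    (hs : parS m (stdL m F) (SemidirectProduct.inl s.1 : GamL (Fin m ⊕ Fin m) F) = 0) :
    s ∈ Cfsg.Omega F ⇑(plusForm m F) := by
  have hfr : finrank F (Fin m ⊕ Fin m → F) = 2 * m := plus_hV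
  have hne : ∃ v, (plusForm m F) v ≠ 0 := plus_hne m (by omega)
  have hidx := commutator_index_two_char2 h2 (plusForm m F) (plusForm_nondegenerate m F)
    (Or.inr (by rw [hfr]; omega)) hne
  have hle : commutator ↥(Cfsg.isometryGroup F ⇑(plusForm m F)) ≤ (parHom m F).ker :=
    Abelianization.commutator_subset_ker (parHom m F)
  have hKtop : (parHom m F).ker ≠ ⊤ := by
    intro htop
    obtain ⟨v, hv⟩ := hne
    have h1 : reflElt (plusForm m F) v hv ∈ (parHom m F).ker := by rw [htop]; exact Subgroup.mem_top _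
    rw [MonoidHom.mem_ker, parHom_eq_one_iff, parS_refl (plusForm m F) (plusForm_nondegenerate m F)
      plus_hV _ plus_lag v hv] at h1
    exact one_ne_zero h1
  have h3 := Subgroup.relIndex_mul_index hle
  rw [hidx] at h3
  have h4 : (parHom m F).ker.index ≠ 1 := by
    intro h0
    exact hKtop (Subgroup.index_eq_one.1 h0)
  have h5 : (commutator ↥(Cfsg.isometryGroup F ⇑(plusForm m F))).relIndex (parHom m F).ker = 1 := by
    have h6 : (parHom m F).ker.index ∣ 2 := Dvd.intro_left _ h3
    have h7 : (parHom m F).ker.index = 2 := by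
      rcases (Nat.dvd_prime Nat.prime_two).1 h6 with h | h
      · exact absurd h h4
      · exact h
    rw [h7] at h3
    omega
  rw [Subgroup.relIndex_eq_one] at h5
  apply h5
  rw [MonoidHom.mem_ker, parHom_eq_one_iff]
  exact hs

/-- in characteristic two the class preserving similarities induce inner automorphisms -/
theorem simP_le_innPre_char2 [DecidableEq F] (h2 : (2 : F) = 0) (hm : 4 ≤ m) :
    simP (plusForm m F) (plusForm_nondegenerate m F) plus_hV (stdL m F) plus_lag ≤
      innPre ⇑(plusForm m F) := by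
  intro g hg
  have hne : ∃ v, (plusForm m F) v ≠ 0 := plus_hne m (by omega)
  obtain ⟨c, hc⟩ := exists_sq_char2 h2 (simMult ⇑(plusForm m F) g : F)
  have hc0 : c ≠ 0 := by
    rintro rfl
    rw [mul_zero] at hc
    exact (simMult ⇑(plusForm m F) g).ne_zero hc.symm
  obtain ⟨s', hs'⟩ : ∃ s', s' = (scO (plusForm m F) (Units.mk0 c hc0))⁻¹ * g := ⟨_, rfl⟩
  have hs'P : s' ∈ simP (plusForm m F) (plusForm_nondegenerate m F) plus_hV (stdL m F)
      plus_lag := by
    rw [hs']
    exact Subgroup.mul_mem _ (Subgroup.inv_mem _ (scO_mem_simP _)) hg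
  have hmult : simMult ⇑(plusForm m F) s' = 1 := by
    have e1 := (simMultHom hne).map_mul (scO (plusForm m F) (Units.mk0 c hc0))⁻¹ g
    have e2 := (simMultHom hne).map_inv (scO (plusForm m F) (Units.mk0 c hc0))
    rw [simMultHom_apply, simMultHom_apply, simMultHom_apply] at e1
    rw [simMultHom_apply, simMultHom_apply] at e2
    rw [hs', e1, e2, simMult_scO (by omega)]
    apply Units.ext
    rw [Units.val_mul, Units.val_inv_eq_inv_val, Units.val_mul, Units.val_mk0, Units.val_one, ← hc]
    field_simp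
  have hiso : s'.1 ∈ Cfsg.isometryGroup F ⇑(plusForm m F) := by
    rw [Cfsg.Agent.Lib.Helper94.mem_isom]
    intro v
    rw [simMult_spec ⇑(plusForm m F) s' v, hmult, Units.val_one, one_mul]
  have hΩ := mem_omega_of_parS_char2 h2 (by omega) ⟨s'.1, hiso⟩ hs'P
  have hg' : g = scO (plusForm m F) (Units.mk0 c hc0) * isoGO _ ⟨s'.1, hiso⟩ := by
    have : isoGO ⇑(plusForm m F) ⟨s'.1, hiso⟩ = s' := Subtype.ext rfl
    rw [this, hs', mul_inv_cancel_left]
  rw [hg']
  exact Subgroup.mul_mem _ (scO_mem_innPre hm _) (isoGO_mem_innPre _ _ hΩ)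

end char2

end Cfsg.Agent.Lib.Helper99.GF
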