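import Mathlib
import Cfsg.Agent.Lib.Helper99.GF12
import Cfsg.Agent.Lib.Helper5.AutPSLnFieldCent
import Cfsg.Agent.Lib.Helper5.AutPSLnGraphField

set_option autoImplicit false
set_option linter.unusedSectionVars false
set_option linter.unusedVariables false
set_option maxHeartbeats 1600000

/-!
# Involutory graph-field automorphisms of `PΩ⁺`: assembly
-/

namespace Cfsg.Agent.Lib.Helper99.GF

open Matrix Module QuadraticMap
open Cfsg.Agent.Lib.Helper37 Cfsg.Agent.Lib.Helper37.OrthField Cfsg.Agent.Lib.Helper8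
open Cfsg.Agent.Lib.Helper37.ParGen Cfsg.Agent.Lib.Helper14 Cfsg.Agent.Lib.Helper43

universe u

/-- the field data attached to an involutory field automorphism -/
theorem exists_model_data {F : Type u} [Field F] [Fintype F] {p f : ℕ} [Fact p.Prime]
    (hF : Fintype.card F = p ^ f) (σ : F ≃+* F) (hσ2 : orderOf σ = 2)
    (F₀ : Type*) [Field F₀] [Fintype F₀] (hF₀ : Fintype.card F₀ = p ^ (f / 2)) :
    ∃ (j : F₀ →+* F) (a₀ b₀ : F₀) (θ θ' : F), (∀ a, σ a = a ↔ a ∈ Set.range j) ∧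
      Fintype.card F = Fintype.card F₀ ^ 2 ∧
      (∀ z₁ z₂ : F₀, z₁ ^ 2 + a₀ * z₁ * z₂ + b₀ * z₂ ^ 2 = 0 → z₁ = 0 ∧ z₂ = 0) ∧
      θ + θ' = -(j a₀) ∧ θ * θ' = j b₀ ∧ θ ≠ θ' ∧ σ θ = θ' ∧ σ θ' = θ ∧
      ((2 : F) ≠ 0 → ∀ c₀ : F₀, IsSquare (j c₀)) := by
  classical
  obtain ⟨F₁, hmem, hrank⟩ := Cfsg.Agent.Lib.Helper5.AutPSLn.exists_fixed_subfield σ
  rw [hσ2] at hrank
  obtain ⟨hdvd, hcardF₁⟩ := Cfsg.Agent.Lib.Helper5.AutPSLn.card_fixed_subfield hF
    (by norm_num : 0 < 2) F₁ hrank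
  letI instF₁ : Fintype F₁ := Fintype.ofFinite F₁
  have hcc : Fintype.card F₀ = Fintype.card F₁ := by
    rw [hF₀, ← hcardF₁, Nat.card_eq_fintype_card]
  let e₁ : F₀ ≃+* F₁ := FiniteField.ringEquivOfCardEq (K := F₀) (K' := F₁) hcc
  let j : F₀ →+* F := (F₁.subtype : F₁ →+* F).comp (e₁ : F₀ →+* F₁)
  have hj : ∀ a : F, σ a = a ↔ a ∈ Set.range j := by
    intro a
    rw [← hmem]
    constructor
    · intro h
      exact ⟨e₁.symm ⟨a, h⟩, by simp [j]⟩
    · rintro ⟨y, rfl⟩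
      exact (e₁ y).2
  have hσσ : ∀ a, σ (σ a) = a := by
    intro a
    have h1 : σ ^ 2 = 1 := by rw [← hσ2]; exact pow_orderOf_eq_one σ
    have h3 := congrArg (fun τ : F ≃+* F => τ a) h1
    simpa [pow_two] using h3
  have hcard : Fintype.card F = Fintype.card F₀ ^ 2 := by
    obtain ⟨t, ht⟩ := hdvd
    rw [hF, hF₀, ← pow_mul, ht, Nat.mul_div_cancel_left _ (by norm_num : 0 < 2), mul_comm]
  obtain ⟨θ, hθr⟩ : ∃ θ : F, θ ∉ Set.range j := by
    by_contra hall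
    push Not at hall
    have hsurj : Function.Surjective j := hall
    have h1 := Fintype.card_le_of_surjective j hsurj
    have h2 : 1 < Fintype.card F₀ := Fintype.one_lt_card
    rw [hcard] at h1
    nlinarith
  have hθ : θ ≠ σ θ := by
    intro h
    exact hθr ((hj θ).1 h.symm)
  obtain ⟨a', ha'⟩ : θ + σ θ ∈ Set.range j := by
    rw [← hj, map_add, hσσ, add_comm]
  obtain ⟨b₀, hb₀⟩ : θ * σ θ ∈ Set.range j := by
    rw [← hj, map_mul, hσσ, mul_comm]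
  refine ⟨j, -a', b₀, θ, σ θ, hj, hcard, ?_, by rw [map_neg, neg_neg, ha'], hb₀.symm, hθ, rfl,
    hσσ θ, ?_⟩
  · intro z₁ z₂ h
    have h1 := congrArg j h
    simp only [map_add, map_mul, map_pow, map_neg, map_zero] at h1
    rw [ha', hb₀] at h1
    have h3 : (j z₁ - θ * j z₂) * (j z₁ - σ θ * j z₂) = 0 := by
      rw [← h1]; ring
    by_cases hz : z₂ = 0
    · subst hz
      simp only [map_zero, mul_zero, sub_zero] at h3
      have : j z₁ = 0 := by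
        rcases mul_eq_zero.1 h3 with h | h <;> exact h
      exact ⟨(map_eq_zero j).1 this, rfl⟩
    · exfalso
      have hjz : j z₂ ≠ 0 := fun h0 => hz ((map_eq_zero j).1 h0)
      rcases mul_eq_zero.1 h3 with h | h
      · apply hθr
        refine ⟨z₁ / z₂, ?_⟩
        rw [map_div₀]
        field_simp
        linear_combination h
      · have h5 : σ θ ∈ Set.range j := by
          refine ⟨z₁ / z₂, ?_⟩
          rw [map_div₀]
          field_simp
          linear_combination h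
        rw [← hj, hσσ] at h5
        exact hθ h5
  · intro h2 c₀
    by_cases hc0 : c₀ = 0
    · rw [hc0, map_zero]
      exact ⟨0, by simp⟩
    · have hjc0 : j c₀ ≠ 0 := fun h => hc0 ((map_eq_zero j).1 h)
      have hmemF₁ : ((Units.mk0 (j c₀) hjc0 : Fˣ) : F) ∈ F₁ := (e₁ c₀).2
      obtain ⟨b, hb⟩ := Cfsg.Agent.Lib.Helper45.SpAut.isSquare_of_fixed_two
        (ringChar_ne_two_of_two_ne_zero h2) F₁ hrank (Units.mk0 (j c₀) hjc0) hmemF₁
      refine ⟨(b : F), ?_⟩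
      have := congrArg Units.val hb
      simpa using this

section main

variable {F : Type u} [Field F] [Fintype F] {k : ℕ}

theorem two_eq_zero_of_card {p f : ℕ} (hF : Fintype.card F = p ^ f) (hp : p = 2) :
    (2 : F) = 0 := by
  have h1 : ((Fintype.card F : ℕ) : F) = 0 := FiniteField.cast_card_eq_zero F
  rw [hF, hp, Nat.cast_pow, Nat.cast_ofNat] at h1
  exact pow_eq_zero_iff (by
    rintro rfl
    have := Fintype.one_lt_card (α := F)
    rw [hF] at this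
    simp at this) |>.1 h1

theorem two_ne_zero_of_card {p f : ℕ} [Fact p.Prime] (hF : Fintype.card F = p ^ f)
    (hp : p ≠ 2) : (2 : F) ≠ 0 := by
  apply two_ne_zero_of_odd_card
  rw [hF]
  exact ((Fact.out : p.Prime).odd_of_ne_two hp).pow

/-- the model pair depends only on the field automorphism -/
theorem Psi_modelPair_congr (σ τ : F ≃+* F) (h : τ = σ) :
    Psi ⇑(plusForm (k + 1) F) ⟨modelPair k τ, modelPair_mem k τ⟩ =
      Psi ⇑(plusForm (k + 1) F) ⟨modelPair k σ, modelPair_mem k σ⟩ := by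
  subst h
  rfl

/-- **involutory graph-field automorphisms of `PΩ⁺_{2(k+1)}(F)`**, in terms of the class
preserving similarities -/
theorem gf_main {p f : ℕ} [Fact p.Prime] (hF : Fintype.card F = p ^ f) (hk : 4 ≤ k)
    (hAut : AutSemi ⇑(plusForm (k + 1) F))
    (hcl : MulAut (Cfsg.POmega F ⇑(plusForm (k + 1) F)) → Prop)
    (hcl_def : ∀ x, hcl x ↔
      ∃ (α γ φ : MulAut (Cfsg.POmega F ⇑(plusForm (k + 1) F))) (σ : F ≃+* F)
      (v : Fin (k + 1) ⊕ Fin (k + 1) → F) (r₀ : GL (Fin (k + 1) ⊕ Fin (k + 1)) F),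
      σ ≠ RingEquiv.refl F ∧ plusForm (k + 1) F v ≠ 0 ∧ (∀ i, σ (v i) = v i) ∧
      (r₀ : Matrix (Fin (k + 1) ⊕ Fin (k + 1)) (Fin (k + 1) ⊕ Fin (k + 1)) F) =
        Cfsg.reflectionMatrix ⇑(plusForm (k + 1) F) v ∧
      Cfsg.IsInducedBySemilinearPOmega ⇑(plusForm (k + 1) F) r₀ (RingEquiv.refl F) γ ∧
      Cfsg.IsFieldAutPOmegaOf ⇑(plusForm (k + 1) F) σ φ ∧ α * x * α⁻¹ = γ * φ)
    (x : MulAut (Cfsg.POmega F ⇑(plusForm (k + 1) F))) (hx : hcl x) (hx2 : orderOf x = 2)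
    (F₀ : Type*) [Field F₀] [Fintype F₀] (hF₀ : Fintype.card F₀ = p ^ (f / 2)) :
    Even f ∧
    (∀ y, hcl y → orderOf y = 2 →
      Cfsg.IsConjUnder ((simP (plusForm (k + 1) F) (plusForm_nondegenerate (k + 1) F) plus_hV
        (stdL (k + 1) F) plus_lag).map (Phi ⇑(plusForm (k + 1) F))) x y) ∧
    (∃ a₀ b₀ : F₀, (∀ z₁ z₂ : F₀, z₁ ^ 2 + a₀ * z₁ * z₂ + b₀ * z₂ ^ 2 = 0 → z₁ = 0 ∧ z₂ = 0) ∧
      Nonempty (↥((simP (plusForm (k + 1) F) (plusForm_nondegenerate (k + 1) F) plus_hV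
        (stdL (k + 1) F) plus_lag).map (Phi ⇑(plusForm (k + 1) F)) ⊓
          Subgroup.centralizer {x}) ≃* ↥(Cfsg.inndiagPOmegaMinus k F₀ a₀ b₀))) ∧
    (p = 2 → Cfsg.splitClassCount
      ((simP (plusForm (k + 1) F) (plusForm_nondegenerate (k + 1) F) plus_hV
        (stdL (k + 1) F) plus_lag).map (Phi ⇑(plusForm (k + 1) F)))
      (Cfsg.Inn (Cfsg.POmega F ⇑(plusForm (k + 1) F))) x = 1) ∧
    ((p ≠ 2 ∧ Odd (k + 1) ∧ p ^ (f / 2) % 4 = 1) → Cfsg.splitClassCount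
      ((simP (plusForm (k + 1) F) (plusForm_nondegenerate (k + 1) F) plus_hV
        (stdL (k + 1) F) plus_lag).map (Phi ⇑(plusForm (k + 1) F)))
      (Cfsg.Inn (Cfsg.POmega F ⇑(plusForm (k + 1) F))) x = 4) ∧
    ((p ≠ 2 ∧ ¬ (Odd (k + 1) ∧ p ^ (f / 2) % 4 = 1)) → Cfsg.splitClassCount
      ((simP (plusForm (k + 1) F) (plusForm_nondegenerate (k + 1) F) plus_hV
        (stdL (k + 1) F) plus_lag).map (Phi ⇑(plusForm (k + 1) F)))
      (Cfsg.Inn (Cfsg.POmega F ⇑(plusForm (k + 1) F))) x = 2) := by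
  classical
  haveI : Nonempty (Fin (k + 1) ⊕ Fin (k + 1)) := ⟨Sum.inl 0⟩
  obtain ⟨hk3, hcardF, hn5, hn2⟩ := plus_facts (F := F) hk
  have hQ := plusForm_nondegenerate (k + 1) F
  have hfam := plus_hypFam37 (k + 1) F
  -- the pair inducing `x`
  obtain ⟨px, hpx, hσ, hpar⟩ := graph_field_class_pair' hk hAut x ((hcl_def x).1 hx)
  have hx2' : (Psi ⇑(plusForm (k + 1) F) px) ^ 2 = 1 := by
    rw [← hpx, ← hx2]; exact pow_orderOf_eq_one x
  obtain ⟨hord, -⟩ := order_facts (plusForm (k + 1) F) hQ hfam hk3 hcardF hn5 hn2 px 2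
    Nat.prime_two hx2' hσ
  obtain ⟨σ, hσdef⟩ : ∃ σ, σ = px.1.right := ⟨_, rfl⟩
  rw [← hσdef] at hord
  obtain ⟨hdvd, -, -, hσσ, hσpow, -⟩ :=
    Cfsg.Agent.Lib.Helper5.AutPSLn.involution_data hF σ hord
  obtain ⟨j, a₀, b₀, θ, θ', hj, hcard, hab, ha, hb, hθ, hσθ, hσθ', hsq⟩ :=
    exists_model_data hF σ hord F₀ hF₀
  obtain ⟨t, htP, ht⟩ := conj_model hk px hx2' hσ hpar
  rw [← hσdef, ← hpx] at ht
  obtain ⟨P, hP⟩ : ∃ P, P = simP (plusForm (k + 1) F) (plusForm_nondegenerate (k + 1) F) plus_hV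
      (stdL (k + 1) F) plus_lag := ⟨_, rfl⟩
  rw [← hP] at htP ⊢
  have htH : Phi ⇑(plusForm (k + 1) F) t ∈ P.map (Phi ⇑(plusForm (k + 1) F)) :=
    Subgroup.mem_map_of_mem _ htP
  have hcountx : Cfsg.splitClassCount (P.map (Phi ⇑(plusForm (k + 1) F)))
      (Cfsg.Inn (Cfsg.POmega F ⇑(plusForm (k + 1) F))) x =
      Cfsg.splitClassCount (P.map (Phi ⇑(plusForm (k + 1) F)))
        (Cfsg.Inn (Cfsg.POmega F ⇑(plusForm (k + 1) F)))
        (Psi ⇑(plusForm (k + 1) F) ⟨modelPair k σ, modelPair_mem k σ⟩) := by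
    rw [ht]
    exact (splitClassCount_conj_mem _ _ _ htH x).symm
  refine ⟨even_iff_two_dvd.2 hdvd, ?_, ⟨a₀, b₀, hab, ?_⟩, ?_, ?_, ?_⟩
  · -- conjugacy
    intro y hy hy2
    obtain ⟨py, hpy, hτ, hpary⟩ := graph_field_class_pair' hk hAut y ((hcl_def y).1 hy)
    have hy2' : (Psi ⇑(plusForm (k + 1) F) py) ^ 2 = 1 := by
      rw [← hpy, ← hy2]; exact pow_orderOf_eq_one y
    obtain ⟨hordy, -⟩ := order_facts (plusForm (k + 1) F) hQ hfam hk3 hcardF hn5 hn2 py 2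
      Nat.prime_two hy2' hτ
    obtain ⟨-, -, -, -, hτpow, -⟩ :=
      Cfsg.Agent.Lib.Helper5.AutPSLn.involution_data hF py.1.right hordy
    have hτσ : py.1.right = σ := by
      apply RingEquiv.ext
      intro a
      rw [hτpow, hσpow]
    obtain ⟨t', ht'P, ht'⟩ := conj_model hk py hy2' hτ hpary
    rw [Psi_modelPair_congr σ py.1.right hτσ, ← hpy, ht] at ht'
    rw [← hP] at ht'P
    refine ⟨(Phi ⇑(plusForm (k + 1) F) t')⁻¹ * Phi ⇑(plusForm (k + 1) F) t,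
      Subgroup.mul_mem _ (Subgroup.inv_mem _ (Subgroup.mem_map_of_mem _ ht'P)) htH, ?_⟩
    have h1 : y = (Phi ⇑(plusForm (k + 1) F) t')⁻¹ *
        (Phi ⇑(plusForm (k + 1) F) t' * y * (Phi ⇑(plusForm (k + 1) F) t')⁻¹) *
        Phi ⇑(plusForm (k + 1) F) t' := by group
    rw [h1, ← ht']
    group
  · -- the centralizer
    obtain ⟨E⟩ := model_cent j hcard k hk a₀ b₀ hab θ θ' ha hb hθ σ hj hord hσθ hσθ'
    rw [← hP] at E
    have E2 := centConjEquivMem (P.map (Phi ⇑(plusForm (k + 1) F)))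
      (Phi ⇑(plusForm (k + 1) F) t) htH x
    rw [← ht] at E2
    exact ⟨E2.trans E⟩
  · -- characteristic two
    intro hp2
    have h2 : (2 : F) = 0 := two_eq_zero_of_card hF hp2
    apply splitClassCount_eq_one_of_le
    rw [Subgroup.map_le_iff_le_comap, hP]
    exact simP_le_innPre_char2 h2 (by omega)
  · rintro ⟨hp2, hodd, hmod⟩
    have h2 : (2 : F) ≠ 0 := two_ne_zero_of_card hF hp2
    rw [hcountx, hP, model_count_odd j hcard k hk a₀ b₀ hab θ θ' ha hb hθ σ hj hord hσθ hσθ' h2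
      (hsq h2), hF₀, if_pos ⟨hodd, hmod⟩]
  · rintro ⟨hp2, hnot⟩
    have h2 : (2 : F) ≠ 0 := two_ne_zero_of_card hF hp2
    rw [hcountx, hP, model_count_odd j hcard k hk a₀ b₀ hab θ θ' ha hb hθ σ hj hord hσθ hσθ' h2
      (hsq h2), hF₀, if_neg hnot]

end main

end Cfsg.Agent.Lib.Helper99.GF
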