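import Cfsg.Agent.Lib.Helper99.SympBlocks
import Cfsg.Agent.S5957

set_option autoImplicit false

namespace Cfsg.Agent.Lib.Helper99

section LI

variable {F V : Type*} [Field F] [AddCommGroup V] [Module F V]
variable {B : V →ₗ[F] V →ₗ[F] F} (hB : ∀ v, B v v = 0) {ψ : V →ₗ[F] V}

include hB in
lemma HypData.linearIndependent {M : Submodule F V} {ι : Type} [Fintype ι] {v w : ι → V}
    {π : ι → ι} (h : HypData B ψ M ι v w π) : LinearIndependent F (Sum.elim v w) := by
  rw [Fintype.linearIndependent_iff]
  intro g hg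
  rw [Fintype.sum_sum_type] at hg
  simp only [Sum.elim_inl, Sum.elim_inr] at hg
  have key1 : ∀ l, g (Sum.inl l) = 0 := by
    intro l
    have := congrArg (fun u => B u (w l)) hg
    simp only [map_add, map_sum, map_smul, LinearMap.add_apply, LinearMap.sum_apply,
      LinearMap.smul_apply, smul_eq_mul, h.hww, mul_zero, Finset.sum_const_zero, add_zero,
      map_zero, LinearMap.zero_apply] at this
    rw [Finset.sum_eq_single l] at this
    · rwa [h.hvw, mul_one] at this
    · intro k _ hkl
      rw [h.hvw' k l hkl, mul_zero]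
    · intro hl
      exact absurd (Finset.mem_univ l) hl
  have key2 : ∀ l, g (Sum.inr l) = 0 := by
    intro l
    have := congrArg (fun u => B u (v l)) hg
    simp only [map_add, map_sum, map_smul, LinearMap.add_apply, LinearMap.sum_apply,
      LinearMap.smul_apply, smul_eq_mul, h.hvv, mul_zero, Finset.sum_const_zero, zero_add,
      map_zero, LinearMap.zero_apply] at this
    rw [Finset.sum_eq_single l] at this
    · rw [skew B hB, h.hvw, mul_neg, mul_one, neg_eq_zero] at this
      exact this
    · intro k _ hkl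
      rw [skew B hB, h.hvw' l k (Ne.symm hkl), neg_zero, mul_zero]
    · intro hl
      exact absurd (Finset.mem_univ l) hl
  rintro (l | l)
  · exact key1 l
  · exact key2 l

lemma HypData.span_eq_top {ι : Type} {v w : ι → V} {π : ι → ι} (h : HypData B ψ ⊤ ι v w π) :
    Submodule.span F (Set.range (Sum.elim v w)) = ⊤ := by
  rw [Set.Sum.elim_range]
  exact top_le_iff.mp h.span_le

lemma HypData.act_mem {M : Submodule F V} {ι : Type} {v w : ι → V} {π : ι → ι}
    (h : HypData B ψ M ι v w π) (k : ι) :
    ψ (v k) ∈ Submodule.span F {v (π k), w (π k)} ∧ ψ (w k) ∈ Submodule.span F {v (π k), w (π k)} := by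
  rcases h.typ k with ⟨h1, -, h3, h4⟩ | ⟨⟨h1, h2⟩, -⟩
  · rw [h1]
    exact ⟨Submodule.span_mono (by simp) h3, Submodule.span_mono (by simp) h4⟩
  · exact ⟨Submodule.span_mono (by simp) h1, Submodule.span_mono (by simp) h2⟩

end LI

section Decomp

variable {F V : Type*} [Field F] [AddCommGroup V] [Module F V] [FiniteDimensional F V]

theorem decomp_of_coloring {κ : Type} [Fintype κ] (bb : κ → V) (hli : LinearIndependent F bb)
    (hspan : Submodule.span F (Set.range bb) = ⊤) {t : ℕ} (c : κ → Fin t) (a : ℕ)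
    (hfib : ∀ j, Nat.card {i // c i = j} = a) :
    (∀ j, Module.finrank F (Submodule.span F (bb '' {i | c i = j})) = a) ∧
      iSupIndep (fun j => Submodule.span F (bb '' {i | c i = j})) ∧
      (⨆ j, Submodule.span F (bb '' {i | c i = j})) = ⊤ := by
  classical
  refine ⟨?_, ?_, ?_⟩
  · intro j
    have h1 : bb '' {i | c i = j} = Set.range (fun i : {i // c i = j} => bb i.1) := by
      ext v
      simp only [Set.mem_image, Set.mem_range, Subtype.exists, Set.mem_ofPred_eq]
      constructor
      · rintro ⟨i, hi, rfl⟩; exact ⟨i, hi, rfl⟩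
      · rintro ⟨i, hi, rfl⟩; exact ⟨i, hi, rfl⟩
    have hli' : LinearIndependent F (fun i : {i // c i = j} => bb i.1) :=
      hli.comp _ Subtype.val_injective
    rw [h1, finrank_span_eq_card hli', ← Nat.card_eq_fintype_card, hfib j]
  · rw [iSupIndep_def]
    intro j
    have h1 : (⨆ (j') (_ : j' ≠ j), Submodule.span F (bb '' {i | c i = j'})) =
        Submodule.span F (bb '' ⋃ (j') (_ : j' ≠ j), {i | c i = j'}) := by
      rw [Set.image_iUnion₂, Submodule.span_iUnion₂]
    rw [h1]
    apply hli.disjoint_span_image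
    rw [Set.disjoint_left]
    intro i hi hi'
    simp only [Set.mem_iUnion, Set.mem_ofPred_eq] at hi hi'
    obtain ⟨j', hj', hij'⟩ := hi'
    exact hj' (hij'.symm.trans hi)
  · have h1 : (⨆ j, Submodule.span F (bb '' {i | c i = j})) =
        Submodule.span F (bb '' ⋃ j, {i | c i = j}) := by
      rw [Set.image_iUnion, Submodule.span_iUnion]
    rw [h1]
    have h2 : (⋃ j, {i | c i = j}) = Set.univ := by
      ext i
      simp
    rw [h2, Set.image_univ, hspan]

end Decomp

section Orth

variable {F V : Type*} [Field F] [AddCommGroup V] [Module F V] [FiniteDimensional F V]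
variable {B : V →ₗ[F] V →ₗ[F] F} (hB : ∀ v, B v v = 0)
variable {ψ : V →ₗ[F] V} {z : F} (hz : z ≠ 0) (hψ : ∀ v, ψ (ψ v) = z • v)
  (hψB : ∀ u v, B (ψ u) (ψ v) = B u v)

include hz hψ in
lemma psi_injective : Function.Injective ψ := by
  rw [injective_iff_map_eq_zero]
  intro v hv
  have := hψ v
  rw [hv, map_zero] at this
  exact (smul_eq_zero.mp this.symm).resolve_left hz

include hB hz hψ hψB in
theorem exists_orth_decomp (hnd : Nd B ⊤) (b t : ℕ) (hb : 0 < b)
    (hdim : Module.finrank F V = 2 * b * t) :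
    ∃ (D : Fin t → Submodule F V) (σ : Equiv.Perm (Fin t)),
      (∀ j, Module.finrank F (D j) = 2 * b) ∧ iSupIndep D ∧ iSup D = ⊤ ∧
      (∀ j, ∀ u ∈ D j, u ≠ 0 → ∃ v' ∈ D j, B u v' ≠ 0) ∧
      (∀ j j', j ≠ j' → ∀ u ∈ D j, ∀ v' ∈ D j', B u v' = 0) ∧
      ∀ j, (D j).map ψ = D (σ j) := by
  classical
  obtain ⟨ι, _, v, w, π, h⟩ := exists_hypData hB hz hψ hψB _ ⊤ rfl (fun _ _ => Submodule.mem_top) hnd
  have hli := h.linearIndependent hB
  have hspan := h.span_eq_top
  have hcard : Fintype.card ι = b * t := by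
    have h1 : Fintype.card (ι ⊕ ι) = 2 * b * t := by
      rw [← hdim, ← finrank_span_eq_card hli, hspan, finrank_top]
    rw [Fintype.card_sum] at h1
    have : 2 * Fintype.card ι = 2 * (b * t) := by rw [two_mul, h1]; ring
    omega
  obtain ⟨c, σ, hfib, hcσ⟩ := Cfsg.Agent.S5957.exists_coloring b t hb hcard π h.inv
  set bb : ι ⊕ ι → V := Sum.elim v w with hbb
  set ĉ : ι ⊕ ι → Fin t := Sum.elim c c with hĉ
  have hfib' : ∀ j, Nat.card {i // ĉ i = j} = 2 * b := by
    intro j
    have e : {i : ι ⊕ ι // ĉ i = j} ≃ {k // c k = j} ⊕ {k // c k = j} :=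
      Equiv.subtypeSum
    rw [Nat.card_congr e, Nat.card_sum, hfib j]
    ring
  obtain ⟨hfr, hind, hsup⟩ := decomp_of_coloring bb hli hspan ĉ (2 * b) hfib'
  set D : Fin t → Submodule F V := fun j => Submodule.span F (bb '' {i | ĉ i = j}) with hD
  -- values of the form on basis vectors of different colours
  have hbasis : ∀ i i', ĉ i ≠ ĉ i' → B (bb i) (bb i') = 0 := by
    rintro (k | k) (l | l) hne
    · exact h.hvv k l
    · exact h.hvw' k l (fun hkl => hne (by simp [hĉ, hkl]))
    · simp only [hbb, Sum.elim_inl, Sum.elim_inr]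
      rw [skew B hB, h.hvw' l k (fun hkl => hne (by simp [hĉ, hkl])), neg_zero]
    · exact h.hww k l
  have horth : ∀ j j', j ≠ j' → ∀ u ∈ D j, ∀ v' ∈ D j', B u v' = 0 := by
    intro j j' hjj' u hu v' hv'
    induction hu using Submodule.span_induction with
    | mem x hx =>
      obtain ⟨i, hi, rfl⟩ := hx
      induction hv' using Submodule.span_induction with
      | mem y hy =>
        obtain ⟨i', hi', rfl⟩ := hy
        apply hbasis
        rw [Set.mem_ofPred_eq] at hi hi'
        rw [hi, hi']
        exact hjj'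
      | zero => simp
      | add x y _ _ hx hy => rw [map_add, hx, hy, add_zero]
      | smul a x _ hx => rw [map_smul, hx, smul_zero]
    | zero => simp
    | add x y _ _ hx hy => rw [map_add, LinearMap.add_apply, hx, hy, add_zero]
    | smul a x _ hx => rw [map_smul, LinearMap.smul_apply, hx, smul_zero]
  have hmem : ∀ i, bb i ∈ D (ĉ i) := fun i => Submodule.subset_span ⟨i, rfl, rfl⟩
  have hnondeg : ∀ j, ∀ u ∈ D j, u ≠ 0 → ∃ v' ∈ D j, B u v' ≠ 0 := by
    intro j u hu hu0
    by_contra hcon
    push Not at hcon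
    apply hu0
    have hall : ∀ m, m ∈ Submodule.span F (Set.range bb) → B u m = 0 := by
      intro m hm
      induction hm using Submodule.span_induction with
      | mem x hx =>
        obtain ⟨i, rfl⟩ := hx
        by_cases hij : ĉ i = j
        · exact hcon _ (hij ▸ hmem i)
        · exact horth j (ĉ i) (Ne.symm hij) u hu _ (hmem i)
      | zero => simp
      | add x y _ _ hx hy => rw [map_add, hx, hy, add_zero]
      | smul a x _ hx => rw [map_smul, hx, smul_zero]
    apply hnd u Submodule.mem_top
    intro m _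
    exact hall m (by rw [hspan]; trivial)
  have hmap_le : ∀ j, (D j).map ψ ≤ D (σ j) := by
    intro j
    rw [hD]
    simp only
    rw [Submodule.map_span, Submodule.span_le]
    rintro _ ⟨_, ⟨i, hi, rfl⟩, rfl⟩
    rw [Set.mem_ofPred_eq] at hi
    have hsub : ∀ k, c k = j → Submodule.span F {v (π k), w (π k)} ≤
        Submodule.span F (bb '' {i | ĉ i = σ j}) := by
      intro k hk
      rw [Submodule.span_le]
      rintro x hx
      rcases hx with rfl | rfl
      · exact Submodule.subset_span ⟨Sum.inl (π k), by simp [hĉ, hcσ, hk], rfl⟩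
      · exact Submodule.subset_span ⟨Sum.inr (π k), by simp [hĉ, hcσ, hk], rfl⟩
    rcases i with k | k
    · exact hsub k hi (h.act_mem k).1
    · exact hsub k hi (h.act_mem k).2
  refine ⟨D, σ, hfr, hind, hsup, hnondeg, horth, ?_⟩
  intro j
  apply Submodule.eq_of_le_of_finrank_eq (hmap_le j)
  rw [hfr (σ j), ← hfr j]
  exact (LinearEquiv.finrank_eq (Submodule.equivMapOfInjective ψ (psi_injective hz hψ) (D j))).symm

end Orth

end Cfsg.Agent.Lib.Helper99
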