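import Cfsg.Agent.Lib.Helper99.NPair6

set_option autoImplicit false

/-!
An orthogonal sum of two isometric nondegenerate quadratic spaces of even dimension over a finite
field contains a totally singular subspace of half the dimension.
-/

namespace Cfsg.Agent.Lib.Helper99

open Matrix Module QuadraticMap
open Cfsg.Agent.Lib.Helper8 Cfsg.Agent.Lib.Helper13 Cfsg.Agent.Lib.Helper37

section isohalves

variable {ι : Type} [Fintype ι] [DecidableEq ι] {F : Type*} [Field F]

theorem ts_span_of_pairwise {κ : Type*} (Q : QuadraticForm F (ι → F)) (T : κ → (ι → F))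
    (h0 : ∀ k, Q (T k) = 0) (h1 : ∀ k l, polar ⇑Q (T k) (T l) = 0) :
    ∀ u ∈ Submodule.span F (Set.range T), Q u = 0 := by
  have s1 : ∀ u ∈ Submodule.span F (Set.range T), ∀ k, polar ⇑Q u (T k) = 0 := by
    intro u hu k
    refine Submodule.span_induction (p := fun v _ => polar ⇑Q v (T k) = 0) ?_ ?_ ?_ ?_ hu
    · rintro _ ⟨l, rfl⟩
      exact h1 l k
    · exact polar_zero_left _ _
    · intro x y _ _ hx hy
      rw [polar_add_left, hx, hy, add_zero]
    · intro c x _ hx
      rw [polar_smul_left, hx, smul_zero]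
  have s2 : ∀ u ∈ Submodule.span F (Set.range T), ∀ v ∈ Submodule.span F (Set.range T),
      polar ⇑Q u v = 0 := by
    intro u hu v hv
    refine Submodule.span_induction (p := fun w _ => polar ⇑Q u w = 0) ?_ ?_ ?_ ?_ hv
    · rintro _ ⟨l, rfl⟩
      exact s1 u hu l
    · exact polar_zero_right _ _
    · intro x y _ _ hx hy
      rw [polar_add_right, hx, hy, add_zero]
    · intro c x _ hx
      rw [polar_smul_right, hx, smul_zero]
  intro u hu
  refine Submodule.span_induction (p := fun w _ => Q w = 0) ?_ ?_ ?_ ?_ hu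
  · rintro _ ⟨l, rfl⟩
    exact h0 l
  · exact QuadraticMap.map_zero Q
  · intro x y hx hy hQx hQy
    rw [QuadraticMap.map_add Q, hQx, hQy, s2 x hx y hy]
    simp
  · intro c x _ hx
    rw [QuadraticMap.map_smul, hx, smul_zero]

theorem polar_expand3 (Q : QuadraticForm F (ι → F)) (a1 a2 a3 b1 b2 b3 : ι → F)
    (c2 c3 d2 d3 : F) :
    polar ⇑Q (a1 + c2 • a2 + c3 • a3) (b1 + d2 • b2 + d3 • b3)
      = polar ⇑Q a1 b1 + d2 * polar ⇑Q a1 b2 + d3 * polar ⇑Q a1 b3
        + c2 * polar ⇑Q a2 b1 + c2 * d2 * polar ⇑Q a2 b2 + c2 * d3 * polar ⇑Q a2 b3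
        + c3 * polar ⇑Q a3 b1 + c3 * d2 * polar ⇑Q a3 b2 + c3 * d3 * polar ⇑Q a3 b3 := by
  simp only [polar_add_left, polar_add_right, polar_smul_left, polar_smul_right, smul_eq_mul]
  ring

theorem polar_expand1 (Q : QuadraticForm F (ι → F)) (a1 b1 b2 b3 : ι → F)
    (c d2 d3 : F) :
    polar ⇑Q (c • a1) (b1 + d2 • b2 + d3 • b3)
      = c * polar ⇑Q a1 b1 + c * d2 * polar ⇑Q a1 b2 + c * d3 * polar ⇑Q a1 b3 := by
  simp only [polar_add_right, polar_smul_left, polar_smul_right, smul_eq_mul]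
  ring

theorem exists_sq_add_sq [Fintype F] (h2 : (2 : F) ≠ 0) (c : F) : ∃ α β : F, α * α + β * β = c := by
  have hodd := Helper43.two_ne_zero_iff_odd_card.mp h2
  obtain ⟨x, y, hxy⟩ := FiniteField.exists_root_sum_quadratic
    (f := Polynomial.C (1 : F) * Polynomial.X ^ 2 + Polynomial.C 0 * Polynomial.X
      + Polynomial.C (-c))
    (g := Polynomial.C (1 : F) * Polynomial.X ^ 2 + Polynomial.C 0 * Polynomial.X
      + Polynomial.C 0)
    (Polynomial.degree_quadratic one_ne_zero) (Polynomial.degree_quadratic one_ne_zero) hodd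
  simp only [Polynomial.eval_add, Polynomial.eval_mul, Polynomial.eval_C, Polynomial.eval_pow,
    Polynomial.eval_X, zero_mul, add_zero, one_mul] at hxy
  exact ⟨x, y, by linear_combination hxy⟩

/-- the odd characteristic case without a square root of `-1` -/
theorem exists_ts_of_isometric_halves_odd [Fintype F] (h2 : (2 : F) ≠ 0)
    (Q : QuadraticForm F (ι → F)) (W W' : Submodule F (ι → F))
    (horth : ∀ x ∈ W, ∀ y ∈ W', polar ⇑Q x y = 0)
    (hnd : ∀ w ∈ W, (∀ w' ∈ W, polar ⇑Q w w' = 0) → w = 0) (j : ℕ)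
    (hj : finrank F W = 2 * j) (φ : (ι → F) →ₗ[F] (ι → F)) (hφW : ∀ w ∈ W, φ w ∈ W')
    (hφQ : ∀ v, Q (φ v) = Q v) :
    ∃ U : Submodule F (ι → F), (∀ u ∈ U, Q u = 0) ∧ finrank F U = 2 * j := by
  classical
  have hφp : ∀ x y, polar ⇑Q (φ x) (φ y) = polar ⇑Q x y := by
    intro x y
    unfold polar
    rw [← map_add, hφQ, hφQ, hφQ]
  obtain ⟨b, hb1, hb2⟩ := Helper43.exists_ortho_basis_odd h2 (Q.comp W.subtype)
    (Helper43.nondegenerate_comp_subtype Q W hnd)
  let e : Fin j × Fin 2 ≃ Fin (finrank F W) :=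
    finProdFinEquiv.trans (finCongr (by omega))
  let u : Fin j → (ι → F) := fun i => ((b (e (i, 0)) : W) : ι → F)
  let u' : Fin j → (ι → F) := fun i => ((b (e (i, 1)) : W) : ι → F)
  have huW : ∀ i, u i ∈ W := fun i => (b (e (i, 0))).2
  have hu'W : ∀ i, u' i ∈ W := fun i => (b (e (i, 1))).2
  have hQu : ∀ i, Q (u i) ≠ 0 := fun i => hb2 (e (i, 0))
  have hQu' : ∀ i, Q (u' i) ≠ 0 := fun i => hb2 (e (i, 1))
  have o1 : ∀ i l, i ≠ l → polar ⇑Q (u i) (u l) = 0 := by
    intro i l hil
    apply hb1 (e (i, 0)) (e (l, 0))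
    intro h
    have := e.injective h
    exact hil (Prod.mk.inj this).1
  have o2 : ∀ i l, polar ⇑Q (u i) (u' l) = 0 := by
    intro i l
    apply hb1 (e (i, 0)) (e (l, 1))
    intro h
    have := e.injective h
    have h01 := (Prod.mk.inj this).2
    exact absurd h01 (by decide)
  have o2' : ∀ i l, polar ⇑Q (u' i) (u l) = 0 := fun i l => by rw [polar_comm]; exact o2 l i
  have o3 : ∀ i l, i ≠ l → polar ⇑Q (u' i) (u' l) = 0 := by
    intro i l hil
    apply hb1 (e (i, 1)) (e (l, 1))
    intro h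
    have := e.injective h
    exact hil (Prod.mk.inj this).1
  have o4 : ∀ x ∈ W, ∀ y ∈ W, polar ⇑Q x (φ y) = 0 := fun x hx y hy => horth x hx _ (hφW y hy)
  have o4' : ∀ x ∈ W, ∀ y ∈ W, polar ⇑Q (φ x) y = 0 := fun x hx y hy => by
    rw [polar_comm]; exact o4 y hy x hx
  have hself : ∀ x : ι → F, polar ⇑Q x x = 2 * Q x := fun x => by
    rw [polar_self, two_nsmul, two_mul]
  choose α β hαβ using fun i : Fin j => exists_sq_add_sq h2 (-(Q (u i)) / Q (u' i))
  have hkey : ∀ i, Q (u i) + (α i * α i + β i * β i) * Q (u' i) = 0 := by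
    intro i
    rw [hαβ i]
    field_simp [hQu' i]
    ring
  let T : Fin j ⊕ Fin j → (ι → F) := Sum.elim
    (fun i => u i + α i • u' i + β i • φ (u' i))
    (fun i => φ (u i) + (-(β i)) • u' i + α i • φ (u' i))
  have hT0 : ∀ k, Q (T k) = 0 := by
    rintro (i | i)
    · show Q (u i + α i • u' i + β i • φ (u' i)) = 0
      rw [quad_expand, hφQ, o2, o4 _ (huW i) _ (hu'W i), o4 _ (hu'W i) _ (hu'W i)]
      linear_combination hkey i
    · show Q (φ (u i) + (-(β i)) • u' i + α i • φ (u' i)) = 0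
      rw [quad_expand, hφQ, hφQ, o4' _ (huW i) _ (hu'W i), hφp, o2, o4 _ (hu'W i) _ (hu'W i)]
      linear_combination hkey i
  have hT1 : ∀ k l, polar ⇑Q (T k) (T l) = 0 := by
    rintro (i | i) (l | l)
    · show polar ⇑Q (u i + α i • u' i + β i • φ (u' i)) (u l + α l • u' l + β l • φ (u' l)) = 0
      rw [polar_expand3, o2, o2', o4 _ (huW i) _ (hu'W l), o4 _ (hu'W i) _ (hu'W l),
        o4' _ (hu'W i) _ (huW l), o4' _ (hu'W i) _ (hu'W l), hφp]
      by_cases hil : i = l
      · subst hil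
        rw [hself, hself]
        linear_combination 2 * hkey i
      · rw [o1 i l hil, o3 i l hil]
        ring
    · show polar ⇑Q (u i + α i • u' i + β i • φ (u' i))
        (φ (u l) + (-(β l)) • u' l + α l • φ (u' l)) = 0
      rw [polar_expand3, o2, o4 _ (huW i) _ (huW l), o4 _ (huW i) _ (hu'W l),
        o4 _ (hu'W i) _ (huW l), o4 _ (hu'W i) _ (hu'W l), hφp, hφp, o2',
        o4' _ (hu'W i) _ (hu'W l)]
      by_cases hil : i = l
      · subst hil
        ring
      · rw [o3 i l hil]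
        ring
    · show polar ⇑Q (φ (u i) + (-(β i)) • u' i + α i • φ (u' i))
        (u l + α l • u' l + β l • φ (u' l)) = 0
      rw [polar_expand3, o2', o4' _ (huW i) _ (huW l), o4' _ (huW i) _ (hu'W l),
        o4' _ (hu'W i) _ (huW l), o4' _ (hu'W i) _ (hu'W l), hφp, hφp, o2,
        o4 _ (hu'W i) _ (hu'W l)]
      by_cases hil : i = l
      · subst hil
        ring
      · rw [o3 i l hil]
        ring
    · show polar ⇑Q (φ (u i) + (-(β i)) • u' i + α i • φ (u' i))
        (φ (u l) + (-(β l)) • u' l + α l • φ (u' l)) = 0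
      rw [polar_expand3, hφp, hφp, hφp, hφp, o2, o2', o4' _ (huW i) _ (hu'W l),
        o4 _ (hu'W i) _ (huW l), o4 _ (hu'W i) _ (hu'W l), o4' _ (hu'W i) _ (hu'W l)]
      by_cases hil : i = l
      · subst hil
        rw [hself, hself]
        linear_combination 2 * hkey i
      · rw [o1 i l hil, o3 i l hil]
        ring
  let Dl : Fin j ⊕ Fin j → (ι → F) := Sum.elim
    (fun i => (2 * Q (u i))⁻¹ • u i) (fun i => (2 * Q (u i))⁻¹ • φ (u i))
  have h2Q : ∀ i, 2 * Q (u i) ≠ 0 := fun i => mul_ne_zero h2 (hQu i)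
  have hdual : ∀ k l, polar ⇑Q (Dl k) (T l) = if k = l then 1 else 0 := by
    rintro (i | i) (l | l)
    · show polar ⇑Q ((2 * Q (u i))⁻¹ • u i) (u l + α l • u' l + β l • φ (u' l)) = _
      rw [polar_expand1, o2, o4 _ (huW i) _ (hu'W l)]
      by_cases hil : i = l
      · subst hil
        rw [if_pos rfl, hself]
        have hq := hQu i
        simp only [mul_zero, zero_mul, add_zero, neg_zero]
        field_simp
      · rw [if_neg (fun h => hil (Sum.inl.inj h)), o1 i l hil]
        ring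
    · show polar ⇑Q ((2 * Q (u i))⁻¹ • u i) (φ (u l) + (-(β l)) • u' l + α l • φ (u' l)) = _
      rw [polar_expand1, o2, o4 _ (huW i) _ (huW l), o4 _ (huW i) _ (hu'W l),
        if_neg (by simp)]
      ring
    · show polar ⇑Q ((2 * Q (u i))⁻¹ • φ (u i)) (u l + α l • u' l + β l • φ (u' l)) = _
      rw [polar_expand1, hφp, o2, o4' _ (huW i) _ (huW l), o4' _ (huW i) _ (hu'W l),
        if_neg (by simp)]
      ring
    · show polar ⇑Q ((2 * Q (u i))⁻¹ • φ (u i))
        (φ (u l) + (-(β l)) • u' l + α l • φ (u' l)) = _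
      rw [polar_expand1, hφp, hφp, o2, o4' _ (huW i) _ (hu'W l)]
      by_cases hil : i = l
      · subst hil
        rw [if_pos rfl, hself]
        have hq := hQu i
        simp only [mul_zero, zero_mul, add_zero, neg_zero]
        field_simp
      · rw [if_neg (fun h => hil (Sum.inr.inj h)), o1 i l hil]
        ring
  have hLI : LinearIndependent F T := Helper43.linearIndependent_of_dual Q T Dl hdual
  refine ⟨Submodule.span F (Set.range T), ts_span_of_pairwise Q T hT0 hT1, ?_⟩
  rw [finrank_span_eq_card hLI]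
  simp
  ring

/-- An orthogonal sum of two isometric halves of even dimension has a totally singular subspace
of half the dimension. -/
theorem exists_ts_of_isometric_halves [Fintype F] (Q : QuadraticForm F (ι → F))
    (W W' : Submodule F (ι → F)) (horth : ∀ x ∈ W, ∀ y ∈ W', polar ⇑Q x y = 0)
    (hnd : ∀ w ∈ W, (∀ w' ∈ W, polar ⇑Q w w' = 0) → w = 0) (j : ℕ)
    (hj : finrank F W = 2 * j) (φ : (ι → F) →ₗ[F] (ι → F)) (hφW : ∀ w ∈ W, φ w ∈ W')
    (hφQ : ∀ v, Q (φ v) = Q v) :
    ∃ U : Submodule F (ι → F), (∀ u ∈ U, Q u = 0) ∧ finrank F U = 2 * j := by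
  by_cases hi : ∃ i : F, i * i = -1
  · obtain ⟨i, hi⟩ := hi
    have hdisj : ∀ x, x ∈ W → x ∈ W' → x = 0 := fun x hx hx' =>
      hnd x hx (fun w' hw' => by rw [polar_comm]; exact horth w' hw' x hx')
    let L : W →ₗ[F] (ι → F) := (LinearMap.id + i • φ).comp W.subtype
    have hL : ∀ w : W, L w = (w : ι → F) + i • φ (w : ι → F) := fun w => rfl
    have hinj : Function.Injective L := by
      intro a b hab
      have h1 : L (a - b) = 0 := by rw [map_sub, hab, sub_self]
      rw [hL] at h1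
      have h3 : ((a - b : W) : ι → F) = 0 := by
        apply hdisj _ (a - b).2
        have : ((a - b : W) : ι → F) = (-i) • φ ((a - b : W) : ι → F) := by
          rw [neg_smul]
          exact eq_neg_of_add_eq_zero_left h1
        rw [this]
        exact W'.smul_mem _ (hφW _ (a - b).2)
      have h4 : a - b = 0 := Subtype.ext h3
      exact sub_eq_zero.1 h4
    refine ⟨LinearMap.range L, ?_, ?_⟩
    · rintro _ ⟨w, rfl⟩
      rw [hL, QuadraticMap.map_add Q, QuadraticMap.map_smul, hφQ, polar_smul_right,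
        horth _ w.2 _ (hφW _ w.2)]
      simp only [smul_eq_mul, mul_zero, add_zero]
      rw [hi]
      ring
    · rw [LinearMap.finrank_range_of_inj hinj, hj]
  · have h2 : (2 : F) ≠ 0 := by
      intro h
      apply hi
      refine ⟨1, ?_⟩
      have : (1 : F) + 1 = 0 := by rw [one_add_one_eq_two]; exact h
      linear_combination this
    exact exists_ts_of_isometric_halves_odd h2 Q W W' horth hnd j hj φ hφW hφQ

end isohalves

end Cfsg.Agent.Lib.Helper99
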