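import Mathlib
import Cfsg.Agent.Lib.Helper99.LB5
import Cfsg.Agent.S0292

set_option autoImplicit false
set_option linter.unusedSectionVars false
set_option linter.unusedVariables false

/-!
# Auxiliary facts for the odd-dimensional form: trivial centre, even order
-/

namespace Cfsg.Agent.Lib.Helper99.LB

open Matrix Module QuadraticMap
open Cfsg.Agent.Lib.Helper37 Cfsg.Agent.Lib.Helper37.OrthField Cfsg.Agent.Lib.Helper43
open Cfsg.Agent.Lib.Helper8 Cfsg.Agent.Lib.Helper13

universe u

variable {ι : Type} [Fintype ι] [DecidableEq ι] {F : Type u} [Field F] [Fintype F] [Nonempty ι]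

/-- `PΩ(Q)` has trivial centre (odd dimension): conjugation is injective -/
theorem conj_injective (Q : QuadraticForm F (ι → F)) (A : AutO.Amb Q) :
    Function.Injective (MulAut.conj : Cfsg.POmega F ⇑Q →* MulAut (Cfsg.POmega F ⇑Q)) := by
  rw [injective_iff_map_eq_one]
  intro z hz
  induction z using QuotientGroup.induction_on with
  | H s =>
    have hs : s ∈ Subgroup.center ↥(Cfsg.Omega F ⇑Q) := by
      rw [Subgroup.mem_center_iff]
      intro s'
      have h1 := congrArg (fun f : MulAut (Cfsg.POmega F ⇑Q) => f (QuotientGroup.mk s')) hz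
      simp only [MulAut.conj_apply, MulAut.one_apply] at h1
      rw [← QuotientGroup.mk_inv, ← QuotientGroup.mk_mul, ← QuotientGroup.mk_mul] at h1
      have h2 := mk_injective Q A h1
      calc s' * s = s * s' * s⁻¹ * s := by rw [h2]
        _ = s * s' := by group
    rw [AutO.center_omega_eq_bot A, Subgroup.mem_bot] at hs
    rw [hs]
    rfl

/-- `Ω_{2m+1}(q)` has even order -/
theorem even_card_omega_odd {K : Type*} [Field K] [Fintype K] (h2 : (2 : K) ≠ 0) {m : ℕ}
    (hm : 3 ≤ m) (A₀ : AutO.Amb (oddForm m K)) :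
    2 ∣ Nat.card ↥(Cfsg.Omega K ⇑(oddForm m K)) := by
  have hodd : Odd (Fintype.card K) := Nat.odd_iff.2 (two_ne_zero_iff_odd_card.mp h2)
  have h := Cfsg.Agent.S0292.result (F := K) rfl hodd m hm
  rw [oddForm_coe] at h
  have hcard : Nat.card (Cfsg.POmega K ⇑(oddForm m K)) =
      Nat.card ↥(Cfsg.Omega K ⇑(oddForm m K)) := by
    symm
    exact Nat.card_congr (MulEquiv.ofBijective
      (QuotientGroup.mk' (Subgroup.center ↥(Cfsg.Omega K ⇑(oddForm m K))))
      ⟨mk_injective _ A₀, QuotientGroup.mk'_surjective _⟩).toEquiv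
  rw [hcard] at h
  obtain ⟨t, ht⟩ := hodd
  have h4 : 4 ∣ Fintype.card K ^ (2 * (0 + 1)) - 1 := by
    rw [ht]
    refine ⟨t ^ 2 + t, ?_⟩
    apply Nat.sub_eq_of_eq_add
    ring
  have h5 : Fintype.card K ^ (2 * (0 + 1)) - 1 ∣
      ∏ i ∈ Finset.range m, (Fintype.card K ^ (2 * (i + 1)) - 1) :=
    Finset.dvd_prod_of_mem (fun i => Fintype.card K ^ (2 * (i + 1)) - 1)
      (Finset.mem_range.2 (by omega))
  have h6 : 4 ∣ 2 * Nat.card ↥(Cfsg.Omega K ⇑(oddForm m K)) := by
    rw [h]
    exact Dvd.dvd.mul_left (dvd_trans h4 h5) _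
  omega

end Cfsg.Agent.Lib.Helper99.LB
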