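import Cfsg.Agent.Lib.Helper99.HypAssemble

set_option autoImplicit false

namespace Cfsg.Agent.Lib.Helper99

section Lag

variable {F V : Type*} [Field F] [AddCommGroup V] [Module F V] [FiniteDimensional F V]
variable {B : V →ₗ[F] V →ₗ[F] F} (hB : ∀ v, B v v = 0)
variable {ψ : V →ₗ[F] V} {z : F} (hz : z ≠ 0) (hψ : ∀ v, ψ (ψ v) = z • v)
  (hψB : ∀ u v, B (ψ u) (ψ v) = B u v)

include hB hz hψ hψB in
theorem exists_lagrangian_pair (hnd : Nd B ⊤) (h2 : (2 : F) ≠ 0) :
    ∃ U W : Submodule F V, IsCompl U W ∧ (∀ u ∈ U, ∀ v ∈ U, B u v = 0) ∧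
      (∀ u ∈ W, ∀ v ∈ W, B u v = 0) ∧
      ((U.map ψ = U ∧ W.map ψ = W) ∨ (U.map ψ = W ∧ W.map ψ = U)) := by
  classical
  obtain ⟨ι, _, v, w, π, h⟩ := exists_hypData hB hz hψ hψB _ ⊤ rfl (fun _ _ => Submodule.mem_top) hnd
  have hli := h.linearIndependent hB
  obtain ⟨hliv, hliw, hdisj⟩ := linearIndependent_sum.mp hli
  simp only [Function.comp_def, Sum.elim_inl, Sum.elim_inr] at hliv hliw hdisj
  set U := Submodule.span F (Set.range v) with hU
  set W := Submodule.span F (Set.range w) with hW
  have hfrU : Module.finrank F U = Fintype.card ι := finrank_span_eq_card hliv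
  have hfrW : Module.finrank F W = Fintype.card ι := finrank_span_eq_card hliw
  have hcompl : IsCompl U W := by
    refine ⟨hdisj, ?_⟩
    rw [codisjoint_iff, hU, hW, ← Submodule.span_union]
    exact top_le_iff.mp h.span_le
  have hUiso : ∀ u ∈ U, ∀ v' ∈ U, B u v' = 0 := by
    intro u hu v' hv'
    induction hu using Submodule.span_induction with
    | mem x hx =>
      obtain ⟨k, rfl⟩ := hx
      induction hv' using Submodule.span_induction with
      | mem y hy =>
        obtain ⟨l, rfl⟩ := hy
        exact h.hvv k l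
      | zero => simp
      | add x y _ _ hx hy => rw [map_add, hx, hy, add_zero]
      | smul a x _ hx => rw [map_smul, hx, smul_zero]
    | zero => simp
    | add x y _ _ hx hy => rw [map_add, LinearMap.add_apply, hx, hy, add_zero]
    | smul a x _ hx => rw [map_smul, LinearMap.smul_apply, hx, smul_zero]
  have hWiso : ∀ u ∈ W, ∀ v' ∈ W, B u v' = 0 := by
    intro u hu v' hv'
    induction hu using Submodule.span_induction with
    | mem x hx =>
      obtain ⟨k, rfl⟩ := hx
      induction hv' using Submodule.span_induction with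
      | mem y hy =>
        obtain ⟨l, rfl⟩ := hy
        exact h.hww k l
      | zero => simp
      | add x y _ _ hx hy => rw [map_add, hx, hy, add_zero]
      | smul a x _ hx => rw [map_smul, hx, smul_zero]
    | zero => simp
    | add x y _ _ hx hy => rw [map_add, LinearMap.add_apply, hx, hy, add_zero]
    | smul a x _ hx => rw [map_smul, LinearMap.smul_apply, hx, smul_zero]
  have hinj := psi_injective hz hψ
  have hmapfr : ∀ X : Submodule F V, Module.finrank F (X.map ψ) = Module.finrank F X := fun X =>
    (LinearEquiv.finrank_eq (Submodule.equivMapOfInjective ψ hinj X)).symm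
  refine ⟨U, W, hcompl, hUiso, hWiso, ?_⟩
  -- the dichotomy
  by_cases hι : IsEmpty ι
  · left
    have hU0 : U = ⊥ := by
      rw [hU, Submodule.span_eq_bot]
      rintro x ⟨k, -⟩
      exact (hι.false k).elim
    have hW0 : W = ⊥ := by
      rw [hW, Submodule.span_eq_bot]
      rintro x ⟨k, -⟩
      exact (hι.false k).elim
    rw [hU0, hW0]
    simp
  rw [not_isEmpty_iff] at hι
  obtain ⟨k₀⟩ := hι
  have hz2 : z * z = 1 := by
    have h1 := hψB (ψ (v k₀)) (ψ (w k₀))
    rw [hψ, hψ, hψB, h.hvw] at h1
    simp only [map_smul, LinearMap.smul_apply, h.hvw, smul_eq_mul, mul_one] at h1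
    exact h1
  have hz1 : z = 1 ∨ z = -1 := by
    have : (z - 1) * (z + 1) = 0 := by ring_nf; rw [← hz2]; ring
    rcases mul_eq_zero.mp this with h' | h'
    · left; exact sub_eq_zero.mp h'
    · right; exact eq_neg_of_add_eq_zero_left h'
  rcases hz1 with rfl | rfl
  · -- z = 1: all blocks are of fixed type
    left
    have hzero : ∀ u, B u (ψ u) = 0 := by
      intro u
      have h1 : B u (ψ u) = B (ψ u) u := by
        have := hψB u (ψ u)
        rw [hψ, one_smul] at this
        exact this.symm
      rw [skew B hB (ψ u) u] at h1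
      have : (2 : F) * B u (ψ u) = 0 := by linear_combination h1
      exact (mul_eq_zero.mp this).resolve_left h2
    have hfix : ∀ k, ψ (v k) ∈ Submodule.span F {v (π k)} ∧ ψ (w k) ∈ Submodule.span F {w (π k)} := by
      intro k
      rcases h.typ k with ⟨-, hne, -, -⟩ | ⟨hh, -⟩
      · exact absurd (hzero (v k)) hne
      · exact hh
    constructor
    · apply Submodule.eq_of_le_of_finrank_eq
      · rw [hU, Submodule.map_span, Submodule.span_le]
        rintro _ ⟨_, ⟨k, rfl⟩, rfl⟩
        exact Submodule.span_mono (by rintro x hx; rw [Set.mem_singleton_iff] at hx; exact ⟨π k, hx.symm⟩) (hfix k).1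
      · exact hmapfr U
    · apply Submodule.eq_of_le_of_finrank_eq
      · rw [hW, Submodule.map_span, Submodule.span_le]
        rintro _ ⟨_, ⟨k, rfl⟩, rfl⟩
        exact Submodule.span_mono (by rintro x hx; rw [Set.mem_singleton_iff] at hx; exact ⟨π k, hx.symm⟩) (hfix k).2
      · exact hmapfr W
  · -- z = -1: all blocks are of swap type
    right
    have hsymm : ∀ u v', B u (ψ v') = B v' (ψ u) := by
      intro u v'
      have h1 := hψB v' (ψ u)
      rw [hψ, neg_one_smul, map_neg] at h1
      rw [← h1, skew B hB]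
    have hswap : ∀ k, ψ (v k) ∈ Submodule.span F {w k} ∧ ψ (w k) ∈ Submodule.span F {v k} := by
      intro k
      rcases h.typ k with ⟨-, -, h3, h4⟩ | ⟨-, M₀, hM₀, hM₀inv, hM₀nd, hM₀z⟩
      · exact ⟨h3, h4⟩
      · exfalso
        apply hM₀
        rw [Submodule.eq_bot_iff]
        intro u hu
        apply hM₀nd u hu
        intro m hm
        have hg : ∀ a ∈ M₀, ∀ b ∈ M₀, B a (ψ b) = 0 := by
          intro a ha b hb
          have h1 := hM₀z (a + b) (M₀.add_mem ha hb)
          rw [map_add, map_add, LinearMap.add_apply, map_add, map_add, hM₀z a ha, hM₀z b hb,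
            hsymm b a] at h1
          have : (2 : F) * B a (ψ b) = 0 := by linear_combination h1
          exact (mul_eq_zero.mp this).resolve_left h2
        have hm' : m = ψ (ψ (-m)) := by rw [hψ]; simp
        rw [hm']
        exact hg u hu _ (hM₀inv _ (M₀.neg_mem hm))
    constructor
    · apply Submodule.eq_of_le_of_finrank_eq
      · rw [hU, Submodule.map_span, Submodule.span_le]
        rintro _ ⟨_, ⟨k, rfl⟩, rfl⟩
        exact Submodule.span_mono (by rintro x hx; rw [Set.mem_singleton_iff] at hx; exact ⟨k, hx.symm⟩) (hswap k).1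
      · rw [hmapfr U, hfrU, hfrW]
    · apply Submodule.eq_of_le_of_finrank_eq
      · rw [hW, Submodule.map_span, Submodule.span_le]
        rintro _ ⟨_, ⟨k, rfl⟩, rfl⟩
        exact Submodule.span_mono (by rintro x hx; rw [Set.mem_singleton_iff] at hx; exact ⟨k, hx.symm⟩) (hswap k).2
      · rw [hmapfr W, hfrU, hfrW]

end Lag

end Cfsg.Agent.Lib.Helper99
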