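import Cfsg.Agent.Lib.Helper6.Ls.Defs
import Cfsg.Agent.Lib.Helper6.Ls.LinePt
import Cfsg.Agent.Lib.Helper99.PsuHEIS
import Cfsg.Prelude.Def_Classical

/-!
# Ls hive (S2334 + S2335, helper6), leaf C-FIXT: an element of `SU_n(q)` moving the two root
subgroups `Z_e`, `Z_u` of a totally isotropic line to two prescribed distinct points of the line.
-/

set_option autoImplicit false

namespace Cfsg.Agent.Lib.Helper6.Ls

open Module Cfsg.Agent.Lib.Helper99 Cfsg.Agent.Lib.Helper13 Cfsg.Agent.Lib.Helper90.Psu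

section concrete

variable {F : Type*} [Field F] [Fintype F] {q : ℕ}

/-- conjugation by `g` with `g p = l • p'` (`l ≠ 0`) maps the root subgroup `Z_p` onto `Z_p'` -/
theorem cfixt_map_Zgrp (hF : Fintype.card F = q ^ 2) {n : ℕ} (p p' : Fin n → F)
    (hp : Cfsg.hermForm n F q p p = 0) (hp' : Cfsg.hermForm n F q p' p' = 0)
    (g : SUg F n q) (l : F) (hl : l ≠ 0)
    (hg : Matrix.mulVec ((g : GL (Fin n) F) : Matrix (Fin n) (Fin n) F) p = l • p') :
    (Zgrp p).map (MulAut.conj g).toMonoidHom = Zgrp p' := by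
  have hgU : (g : GL (Fin n) F) ∈ Cfsg.GU n F q := g.2.1
  have hlq : (l ^ (q + 1)) ^ q = l ^ (q + 1) := by
    rw [pow_succ, mul_pow, pow_q_pow_q hF, mul_comm]
  have hl1 : l ^ (q + 1) ≠ 0 := pow_ne_zero _ hl
  have hconj : ∀ c : F, (g : GL (Fin n) F) * utv q p c * (g : GL (Fin n) F)⁻¹
      = utv q p' (c * l ^ (q + 1)) := by
    intro c
    rw [conj_utv (g : GL (Fin n) F) hgU p hp c, hg, utv_smul p' hp']
  unfold Zgrp
  rw [MonoidHom.map_closure]
  congr 1
  ext h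
  constructor
  · rintro ⟨a, ⟨c, hc, hac⟩, rfl⟩
    refine ⟨c * l ^ (q + 1), ?_, ?_⟩
    · rw [mul_pow, hlq, ← add_mul, hc, zero_mul]
    · show ((g * a * g⁻¹ : SUg F n q) : GL (Fin n) F) = _
      rw [Subgroup.coe_mul, Subgroup.coe_mul, Subgroup.coe_inv, hac, hconj]
  · rintro ⟨c', hc', hh'⟩
    have hc : c' / l ^ (q + 1) + (c' / l ^ (q + 1)) ^ q = 0 := by
      rw [div_pow, hlq, ← add_div, hc', zero_div]
    refine ⟨⟨utv q p (c' / l ^ (q + 1)), utv_mem_suGL hF p hp _ hc⟩, ⟨_, hc, rfl⟩, ?_⟩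
    apply Subtype.ext
    show ((g * _ * g⁻¹ : SUg F n q) : GL (Fin n) F) = _
    rw [Subgroup.coe_mul, Subgroup.coe_mul, Subgroup.coe_inv, hh']
    show (g : GL (Fin n) F) * utv q p (c' / l ^ (q + 1)) * (g : GL (Fin n) F)⁻¹ = _
    rw [hconj, div_mul_cancel₀ _ hl1]

/-- the Siegel element `x ↦ x + h(x,p) s w₀ + t h(x,w₀) p` (`s = (-t)^q`), for `p`, `w₀` isotropic
and orthogonal -/
theorem cfixt_elem (hF : Fintype.card F = q ^ 2) {n : ℕ} (p w0 : Fin n → F)
    (hp : Cfsg.hermForm n F q p p = 0) (hwp : Cfsg.hermForm n F q w0 p = 0)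
    (hww : Cfsg.hermForm n F q w0 w0 = 0) (t : F) :
    ∃ g : SUg F n q, ∀ x : Fin n → F,
      Matrix.mulVec ((g : GL (Fin n) F) : Matrix (Fin n) (Fin n) F) x =
        x + Cfsg.hermForm n F q x p • (((-t) ^ q) • w0) + (t * Cfsg.hermForm n F q x w0) • p := by
  have hq0 : q ≠ 0 := by have := q_ge_two hF; omega
  have h1 : Cfsg.hermForm n F q (((-t) ^ q) • w0) p = 0 := by
    rw [hermForm_smul_left, hwp, mul_zero]
  have h2 : (0 : F) + (0 : F) ^ q + Cfsg.hermForm n F q (((-t) ^ q) • w0) (((-t) ^ q) • w0) = 0 := by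
    rw [hermForm_smul_left, hermForm_smul_right, hww, zero_pow hq0]
    ring
  refine ⟨⟨heis q p (((-t) ^ q) • w0) 0, heis_mem_suGL hF hp h1 h2⟩, ?_⟩
  intro x
  show Matrix.mulVec ((heis q p (((-t) ^ q) • w0) 0 : GL (Fin n) F) : Matrix (Fin n) (Fin n) F) x = _
  rw [heis_mulVec hF hp h1 h2, hermForm_smul_right, pow_q_pow_q hF, zero_smul, add_zero]
  ext i
  simp only [Pi.add_apply, Pi.sub_apply, Pi.smul_apply, smul_eq_mul]
  ring

/-- C-FIXT -/
theorem exists_conj_line (hF : Fintype.card F = q ^ 2) (n : ℕ) (hn : 4 ≤ n) (e f u u' : Fin n → F)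
    (hee : Cfsg.hermForm n F q e e = 0) (hff : Cfsg.hermForm n F q f f = 0)
    (hef : Cfsg.hermForm n F q e f = 1)
    (huu : Cfsg.hermForm n F q u u = 0) (hu'u' : Cfsg.hermForm n F q u' u' = 0)
    (huu' : Cfsg.hermForm n F q u u' = 1)
    (heu : Cfsg.hermForm n F q e u = 0) (heu' : Cfsg.hermForm n F q e u' = 0)
    (hfu : Cfsg.hermForm n F q f u = 0) (hfu' : Cfsg.hermForm n F q f u' = 0)
    (v v' : LinePt F) (hvv' : v.1.1 * v'.1.2 - v.1.2 * v'.1.1 ≠ 0) :
    ∃ g : SUg F n q, (Zgrp e).map (MulAut.conj g).toMonoidHom = Zgrp (v.1.1 • e + v.1.2 • u) ∧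
      (Zgrp u).map (MulAut.conj g).toMonoidHom = Zgrp (v'.1.1 • e + v'.1.2 • u) := by
  have hue : Cfsg.hermForm n F q u e = 0 := hermForm_eq_zero_comm hF heu
  have huf : Cfsg.hermForm n F q u f = 0 := hermForm_eq_zero_comm hF hfu
  have hu'e : Cfsg.hermForm n F q u' e = 0 := hermForm_eq_zero_comm hF heu'
  -- points of the line are isotropic
  have hiso : ∀ a b : F, Cfsg.hermForm n F q (a • e + b • u) (a • e + b • u) = 0 := by
    intro a b
    simp only [hermForm_add_left, hermForm_add_right hF, hermForm_smul_left, hermForm_smul_right,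
      hee, heu, hue, huu]
    ring
  -- the two families of elementary elements
  have hA : ∀ t : F, ∃ g : SUg F n q,
      Matrix.mulVec ((g : GL (Fin n) F) : Matrix (Fin n) (Fin n) F) e = e + t • u ∧
      Matrix.mulVec ((g : GL (Fin n) F) : Matrix (Fin n) (Fin n) F) u = u := by
    intro t
    obtain ⟨g, hg⟩ := cfixt_elem hF u f huu hfu hff t
    refine ⟨g, ?_, ?_⟩
    · rw [hg, heu, hef, zero_smul, add_zero, mul_one]
    · rw [hg, huu, huf, zero_smul, add_zero, mul_zero, zero_smul, add_zero]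
  have hB : ∀ t : F, ∃ g : SUg F n q,
      Matrix.mulVec ((g : GL (Fin n) F) : Matrix (Fin n) (Fin n) F) e = e ∧
      Matrix.mulVec ((g : GL (Fin n) F) : Matrix (Fin n) (Fin n) F) u = u + t • e := by
    intro t
    obtain ⟨g, hg⟩ := cfixt_elem hF e u' hee hu'e hu'u' t
    refine ⟨g, ?_, ?_⟩
    · rw [hg, hee, heu', zero_smul, add_zero, mul_zero, zero_smul, add_zero]
    · rw [hg, hue, huu', zero_smul, add_zero, mul_one]
  obtain ⟨⟨a, b⟩, hv⟩ := v
  obtain ⟨⟨a', b'⟩, hv'⟩ := v'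
  simp only at hvv' ⊢
  have hD : a * b' - b * a' ≠ 0 := hvv'
  by_cases hb : b = 0
  · -- `b = 0`: `g = B(a'/b')`
    subst hb
    have ha : a ≠ 0 := by
      intro h; apply hD; rw [h]; ring
    have hb' : b' ≠ 0 := by
      intro h; apply hD; rw [h]; ring
    obtain ⟨g, hge, hgu⟩ := hB (a' / b')
    refine ⟨g, ?_, ?_⟩
    · apply cfixt_map_Zgrp hF e _ hee (hiso a 0) g a⁻¹ (inv_ne_zero ha)
      rw [hge, smul_add, smul_smul, smul_smul, inv_mul_cancel₀ ha, one_smul, mul_zero, zero_smul,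
        add_zero]
    · apply cfixt_map_Zgrp hF u _ huu (hiso a' b') g b'⁻¹ (inv_ne_zero hb')
      rw [hgu, smul_add, smul_smul, smul_smul, inv_mul_cancel₀ hb', one_smul, add_comm]
      congr 2
      field_simp
  · -- `b ≠ 0`: `g = B(t) * A(b) * B(r)`
    obtain ⟨g1, hg1e, hg1u⟩ := hB ((a - 1) / b)
    obtain ⟨g2, hg2e, hg2u⟩ := hA b
    obtain ⟨g3, hg3e, hg3u⟩ := hB ((a' - (a - 1) / b * b') / (a * b' - b * a'))
    have hmul : ∀ x : Fin n → F,
        Matrix.mulVec (((g1 * g2 * g3 : SUg F n q) : GL (Fin n) F) : Matrix (Fin n) (Fin n) F) x =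
          Matrix.mulVec ((g1 : GL (Fin n) F) : Matrix (Fin n) (Fin n) F)
            (Matrix.mulVec ((g2 : GL (Fin n) F) : Matrix (Fin n) (Fin n) F)
              (Matrix.mulVec ((g3 : GL (Fin n) F) : Matrix (Fin n) (Fin n) F) x)) := by
      intro x
      rw [Subgroup.coe_mul, Subgroup.coe_mul, Units.val_mul, Units.val_mul,
        ← Matrix.mulVec_mulVec, ← Matrix.mulVec_mulVec]
    refine ⟨g1 * g2 * g3, ?_, ?_⟩
    · apply cfixt_map_Zgrp hF e _ hee (hiso a b) _ 1 one_ne_zero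
      simp only [hmul, hg3e, hg3u, hg2e, hg2u, hg1e, hg1u, Matrix.mulVec_add, Matrix.mulVec_smul,
        one_smul]
      ext i
      simp only [Pi.add_apply, Pi.smul_apply, smul_eq_mul]
      field_simp
      ring
    · apply cfixt_map_Zgrp hF u _ huu (hiso a' b') _ (a * b' - b * a')⁻¹ (inv_ne_zero hD)
      simp only [hmul, hg3e, hg3u, hg2e, hg2u, hg1e, hg1u, Matrix.mulVec_add, Matrix.mulVec_smul]
      ext i
      simp only [Pi.add_apply, Pi.smul_apply, smul_eq_mul]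
      field_simp
      ring

end concrete

end Cfsg.Agent.Lib.Helper6.Ls
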