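import Mathlib
import Cfsg.Agent.Lib.Helper99.MBalField
import Cfsg.Agent.Lib.Helper37.MBalGlue1
import Cfsg.Agent.Lib.Helper37.GraphInvMinus
import Cfsg.Agent.S2696

/-!
# S2733: the dispatch (field branch proved, graph branch as a hypothesis)
-/

set_option autoImplicit false
set_option linter.unusedSectionVars false
set_option linter.unusedVariables false
set_option linter.style.haveILetI false
set_option maxHeartbeats 1600000

namespace Cfsg.Agent.Lib.Helper99.MBF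

open Matrix Module QuadraticMap
open Cfsg.Agent.Lib.Helper37 Cfsg.Agent.Lib.Helper37.OrthField Cfsg.Agent.Lib.Helper8
open Cfsg.Agent.Lib.Helper45.Balance
open Cfsg.Agent.Lib.Helper43 Cfsg.Agent.Lib.Helper37.MBal

universe u

variable {m : ℕ} {F : Type u} [Field F] [Fintype F]

/-- the automorphism theorem for all minus type forms, from S2696 -/
theorem minus_autSemi (hm : 3 ≤ m) (a' b' : F)
    (hab' : ∀ z₁ z₂ : F, z₁ ^ 2 + a' * z₁ * z₂ + b' * z₂ ^ 2 = 0 → z₁ = 0 ∧ z₂ = 0) :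
    AutSemi ⇑(minusForm m F a' b') := by
  have h := autSemi_of_raw _ (raw_of_gamma_eq_top _ (Cfsg.Agent.S2696.result hm a' b' hab'))
  rw [minusForm_coe] at h
  exact h

/-- **dispatch** for S2733 in `minusForm` coordinates: the field branch is proved here, the graph
branch (`x = Phi g` with `g` a similarity not preserving the classes) is the hypothesis `hgraph` -/
theorem minus_balance_dispatch {r : ℕ} [Fact r.Prime] [CharP F r] (hm : 3 ≤ m) (a b : F)
    (hab : ∀ z₁ z₂ : F, z₁ ^ 2 + a * z₁ * z₂ + b * z₂ ^ 2 = 0 → z₁ = 0 ∧ z₂ = 0)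
    (hK : IsSimpleGroup (Cfsg.POmega F ⇑(minusForm m F a b)))
    (A : Subgroup (MulAut (Cfsg.POmega F ⇑(minusForm m F a b))))
    (hinn : ∀ k : Cfsg.POmega F ⇑(minusForm m F a b), MulAut.conj k ∈ A)
    {p : ℕ} [Fact p.Prime] (hpr : p ≠ r)
    (x : MulAut (Cfsg.POmega F ⇑(minusForm m F a b))) (hord : orderOf x = p)
    (hnot : ¬ ∃ g : GL ((Fin m ⊕ Fin m) ⊕ Fin 2) F,
      g ∈ Cfsg.Geo.quadSimilarityGroup (F := F) ⇑(minusForm m F a b) ∧
      Cfsg.PreservesSingularClassesMinus m a b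
        (g : Matrix ((Fin m ⊕ Fin m) ⊕ Fin 2) ((Fin m ⊕ Fin m) ⊕ Fin 2) F) ∧
      Cfsg.IsInducedBySemilinearPOmega ⇑(minusForm m F a b) g (RingEquiv.refl F) x)
    (hgraph : ∀ g : ↥(Cfsg.Geo.quadSimilarityGroup (F := F) ⇑(minusForm m F a b)),
      x = Phi ⇑(minusForm m F a b) g →
      ¬ Cfsg.PreservesSingularClassesMinus m a b
        ((g.1 : GL ((Fin m ⊕ Fin m) ⊕ Fin 2) F) :
          Matrix ((Fin m ⊕ Fin m) ⊕ Fin 2) ((Fin m ⊕ Fin m) ⊕ Fin 2) F) →
      Cfsg.pPrimeCore p ↥(A ⊓ Subgroup.centralizer {x}) = ⊥) :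
    Cfsg.pPrimeCore p ↥(A ⊓ Subgroup.centralizer {x}) ≠ ⊥ ↔
      ((∃ (a' b' : F) (ψ : Cfsg.POmega F ⇑(minusForm m F a b) ≃*
          Cfsg.POmega F (Cfsg.quadFormMinus m F a' b')) (σ : F ≃+* F),
        (∀ z₁ z₂ : F, z₁ ^ 2 + a' * z₁ * z₂ + b' * z₂ ^ 2 = 0 → z₁ = 0 ∧ z₂ = 0) ∧
        σ ≠ RingEquiv.refl F ∧ σ a' = a' ∧ σ b' = b' ∧
        Cfsg.IsFieldAutPOmegaOf (Cfsg.quadFormMinus m F a' b') σ ((ψ.symm.trans x).trans ψ)) ∧
      Nat.Coprime p (Nat.card ↥(MonoidHom.eqLocus x.toMonoidHom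
        (MonoidHom.id (Cfsg.POmega F ⇑(minusForm m F a b)))))) := by
  classical
  have hpP : p.Prime := Fact.out
  haveI : Nonempty ((Fin m ⊕ Fin m) ⊕ Fin 2) := ⟨Sum.inr 0⟩
  have hn : finrank F ((Fin m ⊕ Fin m) ⊕ Fin 2 → F) = 2 * (m + 1) := minus_hV
  have hcard : Fintype.card F ≠ 2 ∨ finrank F ((Fin m ⊕ Fin m) ⊕ Fin 2 → F) ≠ 4 :=
    Or.inr (by rw [hn]; omega)
  have hn5 : 5 ≤ finrank F ((Fin m ⊕ Fin m) ⊕ Fin 2 → F) := by rw [hn]; omega
  have hn2 : (2 : F) = 0 → 7 ≤ finrank F ((Fin m ⊕ Fin m) ⊕ Fin 2 → F) :=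
    fun _ => by rw [hn]; omega
  have hnd : (polarBilin (minusForm m F a b)).Nondegenerate :=
    (minus_family m F a b).nondegenerate (minusForm_zero_nondegenerate F a b hab)
  have hAut : ∀ a' b' : F,
      (∀ z₁ z₂ : F, z₁ ^ 2 + a' * z₁ * z₂ + b' * z₂ ^ 2 = 0 → z₁ = 0 ∧ z₂ = 0) →
      AutSemi ⇑(minusForm m F a' b') := fun a' b' hab' => minus_autSemi hm a' b' hab'
  obtain ⟨px, hpx⟩ := hAut a b hab x
  have hxp : (Psi ⇑(minusForm m F a b) px) ^ p = 1 := by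
    rw [← hpx, ← hord]; exact pow_orderOf_eq_one x
  by_cases hσ : px.1.right = 1
  · -- the graph branch
    have hxPhi : x = Phi ⇑(minusForm m F a b)
        ⟨px.1.left, mem_sim_of_right_eq_one ⇑(minusForm m F a b) px hσ⟩ := by
      rw [hpx, ← Psi_simToSemi]
      exact congrArg _ (eq_simToSemi_of_right_eq_one ⇑(minusForm m F a b) px hσ)
    have hnp : ¬ Cfsg.PreservesSingularClassesMinus m a b
        ((px.1.left : GL ((Fin m ⊕ Fin m) ⊕ Fin 2) F) :
          Matrix ((Fin m ⊕ Fin m) ⊕ Fin 2) ((Fin m ⊕ Fin m) ⊕ Fin 2) F) := by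
      intro hpres
      apply hnot
      refine ⟨px.1.left, mem_sim_of_right_eq_one ⇑(minusForm m F a b) px hσ, hpres, ?_⟩
      have := (isInduced_iff_Psi _ px x).2 hpx
      rw [hσ] at this
      exact this
    have hbot := hgraph _ hxPhi hnp
    constructor
    · intro h
      exact absurd hbot h
    · rintro ⟨hfc, -⟩
      exfalso
      obtain ⟨p', hp', hp'r⟩ := minus_class_pair hm a b hab hAut x hfc
      rw [hpx] at hp'
      have := right_eq_of_Psi_eq (minusForm m F a b) hnd (minus_hypFam37 m F a b) hm hcard hn5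
        hn2 _ _ hp'
      exact hp'r (this ▸ hσ)
  · -- the field branch
    have hpodd : Odd p := by
      rcases hpP.eq_two_or_odd' with h2 | h2
      · exfalso
        subst h2
        have hr2 : r ≠ 2 := fun h => hpr h.symm
        have hoddq : Odd (Fintype.card F) := by
          obtain ⟨n, -, hn'⟩ := FiniteField.card F r
          rw [hn']
          exact Odd.pow ((Fact.out : r.Prime).odd_of_ne_two hr2)
        exact hσ (minus_right_eq_one hoddq hm a b hab px hxp)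
      · exact h2
    obtain ⟨hfc, L, hgood⟩ := MBal.minus_field_good hpodd hm a b hab hAut px hσ hxp
    rw [← hpx] at hfc hgood
    have hperf : commutator ↥(Cfsg.Omega F ⇑(minusForm m F a b)) = ⊤ :=
      commutator_omega_eq_top (minusForm m F a b) hnd hn5 hn2
    haveI := hK
    have hZ := pomega_conj_injective ⇑(minusForm m F a b) hperf
    have hxInn : x ∉ Cfsg.Inn (Cfsg.POmega F ⇑(minusForm m F a b)) := by
      intro hxI
      rw [inn_eq] at hxI
      obtain ⟨g, -, hg⟩ := hxI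
      rw [hpx, ← Psi_simToSemi] at hg
      have := right_eq_of_Psi_eq (minusForm m F a b) hnd (minus_hypFam37 m F a b) hm hcard hn5
        hn2 _ _ hg
      rw [simToSemi_right] at this
      exact hσ this.symm
    have hiff := hgood.core_ne_bot_iff hZ A hinn hord hxInn
    rw [hiff]
    exact ⟨fun h => ⟨hfc, h⟩, fun h => h.2⟩

end Cfsg.Agent.Lib.Helper99.MBF

namespace Cfsg.Agent.Lib.Helper99.MBF

open Matrix Module QuadraticMap
open Cfsg.Agent.Lib.Helper37 Cfsg.Agent.Lib.Helper37.OrthField Cfsg.Agent.Lib.Helper8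
open Cfsg.Agent.Lib.Helper45.Balance
open Cfsg.Agent.Lib.Helper43 Cfsg.Agent.Lib.Helper37.MBal

universe u

variable {m : ℕ} {F : Type u} [Field F] [Fintype F]

/-- S2733, with the graph branch as a hypothesis (in `minusForm` coordinates) -/
theorem minus_balance_main {r : ℕ} [Fact r.Prime] [CharP F r] (hm : 3 ≤ m) (a b : F)
    (hab : ∀ z₁ z₂ : F, z₁ ^ 2 + a * z₁ * z₂ + b * z₂ ^ 2 = 0 → z₁ = 0 ∧ z₂ = 0)
    (hK : IsSimpleGroup (Cfsg.POmega F (Cfsg.quadFormMinus m F a b)))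
    (A : Subgroup (MulAut (Cfsg.POmega F (Cfsg.quadFormMinus m F a b))))
    (hinn : ∀ k : Cfsg.POmega F (Cfsg.quadFormMinus m F a b), MulAut.conj k ∈ A)
    {p : ℕ} [Fact p.Prime] (hpr : p ≠ r)
    (x : MulAut (Cfsg.POmega F (Cfsg.quadFormMinus m F a b))) (hord : orderOf x = p)
    (hnot : ¬ Cfsg.IsInnerDiagonalAutPOmegaMinus m a b x)
    (hgraph : IsSimpleGroup (Cfsg.POmega F ⇑(minusForm m F a b)) →
      ∀ (A' : Subgroup (MulAut (Cfsg.POmega F ⇑(minusForm m F a b))))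
        (_ : ∀ k : Cfsg.POmega F ⇑(minusForm m F a b), MulAut.conj k ∈ A')
        (g : ↥(Cfsg.Geo.quadSimilarityGroup (F := F) ⇑(minusForm m F a b))),
        orderOf (Phi ⇑(minusForm m F a b) g) = p →
        ¬ Cfsg.PreservesSingularClassesMinus m a b
          ((g.1 : GL ((Fin m ⊕ Fin m) ⊕ Fin 2) F) :
            Matrix ((Fin m ⊕ Fin m) ⊕ Fin 2) ((Fin m ⊕ Fin m) ⊕ Fin 2) F) →
        Cfsg.pPrimeCore p ↥(A' ⊓ Subgroup.centralizer {Phi ⇑(minusForm m F a b) g}) = ⊥) :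
    Cfsg.pPrimeCore p ↥(A ⊓ Subgroup.centralizer {x}) ≠ ⊥ ↔
      (Cfsg.IsFieldAutClassPOmegaMinus m x ∧ Nat.Coprime p (Nat.card ↥(MonoidHom.eqLocus
        x.toMonoidHom (MonoidHom.id (Cfsg.POmega F (Cfsg.quadFormMinus m F a b)))))) := by
  have key : ∀ (Qf : ((Fin m ⊕ Fin m) ⊕ Fin 2 → F) → F), Qf = ⇑(minusForm m F a b) →
      ∀ (hK : IsSimpleGroup (Cfsg.POmega F Qf)) (A : Subgroup (MulAut (Cfsg.POmega F Qf)))
        (hinn : ∀ k : Cfsg.POmega F Qf, MulAut.conj k ∈ A)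
        (x : MulAut (Cfsg.POmega F Qf)) (hord : orderOf x = p)
        (hnot : ¬ ∃ g : GL ((Fin m ⊕ Fin m) ⊕ Fin 2) F,
          g ∈ Cfsg.Geo.quadSimilarityGroup (F := F) Qf ∧
          Cfsg.PreservesSingularClassesMinus m a b
            (g : Matrix ((Fin m ⊕ Fin m) ⊕ Fin 2) ((Fin m ⊕ Fin m) ⊕ Fin 2) F) ∧
          Cfsg.IsInducedBySemilinearPOmega Qf g (RingEquiv.refl F) x),
        Cfsg.pPrimeCore p ↥(A ⊓ Subgroup.centralizer {x}) ≠ ⊥ ↔
          ((∃ (a' b' : F) (ψ : Cfsg.POmega F Qf ≃*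
              Cfsg.POmega F (Cfsg.quadFormMinus m F a' b')) (σ : F ≃+* F),
            (∀ z₁ z₂ : F, z₁ ^ 2 + a' * z₁ * z₂ + b' * z₂ ^ 2 = 0 → z₁ = 0 ∧ z₂ = 0) ∧
            σ ≠ RingEquiv.refl F ∧ σ a' = a' ∧ σ b' = b' ∧
            Cfsg.IsFieldAutPOmegaOf (Cfsg.quadFormMinus m F a' b') σ
              ((ψ.symm.trans x).trans ψ)) ∧
          Nat.Coprime p (Nat.card ↥(MonoidHom.eqLocus x.toMonoidHom
            (MonoidHom.id (Cfsg.POmega F Qf))))) := by
    intro Qf hQf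
    subst hQf
    intro hK A hinn x hord hnot
    apply minus_balance_dispatch hm a b hab hK A hinn hpr x hord hnot
    intro g hxg hnp
    subst hxg
    exact hgraph hK A hinn g hord hnp
  exact key _ (minusForm_coe m F a b) hK A hinn x hord hnot

end Cfsg.Agent.Lib.Helper99.MBF
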