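import Cfsg.Agent.Lib.Helper99.NPair1

set_option autoImplicit false

/-!
Stabilizer of an orthogonal decomposition `V = X ⟂ Y` into two nondegenerate subspaces in `Ω`:
spreading from a bad root group.
-/

namespace Cfsg.Agent.Lib.Helper99

open Matrix Module QuadraticMap
open Cfsg.Agent.Lib.Helper8 Cfsg.Agent.Lib.Helper13 Cfsg.Agent.Lib.Helper37

section npair2

variable {ι : Type} [Fintype ι] [DecidableEq ι] {F : Type*} [Field F]

/-- a root group of a line joining a singular point of `X` to a point of `Y` -/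
def AlphaCfg (Q : QuadraticForm F (ι → F)) (hQ : (QuadraticMap.polarBilin Q).Nondegenerate)
    (M : Subgroup ↥(Cfsg.isometryGroup F ⇑Q)) (X Y : Submodule F (ι → F)) : Prop :=
  ∃ x ∈ X, x ≠ 0 ∧ Q x = 0 ∧ ∃ y ∈ Y, y ≠ 0 ∧ orootLine Q hQ M x y

variable {Q : QuadraticForm F (ι → F)} {hQ : (QuadraticMap.polarBilin Q).Nondegenerate}
variable {M : Subgroup ↥(Cfsg.isometryGroup F ⇑Q)} {X Y X' Y' : Submodule F (ι → F)}

theorem NPair.orootLine_proj (P : NPair Q hQ M X Y) {a v vX vY : ι → F} (ha : a ∈ X)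
    (hvX : vX ∈ X) (hvY : vY ∈ Y) (hv : vX + vY = v) (hav : polar ⇑Q a v = 0)
    (h : orootLine Q hQ M a v) : orootLine Q hQ M a vY := by
  intro c hu huv
  have havY : polar ⇑Q a vY = 0 := P.orth a ha vY hvY
  have havX : polar ⇑Q a vX = 0 := by
    rw [← hv, polar_add_right, havY, add_zero] at hav
    exact hav
  have h1 : polar ⇑Q a (c • v) = 0 := by rw [polar_smul_right, hav, smul_zero]
  have h2 : polar ⇑Q a ((-c) • vX) = 0 := by rw [polar_smul_right, havX, smul_zero]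
  have e := eichlerElt_mul Q hQ a (c • v) ((-c) • vX) hu h1 h2
  have e' : eichlerElt Q hQ a (c • vY) hu huv = eichlerElt Q hQ a (c • v + (-c) • vX) hu
      (by rw [polar_add_right, h1, h2, add_zero]) := by
    apply eichlerElt_congr Q hQ _ _ _ _ _ _ _ _ rfl
    rw [← hv]
    module
  rw [e', ← e]
  exact M.mul_mem (h c hu h1) (P.base a ha _ (X.smul_mem _ hvX) hu h2)

theorem NPair.alpha_of_mem (P : NPair Q hQ M X Y) {x v : ι → F} (hx : x ∈ X) (hx0 : x ≠ 0)
    (hQx : Q x = 0) (hxv : polar ⇑Q x v = 0) (hR : orootLine Q hQ M x v) (hvX : v ∉ X) :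
    AlphaCfg Q hQ M X Y := by
  obtain ⟨vX, hvX', vY, hvY, hv⟩ := P.sum v
  refine ⟨x, hx, hx0, hQx, vY, hvY, ?_, P.orootLine_proj hx hvX' hvY hv hxv hR⟩
  rintro rfl
  apply hvX
  rw [← hv, add_zero]
  exact hvX'

/-- a bad root group gives a root group of a mixed line based at a singular point of a part -/
theorem NPair.alpha_of_bad [Finite F] (P : NPair Q hQ M X Y) (hX : 6 ≤ finrank F X)
    {a v : ι → F} (ha0 : a ≠ 0) (hQa : Q a = 0) (hQv : Q v = 0) (hav : polar ⇑Q a v = 0)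
    (hind : v ∉ Submodule.span F {a}) (hR : orootLine Q hQ M a v)
    (hbad : ¬ ((a ∈ X ∧ v ∈ X) ∨ (a ∈ Y ∧ v ∈ Y))) :
    AlphaCfg Q hQ M X Y ∨ AlphaCfg Q hQ M Y X := by
  by_cases haX : a ∈ X
  · left
    exact P.alpha_of_mem haX ha0 hQa hav hR (fun hvX => hbad (Or.inl ⟨haX, hvX⟩))
  obtain ⟨aX, haX', aY, haY, hasum⟩ := P.sum a
  obtain ⟨vX, hvX, vY, hvY, hvsum⟩ := P.sum v
  by_cases hdep : vX ∈ Submodule.span F {aX}
  · right
    obtain ⟨c, hc⟩ := Submodule.mem_span_singleton.1 hdep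
    have hxdef : ∃ x : ι → F, x = v + (-c) • a := ⟨_, rfl⟩
    obtain ⟨x, hx⟩ := hxdef
    have hxY : x ∈ Y := by
      have : x = vY + (-c) • aY := by
        rw [hx, ← hvsum, ← hasum, ← hc]
        module
      rw [this]
      exact Y.add_mem hvY (Y.smul_mem _ haY)
    have hvx : v = x + c • a := by
      rw [hx]
      module
    have hx0 : x ≠ 0 := by
      intro h
      apply hind
      rw [Submodule.mem_span_singleton]
      refine ⟨c, ?_⟩
      rw [hvx, h, zero_add]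
    have hQx : Q x = 0 := by
      have := quad_expand Q v a a (-c) 0
      rw [zero_smul, add_zero] at this
      rw [hx, this, hQv, hQa, polar_comm ⇑Q v a, hav]
      ring
    have hax : polar ⇑Q a x = 0 := by
      rw [hx, polar_add_right, polar_smul_right, hav, polar_self, hQa]
      simp
    have hR1 : orootLine Q hQ M a x := by
      intro c' hu huv
      have h1 : polar ⇑Q a (c' • v) = 0 := by rw [polar_smul_right, hav, smul_zero]
      have e := eichlerElt_add_smul Q hQ a (c' • v) hu h1 (c' * (-c))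
      rw [eichlerElt_congr Q hQ a (c' • x) a (c' • v + (c' * -c) • a) hu huv hu
        (by rw [polar_add_right, h1, polar_smul_right, polar_self, hQa]; simp) rfl
        (by rw [hx]; module), e]
      exact hR c' hu h1
    have hR2 : orootLine Q hQ M x a := orootLine_swap hQa hQx hax hR1
    have haY' : a ∉ Y := by
      intro haY''
      apply hbad
      right
      refine ⟨haY'', ?_⟩
      rw [hvx]
      exact Y.add_mem hxY (Y.smul_mem _ haY'')
    exact P.symm.alpha_of_mem hxY hx0 hQx (by rw [polar_comm]; exact hax) hR2 haY'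
  · left
    have hS : Submodule.span F {aX} ≤ X := by
      rw [Submodule.span_le]
      intro z hz
      rw [Set.mem_singleton_iff] at hz
      rw [hz]
      exact haX'
    obtain ⟨w', hw'X, hw'S, hw'v⟩ := P.exists_dual _ hS vX hvX hdep
    have haXw' : polar ⇑Q aX w' = 0 := hw'S aX (Submodule.subset_span rfl)
    obtain ⟨e, he, he0, hQe, hpe⟩ := exists_singular_perp Q [aX, vX, w'] X (by simpa using hX)
    have h_aX_e : polar ⇑Q aX e = 0 := hpe aX (by simp)
    have h_vX_e : polar ⇑Q vX e = 0 := hpe vX (by simp)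
    have h_w'_e : polar ⇑Q w' e = 0 := hpe w' (by simp)
    have hae : polar ⇑Q a e = 0 := by
      rw [← hasum, polar_add_left, h_aX_e, polar_comm ⇑Q aY e, P.orth e he aY haY, add_zero]
    have hev : polar ⇑Q e v = 0 := by
      rw [← hvsum, polar_add_right, polar_comm ⇑Q e vX, h_vX_e, P.orth e he vY hvY, add_zero]
    have haw' : polar ⇑Q a w' = 0 := by
      rw [← hasum, polar_add_left, haXw', polar_comm ⇑Q aY w', P.orth w' hw'X aY haY, add_zero]
    have hew' : polar ⇑Q e w' = 0 := by rw [polar_comm]; exact h_w'_e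
    have hne : polar ⇑Q w' v ≠ 0 := by
      rw [← hvsum, polar_add_right, P.orth w' hw'X vY hvY, add_zero, polar_comm]
      exact hw'v
    have hR1 : orootLine Q hQ M a e :=
      orootLine_comm hQa hQe hae hav hev haw' hew' hne hR (P.base e he w' hw'X hQe hew')
    have hR2 : orootLine Q hQ M e a := orootLine_swap hQa hQe hae hR1
    exact P.alpha_of_mem he he0 hQe (by rw [polar_comm]; exact hae) hR2 haX

/-- the vectors `y ∈ Y` such that the root group of `⟨x, y⟩` lies in `M` -/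
def rootSub (Q : QuadraticForm F (ι → F)) (hQ : (QuadraticMap.polarBilin Q).Nondegenerate)
    (M : Subgroup ↥(Cfsg.isometryGroup F ⇑Q)) (x : ι → F) (Y : Submodule F (ι → F))
    (hxY : ∀ y ∈ Y, polar ⇑Q x y = 0) : Submodule F (ι → F) where
  carrier := {y | y ∈ Y ∧ orootLine Q hQ M x y}
  zero_mem' := ⟨Y.zero_mem, fun c hu huv => by
    rw [eichlerElt_congr Q hQ x (c • 0) x 0 hu huv hu (by simp) rfl (smul_zero c),
      eichlerElt_zero]
    exact M.one_mem⟩
  add_mem' := by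
    rintro y₁ y₂ ⟨h1, h1'⟩ ⟨h2, h2'⟩
    refine ⟨Y.add_mem h1 h2, fun c hu huv => ?_⟩
    have e1 : polar ⇑Q x (c • y₁) = 0 := by rw [polar_smul_right, hxY y₁ h1, smul_zero]
    have e2 : polar ⇑Q x (c • y₂) = 0 := by rw [polar_smul_right, hxY y₂ h2, smul_zero]
    rw [eichlerElt_congr Q hQ x (c • (y₁ + y₂)) x (c • y₁ + c • y₂) hu huv hu
      (by rw [polar_add_right, e1, e2, add_zero]) rfl (smul_add c y₁ y₂),
      ← eichlerElt_mul Q hQ x (c • y₁) (c • y₂) hu e1 e2]
    exact M.mul_mem (h1' c hu e1) (h2' c hu e2)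
  smul_mem' := by
    rintro t y ⟨h1, h1'⟩
    refine ⟨Y.smul_mem t h1, fun c hu huv => ?_⟩
    have e1 : polar ⇑Q x ((c * t) • y) = 0 := by rw [polar_smul_right, hxY y h1, smul_zero]
    rw [eichlerElt_congr Q hQ x (c • t • y) x ((c * t) • y) hu huv hu e1 rfl (smul_smul c t y)]
    exact h1' (c * t) hu e1

theorem mem_rootSub (x : ι → F) (hxY : ∀ y ∈ Y, polar ⇑Q x y = 0) (y : ι → F) :
    y ∈ rootSub Q hQ M x Y hxY ↔ y ∈ Y ∧ orootLine Q hQ M x y := Iff.rfl

theorem NPair.rootSub_invariant (P : NPair Q hQ M X Y) {x : ι → F} (hx : x ∈ X)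
    (hQx : Q x = 0) {u w y : ι → F} (hu : u ∈ Y) (hw : w ∈ Y) (hQu : Q u = 0)
    (huw : polar ⇑Q u w = 0) (hy : y ∈ rootSub Q hQ M x Y (P.orth x hx)) :
    y + polar ⇑Q u y • w - polar ⇑Q w y • u - (Q w * polar ⇑Q u y) • u
      ∈ rootSub Q hQ M x Y (P.orth x hx) := by
  obtain ⟨hyY, hyR⟩ := hy
  refine ⟨?_, ?_⟩
  · exact Y.sub_mem (Y.sub_mem (Y.add_mem hyY (Y.smul_mem _ hw)) (Y.smul_mem _ hu))
      (Y.smul_mem _ hu)
  · intro c hu' huv'
    have hgM : eichlerElt Q hQ u w hQu huw ∈ M := P.base' u hu w hw hQu huw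
    have hxy : polar ⇑Q x (c • y) = 0 := by
      rw [polar_smul_right, P.orth x hx y hyY, smul_zero]
    have h1 := conj_eichlerElt Q hQ (eichlerElt Q hQ u w hQu huw) x (c • y) hQx hxy
    have hux : polar ⇑Q u x = 0 := by rw [polar_comm]; exact P.orth x hx u hu
    have hwx : polar ⇑Q w x = 0 := by rw [polar_comm]; exact P.orth x hx w hw
    have hgx : (((eichlerElt Q hQ u w hQu huw : ↥(Cfsg.isometryGroup F ⇑Q)) :
        Matrix.GeneralLinearGroup ι F) : Matrix ι ι F) *ᵥ x = x := by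
      rw [eichlerElt_mulVec, hux, hwx]
      simp
    have hgy : (((eichlerElt Q hQ u w hQu huw : ↥(Cfsg.isometryGroup F ⇑Q)) :
        Matrix.GeneralLinearGroup ι F) : Matrix ι ι F) *ᵥ (c • y)
        = c • (y + polar ⇑Q u y • w - polar ⇑Q w y • u - (Q w * polar ⇑Q u y) • u) := by
      rw [eichlerElt_mulVec, polar_smul_right, polar_smul_right]
      simp only [smul_eq_mul]
      module
    rw [eichlerElt_congr Q hQ x _ _ _ hu' huv' (by rw [hgx]; exact hQx)
      (by rw [hgx, hgy]; exact huv') hgx.symm hgy.symm, ← h1]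
    exact M.mul_mem (M.mul_mem hgM (hyR c hQx hxy)) (M.inv_mem hgM)

/-- irreducibility: the root subspace is everything once it is nonzero -/
theorem NPair.rootSub_eq [Finite F] (P : NPair Q hQ M X Y) (hY : 3 ≤ finrank F Y) {x : ι → F}
    (hx : x ∈ X) (hQx : Q x = 0) {y : ι → F} (hy : y ∈ rootSub Q hQ M x Y (P.orth x hx))
    (hy0 : y ≠ 0) : ∀ y' ∈ Y, y' ∈ rootSub Q hQ M x Y (P.orth x hx) := by
  have hyY : y ∈ Y := hy.1
  -- a singular vector of `Y` not orthogonal to `y`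
  have hu_ex : ∃ u ∈ Y, Q u = 0 ∧ polar ⇑Q u y ≠ 0 := by
    obtain ⟨e, he, he0, hQe⟩ := exists_singular_sub Q Y hY
    obtain ⟨f, hf, hQf, hef⟩ := P.symm.exists_partner he he0 hQe
    obtain ⟨y', hy', hyy'⟩ := P.symm.exists_polar_ne hyY hy0
    obtain ⟨s, hs, hQs, α, β, rfl⟩ := P.symm.exists_singular_decomp he hf hQe hQf hef y' hy'
    by_contra hcon
    push Not at hcon
    apply hyy'
    rw [polar_add_right, polar_add_right, polar_smul_right, polar_smul_right, polar_comm ⇑Q y s,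
      hcon s hs hQs, polar_comm ⇑Q y e, hcon e he hQe, polar_comm ⇑Q y f, hcon f hf hQf]
    simp
  obtain ⟨u, hu, hQu, huy⟩ := hu_ex
  have hu0 : u ≠ 0 := by
    rintro rfl
    exact huy (polar_zero_left _ _)
  obtain ⟨fu, hfu, hQfu, hufu⟩ := P.symm.exists_partner hu hu0 hQu
  -- the difference vectors
  have hd : ∀ w ∈ Y, polar ⇑Q u w = 0 →
      polar ⇑Q u y • w - (polar ⇑Q w y + Q w * polar ⇑Q u y) • u
        ∈ rootSub Q hQ M x Y (P.orth x hx) := by
    intro w hw huw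
    have h1 := P.rootSub_invariant hx hQx hu hw hQu huw hy
    have h2 := Submodule.sub_mem _ h1 hy
    have e : y + polar ⇑Q u y • w - polar ⇑Q w y • u - (Q w * polar ⇑Q u y) • u - y
        = polar ⇑Q u y • w - (polar ⇑Q w y + Q w * polar ⇑Q u y) • u := by module
    rw [e] at h2
    exact h2
  -- `u` lies in the root subspace
  obtain ⟨w₁, hw₁, hw₁0, hpw₁⟩ := exists_ne_zero_perp Q [u, fu] Y (by simpa using hY)
  have huw₁ : polar ⇑Q u w₁ = 0 := hpw₁ u (by simp)
  have hfuw₁ : polar ⇑Q fu w₁ = 0 := hpw₁ fu (by simp)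
  obtain ⟨w, hw, hw₁w⟩ := P.symm.exists_polar_ne hw₁ hw₁0
  have hw₂def : ∃ w₂ : ι → F, w₂ = w + (-(polar ⇑Q u w)) • fu := ⟨_, rfl⟩
  obtain ⟨w₂, hw₂⟩ := hw₂def
  have hw₂Y : w₂ ∈ Y := by
    rw [hw₂]
    exact Y.add_mem hw (Y.smul_mem _ hfu)
  have huw₂ : polar ⇑Q u w₂ = 0 := by
    rw [hw₂, polar_add_right, polar_smul_right, hufu]
    simp
  have hw₁w₂ : polar ⇑Q w₁ w₂ ≠ 0 := by
    rw [hw₂, polar_add_right, polar_smul_right, polar_comm ⇑Q w₁ fu, hfuw₁, smul_zero, add_zero]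
    exact hw₁w
  have huR : u ∈ rootSub Q hQ M x Y (P.orth x hx) := by
    have h12 := hd (w₁ + w₂) (Y.add_mem hw₁ hw₂Y) (by rw [polar_add_right, huw₁, huw₂, add_zero])
    have h1 := hd w₁ hw₁ huw₁
    have h2 := hd w₂ hw₂Y huw₂
    have h3 := Submodule.sub_mem _ (Submodule.sub_mem _ h12 h1) h2
    have e : polar ⇑Q u y • (w₁ + w₂)
          - (polar ⇑Q (w₁ + w₂) y + Q (w₁ + w₂) * polar ⇑Q u y) • u
          - (polar ⇑Q u y • w₁ - (polar ⇑Q w₁ y + Q w₁ * polar ⇑Q u y) • u)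
          - (polar ⇑Q u y • w₂ - (polar ⇑Q w₂ y + Q w₂ * polar ⇑Q u y) • u)
        = (-(polar ⇑Q w₁ w₂ * polar ⇑Q u y)) • u := by
      rw [polar_add_left, QuadraticMap.map_add Q w₁ w₂]
      module
    rw [e] at h3
    have hne : -(polar ⇑Q w₁ w₂ * polar ⇑Q u y) ≠ 0 := neg_ne_zero.2 (mul_ne_zero hw₁w₂ huy)
    have h4 := Submodule.smul_mem _ (-(polar ⇑Q w₁ w₂ * polar ⇑Q u y))⁻¹ h3
    rwa [smul_smul, inv_mul_cancel₀ hne, one_smul] at h4
  -- all of `u^⊥ ∩ Y`
  have hperp : ∀ w ∈ Y, polar ⇑Q u w = 0 → w ∈ rootSub Q hQ M x Y (P.orth x hx) := by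
    intro w hw huw
    have h1 := hd w hw huw
    have h2 := Submodule.add_mem _ h1
      (Submodule.smul_mem _ (polar ⇑Q w y + Q w * polar ⇑Q u y) huR)
    have e : polar ⇑Q u y • w - (polar ⇑Q w y + Q w * polar ⇑Q u y) • u
        + (polar ⇑Q w y + Q w * polar ⇑Q u y) • u = polar ⇑Q u y • w := by module
    rw [e] at h2
    have h4 := Submodule.smul_mem _ (polar ⇑Q u y)⁻¹ h2
    rwa [smul_smul, inv_mul_cancel₀ huy, one_smul] at h4
  intro y' hy'
  have hdec : y' = (y' + (-(polar ⇑Q u y' / polar ⇑Q u y)) • y)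
      + (polar ⇑Q u y' / polar ⇑Q u y) • y := by module
  rw [hdec]
  apply Submodule.add_mem _ _ (Submodule.smul_mem _ _ hy)
  apply hperp _ (Y.add_mem hy' (Y.smul_mem _ hyY))
  rw [polar_add_right, polar_smul_right, smul_eq_mul]
  field_simp
  ring

/-- a mixed root group at a singular point of `X` makes the point root-full -/
theorem NPair.rootFull_of_alpha [Finite F] (P : NPair Q hQ M X Y) (hY : 3 ≤ finrank F Y)
    {x y : ι → F} (hx : x ∈ X) (hQx : Q x = 0) (hy : y ∈ Y) (hy0 : y ≠ 0)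
    (hR : orootLine Q hQ M x y) : rootFull Q hQ M x := by
  intro v hu huv
  obtain ⟨vX, hvX, vY, hvY, hv⟩ := P.sum v
  have h1 : polar ⇑Q x vY = 0 := P.orth x hx vY hvY
  have h2 : polar ⇑Q x vX = 0 := by
    rw [← hv, polar_add_right, h1, add_zero] at huv
    exact huv
  rw [eichlerElt_congr Q hQ x v x (vX + vY) hu huv hu
    (by rw [polar_add_right, h1, h2, add_zero]) rfl hv.symm,
    ← eichlerElt_mul Q hQ x vX vY hu h2 h1]
  have hmem := P.rootSub_eq hY hx hQx ⟨hy, hR⟩ hy0 vY hvY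
  have h3 := hmem.2 1 hu (by rw [one_smul]; exact h1)
  rw [eichlerElt_congr Q hQ x ((1 : F) • vY) x vY hu _ hu h1 rfl (one_smul _ _)] at h3
  exact M.mul_mem (P.base x hx vX hvX hu h2) h3

/-- a nonsingular vector of `X` orthogonal to a hyperbolic pair of `X` -/
theorem NPair.exists_nonsingular_perp (P : NPair Q hQ M X Y) (hX : 3 ≤ finrank F X)
    {x f : ι → F} (hx : x ∈ X) (hf : f ∈ X) (hQx : Q x = 0) (hQf : Q f = 0)
    (hxf : polar ⇑Q x f = 1) :
    ∃ z ∈ X, Q z ≠ 0 ∧ polar ⇑Q x z = 0 ∧ polar ⇑Q f z = 0 := by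
  have hxx : polar ⇑Q x x = 0 := by rw [polar_self, hQx, smul_zero]
  have hff : polar ⇑Q f f = 0 := by rw [polar_self, hQf, smul_zero]
  have hfx : polar ⇑Q f x = 1 := by rw [polar_comm]; exact hxf
  obtain ⟨z, hz, hz0, hpz⟩ := exists_ne_zero_perp Q [x, f] X (by simpa using hX)
  have hxz : polar ⇑Q x z = 0 := hpz x (by simp)
  have hfz : polar ⇑Q f z = 0 := hpz f (by simp)
  by_cases hQz : Q z = 0
  · obtain ⟨z', hz', hzz'⟩ := P.exists_polar_ne hz hz0
    have hz''def : ∃ z'' : ι → F,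
        z'' = z' + (-(polar ⇑Q f z')) • x + (-(polar ⇑Q x z')) • f := ⟨_, rfl⟩
    obtain ⟨z'', hz''⟩ := hz''def
    have hz''X : z'' ∈ X := by
      rw [hz'']
      exact X.add_mem (X.add_mem hz' (X.smul_mem _ hx)) (X.smul_mem _ hf)
    have hxz'' : polar ⇑Q x z'' = 0 := by
      rw [hz'', polar_add_right, polar_add_right, polar_smul_right, polar_smul_right, hxx, hxf]
      simp
    have hfz'' : polar ⇑Q f z'' = 0 := by
      rw [hz'', polar_add_right, polar_add_right, polar_smul_right, polar_smul_right, hfx, hff]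
      simp
    have hzz'' : polar ⇑Q z z'' ≠ 0 := by
      rw [hz'', polar_add_right, polar_add_right, polar_smul_right, polar_smul_right,
        polar_comm ⇑Q z x, hxz, polar_comm ⇑Q z f, hfz]
      simpa using hzz'
    by_cases hQz'' : Q z'' = 0
    · refine ⟨z + z'', X.add_mem hz hz''X, ?_, ?_, ?_⟩
      · rw [QuadraticMap.map_add Q, hQz, hQz'', zero_add, zero_add]
        exact hzz''
      · rw [polar_add_right, hxz, hxz'', add_zero]
      · rw [polar_add_right, hfz, hfz'', add_zero]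
    · exact ⟨z'', hz''X, hQz'', hxz'', hfz''⟩
  · exact ⟨z, hz, hQz, hxz, hfz⟩

/-- a root-full singular point of `X` forces `Ω ≤ M` -/
theorem NPair.omega_le_of_rootFull_mem [Fintype F] (P : NPair Q hQ M X Y)
    (hX : 3 ≤ finrank F X) (hn : 5 ≤ finrank F (ι → F))
    (hn2 : (2 : F) = 0 → 7 ≤ finrank F (ι → F)) {x : ι → F} (hx : x ∈ X) (hx0 : x ≠ 0)
    (hQx : Q x = 0) (hfull : rootFull Q hQ M x) :
    commutator ↥(Cfsg.isometryGroup F ⇑Q) ≤ M := by
  obtain ⟨f, hf, hQf, hxf⟩ := P.exists_partner hx hx0 hQx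
  obtain ⟨z, hz, hQz, hxz, hfz⟩ := P.exists_nonsingular_perp hX hx hf hQx hQf hxf
  have hgM : eichlerElt Q hQ f z hQf hfz ∈ M := P.base f hf z hz hQf hfz
  have hfull' := rootFull_act Q hQ M _ hgM x hfull
  have hxx : polar ⇑Q x x = 0 := by rw [polar_self, hQx, smul_zero]
  have hpol : polar ⇑Q x (act Q (eichlerElt Q hQ f z hQf hfz) x) ≠ 0 := by
    rw [act_eichlerElt, polar_comm ⇑Q f x, hxf, polar_comm ⇑Q z x, hxz, polar_sub_right,
      polar_sub_right, polar_add_right, polar_smul_right, polar_smul_right, polar_smul_right,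
      hxx, hxz, hxf]
    simpa using hQz
  apply omega_le_of_rootFull Q hQ hn hn2 M
  intro y hy
  exact rootFull_all Q hQ M x _ hQx (by rw [Q_act]; exact hQx) hfull hfull' hpol y hy

end npair2

end Cfsg.Agent.Lib.Helper99
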