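import Cfsg.Agent.Lib.Helper99.NPair2

set_option autoImplicit false

/-!
Stabilizer of an orthogonal decomposition `V = X ⟂ Y` into two nondegenerate non-isometric
subspaces of the same dimension: maximality in `Ω`.
-/

namespace Cfsg.Agent.Lib.Helper99

open Matrix Module QuadraticMap
open Cfsg.Agent.Lib.Helper8 Cfsg.Agent.Lib.Helper13 Cfsg.Agent.Lib.Helper37

section npair3

variable {ι : Type} [Fintype ι] [DecidableEq ι] {F : Type*} [Field F]
variable {Q : QuadraticForm F (ι → F)} {hQ : (QuadraticMap.polarBilin Q).Nondegenerate}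
variable {M : Subgroup ↥(Cfsg.isometryGroup F ⇑Q)} {X Y X' Y' : Submodule F (ι → F)}

/-- a bad root group forces `Ω ≤ M` -/
theorem NPair.omega_le_of_bad [Fintype F] (P : NPair Q hQ M X Y) (hX : 6 ≤ finrank F X)
    (hY : 3 ≤ finrank F Y) (hn : 5 ≤ finrank F (ι → F))
    (hn2 : (2 : F) = 0 → 7 ≤ finrank F (ι → F)) (hbad : ¬ NoBadTS Q hQ M X Y) :
    commutator ↥(Cfsg.isometryGroup F ⇑Q) ≤ M := by
  unfold NoBadTS at hbad
  push Not at hbad
  obtain ⟨a, v, ha0, hQa, hQv, hav, hind, hR, hb⟩ := hbad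
  have hb' : ¬ ((a ∈ X ∧ v ∈ X) ∨ (a ∈ Y ∧ v ∈ Y)) := by
    rintro (h | h)
    · exact (hb.1 h.1) h.2
    · exact (hb.2 h.1) h.2
  rcases P.alpha_of_bad hX ha0 hQa hQv hav hind hR hb' with h | h
  · obtain ⟨x, hx, hx0, hQx, y, hy, hy0, hRxy⟩ := h
    have hfull := P.rootFull_of_alpha hY hx hQx hy hy0 hRxy
    exact P.omega_le_of_rootFull_mem (by omega) hn hn2 hx hx0 hQx hfull
  · obtain ⟨x, hx, hx0, hQx, y, hy, hy0, hRxy⟩ := h
    have hfull := P.symm.rootFull_of_alpha (by omega) hx hQx hy hy0 hRxy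
    exact P.symm.omega_le_of_rootFull_mem hY hn hn2 hx hx0 hQx hfull

/-- an isometry mapping `X` into `Y` of the same dimension makes them isometric -/
theorem areIsometricFor_of_map (g : ↥(Cfsg.isometryGroup F ⇑Q)) (X Y : Submodule F (ι → F))
    (hfr : finrank F X = finrank F Y)
    (h : ∀ x ∈ X, ((g : Matrix.GeneralLinearGroup ι F) : Matrix ι ι F) *ᵥ x ∈ Y) :
    Cfsg.Geo.AreIsometricFor ⇑Q X Y := by
  let L : X →ₗ[F] Y := LinearMap.codRestrict Y
    ((Matrix.toLin' ((g : Matrix.GeneralLinearGroup ι F) : Matrix ι ι F)).comp X.subtype)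
    (fun x => by
      rw [LinearMap.comp_apply, Matrix.toLin'_apply]
      exact h x x.2)
  have hL : ∀ x : X, ((L x : Y) : ι → F)
      = ((g : Matrix.GeneralLinearGroup ι F) : Matrix ι ι F) *ᵥ (x : ι → F) := by
    intro x
    simp only [L, LinearMap.codRestrict_apply, LinearMap.comp_apply, Matrix.toLin'_apply,
      Submodule.subtype_apply]
  have hinj : Function.Injective L := by
    intro a b hab
    apply Subtype.ext
    apply mulVec_injective_of_GL (g : Matrix.GeneralLinearGroup ι F)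
    show ((g : Matrix.GeneralLinearGroup ι F) : Matrix ι ι F) *ᵥ (a : ι → F)
      = ((g : Matrix.GeneralLinearGroup ι F) : Matrix ι ι F) *ᵥ (b : ι → F)
    rw [← hL a, ← hL b, hab]
  refine ⟨LinearMap.linearEquivOfInjective L hinj hfr, fun w => ?_⟩
  rw [LinearMap.linearEquivOfInjective_apply, hL]
  exact isoElt_preserves Q g _

end npair3

section npair3main

variable {F : Type*} [Field F] [Fintype F] {n : ℕ}

/-- The stabilizer of a decomposition into two orthogonal nondegenerate non-isometric subspaces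
of dimension `k ≥ 6` is maximal in `Ω`. -/
theorem npair_stabilizer_isMaximalIn (Q : QuadraticForm F (Fin n → F))
    (hQ : (QuadraticMap.polarBilin Q).Nondegenerate) (hn : 7 ≤ n) (k : ℕ) (hk6 : 6 ≤ k)
    (D : Fin 2 → Submodule F (Fin n → F))
    (hD : Cfsg.Geo.IsNondegenerateMDecomposition (QuadraticMap.polar ⇑Q) k D)
    (hni : ¬ Cfsg.Geo.AreIsometricFor ⇑Q (D 0) (D 1)) :
    Cfsg.Geo.IsMaximalIn (Cfsg.Geo.omegaGL ⇑Q)
      (Cfsg.Geo.decompositionStabilizer D ⊓ Cfsg.Geo.omegaGL ⇑Q) := by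
  classical
  have hfr : finrank F (Fin n → F) = n := by simp
  have hn5 : 5 ≤ finrank F (Fin n → F) := by rw [hfr]; omega
  have hn2 : (2 : F) = 0 → 7 ≤ finrank F (Fin n → F) := by intro _; rw [hfr]; omega
  have hsum := opair_sum D hD.decomp
  have hfr0 : finrank F (D 0) = k := hD.decomp.finrank_eq 0
  have hfr1 : finrank F (D 1) = k := hD.decomp.finrank_eq 1
  have horth : ∀ x ∈ D 0, ∀ y ∈ D 1, polar ⇑Q x y = 0 :=
    fun x hx y hy => hD.orthogonal 0 1 (by decide) x hx y hy
  have horth' : ∀ y ∈ D 1, ∀ x ∈ D 0, polar ⇑Q y x = 0 :=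
    fun y hy x hx => hD.orthogonal 1 0 (by decide) y hy x hx
  -- root elements of the stabilizer
  have hbase0 : ∀ a ∈ D 0, ∀ b ∈ D 0, ∀ (hu : Q a = 0) (hab : polar ⇑Q a b = 0),
      eichlerElt Q hQ a b hu hab ∈
        (Cfsg.Geo.decompositionStabilizer D).comap (Cfsg.isometryGroup F ⇑Q).subtype ⊓
          commutator ↥(Cfsg.isometryGroup F ⇑Q) := by
    intro a ha b hb hu hab
    refine ⟨?_, eichlerElt_mem_omega Q hQ hn5 hn2 a b hu hab⟩
    show ((eichlerElt Q hQ a b hu hab : ↥(Cfsg.isometryGroup F ⇑Q)) :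
      Matrix.GeneralLinearGroup (Fin n) F) ∈ Cfsg.Geo.decompositionStabilizer D
    refine ⟨1, fun i => ?_⟩
    rw [Equiv.Perm.one_apply]
    apply gl_map_eq_of_forall _ _ _ rfl
    intro x hx
    show (((eichlerElt Q hQ a b hu hab : ↥(Cfsg.isometryGroup F ⇑Q)) :
      Matrix.GeneralLinearGroup (Fin n) F) : Matrix (Fin n) (Fin n) F) *ᵥ x ∈ D i
    rw [eichlerElt_mulVec]
    fin_cases i
    · exact (D 0).sub_mem ((D 0).sub_mem ((D 0).add_mem hx ((D 0).smul_mem _ hb))
        ((D 0).smul_mem _ ha)) ((D 0).smul_mem _ ha)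
    · have h0 : polar ⇑Q a x = 0 := horth a ha x hx
      have h1 : polar ⇑Q b x = 0 := horth b hb x hx
      rw [h0, h1]
      simpa using hx
  have hbase1 : ∀ a ∈ D 1, ∀ b ∈ D 1, ∀ (hu : Q a = 0) (hab : polar ⇑Q a b = 0),
      eichlerElt Q hQ a b hu hab ∈
        (Cfsg.Geo.decompositionStabilizer D).comap (Cfsg.isometryGroup F ⇑Q).subtype ⊓
          commutator ↥(Cfsg.isometryGroup F ⇑Q) := by
    intro a ha b hb hu hab
    refine ⟨?_, eichlerElt_mem_omega Q hQ hn5 hn2 a b hu hab⟩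
    show ((eichlerElt Q hQ a b hu hab : ↥(Cfsg.isometryGroup F ⇑Q)) :
      Matrix.GeneralLinearGroup (Fin n) F) ∈ Cfsg.Geo.decompositionStabilizer D
    refine ⟨1, fun i => ?_⟩
    rw [Equiv.Perm.one_apply]
    apply gl_map_eq_of_forall _ _ _ rfl
    intro x hx
    show (((eichlerElt Q hQ a b hu hab : ↥(Cfsg.isometryGroup F ⇑Q)) :
      Matrix.GeneralLinearGroup (Fin n) F) : Matrix (Fin n) (Fin n) F) *ᵥ x ∈ D i
    rw [eichlerElt_mulVec]
    fin_cases i
    · have h0 : polar ⇑Q a x = 0 := horth' a ha x hx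
      have h1 : polar ⇑Q b x = 0 := horth' b hb x hx
      rw [h0, h1]
      simpa using hx
    · exact (D 1).sub_mem ((D 1).sub_mem ((D 1).add_mem hx ((D 1).smul_mem _ hb))
        ((D 1).smul_mem _ ha)) ((D 1).smul_mem _ ha)
  have hP : ∀ M : Subgroup ↥(Cfsg.isometryGroup F ⇑Q),
      (Cfsg.Geo.decompositionStabilizer D).comap (Cfsg.isometryGroup F ⇑Q).subtype ⊓
        commutator ↥(Cfsg.isometryGroup F ⇑Q) ≤ M → NPair Q hQ M (D 0) (D 1) := by
    intro M hHM
    exact
      { orth := horth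
        sum := hsum
        base := fun a ha b hb hu hab => hHM (hbase0 a ha b hb hu hab)
        base' := fun a ha b hb hu hab => hHM (hbase1 a ha b hb hu hab) }
  apply isMaximalIn_decomp_of
  · -- properness
    have P := hP _ (le_refl _)
    obtain ⟨x, hx, hx0, hQx⟩ := exists_singular_sub Q (D 0) (by rw [hfr0]; omega)
    obtain ⟨f, hf, hQf, hxf⟩ := P.exists_partner hx hx0 hQx
    obtain ⟨y, hy, hy0, -⟩ := exists_ne_zero_perp Q [] (D 1) (by rw [hfr1]; simp; omega)
    have hxy : polar ⇑Q x y = 0 := horth x hx y hy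
    refine ⟨eichlerElt Q hQ x y hQx hxy, eichlerElt_mem_omega Q hQ hn5 hn2 x y hQx hxy, ?_⟩
    rintro ⟨σ, hσ⟩
    have h3 : (((eichlerElt Q hQ x y hQx hxy : ↥(Cfsg.isometryGroup F ⇑Q)) :
        Matrix.GeneralLinearGroup (Fin n) F) : Matrix (Fin n) (Fin n) F) *ᵥ f ∈ D (σ 0) := by
      rw [← hσ 0]
      exact ⟨f, hf, by rw [Matrix.toLin'_apply]⟩
    rw [eichlerElt_mulVec, hxf, one_smul, horth' y hy f hf, zero_smul, sub_zero, mul_one] at h3
    have hcases : σ 0 = 0 ∨ σ 0 = 1 := by
      generalize σ 0 = j'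
      fin_cases j'
      · left; rfl
      · right; rfl
    rcases hcases with h | h
    · rw [h] at h3
      have hy0' : y ∈ D 0 := by
        have : y = (f + y - Q y • x) - f + Q y • x := by abel
        rw [this]
        exact (D 0).add_mem ((D 0).sub_mem h3 hf) ((D 0).smul_mem _ hx)
      exact hy0 (P.disjoint hy0' hy)
    · rw [h] at h3
      have h4 : f - Q y • x ∈ D 1 := by
        have : f - Q y • x = (f + y - Q y • x) - y := by abel
        rw [this]
        exact (D 1).sub_mem h3 hy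
      have h5 : f - Q y • x = 0 :=
        P.disjoint ((D 0).sub_mem hf ((D 0).smul_mem _ hx)) h4
      have h6 : polar ⇑Q x (f - Q y • x) = 1 := by
        rw [polar_sub_right, polar_smul_right, polar_self, hQx, hxf]
        simp
      rw [h5, polar_zero_right] at h6
      exact zero_ne_one h6
  · intro M hHM g hgM hgD
    have P := hP M hHM
    by_cases hNB : NoBadTS Q hQ M (D 0) (D 1)
    · exfalso
      have R := P.map g hgM
      have hd0 : 5 ≤ finrank F (mapSub Q g (D 0)) := by rw [finrank_mapSub, hfr0]; omega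
      have hd1 : 5 ≤ finrank F (mapSub Q g (D 1)) := by rw [finrank_mapSub, hfr1]; omega
      have hA := P.le_or_le R hNB hd0
      have hA' := P.symm.le_or_le R.symm hNB.symm hd1
      have hmap0 : ∀ x ∈ D 0, ((g : Matrix.GeneralLinearGroup (Fin n) F) :
          Matrix (Fin n) (Fin n) F) *ᵥ x ∈ mapSub Q g (D 0) :=
        fun x hx => (mem_mapSub Q g (D 0) _).2 ⟨x, hx, rfl⟩
      have hmap1 : ∀ x ∈ D 1, ((g : Matrix.GeneralLinearGroup (Fin n) F) :
          Matrix (Fin n) (Fin n) F) *ᵥ x ∈ mapSub Q g (D 1) :=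
        fun x hx => (mem_mapSub Q g (D 1) _).2 ⟨x, hx, rfl⟩
      have h00 : mapSub Q g (D 0) ≤ D 0 := by
        rcases hA with h | h
        · exact h
        · exfalso
          exact hni (areIsometricFor_of_map g (D 0) (D 1) (hfr0.trans hfr1.symm)
            (fun x hx => h (hmap0 x hx)))
      have h11 : mapSub Q g (D 1) ≤ D 1 := by
        rcases hA' with h | h
        · exact h
        · exfalso
          obtain ⟨e, he⟩ := areIsometricFor_of_map g (D 1) (D 0) (hfr1.trans hfr0.symm)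
            (fun x hx => h (hmap1 x hx))
          apply hni
          refine ⟨e.symm, fun w => ?_⟩
          have := he (e.symm w)
          rw [LinearEquiv.apply_symm_apply] at this
          exact this.symm
      apply hgD
      refine ⟨1, fun i => ?_⟩
      rw [Equiv.Perm.one_apply]
      fin_cases i
      · exact gl_map_eq_of_forall _ _ _ rfl (fun x hx => h00 (hmap0 x hx))
      · exact gl_map_eq_of_forall _ _ _ rfl (fun x hx => h11 (hmap1 x hx))
    · exact P.omega_le_of_bad (by rw [hfr0]; exact hk6) (by rw [hfr1]; omega) hn5 hn2 hNB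

end npair3main

end Cfsg.Agent.Lib.Helper99
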