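import Cfsg.Agent.Lib.Helper99.NPair3

set_option autoImplicit false

/-!
Stabilizer of a nondegenerate subspace in `Ω`: the case of a small complement.
-/

namespace Cfsg.Agent.Lib.Helper99

open Matrix Module QuadraticMap
open Cfsg.Agent.Lib.Helper8 Cfsg.Agent.Lib.Helper13 Cfsg.Agent.Lib.Helper37

section npair4

variable {ι : Type} [Fintype ι] [DecidableEq ι] {F : Type*} [Field F]

/-- products of two reflections of equal norm, one in each part, lie in `M` -/
def ReflHyp (Q : QuadraticForm F (ι → F)) (M : Subgroup ↥(Cfsg.isometryGroup F ⇑Q))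
    (X Y : Submodule F (ι → F)) : Prop :=
  ∀ a ∈ X, ∀ b ∈ Y, ∀ (ha : Q a ≠ 0) (hb : Q b ≠ 0), Q b = Q a →
    reflElt Q a ha * reflElt Q b hb ∈ M

variable {Q : QuadraticForm F (ι → F)} {hQ : (QuadraticMap.polarBilin Q).Nondegenerate}
variable {M : Subgroup ↥(Cfsg.isometryGroup F ⇑Q)} {X Y X' Y' : Submodule F (ι → F)}

theorem NPair.rootSub_act (P : NPair Q hQ M X Y) {x : ι → F} (hx : x ∈ X) (hQx : Q x = 0)
    (h : ↥(Cfsg.isometryGroup F ⇑Q)) (hM : h ∈ M) (hhx : act Q h x = x) {y : ι → F}
    (hy : y ∈ rootSub Q hQ M x Y (P.orth x hx)) (hhy : act Q h y ∈ Y) :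
    act Q h y ∈ rootSub Q hQ M x Y (P.orth x hx) := by
  obtain ⟨hyY, hyR⟩ := hy
  refine ⟨hhy, ?_⟩
  intro c hu' huv'
  have hxy : polar ⇑Q x (c • y) = 0 := by
    rw [polar_smul_right, P.orth x hx y hyY, smul_zero]
  have h1 := conj_eichlerElt Q hQ h x (c • y) hQx hxy
  have e1 : ((h : Matrix.GeneralLinearGroup ι F) : Matrix ι ι F) *ᵥ x = x := hhx
  have e2 : ((h : Matrix.GeneralLinearGroup ι F) : Matrix ι ι F) *ᵥ (c • y)
      = c • act Q h y := act_smul Q h c y
  rw [eichlerElt_congr Q hQ x _ _ _ hu' huv' (by rw [e1]; exact hQx)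
    (by rw [e1, e2]; exact huv') e1.symm e2.symm, ← h1]
  exact M.mul_mem (M.mul_mem hM (hyR c hQx hxy)) (M.inv_mem hM)

/-- the part of `X` orthogonal to a singular point of `X` represents every scalar -/
theorem NPair.exists_perp_quad_eq [Finite F] (P : NPair Q hQ M X Y) (hX : 5 ≤ finrank F X)
    {x : ι → F} (hx : x ∈ X) (hx0 : x ≠ 0) (hQx : Q x = 0) (c : F) :
    ∃ a ∈ X, polar ⇑Q x a = 0 ∧ Q a = c := by
  obtain ⟨f, hf, hQf, hxf⟩ := P.exists_partner hx hx0 hQx
  obtain ⟨e', he', he'0, hQe', hpe'⟩ := exists_singular_perp Q [x, f] X (by simpa using hX)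
  have hxe' : polar ⇑Q x e' = 0 := hpe' x (by simp)
  have hfe' : polar ⇑Q f e' = 0 := hpe' f (by simp)
  obtain ⟨f'', hf'', -, he'f''⟩ := P.exists_partner he' he'0 hQe'
  have hf'def : ∃ f' : ι → F, f' = f'' + (-(polar ⇑Q x f'')) • f := ⟨_, rfl⟩
  obtain ⟨f', hf'⟩ := hf'def
  have hf'X : f' ∈ X := by
    rw [hf']
    exact X.add_mem hf'' (X.smul_mem _ hf)
  have hxf' : polar ⇑Q x f' = 0 := by
    rw [hf', polar_add_right, polar_smul_right, hxf]
    simp
  have hf'e' : polar ⇑Q f' e' = 1 := by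
    rw [hf', polar_add_left, polar_smul_left, hfe', polar_comm ⇑Q f'' e', he'f'']
    simp
  refine ⟨f' + (c - Q f') • e', X.add_mem hf'X (X.smul_mem _ he'), ?_, ?_⟩
  · rw [polar_add_right, polar_smul_right, hxf', hxe']
    simp
  · rw [QuadraticMap.map_add Q, QuadraticMap.map_smul, hQe', polar_smul_right, hf'e']
    simp

/-- in a nondegenerate plane, a vector orthogonal to a hyperbolic pair vanishes -/
theorem eq_zero_of_perp_hyp (Q : QuadraticForm F (ι → F)) (Y : Submodule F (ι → F))
    (hY2 : finrank F Y = 2) {e f v : ι → F}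
    (he : e ∈ Y) (hf : f ∈ Y) (hee : polar ⇑Q e e = 0) (hff : polar ⇑Q f f = 0)
    (hef : polar ⇑Q e f = 1) (hv : v ∈ Y) (hev : polar ⇑Q e v = 0) (hfv : polar ⇑Q f v = 0) :
    v = 0 := by
  have hfe : polar ⇑Q f e = 1 := by rw [polar_comm]; exact hef
  let L : Y →ₗ[F] F × F :=
    ((QuadraticMap.polarBilin Q e).prod (QuadraticMap.polarBilin Q f)).comp Y.subtype
  have hsurj : LinearMap.range L = ⊤ := by
    rw [LinearMap.range_eq_top]
    rintro ⟨a, b⟩
    refine ⟨⟨a • f + b • e, Y.add_mem (Y.smul_mem _ hf) (Y.smul_mem _ he)⟩, ?_⟩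
    show (polar ⇑Q e (a • f + b • e), polar ⇑Q f (a • f + b • e)) = (a, b)
    rw [polar_add_right, polar_add_right, polar_smul_right, polar_smul_right, polar_smul_right,
      polar_smul_right, hef, hee, hfe, hff]
    simp
  have h1 := LinearMap.finrank_range_add_finrank_ker L
  rw [hsurj, finrank_top, finrank_prod, finrank_self, hY2] at h1
  have hker : finrank F (LinearMap.ker L) = 0 := by omega
  rw [Submodule.finrank_eq_zero] at hker
  have hmem : (⟨v, hv⟩ : Y) ∈ LinearMap.ker L := by
    rw [LinearMap.mem_ker]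
    show (polar ⇑Q e v, polar ⇑Q f v) = 0
    rw [hev, hfv]
    rfl
  rw [hker, Submodule.mem_bot] at hmem
  exact congrArg Subtype.val hmem

/-- in a nondegenerate plane which is anisotropic or over a field with at least four elements,
every nonzero vector is moved off its line by some reflection -/
theorem NPair.exists_refl_vec [Fintype F] (P : NPair Q hQ M X Y) (hY2 : finrank F Y = 2)
    (h2 : 4 ≤ Fintype.card F ∨ ∀ b ∈ Y, Q b = 0 → b = 0) {y : ι → F} (hy : y ∈ Y)
    (hy0 : y ≠ 0) :
    ∃ b ∈ Y, Q b ≠ 0 ∧ polar ⇑Q b y ≠ 0 ∧ b ∉ Submodule.span F {y} := by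
  classical
  by_cases hsing : ∃ e ∈ Y, e ≠ 0 ∧ Q e = 0
  · obtain ⟨e, he, he0, hQe⟩ := hsing
    obtain ⟨f, hf, hQf, hef⟩ := P.symm.exists_partner he he0 hQe
    have hq : 4 ≤ Fintype.card F := by
      rcases h2 with h | h
      · exact h
      · exact (he0 (h e he hQe)).elim
    have hee : polar ⇑Q e e = 0 := by rw [polar_self, hQe, smul_zero]
    have hff : polar ⇑Q f f = 0 := by rw [polar_self, hQf, smul_zero]
    have hfe : polar ⇑Q f e = 1 := by rw [polar_comm]; exact hef
    -- coordinates of `y`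
    have hycoord : y = polar ⇑Q f y • e + polar ⇑Q e y • f := by
      have hz : y + (-(polar ⇑Q f y)) • e + (-(polar ⇑Q e y)) • f = 0 := by
        apply eq_zero_of_perp_hyp Q Y hY2 he hf hee hff hef
          (Y.add_mem (Y.add_mem hy (Y.smul_mem _ he)) (Y.smul_mem _ hf))
        · rw [polar_add_right, polar_add_right, polar_smul_right, polar_smul_right, hee, hef]
          simp
        · rw [polar_add_right, polar_add_right, polar_smul_right, polar_smul_right, hfe, hff]
          simp
      have : y = (y + (-(polar ⇑Q f y)) • e + (-(polar ⇑Q e y)) • f)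
          + (polar ⇑Q f y • e + polar ⇑Q e y • f) := by module
      rw [hz, zero_add] at this
      exact this
    -- choose the parameter
    have hcard : ({0, -(polar ⇑Q e y) / polar ⇑Q f y, polar ⇑Q e y / polar ⇑Q f y} :
        Finset F).card < (Finset.univ : Finset F).card := by
      rw [Finset.card_univ]
      exact lt_of_le_of_lt Finset.card_le_three (by omega)
    obtain ⟨t, -, ht⟩ := Finset.exists_mem_notMem_of_card_lt_card hcard
    simp only [Finset.mem_insert, Finset.mem_singleton, not_or] at ht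
    obtain ⟨ht0, ht1, ht2⟩ := ht
    refine ⟨e + t • f, Y.add_mem he (Y.smul_mem _ hf), ?_, ?_, ?_⟩
    · rw [QuadraticMap.map_add Q, QuadraticMap.map_smul, hQe, hQf, polar_smul_right, hef]
      simpa using ht0
    · rw [polar_add_left, polar_smul_left, smul_eq_mul]
      by_cases hα : polar ⇑Q f y = 0
      · rw [hα, mul_zero, add_zero]
        intro hβ
        apply hy0
        rw [hycoord, hα, hβ]
        simp
      · intro h
        apply ht1
        field_simp
        linear_combination h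
    · intro hmem
      obtain ⟨c, hc⟩ := Submodule.mem_span_singleton.1 hmem
      have h1 : polar ⇑Q f (c • y) = 1 := by
        rw [hc, polar_add_right, polar_smul_right, hfe, hff]
        simp
      have h3 : polar ⇑Q e (c • y) = t := by
        rw [hc, polar_add_right, polar_smul_right, hee, hef]
        simp
      rw [polar_smul_right, smul_eq_mul] at h1 h3
      have hα : polar ⇑Q f y ≠ 0 := by
        intro h
        rw [h, mul_zero] at h1
        exact zero_ne_one h1
      apply ht2
      field_simp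
      linear_combination (-(polar ⇑Q f y)) * h3 + (polar ⇑Q e y) * h1
  · push Not at hsing
    have haniso : ∀ b ∈ Y, b ≠ 0 → Q b ≠ 0 := fun b hb hb0 hQb => hb0 (by
      by_contra h
      exact (hsing b hb h) hQb)
    obtain ⟨y', hy', hyy'⟩ := P.symm.exists_polar_ne hy hy0
    by_cases hmem : y' ∈ Submodule.span F {y}
    · obtain ⟨c, rfl⟩ := Submodule.mem_span_singleton.1 hmem
      have hyy : polar ⇑Q y y ≠ 0 := by
        intro h
        apply hyy'
        rw [polar_smul_right, h, smul_zero]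
      have hz : ∃ z ∈ Y, z ∉ Submodule.span F {y} := by
        by_contra hcon
        push Not at hcon
        have hle : Y ≤ Submodule.span F {y} := hcon
        have := Submodule.finrank_mono hle
        rw [finrank_span_singleton hy0, hY2] at this
        omega
      obtain ⟨z, hz, hzy⟩ := hz
      by_cases hpz : polar ⇑Q z y = 0
      · have hzy' : z + y ∉ Submodule.span F {y} := by
          intro h
          apply hzy
          have : z = (z + y) - y := by abel
          rw [this]
          exact Submodule.sub_mem _ h (Submodule.mem_span_singleton_self y)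
        refine ⟨z + y, Y.add_mem hz hy, ?_, ?_, hzy'⟩
        · apply haniso _ (Y.add_mem hz hy)
          intro h
          apply hzy'
          rw [h]
          exact Submodule.zero_mem _
        · rw [polar_add_left, hpz, zero_add]
          exact hyy
      · refine ⟨z, hz, ?_, hpz, hzy⟩
        apply haniso _ hz
        intro h
        apply hzy
        rw [h]
        exact Submodule.zero_mem _
    · refine ⟨y', hy', ?_, ?_, hmem⟩
      · apply haniso _ hy'
        intro h
        apply hmem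
        rw [h]
        exact Submodule.zero_mem _
      · rw [polar_comm]
        exact hyy'

/-- the root subspace is everything once it is nonzero, for a small part `Y` -/
theorem NPair.rootSub_eq_small [Fintype F] (P : NPair Q hQ M X Y) (hR : ReflHyp Q M X Y)
    (hX : 5 ≤ finrank F X)
    (h2 : finrank F Y = 2 → 4 ≤ Fintype.card F ∨ ∀ b ∈ Y, Q b = 0 → b = 0)
    {x : ι → F} (hx : x ∈ X) (hx0 : x ≠ 0) (hQx : Q x = 0) {y : ι → F}
    (hy : y ∈ rootSub Q hQ M x Y (P.orth x hx)) (hy0 : y ≠ 0) :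
    ∀ y' ∈ Y, y' ∈ rootSub Q hQ M x Y (P.orth x hx) := by
  by_cases h3 : 3 ≤ finrank F Y
  · exact P.rootSub_eq h3 hx hQx hy hy0
  have hle : rootSub Q hQ M x Y (P.orth x hx) ≤ Y := fun z hz => hz.1
  have hRpos : 1 ≤ finrank F (rootSub Q hQ M x Y (P.orth x hx)) := by
    by_contra hcon
    have h0 : finrank F (rootSub Q hQ M x Y (P.orth x hx)) = 0 := by omega
    rw [Submodule.finrank_eq_zero] at h0
    rw [h0, Submodule.mem_bot] at hy
    exact hy0 hy
  suffices hfin : finrank F Y ≤ finrank F (rootSub Q hQ M x Y (P.orth x hx)) by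
    have := Submodule.eq_of_le_of_finrank_le hle hfin
    intro y' hy'
    rw [this]
    exact hy'
  by_cases h1 : finrank F Y ≤ 1
  · omega
  have hY2 : finrank F Y = 2 := by omega
  obtain ⟨b, hb, hQb, hby, hbind⟩ := P.exists_refl_vec hY2 (h2 hY2) hy.1 hy0
  obtain ⟨a, ha, hxa, hQa⟩ := P.exists_perp_quad_eq hX hx hx0 hQx (Q b)
  have hQa' : Q a ≠ 0 := by rw [hQa]; exact hQb
  have hM := hR a ha b hb hQa' hQb hQa.symm
  have hbx : polar ⇑Q b x = 0 := by rw [polar_comm]; exact P.orth x hx b hb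
  have hax : polar ⇑Q a x = 0 := by rw [polar_comm]; exact hxa
  have hhx : act Q (reflElt Q a hQa' * reflElt Q b hQb) x = x := by
    rw [act_mul, act_refl Q b, hbx, mul_zero, zero_smul, sub_zero, act_refl Q a, hax, mul_zero,
      zero_smul, sub_zero]
  have hhy : act Q (reflElt Q a hQa' * reflElt Q b hQb) y
      = y - ((Q b)⁻¹ * polar ⇑Q b y) • b := by
    rw [act_mul, act_refl Q b, act_refl Q a]
    have : polar ⇑Q a (y - ((Q b)⁻¹ * polar ⇑Q b y) • b) = 0 := by
      rw [polar_sub_right, polar_smul_right, P.orth a ha y hy.1, P.orth a ha b hb]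
      simp
    rw [this, mul_zero, zero_smul, sub_zero]
  have hmem := P.rootSub_act hx hQx _ hM hhx hy (by
    rw [hhy]
    exact Y.sub_mem hy.1 (Y.smul_mem _ hb))
  rw [hhy] at hmem
  have hbR : b ∈ rootSub Q hQ M x Y (P.orth x hx) := by
    have h4 := Submodule.sub_mem _ hy hmem
    have e : y - (y - ((Q b)⁻¹ * polar ⇑Q b y) • b) = ((Q b)⁻¹ * polar ⇑Q b y) • b := by abel
    rw [e] at h4
    have hne : (Q b)⁻¹ * polar ⇑Q b y ≠ 0 := mul_ne_zero (inv_ne_zero hQb) hby
    have h5 := Submodule.smul_mem _ ((Q b)⁻¹ * polar ⇑Q b y)⁻¹ h4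
    rwa [smul_smul, inv_mul_cancel₀ hne, one_smul] at h5
  rw [hY2]
  by_contra hcon
  have hle1 : finrank F (rootSub Q hQ M x Y (P.orth x hx)) ≤ 1 := by omega
  rw [finrank_le_one_iff] at hle1
  obtain ⟨v, hv⟩ := hle1
  obtain ⟨c₁, hc₁⟩ := hv ⟨y, hy⟩
  obtain ⟨c₂, hc₂⟩ := hv ⟨b, hbR⟩
  have hc₁' : c₁ • (v : ι → F) = y := congrArg Subtype.val hc₁
  have hc₂' : c₂ • (v : ι → F) = b := congrArg Subtype.val hc₂
  have hc₁0 : c₁ ≠ 0 := by
    rintro rfl
    rw [zero_smul] at hc₁'
    exact hy0 hc₁'.symm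
  apply hbind
  rw [Submodule.mem_span_singleton]
  refine ⟨c₂ * c₁⁻¹, ?_⟩
  rw [← hc₁', ← hc₂', smul_smul, mul_assoc, inv_mul_cancel₀ hc₁0, mul_one]

end npair4

end Cfsg.Agent.Lib.Helper99
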