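import Cfsg.Agent.Lib.Helper99.NPair4

set_option autoImplicit false

/-!
Stabilizer of a nondegenerate subspace in `Ω`: maximality.
-/

namespace Cfsg.Agent.Lib.Helper99

open Matrix Module QuadraticMap
open Cfsg.Agent.Lib.Helper8 Cfsg.Agent.Lib.Helper13 Cfsg.Agent.Lib.Helper37

section npair5

variable {ι : Type} [Fintype ι] [DecidableEq ι] {F : Type*} [Field F]
variable {Q : QuadraticForm F (ι → F)} {hQ : (QuadraticMap.polarBilin Q).Nondegenerate}
variable {M : Subgroup ↥(Cfsg.isometryGroup F ⇑Q)} {X Y X' Y' : Submodule F (ι → F)}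

theorem NPair.rootFull_of_rootSub (P : NPair Q hQ M X Y) {x : ι → F} (hx : x ∈ X)
    (hall : ∀ y' ∈ Y, y' ∈ rootSub Q hQ M x Y (P.orth x hx)) : rootFull Q hQ M x := by
  intro v hu huv
  obtain ⟨vX, hvX, vY, hvY, hv⟩ := P.sum v
  have h1 : polar ⇑Q x vY = 0 := P.orth x hx vY hvY
  have h2 : polar ⇑Q x vX = 0 := by
    rw [← hv, polar_add_right, h1, add_zero] at huv
    exact huv
  rw [eichlerElt_congr Q hQ x v x (vX + vY) hu huv hu
    (by rw [polar_add_right, h1, h2, add_zero]) rfl hv.symm,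
    ← eichlerElt_mul Q hQ x vX vY hu h2 h1]
  have hmem := hall vY hvY
  have h3 := hmem.2 1 hu (by rw [one_smul]; exact h1)
  rw [eichlerElt_congr Q hQ x ((1 : F) • vY) x vY hu _ hu h1 rfl (one_smul _ _)] at h3
  exact M.mul_mem (P.base x hx vX hvX hu h2) h3

/-- finishing from a root-full singular point of the small part -/
theorem NPair.omega_le_of_rootFull_small [Fintype F] (P : NPair Q hQ M X Y)
    (hR : ReflHyp Q M X Y) (hX : 5 ≤ finrank F X) (hn : 5 ≤ finrank F (ι → F))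
    (hn2 : (2 : F) = 0 → 7 ≤ finrank F (ι → F)) {y : ι → F} (hy : y ∈ Y) (hy0 : y ≠ 0)
    (hQy : Q y = 0) (hfull : rootFull Q hQ M y) :
    commutator ↥(Cfsg.isometryGroup F ⇑Q) ≤ M := by
  obtain ⟨f, hf, hQf, hyf⟩ := P.symm.exists_partner hy hy0 hQy
  have hb : y - f ∈ Y := Y.sub_mem hy hf
  have hQb : Q (y - f) = -1 := by
    rw [quad_sub, hQy, hQf, hyf]
    ring
  obtain ⟨x₀, hx₀, hx₀0, hQx₀⟩ := exists_singular_sub Q X (by omega)
  obtain ⟨a, ha, -, hQa⟩ := P.exists_perp_quad_eq hX hx₀ hx₀0 hQx₀ (-1)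
  have hQb' : Q (y - f) ≠ 0 := by
    rw [hQb]
    exact neg_ne_zero.2 one_ne_zero
  have hQa' : Q a ≠ 0 := by
    rw [hQa]
    exact neg_ne_zero.2 one_ne_zero
  have hM := hR a ha (y - f) hb hQa' hQb' (by rw [hQb, hQa])
  have hyy : polar ⇑Q y y = 0 := by rw [polar_self, hQy, smul_zero]
  have hact : act Q (reflElt Q a hQa' * reflElt Q (y - f) hQb') y = f := by
    rw [act_mul, act_refl Q (y - f), hQb, polar_sub_left, hyy, polar_comm ⇑Q f y, hyf]
    have e : y - ((-1 : F)⁻¹ * (0 - 1)) • (y - f) = f := by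
      rw [show ((-1 : F)⁻¹ * (0 - 1)) = 1 by norm_num, one_smul]
      abel
    rw [e, act_refl Q a, P.orth a ha f hf, mul_zero, zero_smul, sub_zero]
  have hfull' := rootFull_act Q hQ M _ hM y hfull
  rw [hact] at hfull'
  apply omega_le_of_rootFull Q hQ hn hn2 M
  intro z hz
  exact rootFull_all Q hQ M y f hQy hQf hfull hfull' (by rw [hyf]; exact one_ne_zero) z hz

/-- a bad root group forces `Ω ≤ M`, small complement allowed -/
theorem NPair.omega_le_of_bad_small [Fintype F] (P : NPair Q hQ M X Y) (hR : ReflHyp Q M X Y)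
    (hX : 6 ≤ finrank F X)
    (h2 : finrank F Y = 2 → 4 ≤ Fintype.card F ∨ ∀ b ∈ Y, Q b = 0 → b = 0)
    (hn : 5 ≤ finrank F (ι → F)) (hn2 : (2 : F) = 0 → 7 ≤ finrank F (ι → F))
    (hbad : ¬ NoBadTS Q hQ M X Y) : commutator ↥(Cfsg.isometryGroup F ⇑Q) ≤ M := by
  unfold NoBadTS at hbad
  push Not at hbad
  obtain ⟨a, v, ha0, hQa, hQv, hav, hind, hRav, hb⟩ := hbad
  have hb' : ¬ ((a ∈ X ∧ v ∈ X) ∨ (a ∈ Y ∧ v ∈ Y)) := by
    rintro (h | h)
    · exact (hb.1 h.1) h.2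
    · exact (hb.2 h.1) h.2
  rcases P.alpha_of_bad hX ha0 hQa hQv hav hind hRav hb' with h | h
  · obtain ⟨x, hx, hx0, hQx, y, hy, hy0, hRxy⟩ := h
    have hall := P.rootSub_eq_small hR (by omega) h2 hx hx0 hQx ⟨hy, hRxy⟩ hy0
    have hfull := P.rootFull_of_rootSub hx hall
    exact P.omega_le_of_rootFull_mem (by omega) hn hn2 hx hx0 hQx hfull
  · obtain ⟨y, hy, hy0, hQy, x, hx, hx0, hRyx⟩ := h
    have hfull := P.symm.rootFull_of_alpha (by omega) hy hQy hx hx0 hRyx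
    exact P.omega_le_of_rootFull_small hR (by omega) hn hn2 hy hy0 hQy hfull

theorem NPair.omega_le_of_not_le [Fintype F] (P : NPair Q hQ M X Y) (hR : ReflHyp Q M X Y)
    (hX : 6 ≤ finrank F X) (hlt : finrank F Y < finrank F X)
    (h2 : finrank F Y = 2 → 4 ≤ Fintype.card F ∨ ∀ b ∈ Y, Q b = 0 → b = 0)
    (hn : 5 ≤ finrank F (ι → F)) (hn2 : (2 : F) = 0 → 7 ≤ finrank F (ι → F))
    (g : ↥(Cfsg.isometryGroup F ⇑Q)) (hgM : g ∈ M) (hg : ¬ mapSub Q g X ≤ X) :
    commutator ↥(Cfsg.isometryGroup F ⇑Q) ≤ M := by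
  by_cases hNB : NoBadTS Q hQ M X Y
  · exfalso
    have R := P.map g hgM
    rcases P.le_or_le R hNB (by rw [finrank_mapSub]; omega) with h | h
    · exact hg h
    · have := Submodule.finrank_mono h
      rw [finrank_mapSub] at this
      omega
  · exact P.omega_le_of_bad_small hR hX h2 hn hn2 hNB

theorem NPair.stab_of_stab (P : NPair Q hQ M X Y) (g : ↥(Cfsg.isometryGroup F ⇑Q))
    (h : g ∈ stabSub Q X) : g ∈ stabSub Q Y := by
  rw [mem_stabSub] at h
  apply mem_stabSub_of_le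
  intro y hy
  obtain ⟨a', ha', b', hb', hs⟩ := P.sum (((g : Matrix.GeneralLinearGroup ι F) : Matrix ι ι F) *ᵥ y)
  have ha'0 : a' = 0 := by
    apply P.nondeg ha'
    intro x' hx'
    rw [← h] at hx'
    obtain ⟨x'', hx'', rfl⟩ := (mem_mapSub Q g X x').1 hx'
    have e : a' = ((g : Matrix.GeneralLinearGroup ι F) : Matrix ι ι F) *ᵥ y - b' := by
      rw [← hs]
      abel
    rw [e, polar_sub_left, iso_polar, polar_comm ⇑Q y x'', P.orth x'' hx'' y hy, polar_comm,
      P.orth _ ((mem_mapSub Q g X _).2 ⟨x'', hx'', rfl⟩ |> fun hh => by rw [h] at hh; exact hh)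
        b' hb', sub_zero]
  rw [← hs, ha'0, zero_add]
  exact hb'

theorem NPair.exists_not_le [Fintype F] (P : NPair Q hQ M X Y) (hX : 3 ≤ finrank F X)
    (hY : Y ≠ ⊥) (hn : 5 ≤ finrank F (ι → F)) (hn2 : (2 : F) = 0 → 7 ≤ finrank F (ι → F)) :
    ∃ g ∈ commutator ↥(Cfsg.isometryGroup F ⇑Q), ¬ mapSub Q g X ≤ X := by
  obtain ⟨x, hx, hx0, hQx⟩ := exists_singular_sub Q X hX
  obtain ⟨f, hf, hQf, hxf⟩ := P.exists_partner hx hx0 hQx
  obtain ⟨y, hy, hy0⟩ := Submodule.exists_mem_ne_zero_of_ne_bot hY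
  have hxy : polar ⇑Q x y = 0 := P.orth x hx y hy
  refine ⟨eichlerElt Q hQ x y hQx hxy, eichlerElt_mem_omega Q hQ hn hn2 x y hQx hxy, ?_⟩
  intro hle
  have h3 : (((eichlerElt Q hQ x y hQx hxy : ↥(Cfsg.isometryGroup F ⇑Q)) :
      Matrix.GeneralLinearGroup ι F) : Matrix ι ι F) *ᵥ f ∈ X :=
    hle ((mem_mapSub Q _ X _).2 ⟨f, hf, rfl⟩)
  rw [eichlerElt_mulVec, hxf, one_smul, polar_comm ⇑Q y f, P.orth f hf y hy, zero_smul, sub_zero,
    mul_one] at h3
  apply hy0
  apply P.disjoint _ hy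
  have : y = (f + y - Q y • x) - f + Q y • x := by abel
  rw [this]
  exact X.add_mem (X.sub_mem h3 hf) (X.smul_mem _ hx)

theorem NPair.finrank_add (P : NPair Q hQ M X Y) :
    finrank F X + finrank F Y = finrank F (ι → F) := by
  have h1 : X ⊓ Y = ⊥ := by
    rw [eq_bot_iff]
    intro x hx
    rw [Submodule.mem_bot]
    exact P.disjoint hx.1 hx.2
  have h2 : X ⊔ Y = ⊤ := by
    rw [eq_top_iff]
    intro v _
    obtain ⟨x, hx, y, hy, rfl⟩ := P.sum v
    exact Submodule.add_mem_sup hx hy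
  have h3 := Submodule.finrank_sup_add_finrank_inf_eq X Y
  rw [h1, h2, finrank_bot, finrank_top, add_zero] at h3
  exact h3.symm

end npair5

section npair5main

variable {ι : Type} [Fintype ι] [DecidableEq ι] {F : Type*} [Field F] [Fintype F]

/-- The stabilizer of a nondegenerate subspace `W`, with complement `W'` of a different
dimension, is maximal in `Ω` (dimension at least 13; planes over fields with at most three
elements must be anisotropic). -/
theorem nondeg_stabilizer_isMaximalIn (Q : QuadraticForm F (ι → F))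
    (hQ : (QuadraticMap.polarBilin Q).Nondegenerate) (hn : 13 ≤ finrank F (ι → F))
    (W W' : Submodule F (ι → F)) (horth : ∀ x ∈ W, ∀ y ∈ W', polar ⇑Q x y = 0)
    (hsum : ∀ v, ∃ x ∈ W, ∃ y ∈ W', x + y = v) (hW0 : W ≠ ⊥) (hW'0 : W' ≠ ⊥)
    (hne : finrank F W ≠ finrank F W')
    (h2 : finrank F W = 2 → 4 ≤ Fintype.card F ∨ ∀ b ∈ W, Q b = 0 → b = 0)
    (h2' : finrank F W' = 2 → 4 ≤ Fintype.card F ∨ ∀ b ∈ W', Q b = 0 → b = 0) :
    Cfsg.Geo.IsMaximalIn (Cfsg.Geo.omegaGL ⇑Q)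
      (Cfsg.Geo.subspaceStabilizer W ⊓ Cfsg.Geo.omegaGL ⇑Q) := by
  classical
  have hn5 : 5 ≤ finrank F (ι → F) := by omega
  have hn2 : (2 : F) = 0 → 7 ≤ finrank F (ι → F) := by intro _; omega
  have horth' : ∀ y ∈ W', ∀ x ∈ W, polar ⇑Q y x = 0 := fun y hy x hx => by
    rw [polar_comm]; exact horth x hx y hy
  -- elements of the stabilizer
  have hbaseW : ∀ a ∈ W, ∀ b ∈ W, ∀ (hu : Q a = 0) (hab : polar ⇑Q a b = 0),
      eichlerElt Q hQ a b hu hab ∈
        stabSub Q W ⊓ commutator ↥(Cfsg.isometryGroup F ⇑Q) := by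
    intro a ha b hb hu hab
    refine ⟨?_, eichlerElt_mem_omega Q hQ hn5 hn2 a b hu hab⟩
    apply mem_stabSub_of_le
    intro x hx
    rw [eichlerElt_mulVec]
    exact W.sub_mem (W.sub_mem (W.add_mem hx (W.smul_mem _ hb)) (W.smul_mem _ ha))
      (W.smul_mem _ ha)
  have hbaseW' : ∀ a ∈ W', ∀ b ∈ W', ∀ (hu : Q a = 0) (hab : polar ⇑Q a b = 0),
      eichlerElt Q hQ a b hu hab ∈
        stabSub Q W ⊓ commutator ↥(Cfsg.isometryGroup F ⇑Q) := by
    intro a ha b hb hu hab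
    refine ⟨?_, eichlerElt_mem_omega Q hQ hn5 hn2 a b hu hab⟩
    apply mem_stabSub_of_le
    intro x hx
    rw [eichlerElt_mulVec, horth' a ha x hx, horth' b hb x hx]
    simpa using hx
  have hreflW : ∀ a ∈ W, ∀ b ∈ W', ∀ (ha : Q a ≠ 0) (hb : Q b ≠ 0), Q b = Q a →
      reflElt Q a ha * reflElt Q b hb ∈
        stabSub Q W ⊓ commutator ↥(Cfsg.isometryGroup F ⇑Q) := by
    intro a ha b hb hQa hQb hab
    refine ⟨?_, refl_mul_refl_mem_omega Q hQ a b hQa hQb hab⟩
    apply mem_stabSub_of_le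
    intro x hx
    show act Q (reflElt Q a hQa * reflElt Q b hQb) x ∈ W
    rw [act_mul, act_refl Q b, horth' b hb x hx, mul_zero, zero_smul, sub_zero, act_refl Q a]
    exact W.sub_mem hx (W.smul_mem _ ha)
  have hreflW' : ∀ a ∈ W', ∀ b ∈ W, ∀ (ha : Q a ≠ 0) (hb : Q b ≠ 0), Q b = Q a →
      reflElt Q a ha * reflElt Q b hb ∈
        stabSub Q W ⊓ commutator ↥(Cfsg.isometryGroup F ⇑Q) := by
    intro a ha b hb hQa hQb hab
    refine ⟨?_, refl_mul_refl_mem_omega Q hQ a b hQa hQb hab⟩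
    apply mem_stabSub_of_le
    intro x hx
    show act Q (reflElt Q a hQa * reflElt Q b hQb) x ∈ W
    rw [act_mul, act_refl Q b, act_refl Q a]
    have hmem : x - ((Q b)⁻¹ * polar ⇑Q b x) • b ∈ W := W.sub_mem hx (W.smul_mem _ hb)
    rw [horth' a ha _ hmem, mul_zero, zero_smul, sub_zero]
    exact hmem
  have hP : ∀ M : Subgroup ↥(Cfsg.isometryGroup F ⇑Q),
      stabSub Q W ⊓ commutator ↥(Cfsg.isometryGroup F ⇑Q) ≤ M → NPair Q hQ M W W' := by
    intro M hHM
    exact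
      { orth := horth
        sum := hsum
        base := fun a ha b hb hu hab => hHM (hbaseW a ha b hb hu hab)
        base' := fun a ha b hb hu hab => hHM (hbaseW' a ha b hb hu hab) }
  have P0 := hP _ (le_refl _)
  have hdimsum := P0.finrank_add
  apply isMaximalIn_stab_of Q W
  · -- properness
    rcases lt_or_gt_of_ne hne with hlt | hlt
    · obtain ⟨g, hgΩ, hg⟩ := P0.symm.exists_not_le (by omega) hW0 hn5 hn2
      refine ⟨g, hgΩ, fun hgW => hg ?_⟩
      have := P0.stab_of_stab g hgW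
      rw [mem_stabSub] at this
      rw [this]
    · obtain ⟨g, hgΩ, hg⟩ := P0.exists_not_le (by omega) hW'0 hn5 hn2
      refine ⟨g, hgΩ, fun hgW => hg ?_⟩
      rw [mem_stabSub] at hgW
      rw [hgW]
  · intro M hHM g hgM hgW
    have P := hP M hHM
    rcases lt_or_gt_of_ne hne with hlt | hlt
    · have hR : ReflHyp Q M W' W := fun a ha b hb hQa hQb hab =>
        hHM (hreflW' a ha b hb hQa hQb hab)
      apply P.symm.omega_le_of_not_le hR (by omega) hlt h2 hn5 hn2 g hgM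
      intro hle
      apply hgW
      apply P.symm.stab_of_stab g
      apply mem_stabSub_of_le
      intro x hx
      exact hle ((mem_mapSub Q g W' _).2 ⟨x, hx, rfl⟩)
    · have hR : ReflHyp Q M W W' := fun a ha b hb hQa hQb hab =>
        hHM (hreflW a ha b hb hQa hQb hab)
      apply P.omega_le_of_not_le hR (by omega) hlt h2' hn5 hn2 g hgM
      intro hle
      apply hgW
      apply mem_stabSub_of_le
      intro x hx
      exact hle ((mem_mapSub Q g W _).2 ⟨x, hx, rfl⟩)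

end npair5main

end Cfsg.Agent.Lib.Helper99
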