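import Cfsg.Agent.Lib.Helper99.NPair5

set_option autoImplicit false

/-!
Stabilizer of a nondegenerate subspace in `Ω`: bridge to the Prelude's formulation.
-/

namespace Cfsg.Agent.Lib.Helper99

open Matrix Module QuadraticMap
open Cfsg.Agent.Lib.Helper8 Cfsg.Agent.Lib.Helper13 Cfsg.Agent.Lib.Helper37

section npair6

variable {ι : Type} [Fintype ι] [DecidableEq ι] {F : Type*} [Field F] [Fintype F]

theorem polarBilin_isRefl (Q : QuadraticForm F (ι → F)) : (QuadraticMap.polarBilin Q).IsRefl := by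
  intro a b h
  show polar ⇑Q b a = 0
  rw [polar_comm]
  exact h

theorem nondegOn_decomp (Q : QuadraticForm F (ι → F)) (W : Submodule F (ι → F))
    (hW : Cfsg.Geo.IsNondegenerateOn (polar ⇑Q) W) :
    IsCompl W (LinearMap.BilinForm.orthogonal (QuadraticMap.polarBilin Q) W) := by
  rw [LinearMap.BilinForm.isCompl_orthogonal_iff_disjoint (polarBilin_isRefl Q)]
  rw [Submodule.disjoint_def]
  intro x hx hx'
  by_contra h0
  obtain ⟨⟨y, hyW, hy⟩, _⟩ := hW x hx h0
  apply hy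
  exact hx' y hyW

/-- The stabilizer of a nondegenerate subspace `W` with `2 dim W ≠ n` is maximal in `Ω`. -/
theorem nondeg_stabilizer_bridge (Q : QuadraticForm F (ι → F))
    (hQ : (QuadraticMap.polarBilin Q).Nondegenerate) (hn : 13 ≤ finrank F (ι → F))
    (W : Submodule F (ι → F)) (hW0 : W ≠ ⊥) (hW1 : W ≠ ⊤)
    (hdim : 2 * finrank F W ≠ finrank F (ι → F))
    (hW : Cfsg.Geo.IsNondegenerateOn (polar ⇑Q) W)
    (hex : ¬ (Fintype.card F ≤ 3 ∧ ∃ U : Submodule F (ι → F), finrank F U = 2 ∧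
      Cfsg.Geo.IsNondegenerateOn (polar ⇑Q) U ∧ Cfsg.Geo.IsPlusTypeOn ⇑Q U ∧
      (U = W ∨ (Cfsg.Geo.AreOrthogonalFor (polar ⇑Q) U W ∧
        finrank F U + finrank F W = finrank F (ι → F))))) :
    Cfsg.Geo.IsMaximalIn (Cfsg.Geo.omegaGL ⇑Q)
      (Cfsg.Geo.subspaceStabilizer W ⊓ Cfsg.Geo.omegaGL ⇑Q) := by
  classical
  have hc := nondegOn_decomp Q W hW
  set W' : Submodule F (ι → F) := LinearMap.BilinForm.orthogonal (QuadraticMap.polarBilin Q) W with hW'
  have horth : ∀ x ∈ W, ∀ y ∈ W', polar ⇑Q x y = 0 := fun x hx y hy => hy x hx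
  have hsum : ∀ v, ∃ x ∈ W, ∃ y ∈ W', x + y = v := by
    intro v
    have hv : v ∈ W ⊔ W' := by rw [hc.sup_eq_top]; trivial
    obtain ⟨a, ha, b, hb, hab⟩ := Submodule.mem_sup.mp hv
    exact ⟨a, ha, b, hb, hab⟩
  have hW'0 : W' ≠ ⊥ := by
    intro h
    apply hW1
    have := hc.sup_eq_top
    rw [h, sup_bot_eq] at this
    exact this
  have P : NPair Q hQ ⊤ W W' :=
    { orth := horth
      sum := hsum
      base := fun _ _ _ _ _ _ => Subgroup.mem_top _
      base' := fun _ _ _ _ _ _ => Subgroup.mem_top _ }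
  have hdimsum := P.finrank_add
  have hplane : ∀ U : Submodule F (ι → F), finrank F U = 2 →
      (∃ b ∈ U, Q b = 0 ∧ b ≠ 0) → Cfsg.Geo.IsPlusTypeOn ⇑Q U := by
    rintro U hU2 ⟨b, hb, hQb, hb0⟩
    refine ⟨Submodule.span F {b}, ?_, ?_, ?_⟩
    · rw [Submodule.span_le]
      intro z hz
      rw [Set.mem_singleton_iff] at hz
      rw [hz]
      exact hb
    · intro w hw
      obtain ⟨c, rfl⟩ := Submodule.mem_span_singleton.1 hw
      show Q (c • b) = 0
      rw [QuadraticMap.map_smul, hQb, smul_zero]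
    · rw [finrank_span_singleton hb0, hU2]
  apply nondeg_stabilizer_isMaximalIn Q hQ hn W W' horth hsum hW0 hW'0 (by omega)
  · intro hW2
    by_contra hcon
    push Not at hcon
    obtain ⟨hq, b, hb, hQb, hb0⟩ := hcon
    apply hex
    refine ⟨by omega, W, hW2, hW, hplane W hW2 ⟨b, hb, hQb, hb0⟩, Or.inl rfl⟩
  · intro hW2
    by_contra hcon
    push Not at hcon
    obtain ⟨hq, b, hb, hQb, hb0⟩ := hcon
    apply hex
    refine ⟨by omega, W', hW2, ?_, hplane W' hW2 ⟨b, hb, hQb, hb0⟩, Or.inr ⟨?_, by omega⟩⟩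
    · intro w hw hw0
      obtain ⟨x, hx, hwx⟩ := P.symm.exists_polar_ne hw hw0
      exact ⟨⟨x, hx, by rw [polar_comm]; exact hwx⟩, ⟨x, hx, hwx⟩⟩
    · intro u hu v hv
      show polar ⇑Q u v = 0
      rw [polar_comm]
      exact horth v hv u hu

end npair6

end Cfsg.Agent.Lib.Helper99
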