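import Cfsg.Agent.Lib.Helper99.IsoHalves

set_option autoImplicit false

/-!
Stabilizer of a nondegenerate subspace of half dimension which is not isometric to its orthogonal
complement: maximality in `Ω`.
-/

namespace Cfsg.Agent.Lib.Helper99

open Matrix Module QuadraticMap
open Cfsg.Agent.Lib.Helper8 Cfsg.Agent.Lib.Helper13 Cfsg.Agent.Lib.Helper37

section npair7

variable {ι : Type} [Fintype ι] [DecidableEq ι] {F : Type*} [Field F] [Fintype F]

theorem nondeg_half_stabilizer_isMaximalIn (Q : QuadraticForm F (ι → F))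
    (hQ : (QuadraticMap.polarBilin Q).Nondegenerate) (hn : 7 ≤ finrank F (ι → F))
    (W W' : Submodule F (ι → F)) (horth : ∀ x ∈ W, ∀ y ∈ W', polar ⇑Q x y = 0)
    (hsum : ∀ v, ∃ x ∈ W, ∃ y ∈ W', x + y = v) (hW6 : 6 ≤ finrank F W)
    (hW'3 : 3 ≤ finrank F W')
    (hni : ∀ g : ↥(Cfsg.isometryGroup F ⇑Q),
      ¬ ∀ x ∈ W, ((g : Matrix.GeneralLinearGroup ι F) : Matrix ι ι F) *ᵥ x ∈ W') :
    Cfsg.Geo.IsMaximalIn (Cfsg.Geo.omegaGL ⇑Q)
      (Cfsg.Geo.subspaceStabilizer W ⊓ Cfsg.Geo.omegaGL ⇑Q) := by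
  classical
  have hn5 : 5 ≤ finrank F (ι → F) := by omega
  have hn2 : (2 : F) = 0 → 7 ≤ finrank F (ι → F) := by intro _; omega
  have horth' : ∀ y ∈ W', ∀ x ∈ W, polar ⇑Q y x = 0 := fun y hy x hx => by
    rw [polar_comm]; exact horth x hx y hy
  have hbaseW : ∀ a ∈ W, ∀ b ∈ W, ∀ (hu : Q a = 0) (hab : polar ⇑Q a b = 0),
      eichlerElt Q hQ a b hu hab ∈
        stabSub Q W ⊓ commutator ↥(Cfsg.isometryGroup F ⇑Q) := by
    intro a ha b hb hu hab
    refine ⟨?_, eichlerElt_mem_omega Q hQ hn5 hn2 a b hu hab⟩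
    apply mem_stabSub_of_le
    intro x hx
    rw [eichlerElt_mulVec]
    exact W.sub_mem (W.sub_mem (W.add_mem hx (W.smul_mem _ hb)) (W.smul_mem _ ha))
      (W.smul_mem _ ha)
  have hbaseW' : ∀ a ∈ W', ∀ b ∈ W', ∀ (hu : Q a = 0) (hab : polar ⇑Q a b = 0),
      eichlerElt Q hQ a b hu hab ∈
        stabSub Q W ⊓ commutator ↥(Cfsg.isometryGroup F ⇑Q) := by
    intro a ha b hb hu hab
    refine ⟨?_, eichlerElt_mem_omega Q hQ hn5 hn2 a b hu hab⟩
    apply mem_stabSub_of_le
    intro x hx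
    rw [eichlerElt_mulVec, horth' a ha x hx, horth' b hb x hx]
    simpa using hx
  have hP : ∀ M : Subgroup ↥(Cfsg.isometryGroup F ⇑Q),
      stabSub Q W ⊓ commutator ↥(Cfsg.isometryGroup F ⇑Q) ≤ M → NPair Q hQ M W W' := by
    intro M hHM
    exact
      { orth := horth
        sum := hsum
        base := fun a ha b hb hu hab => hHM (hbaseW a ha b hb hu hab)
        base' := fun a ha b hb hu hab => hHM (hbaseW' a ha b hb hu hab) }
  have P0 := hP _ (le_refl _)
  have hW'0 : W' ≠ ⊥ := by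
    intro h
    rw [h, finrank_bot] at hW'3
    omega
  apply isMaximalIn_stab_of Q W
  · obtain ⟨g, hgΩ, hg⟩ := P0.exists_not_le (by omega) hW'0 hn5 hn2
    refine ⟨g, hgΩ, fun hgW => hg ?_⟩
    rw [mem_stabSub] at hgW
    rw [hgW]
  · intro M hHM g hgM hgW
    have P := hP M hHM
    by_cases hNB : NoBadTS Q hQ M W W'
    · exfalso
      have R := P.map g hgM
      rcases P.le_or_le R hNB (by rw [finrank_mapSub]; omega) with h | h
      · apply hgW
        apply mem_stabSub_of_le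
        intro x hx
        exact h ((mem_mapSub Q g W _).2 ⟨x, hx, rfl⟩)
      · apply hni g
        intro x hx
        exact h ((mem_mapSub Q g W _).2 ⟨x, hx, rfl⟩)
    · exact P.omega_le_of_bad hW6 hW'3 hn5 hn2 hNB

/-- Stabilizer of a nondegenerate subspace in an even-dimensional space of minus type. -/
theorem nondeg_stabilizer_minus_bridge (Q : QuadraticForm F (ι → F))
    (hQ : (QuadraticMap.polarBilin Q).Nondegenerate) (hn : 13 ≤ finrank F (ι → F))
    (hminus : ¬ Cfsg.Geo.IsPlusTypeOn ⇑Q ⊤)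
    (W : Submodule F (ι → F)) (hW0 : W ≠ ⊥) (hW1 : W ≠ ⊤)
    (hdim : ¬ (2 * finrank F W = finrank F (ι → F) ∧ Odd (finrank F W)))
    (hW : Cfsg.Geo.IsNondegenerateOn (polar ⇑Q) W)
    (hex : ¬ (Fintype.card F ≤ 3 ∧ ∃ U : Submodule F (ι → F), finrank F U = 2 ∧
      Cfsg.Geo.IsNondegenerateOn (polar ⇑Q) U ∧ Cfsg.Geo.IsPlusTypeOn ⇑Q U ∧
      (U = W ∨ (Cfsg.Geo.AreOrthogonalFor (polar ⇑Q) U W ∧
        finrank F U + finrank F W = finrank F (ι → F))))) :
    Cfsg.Geo.IsMaximalIn (Cfsg.Geo.omegaGL ⇑Q)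
      (Cfsg.Geo.subspaceStabilizer W ⊓ Cfsg.Geo.omegaGL ⇑Q) := by
  classical
  by_cases h2W : 2 * finrank F W = finrank F (ι → F)
  · have heven : Even (finrank F W) := by
      rw [← Nat.not_odd_iff_even]
      exact fun h => hdim ⟨h2W, h⟩
    obtain ⟨j, hj⟩ := heven
    have hc := nondegOn_decomp Q W hW
    set W' : Submodule F (ι → F) :=
      LinearMap.BilinForm.orthogonal (QuadraticMap.polarBilin Q) W with hW'
    have horth : ∀ x ∈ W, ∀ y ∈ W', polar ⇑Q x y = 0 := fun x hx y hy => hy x hx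
    have hsum : ∀ v, ∃ x ∈ W, ∃ y ∈ W', x + y = v := by
      intro v
      have hv : v ∈ W ⊔ W' := by rw [hc.sup_eq_top]; trivial
      obtain ⟨a, ha, b, hb, hab⟩ := Submodule.mem_sup.mp hv
      exact ⟨a, ha, b, hb, hab⟩
    have P : NPair Q hQ ⊤ W W' :=
      { orth := horth
        sum := hsum
        base := fun _ _ _ _ _ _ => Subgroup.mem_top _
        base' := fun _ _ _ _ _ _ => Subgroup.mem_top _ }
    have hdimsum := P.finrank_add
    apply nondeg_half_stabilizer_isMaximalIn Q hQ (by omega) W W' horth hsum (by omega) (by omega)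
    intro g hg
    obtain ⟨U, hU, hUfr⟩ := exists_ts_of_isometric_halves Q W W' horth
      (fun w hw h => P.nondeg hw h) j (by omega)
      (Matrix.mulVecLin ((g : Matrix.GeneralLinearGroup ι F) : Matrix ι ι F))
      (fun w hw => by rw [Matrix.mulVecLin_apply]; exact hg w hw)
      (fun v => by rw [Matrix.mulVecLin_apply]; exact isoElt_preserves Q g v)
    apply hminus
    refine ⟨U, le_top, hU, ?_⟩
    rw [finrank_top]
    omega
  · exact nondeg_stabilizer_bridge Q hQ hn W hW0 hW1 h2W hW hex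

end npair7

end Cfsg.Agent.Lib.Helper99
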