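import Cfsg.Agent.Lib.Helper37.ParabolicBridge

set_option autoImplicit false

/-!
Stabilizer of a pair of complementary totally singular subspaces in `Ω⁺`: root lines and pairs.
-/

namespace Cfsg.Agent.Lib.Helper99

open Matrix Module QuadraticMap
open Cfsg.Agent.Lib.Helper8 Cfsg.Agent.Lib.Helper13 Cfsg.Agent.Lib.Helper37

section opair1

variable {ι : Type} [Fintype ι] [DecidableEq ι] {F : Type*} [Field F]
variable (Q : QuadraticForm F (ι → F)) (hQ : (QuadraticMap.polarBilin Q).Nondegenerate)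

/-- the root group of the line `⟨u, v⟩` is contained in `M` -/
def orootLine (M : Subgroup ↥(Cfsg.isometryGroup F ⇑Q)) (u v : ι → F) : Prop :=
  ∀ (c : F) (hu : Q u = 0) (huv : polar ⇑Q u (c • v) = 0), eichlerElt Q hQ u (c • v) hu huv ∈ M

theorem eichlerElt_swap (u v : ι → F) (hu : Q u = 0) (hv : Q v = 0) (huv : polar ⇑Q u v = 0) :
    eichlerElt Q hQ v u hv (by rw [polar_comm]; exact huv)
      = eichlerElt Q hQ u (-v) hu (by rw [polar_neg_right, huv, neg_zero]) := by
  apply iso_ext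
  intro x
  rw [eichlerElt_mulVec, eichlerElt_mulVec]
  simp only [polar_neg_left, QuadraticMap.map_neg, hu, hv, zero_mul, zero_smul, sub_zero]
  module

variable {Q hQ}

theorem orootLine_swap {M : Subgroup ↥(Cfsg.isometryGroup F ⇑Q)} {u v : ι → F} (hu : Q u = 0)
    (hv : Q v = 0) (huv : polar ⇑Q u v = 0) (h : orootLine Q hQ M u v) : orootLine Q hQ M v u := by
  intro c hv' hvu'
  have h1 : polar ⇑Q (c • u) v = 0 := by rw [polar_smul_left, huv, smul_zero]
  have hcu : Q (c • u) = 0 := by rw [QuadraticMap.map_smul, hu, smul_zero]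
  have e1 := eichlerElt_swap Q hQ (c • u) v hcu hv h1
  have h2 : polar ⇑Q u (c • -v) = 0 := by
    rw [polar_smul_right, polar_neg_right, huv, neg_zero, smul_zero]
  have e2 := eichlerElt_smul_left Q hQ u (-v) hu (by rw [polar_neg_right, huv, neg_zero]) c
  have e3 : eichlerElt Q hQ v (c • u) hv' hvu' = eichlerElt Q hQ u ((-c) • v) hu
      (by rw [polar_smul_right, huv, smul_zero]) := by
    rw [eichlerElt_congr Q hQ v (c • u) v (c • u) hv' hvu' hv (by rw [polar_comm]; exact h1) rfl rfl,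
      e1, e2]
    exact eichlerElt_congr Q hQ _ _ _ _ _ _ _ _ rfl (by module)
  rw [e3]
  exact h (-c) hu _

/-- A pair of complementary totally singular subspaces whose mixed root elements lie in `M`. -/
structure OPair (Q : QuadraticForm F (ι → F)) (hQ : (QuadraticMap.polarBilin Q).Nondegenerate)
    (M : Subgroup ↥(Cfsg.isometryGroup F ⇑Q)) (A A' : Submodule F (ι → F)) : Prop where
  ts : ∀ x ∈ A, Q x = 0
  ts' : ∀ x ∈ A', Q x = 0
  sum : ∀ x, ∃ x1 ∈ A, ∃ x2 ∈ A', x1 + x2 = x
  dim : 5 ≤ finrank F A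
  dim' : 5 ≤ finrank F A'
  base : ∀ a ∈ A, ∀ b ∈ A', ∀ (hu : Q a = 0) (hab : polar ⇑Q a b = 0),
    eichlerElt Q hQ a b hu hab ∈ M

variable {M : Subgroup ↥(Cfsg.isometryGroup F ⇑Q)} {A A' B B' : Submodule F (ι → F)}

theorem OPair.polar_zero (P : OPair Q hQ M A A') {x y : ι → F} (hx : x ∈ A) (hy : y ∈ A) :
    polar ⇑Q x y = 0 := polar_eq_zero_of_quad_zero Q A P.ts x y hx hy

theorem OPair.polar_zero' (P : OPair Q hQ M A A') {x y : ι → F} (hx : x ∈ A') (hy : y ∈ A') :
    polar ⇑Q x y = 0 := polar_eq_zero_of_quad_zero Q A' P.ts' x y hx hy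

theorem OPair.symm (P : OPair Q hQ M A A') : OPair Q hQ M A' A where
  ts := P.ts'
  ts' := P.ts
  sum := fun x => by
    obtain ⟨x1, hx1, x2, hx2, hx⟩ := P.sum x
    exact ⟨x2, hx2, x1, hx1, by rw [add_comm]; exact hx⟩
  dim := P.dim'
  dim' := P.dim
  base := fun b hb a ha hu hba => by
    have hab : polar ⇑Q a b = 0 := by rw [polar_comm]; exact hba
    have e1 := eichlerElt_swap Q hQ a b (P.ts a ha) hu hab
    rw [eichlerElt_congr Q hQ b a b a hu hba hu (by rw [polar_comm]; exact hab) rfl rfl, e1]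
    exact P.base a ha (-b) (A'.neg_mem hb) _ _

theorem OPair.orootLine_base (P : OPair Q hQ M A A') {a b : ι → F} (ha : a ∈ A) (hb : b ∈ A') :
    orootLine Q hQ M a b := fun c hu huv => P.base a ha (c • b) (A'.smul_mem c hb) hu huv

/-- The image of a pair under an element of `M`. -/
theorem OPair.map (P : OPair Q hQ M A A') (g : ↥(Cfsg.isometryGroup F ⇑Q)) (hg : g ∈ M) :
    OPair Q hQ M (mapSub Q g A) (mapSub Q g A') where
  ts := by
    intro y hy
    obtain ⟨x, hx, rfl⟩ := (mem_mapSub Q g A y).1 hy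
    rw [isoElt_preserves]
    exact P.ts x hx
  ts' := by
    intro y hy
    obtain ⟨x, hx, rfl⟩ := (mem_mapSub Q g A' y).1 hy
    rw [isoElt_preserves]
    exact P.ts' x hx
  sum := fun x => by
    obtain ⟨x1, hx1, x2, hx2, hx⟩ := P.sum
      ((((g⁻¹ : ↥(Cfsg.isometryGroup F ⇑Q)) : Matrix.GeneralLinearGroup ι F) : Matrix ι ι F) *ᵥ x)
    refine ⟨_, (mem_mapSub Q g A _).2 ⟨x1, hx1, rfl⟩, _, (mem_mapSub Q g A' _).2 ⟨x2, hx2, rfl⟩, ?_⟩
    rw [← Matrix.mulVec_add, hx, coe_inv_mulVec]
  dim := by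
    have : finrank F (mapSub Q g A) = finrank F A := by
      unfold mapSub
      apply LinearEquiv.finrank_eq
      exact (Submodule.equivMapOfInjective _ (by
        intro a b hab
        simp only [Matrix.mulVecLin_apply] at hab
        have := congrArg (fun z => (((g⁻¹ : ↥(Cfsg.isometryGroup F ⇑Q)) :
          Matrix.GeneralLinearGroup ι F) : Matrix ι ι F) *ᵥ z) hab
        simpa only [coe_inv_mulVec'] using this) A).symm
    rw [this]
    exact P.dim
  dim' := by
    have : finrank F (mapSub Q g A') = finrank F A' := by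
      unfold mapSub
      apply LinearEquiv.finrank_eq
      exact (Submodule.equivMapOfInjective _ (by
        intro a b hab
        simp only [Matrix.mulVecLin_apply] at hab
        have := congrArg (fun z => (((g⁻¹ : ↥(Cfsg.isometryGroup F ⇑Q)) :
          Matrix.GeneralLinearGroup ι F) : Matrix ι ι F) *ᵥ z) hab
        simpa only [coe_inv_mulVec'] using this) A').symm
    rw [this]
    exact P.dim'
  base := by
    intro y hy z hz hu hyz
    obtain ⟨a, ha, rfl⟩ := (mem_mapSub Q g A y).1 hy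
    obtain ⟨b, hb, rfl⟩ := (mem_mapSub Q g A' z).1 hz
    have hab : polar ⇑Q a b = 0 := by rw [← iso_polar Q g]; exact hyz
    have h1 := conj_eichlerElt Q hQ g a b (P.ts a ha) hab
    rw [show eichlerElt Q hQ _ _ hu hyz = _ from h1.symm]
    exact M.mul_mem (M.mul_mem hg (P.base a ha b hb _ hab)) (M.inv_mem hg)

/-- Duality: a vector of `A` outside a subspace of `A` is detected by a vector of `A'` orthogonal
to the subspace. -/
theorem OPair.exists_dual (P : OPair Q hQ M A A') (S : Submodule F (ι → F)) (hS : S ≤ A)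
    (y : ι → F) (hy : y ∈ A) (hyS : y ∉ S) :
    ∃ b ∈ A', (∀ s ∈ S, polar ⇑Q s b = 0) ∧ polar ⇑Q y b ≠ 0 := by
  obtain ⟨u, hu1, hu2⟩ := exists_orth_of_notMem Q hQ S y hyS
  obtain ⟨u1, hu1A, u2, hu2A, rfl⟩ := P.sum u
  refine ⟨u2, hu2A, ?_, ?_⟩
  · intro s hs
    have := hu1 s hs
    rw [polar_add_left, P.polar_zero hu1A (hS hs), zero_add] at this
    rw [polar_comm]
    exact this
  · rw [polar_add_left, P.polar_zero hu1A hy, zero_add] at hu2
    rw [polar_comm]
    exact hu2

theorem finrank_span_pair_le_two (s t : ι → F) : finrank F (Submodule.span F {s, t}) ≤ 2 := by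
  classical
  have h := finrank_span_finset_le_card (R := F) ({s, t} : Finset (ι → F))
  rw [Finset.coe_pair] at h
  exact le_trans h Finset.card_le_two

/-- In a subspace of dimension at least five, some vector orthogonal to two given vectors lies
outside a given subspace of dimension at most two. -/
theorem exists_perp_two_notMem (X : Submodule F (ι → F)) (hX : 5 ≤ finrank F X)
    (p p' : ι → F) (T : Submodule F (ι → F)) (hT : finrank F T ≤ 2) :
    ∃ x ∈ X, polar ⇑Q p x = 0 ∧ polar ⇑Q p' x = 0 ∧ x ∉ T := by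
  let L : X →ₗ[F] F × F :=
    ((QuadraticMap.polarBilin Q p).prod (QuadraticMap.polarBilin Q p')).comp X.subtype
  let K : Submodule F X := LinearMap.ker L
  let T' : Submodule F X := T.comap X.subtype
  have h1 : finrank F (LinearMap.range L) + finrank F K = finrank F X :=
    LinearMap.finrank_range_add_finrank_ker L
  have h2 : finrank F (LinearMap.range L) ≤ 2 := by
    have := Submodule.finrank_le (LinearMap.range L)
    rw [Module.finrank_prod, Module.finrank_self] at this
    exact this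
  have h3 : finrank F T' ≤ 2 := by
    have hle : finrank F T' ≤ finrank F T := by
      rw [← Submodule.finrank_map_subtype_eq X T']
      exact Submodule.finrank_mono (Submodule.map_comap_le X.subtype T)
    omega
  have hnot : ¬ K ≤ T' := by
    intro hle
    have := Submodule.finrank_mono hle
    omega
  obtain ⟨x, hxK, hxT⟩ := SetLike.not_le_iff_exists.1 hnot
  rw [LinearMap.mem_ker] at hxK
  have e1 : polar ⇑Q p (x : ι → F) = 0 := congrArg Prod.fst hxK
  have e2 : polar ⇑Q p' (x : ι → F) = 0 := congrArg Prod.snd hxK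
  exact ⟨x, x.2, e1, e2, fun h => hxT h⟩

/-- Projection of a root line through a point of `A`. -/
theorem OPair.orootLine_proj (P : OPair Q hQ M A A') {a₁ v v1 v2 : ι → F} (ha₁ : a₁ ∈ A)
    (hv1 : v1 ∈ A) (hv2 : v2 ∈ A') (hv : v1 + v2 = v) (hav : polar ⇑Q a₁ v = 0)
    (h : orootLine Q hQ M a₁ v) : orootLine Q hQ M a₁ v1 := by
  intro c hu huv
  have hav1 : polar ⇑Q a₁ v1 = 0 := P.polar_zero ha₁ hv1
  have hav2 : polar ⇑Q a₁ v2 = 0 := by
    rw [← hv, polar_add_right, hav1, zero_add] at hav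
    exact hav
  have h1 : polar ⇑Q a₁ (c • v) = 0 := by rw [polar_smul_right, hav, smul_zero]
  have h2 : polar ⇑Q a₁ ((-c) • v2) = 0 := by rw [polar_smul_right, hav2, smul_zero]
  have e := eichlerElt_mul Q hQ a₁ (c • v) ((-c) • v2) hu h1 h2
  have e' : eichlerElt Q hQ a₁ (c • v1) hu huv = eichlerElt Q hQ a₁ (c • v + (-c) • v2) hu
      (by rw [polar_add_right, h1, h2, add_zero]) := by
    apply eichlerElt_congr Q hQ _ _ _ _ _ _ _ _ rfl
    rw [← hv]
    module
  rw [e', ← e]
  exact M.mul_mem (h c hu h1) (P.base a₁ ha₁ _ (A'.smul_mem _ hv2) hu h2)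

/-- The commutator rule for root lines. -/
theorem orootLine_comm {e₁ e₂ w w' : ι → F} (h1 : Q e₁ = 0) (h2 : Q e₂ = 0)
    (h12 : polar ⇑Q e₁ e₂ = 0) (h1w : polar ⇑Q e₁ w = 0) (h2w : polar ⇑Q e₂ w = 0)
    (h1w' : polar ⇑Q e₁ w' = 0) (h2w' : polar ⇑Q e₂ w' = 0) (hne : polar ⇑Q w' w ≠ 0)
    (hM : orootLine Q hQ M e₁ w) (hM' : eichlerElt Q hQ e₂ w' h2 h2w' ∈ M) :
    orootLine Q hQ M e₁ e₂ := by
  intro c hu huv
  set c' : F := -c / polar ⇑Q w' w with hc'
  have h1w2 : polar ⇑Q e₁ (c' • w) = 0 := by rw [polar_smul_right, h1w, smul_zero]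
  have h2w2 : polar ⇑Q e₂ (c' • w) = 0 := by rw [polar_smul_right, h2w, smul_zero]
  have hcomm := eichler_commutator Q hQ e₁ e₂ (c' • w) w' h1 h2 h12 h1w2 h2w2 h1w' h2w'
  have e : eichlerElt Q hQ e₁ (c • e₂) hu huv = eichlerElt Q hQ e₁
      ((- polar ⇑Q w' (c' • w)) • e₂) h1 (by rw [polar_smul_right, h12, smul_zero]) := by
    apply eichlerElt_congr Q hQ _ _ _ _ _ _ _ _ rfl
    congr 1
    rw [polar_smul_right, smul_eq_mul, hc']
    field_simp
  rw [e, ← hcomm]
  exact Subgroup.commutator_mem_commutator (H₁ := M) (H₂ := M) hM' (hM c' h1 h1w2) |>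
    (Subgroup.commutator_le_self M |> fun h => h) |> fun h => h

end opair1

end Cfsg.Agent.Lib.Helper99
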