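import Cfsg.Agent.Lib.Helper99.OPair1

set_option autoImplicit false

/-!
Stabilizer of a pair of complementary totally singular subspaces in `Ω⁺`: rigidity.  If the
overgroup `M` contains no root group of a line inside `B` or `B'`, then every pair whose mixed
root elements lie in `M` coincides with `(B, B')` up to order.
-/

namespace Cfsg.Agent.Lib.Helper99

open Matrix Module QuadraticMap
open Cfsg.Agent.Lib.Helper8 Cfsg.Agent.Lib.Helper13 Cfsg.Agent.Lib.Helper37

section opair2

variable {ι : Type} [Fintype ι] [DecidableEq ι] {F : Type*} [Field F]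
variable {Q : QuadraticForm F (ι → F)} {hQ : (QuadraticMap.polarBilin Q).Nondegenerate}
variable {M : Subgroup ↥(Cfsg.isometryGroup F ⇑Q)} {A A' B B' : Submodule F (ι → F)}

/-- `M` contains no root group of a line inside `A`. -/
def NoBadLine (Q : QuadraticForm F (ι → F)) (hQ : (QuadraticMap.polarBilin Q).Nondegenerate)
    (M : Subgroup ↥(Cfsg.isometryGroup F ⇑Q)) (A : Submodule F (ι → F)) : Prop :=
  ∀ a ∈ A, a ≠ 0 → ∀ a' ∈ A, orootLine Q hQ M a a' → a' ∈ Submodule.span F {a}

/-- Step 1: the `B`-components of two vectors spanning a root line of `M` are dependent. -/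
theorem OPair.comp_dependent (P : OPair Q hQ M B B') (hNB : NoBadLine Q hQ M B)
    {x y x1 x2 y1 y2 : ι → F} (hx : Q x = 0) (hxy : polar ⇑Q x y = 0)
    (hx1 : x1 ∈ B) (hx2 : x2 ∈ B') (hxs : x1 + x2 = x)
    (hy1 : y1 ∈ B) (hy2 : y2 ∈ B') (hys : y1 + y2 = y)
    (hR : orootLine Q hQ M x y) (hx10 : x1 ≠ 0) : y1 ∈ Submodule.span F {x1} := by
  by_contra hcon
  set T : Submodule F (ι → F) := Submodule.span F {x1, y1} with hT
  -- (a) a vector of `B` orthogonal to `x` and `y`, outside `T`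
  obtain ⟨a₁, ha₁, hax2, hay2, haT⟩ := exists_perp_two_notMem (Q := Q) B P.dim x2 y2 T
    (finrank_span_pair_le_two x1 y1)
  have ha₁0 : a₁ ≠ 0 := by
    rintro rfl
    exact haT T.zero_mem
  have hxa : polar ⇑Q x a₁ = 0 := by
    rw [← hxs, polar_add_left, P.polar_zero hx1 ha₁, zero_add]
    exact hax2
  have hya : polar ⇑Q y a₁ = 0 := by
    rw [← hys, polar_add_left, P.polar_zero hy1 ha₁, zero_add]
    exact hay2
  -- (b) `y1 ∉ span {a₁, x1}`
  have hy1S : y1 ∉ Submodule.span F {a₁, x1} := by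
    intro hmem
    obtain ⟨α, β, hαβ⟩ := Submodule.mem_span_pair.1 hmem
    by_cases hα : α = 0
    · apply hcon
      rw [Submodule.mem_span_singleton]
      refine ⟨β, ?_⟩
      rw [← hαβ, hα, zero_smul, zero_add]
    · apply haT
      have : a₁ = α⁻¹ • y1 + (-(α⁻¹ * β)) • x1 := by
        rw [← hαβ, smul_add, smul_smul, smul_smul, inv_mul_cancel₀ hα, one_smul]
        module
      rw [this, hT]
      exact Submodule.add_mem _
        (Submodule.smul_mem _ _ (Submodule.subset_span (by simp)))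
        (Submodule.smul_mem _ _ (Submodule.subset_span (by simp)))
  -- (c) duality
  have hSB : Submodule.span F {a₁, x1} ≤ B := by
    rw [Submodule.span_le]
    intro z hz
    rcases hz with rfl | rfl
    · exact ha₁
    · exact hx1
  obtain ⟨b₁, hb₁, hb₁S, hb₁y⟩ := P.exists_dual _ hSB y1 hy1 hy1S
  have hab : polar ⇑Q a₁ b₁ = 0 := hb₁S a₁ (Submodule.subset_span (by simp))
  have hx1b : polar ⇑Q x1 b₁ = 0 := hb₁S x1 (Submodule.subset_span (by simp))
  have hxb : polar ⇑Q x b₁ = 0 := by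
    rw [← hxs, polar_add_left, hx1b, P.polar_zero' hx2 hb₁, add_zero]
  have hby : polar ⇑Q b₁ y ≠ 0 := by
    rw [← hys, polar_add_right, P.polar_zero' hb₁ hy2, add_zero, polar_comm]
    exact hb₁y
  -- (d) the commutator rule
  have hRa : orootLine Q hQ M x a₁ :=
    orootLine_comm hx (P.ts a₁ ha₁) hxa hxy (by rw [polar_comm]; exact hya) hxb hab hby hR
      (P.base a₁ ha₁ b₁ hb₁ _ hab)
  -- (e), (f)
  have hRa' : orootLine Q hQ M a₁ x := orootLine_swap hx (P.ts a₁ ha₁) hxa hRa
  have hRa1 : orootLine Q hQ M a₁ x1 :=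
    P.orootLine_proj ha₁ hx1 hx2 hxs (by rw [polar_comm]; exact hxa) hRa'
  have hmem := hNB a₁ ha₁ ha₁0 x1 hx1 hRa1
  obtain ⟨l, hl⟩ := Submodule.mem_span_singleton.1 hmem
  have hl0 : l ≠ 0 := by
    rintro rfl
    rw [zero_smul] at hl
    exact hx10 hl.symm
  apply haT
  have : a₁ = l⁻¹ • x1 := by rw [← hl, smul_smul, inv_mul_cancel₀ hl0, one_smul]
  rw [this, hT]
  exact Submodule.smul_mem _ _ (Submodule.subset_span (by simp))

/-- Step 2: every vector of `A` lies in `B` or in `B'`. -/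
theorem OPair.mem_or_mem (P : OPair Q hQ M B B') (R : OPair Q hQ M A A')
    (hNB : NoBadLine Q hQ M B) (hNB' : NoBadLine Q hQ M B') (x : ι → F) (hx : x ∈ A) :
    x ∈ B ∨ x ∈ B' := by
  obtain ⟨x1, hx1, x2, hx2, hxs⟩ := P.sum x
  by_cases hx10 : x1 = 0
  · right
    rw [← hxs, hx10, zero_add]
    exact hx2
  by_cases hx20 : x2 = 0
  · left
    rw [← hxs, hx20, add_zero]
    exact hx1
  exfalso
  obtain ⟨y, hy, hxy, -, hyT⟩ := exists_perp_two_notMem (Q := Q) A' R.dim' x x
    (Submodule.span F {x1, x2}) (finrank_span_pair_le_two x1 x2)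
  obtain ⟨y1, hy1, y2, hy2, hys⟩ := P.sum y
  have hR : orootLine Q hQ M x y := R.orootLine_base hx hy
  have h1 := P.comp_dependent hNB (R.ts x hx) hxy hx1 hx2 hxs hy1 hy2 hys hR hx10
  have h2 := P.symm.comp_dependent hNB' (R.ts x hx) hxy hx2 hx1
    (by rw [add_comm]; exact hxs) hy2 hy1 (by rw [add_comm]; exact hys) hR hx20
  obtain ⟨l1, hl1⟩ := Submodule.mem_span_singleton.1 h1
  obtain ⟨l2, hl2⟩ := Submodule.mem_span_singleton.1 h2
  apply hyT
  rw [← hys, ← hl1, ← hl2]
  exact Submodule.add_mem _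
    (Submodule.smul_mem _ _ (Submodule.subset_span (by simp)))
    (Submodule.smul_mem _ _ (Submodule.subset_span (by simp)))

/-- Step 3: `A` is contained in `B` or in `B'`. -/
theorem OPair.le_or_le (P : OPair Q hQ M B B') (R : OPair Q hQ M A A')
    (hNB : NoBadLine Q hQ M B) (hNB' : NoBadLine Q hQ M B') : A ≤ B ∨ A ≤ B' := by
  by_contra hcon
  push Not at hcon
  obtain ⟨h1, h2⟩ := hcon
  obtain ⟨x, hxA, hxB⟩ := SetLike.not_le_iff_exists.1 h1
  obtain ⟨x', hx'A, hx'B⟩ := SetLike.not_le_iff_exists.1 h2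
  have hx : x ∈ B' := (P.mem_or_mem R hNB hNB' x hxA).resolve_left hxB
  have hx' : x' ∈ B := (P.mem_or_mem R hNB hNB' x' hx'A).resolve_right hx'B
  rcases P.mem_or_mem R hNB hNB' (x + x') (A.add_mem hxA hx'A) with h | h
  · apply hxB
    have : x = (x + x') - x' := by abel
    rw [this]
    exact B.sub_mem h hx'
  · apply hx'B
    have : x' = (x + x') - x := by abel
    rw [this]
    exact B'.sub_mem h hx

end opair2

end Cfsg.Agent.Lib.Helper99
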