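import Cfsg.Agent.Lib.Helper99.OPair2

set_option autoImplicit false

/-!
Stabilizer of a pair of complementary totally singular subspaces in `Ω⁺`: spreading.  A root
group of a line inside `B` forces all Eichler transformations based at points of `B` into `M`.
-/

namespace Cfsg.Agent.Lib.Helper99

open Matrix Module QuadraticMap
open Cfsg.Agent.Lib.Helper8 Cfsg.Agent.Lib.Helper13 Cfsg.Agent.Lib.Helper37

section opair3

variable {ι : Type} [Fintype ι] [DecidableEq ι] {F : Type*} [Field F]
variable {Q : QuadraticForm F (ι → F)} {hQ : (QuadraticMap.polarBilin Q).Nondegenerate}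
variable {M : Subgroup ↥(Cfsg.isometryGroup F ⇑Q)} {A A' B B' : Submodule F (ι → F)}

/-- All lines of `B` through `a` are root lines once one of them is. -/
theorem OPair.orootLine_all (P : OPair Q hQ M B B') {a a' : ι → F} (ha : a ∈ B) (ha' : a' ∈ B)
    (hind : a' ∉ Submodule.span F {a}) (hR : orootLine Q hQ M a a') (a₁ : ι → F) (ha₁ : a₁ ∈ B) :
    orootLine Q hQ M a a₁ := by
  by_cases hmem : a₁ ∈ Submodule.span F {a, a'}
  · obtain ⟨α, β, hαβ⟩ := Submodule.mem_span_pair.1 hmem
    intro c hu huv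
    have h1 : polar ⇑Q a ((c * β) • a') = 0 := by
      rw [polar_smul_right, P.polar_zero ha ha', smul_zero]
    have e := eichlerElt_add_smul Q hQ a ((c * β) • a') hu h1 (c * α)
    have e' : eichlerElt Q hQ a (c • a₁) hu huv = eichlerElt Q hQ a
        ((c * β) • a' + (c * α) • a) hu (by
          rw [polar_add_right, h1, polar_smul_right, polar_self, hu]; simp) := by
      apply eichlerElt_congr Q hQ _ _ _ _ _ _ _ _ rfl
      rw [← hαβ]
      module
    rw [e', e]
    exact hR _ hu h1
  · -- `a' ∉ span {a, a₁}`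
    have ha'S : a' ∉ Submodule.span F {a, a₁} := by
      intro h
      obtain ⟨α, β, hαβ⟩ := Submodule.mem_span_pair.1 h
      by_cases hβ : β = 0
      · apply hind
        rw [Submodule.mem_span_singleton]
        refine ⟨α, ?_⟩
        rw [← hαβ, hβ, zero_smul, add_zero]
      · apply hmem
        have : a₁ = β⁻¹ • a' + (-(β⁻¹ * α)) • a := by
          rw [← hαβ, smul_add, smul_smul, smul_smul, inv_mul_cancel₀ hβ, one_smul]
          module
        rw [this]
        exact Submodule.add_mem _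
          (Submodule.smul_mem _ _ (Submodule.subset_span (by simp)))
          (Submodule.smul_mem _ _ (Submodule.subset_span (by simp)))
    have hSB : Submodule.span F {a, a₁} ≤ B := by
      rw [Submodule.span_le]
      intro z hz
      rcases hz with rfl | rfl
      · exact ha
      · exact ha₁
    obtain ⟨b₁, hb₁, hb₁S, hb₁a'⟩ := P.exists_dual _ hSB a' ha' ha'S
    have hab : polar ⇑Q a b₁ = 0 := hb₁S a (Submodule.subset_span (by simp))
    have ha₁b : polar ⇑Q a₁ b₁ = 0 := hb₁S a₁ (Submodule.subset_span (by simp))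
    exact orootLine_comm (P.ts a ha) (P.ts a₁ ha₁) (P.polar_zero ha ha₁) (P.polar_zero ha ha')
      (P.polar_zero ha₁ ha') hab ha₁b (by rw [polar_comm]; exact hb₁a') hR
      (P.base a₁ ha₁ b₁ hb₁ _ ha₁b)

/-- A point of `B` on a root line inside `B` is root-full. -/
theorem OPair.rootFull_of_badLine (P : OPair Q hQ M B B') {a a' : ι → F} (ha : a ∈ B)
    (ha' : a' ∈ B) (hind : a' ∉ Submodule.span F {a}) (hR : orootLine Q hQ M a a') :
    rootFull Q hQ M a := by
  intro v hu huv
  obtain ⟨v1, hv1, v2, hv2, hvs⟩ := P.sum v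
  have hav1 : polar ⇑Q a v1 = 0 := P.polar_zero ha hv1
  have hav2 : polar ⇑Q a v2 = 0 := by
    rw [← hvs, polar_add_right, hav1, zero_add] at huv
    exact huv
  have e := eichlerElt_mul Q hQ a v1 v2 hu hav1 hav2
  rw [eichlerElt_congr Q hQ a v a (v1 + v2) hu huv hu (by rw [polar_add_right, hav1, hav2, add_zero])
    rfl hvs.symm, ← e]
  have h1 := P.orootLine_all ha ha' hind hR v1 hv1 1 hu (by rw [one_smul]; exact hav1)
  rw [eichlerElt_congr Q hQ a ((1 : F) • v1) a v1 hu _ hu hav1 rfl (one_smul _ _)] at h1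
  exact M.mul_mem h1 (P.base a ha v2 hv2 hu hav2)

/-- Every point of `B` is root-full as soon as `M` contains the root group of a line inside `B`. -/
theorem OPair.rootFull_of_mem (P : OPair Q hQ M B B') {a a' : ι → F} (ha : a ∈ B) (ha0 : a ≠ 0)
    (ha' : a' ∈ B) (hind : a' ∉ Submodule.span F {a}) (hR : orootLine Q hQ M a a') (a₁ : ι → F)
    (ha₁ : a₁ ∈ B) : rootFull Q hQ M a₁ := by
  have hfa := P.rootFull_of_badLine ha ha' hind hR
  by_cases hmem : a₁ ∈ Submodule.span F {a}
  · obtain ⟨c, rfl⟩ := Submodule.mem_span_singleton.1 hmem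
    exact rootFull_smul Q hQ M c a (P.ts a ha) hfa
  · have hR1 : orootLine Q hQ M a a₁ := P.orootLine_all ha ha' hind hR a₁ ha₁
    have hR2 : orootLine Q hQ M a₁ a :=
      orootLine_swap (P.ts a ha) (P.ts a₁ ha₁) (P.polar_zero ha ha₁) hR1
    have hind' : a ∉ Submodule.span F {a₁} := by
      intro h
      obtain ⟨c, hc⟩ := Submodule.mem_span_singleton.1 h
      have hc0 : c ≠ 0 := by
        rintro rfl
        rw [zero_smul] at hc
        exact ha0 hc.symm
      apply hmem
      rw [Submodule.mem_span_singleton]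
      refine ⟨c⁻¹, ?_⟩
      rw [← hc, smul_smul, inv_mul_cancel₀ hc0, one_smul]
    exact P.rootFull_of_badLine ha₁ ha hind' hR2

/-- With a swap in `M`, a root group of a line inside `B` forces `Ω ≤ M`. -/
theorem OPair.omega_le_of_badLine [Fintype F] (P : OPair Q hQ M B B')
    (hn : 5 ≤ finrank F (ι → F)) (hn2 : (2 : F) = 0 → 7 ≤ finrank F (ι → F))
    (s : ↥(Cfsg.isometryGroup F ⇑Q)) (hsM : s ∈ M)
    (hs : ∀ x ∈ B, ((s : Matrix.GeneralLinearGroup ι F) : Matrix ι ι F) *ᵥ x ∈ B')
    {a a' : ι → F} (ha : a ∈ B) (ha0 : a ≠ 0)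
    (ha' : a' ∈ B) (hind : a' ∉ Submodule.span F {a}) (hR : orootLine Q hQ M a a') :
    commutator ↥(Cfsg.isometryGroup F ⇑Q) ≤ M := by
  have hall := P.rootFull_of_mem ha ha0 ha' hind hR
  -- a root-full point of `B'`
  have hfu' : rootFull Q hQ M (act Q s a) := rootFull_act Q hQ M s hsM a (hall a ha)
  have hu'B : act Q s a ∈ B' := hs a ha
  have hu'0 : act Q s a ≠ 0 := by
    intro h
    apply ha0
    have := act_eq_zero Q s a h
    exact this
  obtain ⟨a₀, ha₀, -, hne⟩ := P.symm.exists_dual ⊥ bot_le (act Q s a) hu'B (by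
    rw [Submodule.mem_bot]; exact hu'0)
  apply omega_le_of_rootFull Q hQ hn hn2 M
  intro y hy
  exact rootFull_all Q hQ M a₀ (act Q s a) (P.ts a₀ ha₀) (P.ts' _ hu'B) (hall a₀ ha₀) hfu'
    (by rw [polar_comm]; exact hne) y hy

end opair3

end Cfsg.Agent.Lib.Helper99
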