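import Cfsg.Agent.Lib.Helper99.OPair3

set_option autoImplicit false

/-!
Stabilizer of a pair of complementary totally singular subspaces in `Ω⁺`: the swap.  When the
common dimension is even, the isometry interchanging the two subspaces is a commutator of two
permutation isometries of a hyperbolic basis, hence lies in `Ω`.
-/

namespace Cfsg.Agent.Lib.Helper99

open Matrix Module QuadraticMap
open Cfsg.Agent.Lib.Helper8 Cfsg.Agent.Lib.Helper13 Cfsg.Agent.Lib.Helper37
open scoped commutatorElement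

section opair4

variable {ι : Type} [Fintype ι] [DecidableEq ι] {F : Type*} [Field F]
variable {Q : QuadraticForm F (ι → F)}

/-- A permutation of a hyperbolic basis commuting with the pairing preserves the form. -/
theorem perm_iso_preserves {I : Type} [Fintype I] [DecidableEq I]
    (b : Basis (I ⊕ I) F (ι → F)) (hQb : ∀ x, Q (b x) = 0)
    (hpol : ∀ x y, polar ⇑Q (b x) (b y) = if y = Sum.swap x then 1 else 0)
    (π : Equiv.Perm (I ⊕ I)) (hπ : ∀ x, π (Sum.swap x) = Sum.swap (π x)) (v : ι → F) :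
    Q (b.equiv b π v) = Q v := by
  set g : (ι → F) ≃ₗ[F] (ι → F) := b.equiv b π with hg
  have hgb : ∀ x, g (b x) = b (π x) := fun x => Basis.equiv_apply _ _ _ _
  have hpolg : ∀ u w, polar ⇑Q (g u) (g w) = polar ⇑Q u w := by
    have hB : (QuadraticMap.polarBilin Q).compl₁₂ g.toLinearMap g.toLinearMap =
        QuadraticMap.polarBilin Q := by
      apply LinearMap.ext_basis b b
      intro x y
      simp only [LinearMap.compl₁₂_apply, LinearEquiv.coe_coe, hgb,
        QuadraticMap.polarBilin_apply_apply, hpol]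
      by_cases h : y = Sum.swap x
      · rw [if_pos h, if_pos (by rw [h, hπ])]
      · rw [if_neg h, if_neg]
        intro h'
        apply h
        rw [← hπ] at h'
        exact π.injective h'
    intro u w
    have := congrArg (fun B => B u w) hB
    simp only [LinearMap.compl₁₂_apply, LinearEquiv.coe_coe,
      QuadraticMap.polarBilin_apply_apply] at this
    exact this
  have hv : v ∈ Submodule.span F (Set.range b) := by
    rw [b.span_eq]
    trivial
  refine Submodule.span_induction (p := fun v _ => Q (g v) = Q v) ?_ ?_ ?_ ?_ hv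
  · rintro _ ⟨x, rfl⟩
    rw [hgb, hQb, hQb]
  · rw [map_zero]
  · intro u w _ _ hu hw
    rw [map_add, QuadraticMap.map_add (⇑Q), QuadraticMap.map_add (⇑Q) u w, hu, hw, hpolg]
  · intro c u _ hu
    rw [map_smul, QuadraticMap.map_smul, QuadraticMap.map_smul, hu]

/-- the first permutation: interchange the two copies of the first half -/
def tauFun (J : Type) : (J ⊕ J) ⊕ (J ⊕ J) → (J ⊕ J) ⊕ (J ⊕ J)
  | Sum.inl (Sum.inl i) => Sum.inr (Sum.inl i)
  | Sum.inr (Sum.inl i) => Sum.inl (Sum.inl i)
  | Sum.inl (Sum.inr i) => Sum.inl (Sum.inr i)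
  | Sum.inr (Sum.inr i) => Sum.inr (Sum.inr i)

/-- the second permutation: interchange the two halves -/
def etaFun (J : Type) : (J ⊕ J) ⊕ (J ⊕ J) → (J ⊕ J) ⊕ (J ⊕ J)
  | Sum.inl (Sum.inl i) => Sum.inl (Sum.inr i)
  | Sum.inl (Sum.inr i) => Sum.inl (Sum.inl i)
  | Sum.inr (Sum.inl i) => Sum.inr (Sum.inr i)
  | Sum.inr (Sum.inr i) => Sum.inr (Sum.inl i)

theorem tauFun_invol (J : Type) : Function.Involutive (tauFun J) := by
  rintro ((i | i) | (i | i)) <;> rfl

theorem etaFun_invol (J : Type) : Function.Involutive (etaFun J) := by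
  rintro ((i | i) | (i | i)) <;> rfl

theorem tauFun_swap (J : Type) (x : (J ⊕ J) ⊕ (J ⊕ J)) :
    tauFun J (Sum.swap x) = Sum.swap (tauFun J x) := by
  rcases x with (i | i) | (i | i) <;> rfl

theorem etaFun_swap (J : Type) (x : (J ⊕ J) ⊕ (J ⊕ J)) :
    etaFun J (Sum.swap x) = Sum.swap (etaFun J x) := by
  rcases x with (i | i) | (i | i) <;> rfl

theorem tau_eta_tau_eta (J : Type) (x : (J ⊕ J) ⊕ (J ⊕ J)) :
    tauFun J (etaFun J (tauFun J (etaFun J x))) = Sum.swap x := by
  rcases x with (i | i) | (i | i) <;> rfl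

theorem span_range_coe_basis' {V : Type*} [AddCommGroup V] [Module F V] {I : Type*}
    (S : Submodule F V) (c : Basis I F S) :
    Submodule.span F (Set.range fun i => ((c i : S) : V)) = S := by
  have h1 : (Set.range fun i => ((c i : S) : V)) = S.subtype '' (Set.range c) := by
    rw [← Set.range_comp]
    rfl
  rw [h1, ← Submodule.map_span, c.span_eq, Submodule.map_top, Submodule.range_subtype]

variable (hQ : (QuadraticMap.polarBilin Q).Nondegenerate)
include hQ

/-- An element of `Ω` interchanging two complementary totally singular subspaces of even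
dimension. -/
theorem exists_oswap (B B' : Submodule F (ι → F)) (hts : ∀ x ∈ B, Q x = 0)
    (hts' : ∀ x ∈ B', Q x = 0) (hsum : ∀ x, ∃ x1 ∈ B, ∃ x2 ∈ B', x1 + x2 = x) (j : ℕ)
    (hB : finrank F B = j + j) (hB' : finrank F B' = j + j) :
    ∃ s : ↥(Cfsg.isometryGroup F ⇑Q), s ∈ commutator ↥(Cfsg.isometryGroup F ⇑Q) ∧
      (∀ x ∈ B, ((s : Matrix.GeneralLinearGroup ι F) : Matrix ι ι F) *ᵥ x ∈ B') ∧
      (∀ x ∈ B', ((s : Matrix.GeneralLinearGroup ι F) : Matrix ι ι F) *ᵥ x ∈ B) := by
  classical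
  have hpB : ∀ x ∈ B, ∀ y ∈ B, polar ⇑Q x y = 0 :=
    fun x hx y hy => polar_eq_zero_of_quad_zero Q B hts x y hx hy
  have hpB' : ∀ x ∈ B', ∀ y ∈ B', polar ⇑Q x y = 0 :=
    fun x hx y hy => polar_eq_zero_of_quad_zero Q B' hts' x y hx hy
  have hdisj : ∀ x, x ∈ B → x ∈ B' → x = 0 := by
    intro x h0 h1
    apply hQ.1
    intro y
    obtain ⟨y1, hy1, y2, hy2, rfl⟩ := hsum y
    show polar ⇑Q x (y1 + y2) = 0
    rw [polar_add_right, hpB x h0 y1 hy1, hpB' x h1 y2 hy2, add_zero]
  have hcompl : IsCompl B B' := by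
    constructor
    · rw [Submodule.disjoint_def]
      exact hdisj
    · rw [codisjoint_iff, eq_top_iff]
      intro x _
      obtain ⟨x1, hx1, x2, hx2, rfl⟩ := hsum x
      exact Submodule.add_mem_sup hx1 hx2
  let I : Type := Fin j ⊕ Fin j
  let e : Basis I F B := (Module.finBasisOfFinrankEq F B hB).reindex finSumFinEquiv.symm
  let Φ : B' →ₗ[F] (I → F) :=
    LinearMap.pi (fun i => (QuadraticMap.polarBilin Q ((e i : B) : ι → F)).comp B'.subtype)
  have hΦ : ∀ (y : B') (i : I), Φ y i = polar ⇑Q ((e i : B) : ι → F) (y : ι → F) := by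
    intro y i
    rfl
  have hΦinj : Function.Injective Φ := by
    rw [← LinearMap.ker_eq_bot, LinearMap.ker_eq_bot']
    intro y hy
    apply Subtype.ext
    apply hQ.1
    intro z
    show polar ⇑Q (y : ι → F) z = 0
    have hB0 : B ≤ LinearMap.ker (QuadraticMap.polarBilin Q (y : ι → F)) := by
      rw [← span_range_coe_basis' B e, Submodule.span_le]
      rintro _ ⟨i, rfl⟩
      rw [SetLike.mem_coe, LinearMap.mem_ker, QuadraticMap.polarBilin_apply_apply, polar_comm,
        ← hΦ, hy]
      rfl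
    obtain ⟨z1, hz1, z2, hz2, rfl⟩ := hsum z
    have := hB0 hz1
    rw [LinearMap.mem_ker, QuadraticMap.polarBilin_apply_apply] at this
    rw [polar_add_right, this, hpB' _ y.2 z2 hz2, add_zero]
  have hdim : finrank F B' = finrank F (I → F) := by
    rw [hB', Module.finrank_pi, Fintype.card_sum, Fintype.card_fin]
  let Φe : B' ≃ₗ[F] (I → F) := LinearMap.linearEquivOfInjective Φ hΦinj hdim
  let f : Basis I F B' := (Pi.basisFun F I).map Φe.symm
  have hef : ∀ i i', polar ⇑Q ((e i : B) : ι → F) ((f i' : B') : ι → F) =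
      if i = i' then 1 else 0 := by
    intro i i'
    rw [← hΦ]
    have h1 : Φ (f i') = Pi.single i' 1 := by
      show Φe (f i') = _
      simp only [f, Basis.map_apply, LinearEquiv.apply_symm_apply, Pi.basisFun_apply]
    rw [h1, Pi.single_apply]
  let b : Basis (I ⊕ I) F (ι → F) :=
    (e.prod f).map (Submodule.prodEquivOfIsCompl B B' hcompl)
  have hbl : ∀ i, b (Sum.inl i) = ((e i : B) : ι → F) := by
    intro i
    simp only [b, Basis.map_apply, Submodule.coe_prodEquivOfIsCompl', Basis.prod_apply,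
      Sum.elim_inl, Function.comp_apply, LinearMap.coe_inl, ZeroMemClass.coe_zero, add_zero]
  have hbr : ∀ i, b (Sum.inr i) = ((f i : B') : ι → F) := by
    intro i
    simp only [b, Basis.map_apply, Submodule.coe_prodEquivOfIsCompl', Basis.prod_apply,
      Sum.elim_inr, Function.comp_apply, LinearMap.coe_inr, ZeroMemClass.coe_zero, zero_add]
  have hQb : ∀ x, Q (b x) = 0 := by
    rintro (i | i)
    · rw [hbl]
      exact hts _ (e i).2
    · rw [hbr]
      exact hts' _ (f i).2
  have hpol : ∀ x y, polar ⇑Q (b x) (b y) = if y = Sum.swap x then 1 else 0 := by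
    rintro (i | i) (i' | i')
    · rw [hbl, hbl, hpB _ (e i).2 _ (e i').2, if_neg]
      simp
    · rw [hbl, hbr, hef]
      simp only [Sum.swap_inl, Sum.inr.injEq]
      by_cases h : i = i'
      · rw [if_pos h, if_pos h.symm]
      · rw [if_neg h, if_neg (Ne.symm h)]
    · rw [hbr, hbl, polar_comm, hef]
      simp only [Sum.swap_inr, Sum.inl.injEq]
    · rw [hbr, hbr, hpB' _ (f i).2 _ (f i').2, if_neg]
      simp
  let τ : Equiv.Perm (I ⊕ I) := (tauFun_invol (Fin j)).toPerm
  let η : Equiv.Perm (I ⊕ I) := (etaFun_invol (Fin j)).toPerm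
  have hτ : ∀ x, τ x = tauFun (Fin j) x := fun x => rfl
  have hη : ∀ x, η x = etaFun (Fin j) x := fun x => rfl
  let t : ↥(Cfsg.isometryGroup F ⇑Q) := isoOfEquiv Q (b.equiv b τ)
    (perm_iso_preserves b hQb hpol τ (tauFun_swap (Fin j)))
  let h' : ↥(Cfsg.isometryGroup F ⇑Q) := isoOfEquiv Q (b.equiv b η)
    (perm_iso_preserves b hQb hpol η (etaFun_swap (Fin j)))
  have htb : ∀ x, ((t : Matrix.GeneralLinearGroup ι F) : Matrix ι ι F) *ᵥ b x = b (τ x) := by
    intro x
    rw [isoOfEquiv_mulVec, Basis.equiv_apply]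
  have hhb : ∀ x, ((h' : Matrix.GeneralLinearGroup ι F) : Matrix ι ι F) *ᵥ b x = b (η x) := by
    intro x
    rw [isoOfEquiv_mulVec, Basis.equiv_apply]
  set s : ↥(Cfsg.isometryGroup F ⇑Q) := ⁅t, h'⁆ with hs
  have hsΩ : s ∈ commutator ↥(Cfsg.isometryGroup F ⇑Q) := by
    rw [commutator_def]
    exact Subgroup.commutator_mem_commutator (Subgroup.mem_top t) (Subgroup.mem_top h')
  have hrel : s * h' * t = t * h' := by
    rw [hs, commutatorElement_def]
    group
  have hsb : ∀ y, ((s : Matrix.GeneralLinearGroup ι F) : Matrix ι ι F) *ᵥ b y =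
      b (Sum.swap y) := by
    intro y
    set x := τ (η y) with hx
    have hy : η (τ x) = y := by
      rw [hx, hτ, hτ, hη, hη, tauFun_invol, etaFun_invol]
    have h1 := congrArg (fun g : ↥(Cfsg.isometryGroup F ⇑Q) =>
      ((g : Matrix.GeneralLinearGroup ι F) : Matrix ι ι F) *ᵥ b x) hrel
    simp only [coe_mul_mulVec, htb, hhb] at h1
    rw [hy] at h1
    rw [h1, hx, hτ, hτ, hη, hη, tau_eta_tau_eta]
  refine ⟨s, hsΩ, ?_, ?_⟩
  · intro x hx
    have hle : B ≤ B'.comap (Matrix.mulVecLin
        ((s : Matrix.GeneralLinearGroup ι F) : Matrix ι ι F)) := by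
      rw [← span_range_coe_basis' B e, Submodule.span_le]
      rintro _ ⟨i, rfl⟩
      simp only [SetLike.mem_coe, Submodule.mem_comap, Matrix.mulVecLin_apply]
      rw [← hbl, hsb, Sum.swap_inl, hbr]
      exact (f i).2
    exact hle hx
  · intro x hx
    have hle : B' ≤ B.comap (Matrix.mulVecLin
        ((s : Matrix.GeneralLinearGroup ι F) : Matrix ι ι F)) := by
      rw [← span_range_coe_basis' B' f, Submodule.span_le]
      rintro _ ⟨i, rfl⟩
      simp only [SetLike.mem_coe, Submodule.mem_comap, Matrix.mulVecLin_apply]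
      rw [← hbr, hsb, Sum.swap_inr, hbl]
      exact (e i).2
    exact hle hx

end opair4

end Cfsg.Agent.Lib.Helper99
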