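import Cfsg.Agent.Lib.Helper99.SLGen
import Cfsg.Prelude.Def_GeometricClasses

set_option autoImplicit false

/-!
The stabilizer of a proper nonzero subspace is a maximal subgroup of the special linear group.
-/

namespace Cfsg.Agent.Lib.Helper99

open Matrix

section tv

variable {ι : Type} [Fintype ι] [DecidableEq ι] {F : Type*} [Field F]

/-- Rank-one perturbation of the identity: `x ↦ x + φ(x) u`. -/
def rk1 (u φ : ι → F) : Matrix ι ι F := 1 + vecMulVec u φ

theorem rk1_mulVec (u φ x : ι → F) : rk1 u φ *ᵥ x = x + (φ ⬝ᵥ x) • u := by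
  unfold rk1
  rw [add_mulVec, one_mulVec, vecMulVec_mulVec, op_smul_eq_smul]

theorem det_rk1 (u φ : ι → F) : (rk1 u φ).det = 1 + φ ⬝ᵥ u := by
  unfold rk1
  rw [vecMulVec_eq Unit, det_one_add_replicateCol_mul_replicateRow]

/-- The element of `GL` given by a rank-one perturbation of the identity (junk value `1` if it is
not invertible). -/
noncomputable def rk1GL (u φ : ι → F) : GL ι F :=
  haveI := Classical.dec (1 + φ ⬝ᵥ u ≠ 0)
  if h : 1 + φ ⬝ᵥ u ≠ 0 then
    Matrix.GeneralLinearGroup.mkOfDetNeZero (rk1 u φ) (by rw [det_rk1]; exact h)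
  else 1

theorem coe_rk1GL (u φ : ι → F) (h : 1 + φ ⬝ᵥ u ≠ 0) :
    ((rk1GL u φ : GL ι F) : Matrix ι ι F) = rk1 u φ := by
  unfold rk1GL
  rw [dif_pos h]
  rfl

theorem mem_specialLinear_iff (g : GL ι F) :
    g ∈ Cfsg.Geo.specialLinear ι F ↔ (g : Matrix ι ι F).det = 1 := by
  unfold Cfsg.Geo.specialLinear
  rw [MonoidHom.mem_ker, Units.ext_iff]
  rfl

theorem mem_subspaceStabilizer_iff (W : Submodule F (ι → F)) (g : GL ι F) :
    g ∈ Cfsg.Geo.subspaceStabilizer W ↔ ∀ v, v ∈ W ↔ (g : Matrix ι ι F) *ᵥ v ∈ W := Iff.rfl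

theorem mulVec_injective_of_GL (g : GL ι F) :
    Function.Injective (fun v : ι → F => (g : Matrix ι ι F) *ᵥ v) := by
  intro v w h
  have := congrArg (fun x => ((g⁻¹ : GL ι F) : Matrix ι ι F) *ᵥ x) h
  simp only [mulVec_mulVec] at this
  rw [← Units.val_mul, inv_mul_cancel, Units.val_one, one_mulVec, one_mulVec] at this
  exact this

theorem mem_subspaceStabilizer_of_forall (W : Submodule F (ι → F)) (g : GL ι F)
    (h : ∀ v ∈ W, (g : Matrix ι ι F) *ᵥ v ∈ W) : g ∈ Cfsg.Geo.subspaceStabilizer W := by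
  rw [mem_subspaceStabilizer_iff]
  intro v
  refine ⟨h v, fun hv => ?_⟩
  have hinj : Function.Injective (Matrix.toLin' (g : Matrix ι ι F)) := by
    intro a b hab
    exact mulVec_injective_of_GL g (by simpa [Matrix.toLin'_apply] using hab)
  have hle : W.map (Matrix.toLin' (g : Matrix ι ι F)) ≤ W := by
    rintro _ ⟨w, hw, rfl⟩
    rw [Matrix.toLin'_apply]
    exact h w hw
  have hfr : Module.finrank F (W.map (Matrix.toLin' (g : Matrix ι ι F))) = Module.finrank F W :=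
    (Submodule.equivMapOfInjective _ hinj W).finrank_eq.symm
  have heq := Submodule.eq_of_le_of_finrank_eq hle hfr
  rw [← heq] at hv
  obtain ⟨w, hw, hwv⟩ := hv
  rw [Matrix.toLin'_apply] at hwv
  have := mulVec_injective_of_GL g hwv
  rw [← this]
  exact hw

theorem exists_dot_of_notMem (W : Submodule F (ι → F)) (v : ι → F) (hv : v ∉ W) :
    ∃ φ : ι → F, (∀ w ∈ W, φ ⬝ᵥ w = 0) ∧ φ ⬝ᵥ v = 1 := by
  obtain ⟨f, hfv, hfW⟩ := Submodule.exists_dual_map_eq_bot_of_notMem hv inferInstance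
  have hrep : ∀ x : ι → F, f x = (fun i => f (Pi.single i 1)) ⬝ᵥ x := by
    intro x
    rw [LinearMap.pi_apply_eq_sum_univ f x]
    simp only [dotProduct, smul_eq_mul]
    apply Finset.sum_congr rfl
    intro i _
    rw [mul_comm]
    congr 2
    ext j
    simp [Pi.single_apply, eq_comm]
  refine ⟨(f v)⁻¹ • (fun i => f (Pi.single i 1)), ?_, ?_⟩
  · intro w hw
    rw [smul_dotProduct, ← hrep]
    have : f w ∈ W.map f := Submodule.mem_map_of_mem hw
    rw [hfW, Submodule.mem_bot] at this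
    rw [this, smul_zero]
  · rw [smul_dotProduct, ← hrep, smul_eq_mul, inv_mul_cancel₀ hfv]

theorem notMem_span_singleton_of (W : Submodule F (ι → F)) {w v : ι → F} (hw : w ∈ W)
    (hw0 : w ≠ 0) (hv : v ∉ W) : w ∉ Submodule.span F {v} := by
  intro h
  obtain ⟨c, rfl⟩ := Submodule.mem_span_singleton.mp h
  have hc : c ≠ 0 := by
    rintro rfl
    exact hw0 (zero_smul _ _)
  apply hv
  have : v = c⁻¹ • (c • v) := by rw [smul_smul, inv_mul_cancel₀ hc, one_smul]
  rw [this]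
  exact W.smul_mem _ hw

/-- The stabilizer of `W` in the special linear group is transitive on the vectors outside `W`. -/
theorem exists_stab_map (W : Submodule F (ι → F)) (hW : W ≠ ⊥) (v v' : ι → F) (hv : v ∉ W)
    (hv' : v' ∉ W) :
    ∃ p : GL ι F, p ∈ Cfsg.Geo.specialLinear ι F ∧ p ∈ Cfsg.Geo.subspaceStabilizer W ∧
      (p : Matrix ι ι F) *ᵥ v = v' := by
  -- a functional vanishing on `W`, nonzero at `v` and `v'`
  obtain ⟨φ, hφW, hφv, hφv'⟩ : ∃ φ : ι → F, (∀ w ∈ W, φ ⬝ᵥ w = 0) ∧ φ ⬝ᵥ v = 1 ∧ φ ⬝ᵥ v' ≠ 0 := by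
    obtain ⟨φ₁, h1W, h1v⟩ := exists_dot_of_notMem W v hv
    obtain ⟨φ₂, h2W, h2v'⟩ := exists_dot_of_notMem W v' hv'
    by_cases h1 : φ₁ ⬝ᵥ v' = 0
    · by_cases h2 : φ₂ ⬝ᵥ v = 0
      · refine ⟨φ₁ + φ₂, ?_, ?_, ?_⟩
        · intro w hw
          rw [add_dotProduct, h1W w hw, h2W w hw, add_zero]
        · rw [add_dotProduct, h1v, h2, add_zero]
        · rw [add_dotProduct, h1, h2v', zero_add]
          exact one_ne_zero
      · refine ⟨(φ₂ ⬝ᵥ v)⁻¹ • φ₂, ?_, ?_, ?_⟩
        · intro w hw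
          rw [smul_dotProduct, h2W w hw, smul_zero]
        · rw [smul_dotProduct, smul_eq_mul, inv_mul_cancel₀ h2]
        · rw [smul_dotProduct, h2v', smul_eq_mul, mul_one]
          exact inv_ne_zero h2
    · exact ⟨φ₁, h1W, h1v, h1⟩
  set d : F := φ ⬝ᵥ v' with hd
  obtain ⟨w₁, hw₁W, hw₁0⟩ := W.exists_mem_ne_zero_of_ne_bot hW
  obtain ⟨ψ₀, hψ₀v, hψ₀w⟩ := exists_dot_of_notMem (Submodule.span F {v}) w₁
    (notMem_span_singleton_of W hw₁W hw₁0 hv)
  have hψ₀v' : ψ₀ ⬝ᵥ v = 0 := hψ₀v v (Submodule.mem_span_singleton_self v)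
  set ψ : ι → F := (d⁻¹ - 1) • ψ₀ with hψ
  have hψv : ψ ⬝ᵥ v = 0 := by rw [hψ, smul_dotProduct, hψ₀v', smul_zero]
  have hψw : ψ ⬝ᵥ w₁ = d⁻¹ - 1 := by rw [hψ, smul_dotProduct, hψ₀w, smul_eq_mul, mul_one]
  have he : 1 + φ ⬝ᵥ (v' - v) ≠ 0 := by
    rw [dotProduct_sub, hφv, ← hd]
    intro h
    apply hφv'
    linear_combination h
  have hs : 1 + ψ ⬝ᵥ w₁ ≠ 0 := by
    rw [hψw]
    intro h
    have : d⁻¹ = 0 := by linear_combination h
    exact inv_ne_zero hφv' this
  refine ⟨rk1GL (v' - v) φ * rk1GL w₁ ψ, ?_, ?_, ?_⟩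
  · rw [mem_specialLinear_iff, Units.val_mul, det_mul, coe_rk1GL _ _ he, coe_rk1GL _ _ hs,
      det_rk1, det_rk1, hψw, dotProduct_sub, hφv, ← hd]
    field_simp
    ring
  · apply mem_subspaceStabilizer_of_forall
    intro x hx
    rw [Units.val_mul, ← mulVec_mulVec, coe_rk1GL _ _ he, coe_rk1GL _ _ hs, rk1_mulVec w₁ ψ x]
    have h1 : x + (ψ ⬝ᵥ x) • w₁ ∈ W := W.add_mem hx (W.smul_mem _ hw₁W)
    rw [rk1_mulVec, hφW _ h1, zero_smul, add_zero]
    exact h1
  · rw [Units.val_mul, ← mulVec_mulVec, coe_rk1GL _ _ he, coe_rk1GL _ _ hs, rk1_mulVec w₁ ψ v,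
      hψv, zero_smul, add_zero, rk1_mulVec, hφv, one_smul]
    abel

theorem coe_tv (u φ : ι → F) (h : φ ⬝ᵥ u = 0) :
    ((rk1GL u φ : GL ι F) : Matrix ι ι F) = rk1 u φ :=
  coe_rk1GL u φ (by rw [h, add_zero]; exact one_ne_zero)

theorem tv_mem_specialLinear (u φ : ι → F) (h : φ ⬝ᵥ u = 0) :
    rk1GL u φ ∈ Cfsg.Geo.specialLinear ι F := by
  rw [mem_specialLinear_iff, coe_tv _ _ h, det_rk1, h, add_zero]

theorem tv_mem_stabilizer (W : Submodule F (ι → F)) (u φ : ι → F) (h : φ ⬝ᵥ u = 0) (hu : u ∈ W) :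
    rk1GL u φ ∈ Cfsg.Geo.subspaceStabilizer W := by
  apply mem_subspaceStabilizer_of_forall
  intro x hx
  rw [coe_tv _ _ h, rk1_mulVec]
  exact W.add_mem hx (W.smul_mem _ hu)

theorem conj_tv (g : GL ι F) (u φ : ι → F) (h : φ ⬝ᵥ u = 0) :
    g * rk1GL u φ * g⁻¹ =
      rk1GL ((g : Matrix ι ι F) *ᵥ u) (φ ᵥ* ((g⁻¹ : GL ι F) : Matrix ι ι F)) := by
  have h' : (φ ᵥ* ((g⁻¹ : GL ι F) : Matrix ι ι F)) ⬝ᵥ ((g : Matrix ι ι F) *ᵥ u) = 0 := by
    rw [← dotProduct_mulVec, mulVec_mulVec, ← Units.val_mul, inv_mul_cancel, Units.val_one,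
      one_mulVec, h]
  apply Units.ext
  rw [Units.val_mul, Units.val_mul, coe_tv _ _ h, coe_tv _ _ h']
  unfold rk1
  rw [mul_add, add_mul, mul_one, ← Units.val_mul, mul_inv_cancel, Units.val_one, mul_vecMulVec,
    vecMulVec_mul]

/-- The stabilizer of a proper nonzero subspace is maximal in the special linear group. -/
theorem subspaceStabilizer_isMaximalIn (W : Submodule F (ι → F)) (hW0 : W ≠ ⊥) (hW1 : W ≠ ⊤) :
    Cfsg.Geo.IsMaximalIn (Cfsg.Geo.specialLinear ι F)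
      (Cfsg.Geo.subspaceStabilizer W ⊓ Cfsg.Geo.specialLinear ι F) := by
  obtain ⟨w, hwW, hw0⟩ := W.exists_mem_ne_zero_of_ne_bot hW0
  obtain ⟨u₀, hu₀⟩ : ∃ u, u ∉ W := by
    by_contra h
    push Not at h
    exact hW1 (eq_top_iff.mpr fun x _ => h x)
  constructor
  · rw [lt_iff_le_and_ne]
    refine ⟨inf_le_right, fun heq => ?_⟩
    obtain ⟨φ, hφu, hφw⟩ := exists_dot_of_notMem (Submodule.span F {u₀}) w
      (notMem_span_singleton_of W hwW hw0 hu₀)
    have hφu' : φ ⬝ᵥ u₀ = 0 := hφu u₀ (Submodule.mem_span_singleton_self u₀)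
    have h1 : rk1GL u₀ φ ∈ Cfsg.Geo.specialLinear ι F := tv_mem_specialLinear u₀ φ hφu'
    rw [← heq] at h1
    have h2 := ((mem_subspaceStabilizer_iff W _).mp h1.1 w).mp hwW
    rw [coe_tv _ _ hφu', rk1_mulVec, hφw, one_smul] at h2
    apply hu₀
    have : u₀ = (w + u₀) - w := by abel
    rw [this]
    exact W.sub_mem h2 hwW
  · intro M hPM hMS
    by_cases hMP : M ≤ Cfsg.Geo.subspaceStabilizer W ⊓ Cfsg.Geo.specialLinear ι F
    · left
      exact le_antisymm hMP hPM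
    · right
      obtain ⟨g, hgM, hgP⟩ := SetLike.not_le_iff_exists.mp hMP
      have hgS := hMS hgM
      have hgW : g ∉ Cfsg.Geo.subspaceStabilizer W := fun h => hgP ⟨h, hgS⟩
      obtain ⟨w₀, hw₀, hgw₀⟩ : ∃ w₀ ∈ W, (g : Matrix ι ι F) *ᵥ w₀ ∉ W := by
        by_contra h
        push Not at h
        exact hgW (mem_subspaceStabilizer_of_forall W g h)
      have hall : ∀ (u φ : ι → F), φ ⬝ᵥ u = 0 → rk1GL u φ ∈ M := by
        intro u φ h
        by_cases huW : u ∈ W
        · exact hPM ⟨tv_mem_stabilizer W u φ h huW, tv_mem_specialLinear u φ h⟩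
        · obtain ⟨p, hpS, hpW, hpu⟩ := exists_stab_map W hW0 _ u hgw₀ huW
          have hpM : p ∈ M := hPM ⟨hpW, hpS⟩
          set φ' := φ ᵥ* ((p * g : GL ι F) : Matrix ι ι F) with hφ'
          have hpg : ((p * g : GL ι F) : Matrix ι ι F) *ᵥ w₀ = u := by
            rw [Units.val_mul, ← mulVec_mulVec, hpu]
          have h0 : φ' ⬝ᵥ w₀ = 0 := by
            rw [hφ', ← dotProduct_mulVec, hpg, h]
          have h1 : rk1GL w₀ φ' ∈ M :=
            hPM ⟨tv_mem_stabilizer W w₀ φ' h0 hw₀, tv_mem_specialLinear w₀ φ' h0⟩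
          have h2 := conj_tv (p * g) w₀ φ' h0
          rw [hpg, hφ', vecMul_vecMul, ← Units.val_mul, mul_inv_cancel, Units.val_one,
            vecMul_one] at h2
          rw [← h2]
          exact M.mul_mem (M.mul_mem (M.mul_mem hpM hgM) h1) (M.inv_mem (M.mul_mem hpM hgM))
      apply le_antisymm hMS
      have H : M.comap (Matrix.SpecialLinearGroup.toGL :
          Matrix.SpecialLinearGroup ι F →* GL ι F) = ⊤ := by
        apply SLGen.eq_top_of_transvection_mem
        intro i j hij c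
        rw [Subgroup.mem_comap]
        have h0 : (Pi.single j (1 : F) : ι → F) ⬝ᵥ (Pi.single i c : ι → F) = 0 := by
          simp [hij.symm]
        have : (Matrix.SpecialLinearGroup.toGL (Matrix.SpecialLinearGroup.transvection hij c) :
            GL ι F) = rk1GL (Pi.single i c) (Pi.single j 1) := by
          apply Units.ext
          rw [coe_tv _ _ h0, Matrix.SpecialLinearGroup.coe_GL_coe_matrix,
            Matrix.SpecialLinearGroup.transvection_coe]
          unfold rk1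
          congr 1
          ext a b
          simp only [vecMulVec_apply, Matrix.single_apply, Pi.single_apply]
          by_cases h1 : i = a <;> by_cases h2 : j = b <;>
            simp [h1, h2, eq_comm (a := a), eq_comm (a := b)]
        rw [this]
        exact hall _ _ h0
      intro x hx
      rw [mem_specialLinear_iff] at hx
      let y : Matrix.SpecialLinearGroup ι F := ⟨(x : Matrix ι ι F), hx⟩
      have hx' : x = Matrix.SpecialLinearGroup.toGL y := by
        apply Units.ext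
        rfl
      rw [hx']
      have hmem : y ∈ M.comap (Matrix.SpecialLinearGroup.toGL :
            Matrix.SpecialLinearGroup ι F →* GL ι F) := by
        rw [H]; exact Subgroup.mem_top _
      exact hmem

end tv

end Cfsg.Agent.Lib.Helper99
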