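import Cfsg.Agent.Lib.Helper99.OPair4
import Cfsg.Agent.Lib.Helper99.SubspaceMax

set_option autoImplicit false

/-!
Stabilizer of a pair of complementary totally singular subspaces in `Ω⁺`: main theorem.
-/

namespace Cfsg.Agent.Lib.Helper99

open Matrix Module QuadraticMap
open Cfsg.Agent.Lib.Helper8 Cfsg.Agent.Lib.Helper13 Cfsg.Agent.Lib.Helper37

section opair5

variable {ι : Type} [Fintype ι] [DecidableEq ι] {F : Type*} [Field F]

theorem gl_map_eq_of_forall (W W' : Submodule F (ι → F)) (g : GL ι F)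
    (hfr : finrank F W = finrank F W') (h : ∀ x ∈ W, (g : Matrix ι ι F) *ᵥ x ∈ W') :
    W.map (Matrix.toLin' (g : Matrix ι ι F)) = W' := by
  apply Submodule.eq_of_le_of_finrank_eq
  · rintro _ ⟨x, hx, rfl⟩
    rw [Matrix.toLin'_apply]
    exact h x hx
  · have hinj : Function.Injective (Matrix.toLin' (g : Matrix ι ι F)) := by
      intro a b hab
      apply mulVec_injective_of_GL g
      simpa only [Matrix.toLin'_apply] using hab
    rw [← hfr]
    exact LinearEquiv.finrank_eq (Submodule.equivMapOfInjective _ hinj W).symm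

/-- Bridge to the Prelude's formulation of maximality of a decomposition stabilizer in `Ω`. -/
theorem isMaximalIn_decomp_of (Q : QuadraticForm F (ι → F)) {t : ℕ}
    (D : Fin t → Submodule F (ι → F))
    (hproper : ∃ g ∈ commutator ↥(Cfsg.isometryGroup F ⇑Q),
      (g : Matrix.GeneralLinearGroup ι F) ∉ Cfsg.Geo.decompositionStabilizer D)
    (hmax : ∀ M : Subgroup ↥(Cfsg.isometryGroup F ⇑Q),
      (Cfsg.Geo.decompositionStabilizer D).comap (Cfsg.isometryGroup F ⇑Q).subtype ⊓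
        commutator ↥(Cfsg.isometryGroup F ⇑Q) ≤ M →
      ∀ g ∈ M, (g : Matrix.GeneralLinearGroup ι F) ∉ Cfsg.Geo.decompositionStabilizer D →
        commutator ↥(Cfsg.isometryGroup F ⇑Q) ≤ M) :
    Cfsg.Geo.IsMaximalIn (Cfsg.Geo.omegaGL ⇑Q)
      (Cfsg.Geo.decompositionStabilizer D ⊓ Cfsg.Geo.omegaGL ⇑Q) := by
  have hmemΩ : ∀ x : Matrix.GeneralLinearGroup ι F, x ∈ Cfsg.Geo.omegaGL ⇑Q ↔
      ∃ g : ↥(Cfsg.isometryGroup F ⇑Q), g ∈ commutator ↥(Cfsg.isometryGroup F ⇑Q) ∧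
        (g : Matrix.GeneralLinearGroup ι F) = x := by
    intro x
    unfold Cfsg.Geo.omegaGL
    rw [Subgroup.mem_map]
    rfl
  refine ⟨lt_of_le_of_ne inf_le_right ?_, ?_⟩
  · intro heq
    obtain ⟨g, hgΩ, hg⟩ := hproper
    have h1 : (g : Matrix.GeneralLinearGroup ι F) ∈ Cfsg.Geo.omegaGL ⇑Q :=
      (hmemΩ _).2 ⟨g, hgΩ, rfl⟩
    rw [← heq] at h1
    exact hg h1.1
  · intro M hHM hMK
    by_cases hMH : M ≤ Cfsg.Geo.decompositionStabilizer D ⊓ Cfsg.Geo.omegaGL ⇑Q
    · exact Or.inl (le_antisymm hMH hHM)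
    · right
      apply le_antisymm hMK
      obtain ⟨x, hxM, hxH⟩ := SetLike.not_le_iff_exists.1 hMH
      obtain ⟨g, hgΩ, rfl⟩ := (hmemΩ x).1 (hMK hxM)
      have hgS : (g : Matrix.GeneralLinearGroup ι F) ∉ Cfsg.Geo.decompositionStabilizer D := by
        intro h
        exact hxH ⟨h, hMK hxM⟩
      have h2 := hmax (M.comap (Cfsg.isometryGroup F ⇑Q).subtype) (by
        intro a ha
        rw [Subgroup.mem_comap]
        apply hHM
        exact ⟨ha.1, (hmemΩ _).2 ⟨a, ha.2, rfl⟩⟩) g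
        (by rw [Subgroup.mem_comap]; exact hxM) hgS
      intro y hy
      obtain ⟨a, haΩ, rfl⟩ := (hmemΩ y).1 hy
      exact h2 haΩ

theorem opair_sum {k : ℕ} (D : Fin 2 → Submodule F (ι → F)) (hD : Cfsg.Geo.IsMDecomposition k D)
    (x : ι → F) : ∃ x1 ∈ D 0, ∃ x2 ∈ D 1, x1 + x2 = x := by
  have hx : x ∈ ⨆ i, D i := by
    rw [hD.iSup_eq_top]
    trivial
  refine Submodule.iSup_induction D
    (motive := fun x => ∃ x1 ∈ D 0, ∃ x2 ∈ D 1, x1 + x2 = x) hx ?_ ?_ ?_
  · intro i x hx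
    fin_cases i
    · exact ⟨x, hx, 0, Submodule.zero_mem _, add_zero x⟩
    · exact ⟨0, Submodule.zero_mem _, x, hx, zero_add x⟩
  · exact ⟨0, Submodule.zero_mem _, 0, Submodule.zero_mem _, add_zero 0⟩
  · rintro x y ⟨x1, hx1, x2, hx2, rfl⟩ ⟨y1, hy1, y2, hy2, rfl⟩
    exact ⟨x1 + y1, (D 0).add_mem hx1 hy1, x2 + y2, (D 1).add_mem hx2 hy2, by abel⟩

variable {Q : QuadraticForm F (ι → F)} {hQ : (QuadraticMap.polarBilin Q).Nondegenerate}
variable {M : Subgroup ↥(Cfsg.isometryGroup F ⇑Q)} {A A' B B' : Submodule F (ι → F)}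

theorem OPair.disjoint (P : OPair Q hQ M B B') {x : ι → F} (h0 : x ∈ B) (h1 : x ∈ B') :
    x = 0 := by
  apply hQ.1
  intro y
  obtain ⟨y1, hy1, y2, hy2, rfl⟩ := P.sum y
  show polar ⇑Q x (y1 + y2) = 0
  rw [polar_add_right, P.polar_zero h0 hy1, P.polar_zero' h1 hy2, add_zero]

theorem OPair.exists_ne_zero (P : OPair Q hQ M B B') : ∃ a ∈ B, a ≠ 0 := by
  obtain ⟨a, ha, -, -, haT⟩ := exists_perp_two_notMem (Q := Q) B P.dim 0 0 ⊥ (by
    rw [finrank_bot]; omega)
  exact ⟨a, ha, fun h => haT (by rw [h]; exact Submodule.zero_mem _)⟩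

theorem OPair.exists_indep (P : OPair Q hQ M B B') (a : ι → F) :
    ∃ a' ∈ B, a' ∉ Submodule.span F {a} := by
  obtain ⟨a', ha', -, -, haT⟩ := exists_perp_two_notMem (Q := Q) B P.dim 0 0
    (Submodule.span F {a, a}) (finrank_span_pair_le_two a a)
  refine ⟨a', ha', fun h => haT ?_⟩
  rw [Set.pair_eq_singleton]
  exact h

end opair5

section opair5main

variable {F : Type*} [Field F] [Fintype F] {n : ℕ}

/-- The stabilizer of a pair of complementary totally singular subspaces of even dimension `k ≥ 5`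
is maximal in `Ω`. -/
theorem opair_stabilizer_isMaximalIn (Q : QuadraticForm F (Fin n → F))
    (hQ : (QuadraticMap.polarBilin Q).Nondegenerate) (hn : 10 ≤ n) (k j : ℕ) (hk : 2 * k = n)
    (hkj : k = j + j) (D : Fin 2 → Submodule F (Fin n → F))
    (hD : Cfsg.Geo.IsMDecomposition k D) (hts : ∀ i, ∀ w ∈ D i, Q w = 0) :
    Cfsg.Geo.IsMaximalIn (Cfsg.Geo.omegaGL ⇑Q)
      (Cfsg.Geo.decompositionStabilizer D ⊓ Cfsg.Geo.omegaGL ⇑Q) := by
  classical
  have hfr : finrank F (Fin n → F) = n := by simp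
  have hn5 : 5 ≤ finrank F (Fin n → F) := by rw [hfr]; omega
  have hn2 : (2 : F) = 0 → 7 ≤ finrank F (Fin n → F) := by intro _; rw [hfr]; omega
  have hk5 : 5 ≤ k := by omega
  have hsum := opair_sum D hD
  have hfr0 : finrank F (D 0) = k := hD.finrank_eq 0
  have hfr1 : finrank F (D 1) = k := hD.finrank_eq 1
  obtain ⟨s, hsΩ, hs01, hs10⟩ := exists_oswap hQ (D 0) (D 1) (hts 0) (hts 1) hsum j
    (by rw [hfr0, hkj]) (by rw [hfr1, hkj])
  -- root elements of the stabilizer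
  have hbase : ∀ a ∈ D 0, ∀ b ∈ D 1, ∀ (hu : Q a = 0) (hab : polar ⇑Q a b = 0),
      eichlerElt Q hQ a b hu hab ∈
        (Cfsg.Geo.decompositionStabilizer D).comap (Cfsg.isometryGroup F ⇑Q).subtype ⊓
          commutator ↥(Cfsg.isometryGroup F ⇑Q) := by
    intro a ha b hb hu hab
    refine ⟨?_, eichlerElt_mem_omega Q hQ hn5 hn2 a b hu hab⟩
    show ((eichlerElt Q hQ a b hu hab : ↥(Cfsg.isometryGroup F ⇑Q)) :
      Matrix.GeneralLinearGroup (Fin n) F) ∈ Cfsg.Geo.decompositionStabilizer D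
    refine ⟨1, fun i => ?_⟩
    rw [Equiv.Perm.one_apply]
    apply gl_map_eq_of_forall _ _ _ rfl
    intro x hx
    show (((eichlerElt Q hQ a b hu hab : ↥(Cfsg.isometryGroup F ⇑Q)) :
      Matrix.GeneralLinearGroup (Fin n) F) : Matrix (Fin n) (Fin n) F) *ᵥ x ∈ D i
    rw [eichlerElt_mulVec]
    fin_cases i
    · have h0 : polar ⇑Q a x = 0 := polar_eq_zero_of_quad_zero Q (D 0) (hts 0) a x ha hx
      rw [h0, hts 1 b hb, zero_smul, add_zero, mul_zero, zero_smul, sub_zero]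
      exact (D 0).sub_mem hx ((D 0).smul_mem _ ha)
    · have h0 : polar ⇑Q b x = 0 := polar_eq_zero_of_quad_zero Q (D 1) (hts 1) b x hb hx
      rw [h0, hts 1 b hb, zero_smul, sub_zero, zero_mul, zero_smul, sub_zero]
      exact (D 1).add_mem hx ((D 1).smul_mem _ hb)
  have hsH : s ∈ (Cfsg.Geo.decompositionStabilizer D).comap (Cfsg.isometryGroup F ⇑Q).subtype ⊓
      commutator ↥(Cfsg.isometryGroup F ⇑Q) := by
    refine ⟨?_, hsΩ⟩
    show ((s : ↥(Cfsg.isometryGroup F ⇑Q)) :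
      Matrix.GeneralLinearGroup (Fin n) F) ∈ Cfsg.Geo.decompositionStabilizer D
    refine ⟨Equiv.swap 0 1, fun i => ?_⟩
    fin_cases i
    · show _ = D (Equiv.swap 0 1 0)
      rw [Equiv.swap_apply_left]
      exact gl_map_eq_of_forall _ _ _ ((hD.finrank_eq _).trans (hD.finrank_eq _).symm) hs01
    · show _ = D (Equiv.swap 0 1 1)
      rw [Equiv.swap_apply_right]
      exact gl_map_eq_of_forall _ _ _ ((hD.finrank_eq _).trans (hD.finrank_eq _).symm) hs10
  have hP : ∀ M : Subgroup ↥(Cfsg.isometryGroup F ⇑Q),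
      (Cfsg.Geo.decompositionStabilizer D).comap (Cfsg.isometryGroup F ⇑Q).subtype ⊓
        commutator ↥(Cfsg.isometryGroup F ⇑Q) ≤ M → OPair Q hQ M (D 0) (D 1) := by
    intro M hHM
    exact
      { ts := hts 0
        ts' := hts 1
        sum := hsum
        dim := by rw [hfr0]; exact hk5
        dim' := by rw [hfr1]; exact hk5
        base := fun a ha b hb hu hab => hHM (hbase a ha b hb hu hab) }
  apply isMaximalIn_decomp_of
  · -- properness
    have P := hP _ (le_refl _)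
    obtain ⟨a, ha, ha0⟩ := P.exists_ne_zero
    obtain ⟨a', ha', hind⟩ := P.exists_indep a
    have hSB : Submodule.span F {a} ≤ D 0 := by
      rw [Submodule.span_le]
      intro z hz
      rw [Set.mem_singleton_iff] at hz
      rw [hz]
      exact ha
    obtain ⟨b, hb, hbS, hba'⟩ := P.exists_dual _ hSB a' ha' hind
    have hab : polar ⇑Q a b = 0 := hbS a (Submodule.subset_span rfl)
    have haa' : polar ⇑Q a a' = 0 := P.polar_zero ha ha'
    refine ⟨eichlerElt Q hQ a a' (hts 0 a ha) haa',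
      eichlerElt_mem_omega Q hQ hn5 hn2 a a' _ haa', ?_⟩
    rintro ⟨σ, hσ⟩
    have h3 : (((eichlerElt Q hQ a a' (hts 0 a ha) haa' : ↥(Cfsg.isometryGroup F ⇑Q)) :
        Matrix.GeneralLinearGroup (Fin n) F) : Matrix (Fin n) (Fin n) F) *ᵥ b ∈ D (σ 1) := by
      rw [← hσ 1]
      exact ⟨b, hb, by rw [Matrix.toLin'_apply]⟩
    rw [eichlerElt_mulVec, hab, zero_smul, add_zero, mul_zero, zero_smul, sub_zero] at h3
    have hcases : σ 1 = 0 ∨ σ 1 = 1 := by
      generalize σ 1 = j'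
      fin_cases j'
      · left; rfl
      · right; rfl
    rcases hcases with h | h
    · rw [h] at h3
      have hb0 : b ∈ D 0 := by
        have : b = (b - polar ⇑Q a' b • a) + polar ⇑Q a' b • a := by abel
        rw [this]
        exact (D 0).add_mem h3 ((D 0).smul_mem _ ha)
      apply hba'
      rw [P.disjoint hb0 hb, polar_zero_right]
    · rw [h] at h3
      have h4 : polar ⇑Q a' b • a ∈ D 1 := by
        have : polar ⇑Q a' b • a = b - (b - polar ⇑Q a' b • a) := by abel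
        rw [this]
        exact (D 1).sub_mem hb h3
      have h5 : a ∈ D 1 := by
        have : a = (polar ⇑Q a' b)⁻¹ • (polar ⇑Q a' b • a) := by
          rw [smul_smul, inv_mul_cancel₀ hba', one_smul]
        rw [this]
        exact (D 1).smul_mem _ h4
      exact ha0 (P.disjoint ha h5)
  · intro M hHM g hgM hgD
    have P := hP M hHM
    have hsM : s ∈ M := hHM hsH
    by_cases bad0 : ∃ a ∈ D 0, a ≠ 0 ∧ ∃ a' ∈ D 0, a' ∉ Submodule.span F {a} ∧
        orootLine Q hQ M a a'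
    · obtain ⟨a, ha, ha0, a', ha', hind, hR⟩ := bad0
      exact P.omega_le_of_badLine hn5 hn2 s hsM hs01 ha ha0 ha' hind hR
    by_cases bad1 : ∃ a ∈ D 1, a ≠ 0 ∧ ∃ a' ∈ D 1, a' ∉ Submodule.span F {a} ∧
        orootLine Q hQ M a a'
    · obtain ⟨a, ha, ha0, a', ha', hind, hR⟩ := bad1
      exact P.symm.omega_le_of_badLine hn5 hn2 s hsM hs10 ha ha0 ha' hind hR
    exfalso
    have hNB0 : NoBadLine Q hQ M (D 0) := by
      intro a ha ha0 a' ha' hR
      by_contra hcon
      exact bad0 ⟨a, ha, ha0, a', ha', hcon, hR⟩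
    have hNB1 : NoBadLine Q hQ M (D 1) := by
      intro a ha ha0 a' ha' hR
      by_contra hcon
      exact bad1 ⟨a, ha, ha0, a', ha', hcon, hR⟩
    have R := P.map g hgM
    have hA := P.le_or_le R hNB0 hNB1
    have hA' := P.le_or_le R.symm hNB0 hNB1
    have hmap0 : ∀ x ∈ D 0, ((g : Matrix.GeneralLinearGroup (Fin n) F) :
        Matrix (Fin n) (Fin n) F) *ᵥ x ∈ mapSub Q g (D 0) :=
      fun x hx => (mem_mapSub Q g (D 0) _).2 ⟨x, hx, rfl⟩
    have hmap1 : ∀ x ∈ D 1, ((g : Matrix.GeneralLinearGroup (Fin n) F) :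
        Matrix (Fin n) (Fin n) F) *ᵥ x ∈ mapSub Q g (D 1) :=
      fun x hx => (mem_mapSub Q g (D 1) _).2 ⟨x, hx, rfl⟩
    obtain ⟨b₀, hb₀, hb₀0⟩ := P.symm.exists_ne_zero
    obtain ⟨a₀, ha₀, ha₀0⟩ := P.exists_ne_zero
    apply hgD
    rcases hA with h0 | h0 <;> rcases hA' with h1 | h1
    · -- everything in `D 0`: impossible
      exfalso
      obtain ⟨y1, hy1, y2, hy2, hy⟩ := R.sum b₀
      apply hb₀0
      apply P.disjoint _ hb₀
      rw [← hy]
      exact (D 0).add_mem (h0 hy1) (h1 hy2)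
    · refine ⟨1, fun i => ?_⟩
      rw [Equiv.Perm.one_apply]
      fin_cases i
      · exact gl_map_eq_of_forall _ _ _ rfl (fun x hx => h0 (hmap0 x hx))
      · exact gl_map_eq_of_forall _ _ _ rfl (fun x hx => h1 (hmap1 x hx))
    · refine ⟨Equiv.swap 0 1, fun i => ?_⟩
      fin_cases i
      · show _ = D (Equiv.swap 0 1 0)
        rw [Equiv.swap_apply_left]
        exact gl_map_eq_of_forall _ _ _ ((hD.finrank_eq _).trans (hD.finrank_eq _).symm) (fun x hx => h0 (hmap0 x hx))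
      · show _ = D (Equiv.swap 0 1 1)
        rw [Equiv.swap_apply_right]
        exact gl_map_eq_of_forall _ _ _ ((hD.finrank_eq _).trans (hD.finrank_eq _).symm) (fun x hx => h1 (hmap1 x hx))
    · -- everything in `D 1`: impossible
      exfalso
      obtain ⟨y1, hy1, y2, hy2, hy⟩ := R.sum a₀
      apply ha₀0
      apply P.disjoint ha₀
      rw [← hy]
      exact (D 1).add_mem (h0 hy1) (h1 hy2)

end opair5main

end Cfsg.Agent.Lib.Helper99
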