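import Cfsg.Agent.Lib.Helper99.SURoot1

set_option autoImplicit false

/-!
Unitary transvection subgroups `T(p)` of `SU_n(q)`: pairs.
-/

namespace Cfsg.Agent.Lib.Helper99.SURoot

open Matrix Cfsg.Agent.Lib.Helper99

variable {F : Type*} [Field F] [Fintype F] {q : ℕ} (n : ℕ)

theorem smul_isotropic (l : F) (p : Fin n → F) (hp : Cfsg.hermForm n F q p p = 0) :
    Cfsg.hermForm n F q (l • p) (l • p) = 0 := by
  rw [hf_smul_left, hf_smul_right, hp, mul_zero, mul_zero]

theorem norm_ne_zero (l : F) (hl : l ≠ 0) : l ^ (q + 1) ≠ 0 := pow_ne_zero _ hl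

theorem root_smul (hF : Fintype.card F = q ^ 2) (l : F) (hl : l ≠ 0) (p : Fin n → F)
    (hp0 : p ≠ 0) (hp : Cfsg.hermForm n F q p p = 0) : root n q (l • p) = root n q p := by
  have hlp0 : l • p ≠ 0 := smul_ne_zero hl hp0
  have hlp := smul_isotropic n l p hp
  ext g
  rw [mem_root_iff n hF _ hlp0 hlp, mem_root_iff n hF p hp0 hp]
  constructor
  · rintro ⟨c, hc, rfl⟩
    exact ⟨c * l ^ (q + 1), mul_norm_trace_zero hF c l hc, elt_smul n hF l p hp c hc⟩
  · rintro ⟨c, hc, rfl⟩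
    have hN := norm_ne_zero (q := q) l hl
    have hc' : c / l ^ (q + 1) + (c / l ^ (q + 1)) ^ q = 0 := by
      rw [div_pow, norm_pow hF, trace_zero_pow c hc]; ring
    refine ⟨c / l ^ (q + 1), hc', ?_⟩
    rw [elt_smul n hF l p hp _ hc', div_mul_cancel₀ _ hN]

theorem mulVec_isotropic (g : ↥(Cfsg.SU n F q)) (p : Fin n → F)
    (hp : Cfsg.hermForm n F q p p = 0) :
    Cfsg.hermForm n F q (mat n g *ᵥ p) (mat n g *ᵥ p) = 0 := by
  rw [su_preserves, hp]

theorem mulVec_ne_zero (g : ↥(Cfsg.SU n F q)) (p : Fin n → F) (hp0 : p ≠ 0) :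
    mat n g *ᵥ p ≠ 0 := fun h => hp0 (su_mulVec_eq_zero n g p h)

theorem mem_conjBy_iff {G : Type*} [Group G] (A : Subgroup G) (g x : G) :
    x ∈ Cfsg.conjBy A g ↔ ∃ a ∈ A, g * a * g⁻¹ = x := by
  rw [Cfsg.conjBy, Subgroup.mem_map]
  rfl

theorem conjBy_root (hF : Fintype.card F = q ^ 2) (p : Fin n → F) (hp0 : p ≠ 0)
    (hp : Cfsg.hermForm n F q p p = 0) (g : ↥(Cfsg.SU n F q)) :
    Cfsg.conjBy (root n q p) g = root n q (mat n g *ᵥ p) := by
  ext x
  rw [mem_conjBy_iff, mem_root_iff n hF _ (mulVec_ne_zero n g p hp0) (mulVec_isotropic n g p hp)]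
  constructor
  · rintro ⟨a, ha, rfl⟩
    obtain ⟨c, hc, rfl⟩ := (mem_root_iff n hF p hp0 hp a).mp ha
    exact ⟨c, hc, conj_elt n hF g p hp c hc⟩
  · rintro ⟨c, hc, rfl⟩
    exact ⟨tvElt n hF p c, elt_mem_root n hF p hp0 hp c hc, conj_elt n hF g p hp c hc⟩

theorem root_commutative (hF : Fintype.card F = q ^ 2) (p : Fin n → F) (hp0 : p ≠ 0)
    (hp : Cfsg.hermForm n F q p p = 0) : IsMulCommutative (root n q p) := by
  refine ⟨⟨fun a b => ?_⟩⟩
  obtain ⟨c, hc, hca⟩ := (mem_root_iff n hF p hp0 hp a).mp a.2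
  obtain ⟨d, hd, hdb⟩ := (mem_root_iff n hF p hp0 hp b).mp b.2
  apply Subtype.ext
  rw [Subgroup.coe_mul, Subgroup.coe_mul, hca, hdb, elt_mul n hF p hp c d hc hd,
    elt_mul n hF p hp d c hd hc, add_comm]

theorem root_nilpotent (hF : Fintype.card F = q ^ 2) (p : Fin n → F) (hp0 : p ≠ 0)
    (hp : Cfsg.hermForm n F q p p = 0) : Group.IsNilpotent (root n q p) :=
  ⟨⟨1, Subgroup.upperCentralSeries_one_eq_top_iff.mpr (root_commutative n hF p hp0 hp)⟩⟩

theorem root_ne_bot (hF : Fintype.card F = q ^ 2) (p : Fin n → F) (hp0 : p ≠ 0)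
    (hp : Cfsg.hermForm n F q p p = 0) : root n q p ≠ ⊥ := by
  intro h
  obtain ⟨ε, hε0, hε⟩ := exists_trace_zero hF
  have h1 := elt_mem_root n hF p hp0 hp ε hε
  rw [h, Subgroup.mem_bot, elt_eq_one_iff n hF p hp0 hp ε hε] at h1
  exact hε0 h1

theorem conj_mem_rootSet (hF : Fintype.card F = q ^ 2) (A : Subgroup ↥(Cfsg.SU n F q))
    (hA : A ∈ rootSet F q n) (g : ↥(Cfsg.SU n F q)) : Cfsg.conjBy A g ∈ rootSet F q n := by
  obtain ⟨p, hp0, hp, rfl⟩ := hA
  exact ⟨mat n g *ᵥ p, mulVec_ne_zero n g p hp0, mulVec_isotropic n g p hp,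
    conjBy_root n hF p hp0 hp g⟩

theorem orth_symm (hF : Fintype.card F = q ^ 2) {u v : Fin n → F}
    (h : Cfsg.hermForm n F q u v = 0) : Cfsg.hermForm n F q v u = 0 :=
  hermForm_eq_zero_comm hF h

theorem not_orth_symm (hF : Fintype.card F = q ^ 2) {u v : Fin n → F}
    (h : Cfsg.hermForm n F q u v ≠ 0) : Cfsg.hermForm n F q v u ≠ 0 :=
  fun h0 => h (hermForm_eq_zero_comm hF h0)

theorem elt_comm_of_orth (hF : Fintype.card F = q ^ 2) (p r : Fin n → F)
    (hp : Cfsg.hermForm n F q p p = 0) (hr : Cfsg.hermForm n F q r r = 0)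
    (h : Cfsg.hermForm n F q p r = 0) (c d : F) (hc : c + c ^ q = 0) (hd : d + d ^ q = 0) :
    tvElt n hF p c * tvElt n hF r d = tvElt n hF r d * tvElt n hF p c := by
  have h' : Cfsg.hermForm n F q r p = 0 := orth_symm n hF h
  apply su_ext
  intro v
  rw [su_mul_mulVec, su_mul_mulVec, tvElt_mulVec n hF r hr d hd, tvElt_mulVec n hF p hp c hc,
    tvElt_mulVec n hF r hr d hd, tvElt_mulVec n hF p hp c hc]
  simp only [hf_add_left, hf_smul_left, h, h', mul_zero, add_zero]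
  abel

theorem commutator_root_eq_bot (hF : Fintype.card F = q ^ 2) (p r : Fin n → F) (hp0 : p ≠ 0)
    (hr0 : r ≠ 0) (hp : Cfsg.hermForm n F q p p = 0) (hr : Cfsg.hermForm n F q r r = 0)
    (h : Cfsg.hermForm n F q p r = 0) : ⁅root n q p, root n q r⁆ = ⊥ := by
  rw [Subgroup.commutator_eq_bot_iff_le_centralizer]
  intro a ha
  obtain ⟨c, hc, rfl⟩ := (mem_root_iff n hF p hp0 hp a).mp ha
  rw [Subgroup.mem_centralizer_iff]
  intro b hb
  obtain ⟨d, hd, rfl⟩ := (mem_root_iff n hF r hr0 hr b).mp hb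
  exact (elt_comm_of_orth n hF p r hp hr h c d hc hd).symm

theorem root_ne_of_not_orth (hF : Fintype.card F = q ^ 2) (p r : Fin n → F) (hp0 : p ≠ 0)
    (hr0 : r ≠ 0) (hp : Cfsg.hermForm n F q p p = 0) (hr : Cfsg.hermForm n F q r r = 0)
    (h : Cfsg.hermForm n F q p r ≠ 0) : root n q p ≠ root n q r := by
  intro hEq
  obtain ⟨ε, hε0, hε⟩ := exists_trace_zero hF
  have h1 : tvElt n hF r ε ∈ root n q p := by
    rw [hEq]; exact elt_mem_root n hF r hr0 hr ε hε
  obtain ⟨c, hc, hEq2⟩ := (mem_root_iff n hF p hp0 hp _).mp h1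
  have h2 := congrArg (fun g : ↥(Cfsg.SU n F q) => mat n g *ᵥ p) hEq2
  simp only [tvElt_mulVec n hF r hr ε hε, tvElt_mulVec n hF p hp c hc, hp, mul_zero, zero_smul,
    add_zero] at h2
  rw [add_eq_left] at h2
  rcases smul_eq_zero.mp h2 with h3 | h3
  · rcases mul_eq_zero.mp h3 with h4 | h4
    · exact hε0 h4
    · exact h h4
  · exact hr0 h3

/-- The rank one condition for non-orthogonal isotropic directions. -/
theorem rankOneCondition_root (hF : Fintype.card F = q ^ 2) (p r : Fin n → F) (hp0 : p ≠ 0)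
    (hr0 : r ≠ 0) (hp : Cfsg.hermForm n F q p p = 0) (hr : Cfsg.hermForm n F q r r = 0)
    (h : Cfsg.hermForm n F q p r ≠ 0) :
    Cfsg.RankOneCondition (root n q p) (root n q r) := by
  intro a ha ha1
  obtain ⟨c, hc, rfl⟩ := (mem_root_iff n hF p hp0 hp a).mp ha
  have hc0 : c ≠ 0 := by
    intro h0
    apply ha1
    rw [h0, elt_zero n hF p hp]
  obtain ⟨α, hα⟩ : ∃ α, α = Cfsg.hermForm n F q p r := ⟨_, rfl⟩
  obtain ⟨β, hβ⟩ : ∃ β, β = Cfsg.hermForm n F q r p := ⟨_, rfl⟩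
  have hα0 : α ≠ 0 := by rw [hα]; exact h
  have hβ0 : β ≠ 0 := by rw [hβ]; exact not_orth_symm n hF h
  have hαq : α ^ q = β := by rw [hα, hβ, hf_conj n hF]
  have hβq : β ^ q = α := by rw [hα, hβ, hf_conj n hF]
  have hcq := trace_zero_pow c hc
  have hd : (c * α * β)⁻¹ + ((c * α * β)⁻¹) ^ q = 0 := by
    rw [inv_pow, mul_pow, mul_pow, hcq, hαq, hβq]
    have : -c * β * α = -(c * α * β) := by ring
    rw [this, inv_neg, add_neg_eq_zero]
  have hcαβ : c * α * β ≠ 0 := mul_ne_zero (mul_ne_zero hc0 hα0) hβ0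
  refine ⟨tvElt n hF r (c * α * β)⁻¹, elt_mem_root n hF r hr0 hr _ hd, ?_, ?_⟩
  · rw [Ne, elt_eq_one_iff n hF r hr0 hr _ hd]
    exact inv_ne_zero hcαβ
  · rw [conjBy_root n hF p hp0 hp, conjBy_root n hF r hr0 hr, elt_inv n hF r hr _ hd,
      elt_inv n hF p hp c hc, tvElt_mulVec n hF r hr _ (neg_trace_zero hF _ hd),
      tvElt_mulVec n hF p hp _ (neg_trace_zero hF c hc), ← hα, ← hβ]
    have key : p + (-(c * α * β)⁻¹ * α) • r = (-(c * β)⁻¹) • (r + (-c * β) • p) := by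
      have e1 : -(c * β)⁻¹ * (-c * β) = 1 := by field_simp
      have e2 : -(c * α * β)⁻¹ * α = -(c * β)⁻¹ := by field_simp
      rw [smul_add, smul_smul, e1, e2, one_smul, add_comm]
    have hr' : r + (-c * β) • p ≠ 0 := by
      intro h0
      have h1 := congrArg (fun v => Cfsg.hermForm n F q v r) h0
      simp only [hf_add_left, hf_smul_left, hr, ← hα, zero_add, hermForm_zero_left] at h1
      rcases mul_eq_zero.mp h1 with h2 | h2
      · exact mul_ne_zero (neg_ne_zero.mpr hc0) hβ0 h2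
      · exact hα0 h2
    have hr'' : Cfsg.hermForm n F q (r + (-c * β) • p) (r + (-c * β) • p) = 0 := by
      have := mulVec_isotropic n (tvElt n hF p (-c)) r hr
      rw [tvElt_mulVec n hF p hp _ (neg_trace_zero hF c hc), ← hβ] at this
      exact this
    rw [key, root_smul n hF _ (neg_ne_zero.mpr (inv_ne_zero (mul_ne_zero hc0 hβ0))) _ hr' hr'']

theorem isRankOnePair_root (hF : Fintype.card F = q ^ 2) (p r : Fin n → F) (hp0 : p ≠ 0)
    (hr0 : r ≠ 0) (hp : Cfsg.hermForm n F q p p = 0) (hr : Cfsg.hermForm n F q r r = 0)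
    (h : Cfsg.hermForm n F q p r ≠ 0) : Cfsg.IsRankOnePair (root n q p) (root n q r) :=
  ⟨root_ne_of_not_orth n hF p r hp0 hr0 hp hr h, root_nilpotent n hF p hp0 hp,
    root_nilpotent n hF r hr0 hr, rankOneCondition_root n hF p r hp0 hr0 hp hr h,
    rankOneCondition_root n hF r p hr0 hp0 hr hp (not_orth_symm n hF h)⟩

/-- A rank one pair of root subgroups has non-orthogonal directions. -/
theorem not_orth_of_isRankOnePair (hF : Fintype.card F = q ^ 2) (p r : Fin n → F) (hp0 : p ≠ 0)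
    (hr0 : r ≠ 0) (hp : Cfsg.hermForm n F q p p = 0) (hr : Cfsg.hermForm n F q r r = 0)
    (h : Cfsg.IsRankOnePair (root n q p) (root n q r)) : Cfsg.hermForm n F q p r ≠ 0 := by
  intro h0
  have h0' : Cfsg.hermForm n F q r p = 0 := orth_symm n hF h0
  obtain ⟨ε, hε0, hε⟩ := exists_trace_zero hF
  have ha1 : tvElt n hF p ε ≠ 1 := by
    rw [Ne, elt_eq_one_iff n hF p hp0 hp ε hε]; exact hε0
  obtain ⟨b, hb, -, hEq⟩ := h.cond_left _ (elt_mem_root n hF p hp0 hp ε hε) ha1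
  obtain ⟨d, hd, rfl⟩ := (mem_root_iff n hF r hr0 hr b).mp hb
  rw [conjBy_root n hF p hp0 hp, conjBy_root n hF r hr0 hr, elt_inv n hF r hr d hd,
    elt_inv n hF p hp ε hε, tvElt_mulVec n hF r hr _ (neg_trace_zero hF d hd),
    tvElt_mulVec n hF p hp _ (neg_trace_zero hF ε hε), h0, h0', mul_zero,
    zero_smul, add_zero, mul_zero, zero_smul, add_zero] at hEq
  exact h.ne hEq

/-- An isotropic vector not orthogonal to a given non-zero isotropic vector. -/
theorem exists_isotropic_not_orth (hF : Fintype.card F = q ^ 2) (p : Fin n → F) (hp0 : p ≠ 0)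
    (hp : Cfsg.hermForm n F q p p = 0) :
    ∃ s : Fin n → F, Cfsg.hermForm n F q s s = 0 ∧ Cfsg.hermForm n F q s p ≠ 0 := by
  obtain ⟨v, hv⟩ := exists_not_orth n hF p hp0
  obtain ⟨μ, hμ⟩ := exists_isotropic_add hF v p hp hv
  refine ⟨v + μ • p, hμ, ?_⟩
  rw [hf_add_left, hf_smul_left, hp, mul_zero, add_zero]
  exact hv

/-- Connecting isotropic vector. -/
theorem exists_connect (hF : Fintype.card F = q ^ 2) (p r : Fin n → F) (hp0 : p ≠ 0)
    (hr0 : r ≠ 0) (hp : Cfsg.hermForm n F q p p = 0) (hr : Cfsg.hermForm n F q r r = 0) :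
    ∃ s : Fin n → F, Cfsg.hermForm n F q s s = 0 ∧ Cfsg.hermForm n F q s p ≠ 0 ∧
      Cfsg.hermForm n F q s r ≠ 0 := by
  obtain ⟨s₁, hs₁, h₁⟩ := exists_isotropic_not_orth n hF p hp0 hp
  obtain ⟨s₂, hs₂, h₂⟩ := exists_isotropic_not_orth n hF r hr0 hr
  by_cases h₁r : Cfsg.hermForm n F q s₁ r = 0
  · by_cases h₂p : Cfsg.hermForm n F q s₂ p = 0
    · by_cases hβ : Cfsg.hermForm n F q s₁ s₂ = 0
      · have hβ' := orth_symm n hF hβ
        refine ⟨s₁ + s₂, ?_, ?_, ?_⟩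
        · rw [hf_add_left, hf_add_right n hF, hf_add_right n hF, hs₁, hs₂, hβ, hβ']; ring
        · rw [hf_add_left, h₂p, add_zero]; exact h₁
        · rw [hf_add_left, h₁r, zero_add]; exact h₂
      · obtain ⟨ε, hε0, hε⟩ := exists_trace_zero hF
        obtain ⟨β, hβdef⟩ : ∃ β, β = Cfsg.hermForm n F q s₁ s₂ := ⟨_, rfl⟩
        have hβ0 : β ≠ 0 := by rw [hβdef]; exact hβ
        have hβq0 : β ^ q ≠ 0 := pow_ne_zero _ hβ0
        have hβ' : Cfsg.hermForm n F q s₂ s₁ = β ^ q := by rw [hβdef, hf_conj n hF]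
        have hl0 : ε / β ^ q ≠ 0 := div_ne_zero hε0 hβq0
        refine ⟨s₁ + (ε / β ^ q) • s₂, ?_, ?_, ?_⟩
        · rw [hf_add_left, hf_add_right n hF, hf_add_right n hF, hf_smul_left, hf_smul_left,
            hf_smul_right, hf_smul_right, hs₁, hs₂, ← hβdef, hβ', div_pow, pow_q_pow_q hF,
            trace_zero_pow ε hε]
          field_simp
          ring
        · rw [hf_add_left, hf_smul_left, h₂p, mul_zero, add_zero]; exact h₁
        · rw [hf_add_left, hf_smul_left, h₁r, zero_add]; exact mul_ne_zero hl0 h₂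
    · exact ⟨s₂, hs₂, h₂p, h₂⟩
  · exact ⟨s₁, hs₁, h₁, h₁r⟩

theorem rootSet_connected (hF : Fintype.card F = q ^ 2) :
    Cfsg.IsConnectedFamily (Cfsg.FAdj (rootSet F q n)) (rootSet F q n) := by
  rintro A ⟨p, hp0, hp, rfl⟩ B ⟨r, hr0, hr, rfl⟩
  obtain ⟨s, hs, hsp, hsr⟩ := exists_connect n hF p r hp0 hr0 hp hr
  have hs0 : s ≠ 0 := by
    rintro rfl
    exact hsp (hermForm_zero_left p)
  have e1 : Cfsg.FAdj (rootSet F q n) (root n q p) (root n q s) :=
    ⟨⟨p, hp0, hp, rfl⟩, ⟨s, hs0, hs, rfl⟩,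
      isRankOnePair_root n hF p s hp0 hs0 hp hs (not_orth_symm n hF hsp)⟩
  have e2 : Cfsg.FAdj (rootSet F q n) (root n q s) (root n q r) :=
    ⟨⟨s, hs0, hs, rfl⟩, ⟨r, hr0, hr, rfl⟩, isRankOnePair_root n hF s r hs0 hr0 hs hr hsr⟩
  exact Relation.ReflTransGen.tail (Relation.ReflTransGen.single e1) e2

/-- Elements moving every vector by an element of `W`. -/
def moveInto (W : Submodule F (Fin n → F)) : Subgroup ↥(Cfsg.SU n F q) where
  carrier := {g | ∀ v : Fin n → F, mat n g *ᵥ v - v ∈ W}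
  mul_mem' := by
    intro a b ha hb v
    rw [su_mul_mulVec]
    have := W.add_mem (ha (mat n b *ᵥ v)) (hb v)
    rwa [sub_add_sub_cancel] at this
  one_mem' := fun v => by
    rw [su_one_mulVec, sub_self]; exact W.zero_mem
  inv_mem' := by
    intro a ha v
    have := W.neg_mem (ha (mat n a⁻¹ *ᵥ v))
    rwa [su_mulVec_inv_mulVec, neg_sub] at this

theorem mem_moveInto (W : Submodule F (Fin n → F)) (g : ↥(Cfsg.SU n F q)) :
    g ∈ moveInto n W ↔ ∀ v : Fin n → F, mat n g *ᵥ v - v ∈ W := Iff.rfl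

theorem root_le_moveInto (hF : Fintype.card F = q ^ 2) (W : Submodule F (Fin n → F))
    (p : Fin n → F) (hp0 : p ≠ 0) (hp : Cfsg.hermForm n F q p p = 0) (hpW : p ∈ W) :
    root n q p ≤ moveInto n W := by
  intro g hg
  obtain ⟨c, hc, rfl⟩ := (mem_root_iff n hF p hp0 hp g).mp hg
  intro v
  rw [tvElt_mulVec n hF p hp c hc, add_sub_cancel_left]
  exact W.smul_mem _ hpW

/-- Commuting transvections have orthogonal directions. -/
theorem orth_of_comm (hF : Fintype.card F = q ^ 2) (s p : Fin n → F) (hs0 : s ≠ 0)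
    (hs : Cfsg.hermForm n F q s s = 0) (hp : Cfsg.hermForm n F q p p = 0)
    (c d : F) (hc : c + c ^ q = 0) (hd : d + d ^ q = 0) (hc0 : c ≠ 0) (hd0 : d ≠ 0)
    (hcomm : tvElt n hF s c * tvElt n hF p d = tvElt n hF p d * tvElt n hF s c) :
    Cfsg.hermForm n F q s p = 0 := by
  have h2 := congrArg (fun g : ↥(Cfsg.SU n F q) => mat n g *ᵥ s) hcomm
  simp only [su_mul_mulVec, tvElt_mulVec n hF s hs c hc, tvElt_mulVec n hF p hp d hd, hs,
    mul_zero, zero_smul, add_zero, hf_add_left, hf_smul_left, zero_add] at h2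
  rw [add_eq_left] at h2
  rcases smul_eq_zero.mp h2 with h3 | h3
  · rcases mul_eq_zero.mp h3 with h4 | h4
    · exact absurd h4 hc0
    · rcases mul_eq_zero.mp h4 with h5 | h5
      · rcases mul_eq_zero.mp h5 with h6 | h6
        · exact absurd h6 hd0
        · exact h6
      · exact orth_symm n hF h5
  · exact absurd h3 hs0

/-- The commutator case never occurs. -/
theorem rootSet_no_commutator_case (hF : Fintype.card F = q ^ 2)
    (A : Subgroup ↥(Cfsg.SU n F q)) (hA : A ∈ rootSet F q n)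
    (B : Subgroup ↥(Cfsg.SU n F q)) (hB : B ∈ rootSet F q n) :
    ¬ (⁅A, B⁆ ∈ rootSet F q n ∧ ∀ c ∈ ⁅A, B⁆, ∀ x ∈ A ⊔ B, c * x = x * c) := by
  obtain ⟨p, hp0, hp, rfl⟩ := hA
  obtain ⟨r, hr0, hr, rfl⟩ := hB
  rintro ⟨⟨s, hs0, hs, hEq⟩, hcentral⟩
  obtain ⟨ε, hε0, hε⟩ := exists_trace_zero hF
  by_cases h : Cfsg.hermForm n F q p r = 0
  · rw [commutator_root_eq_bot n hF p r hp0 hr0 hp hr h] at hEq
    exact root_ne_bot n hF s hs0 hs hEq.symm
  · have hmem : tvElt n hF s ε ∈ ⁅root n q p, root n q r⁆ := by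
      rw [hEq]; exact elt_mem_root n hF s hs0 hs ε hε
    have c1 := hcentral _ hmem (tvElt n hF p ε)
      (Subgroup.mem_sup_left (elt_mem_root n hF p hp0 hp ε hε))
    have c2 := hcentral _ hmem (tvElt n hF r ε)
      (Subgroup.mem_sup_right (elt_mem_root n hF r hr0 hr ε hε))
    have o1 : Cfsg.hermForm n F q s p = 0 :=
      orth_of_comm n hF s p hs0 hs hp ε ε hε hε hε0 hε0 c1
    have o2 : Cfsg.hermForm n F q s r = 0 :=
      orth_of_comm n hF s r hs0 hs hr ε ε hε hε hε0 hε0 c2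
    have hle : ⁅root n q p, root n q r⁆ ≤ moveInto n (Submodule.span F {p, r}) := by
      rw [Subgroup.commutator_le]
      intro g₁ hg₁ g₂ hg₂
      have h1 : g₁ ∈ moveInto n (Submodule.span F {p, r}) :=
        root_le_moveInto n hF _ p hp0 hp (Submodule.subset_span (by simp)) hg₁
      have h2 : g₂ ∈ moveInto n (Submodule.span F {p, r}) :=
        root_le_moveInto n hF _ r hr0 hr (Submodule.subset_span (by simp)) hg₂
      rw [commutatorElement_def]
      exact Subgroup.mul_mem _ (Subgroup.mul_mem _ (Subgroup.mul_mem _ h1 h2)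
        (Subgroup.inv_mem _ h1)) (Subgroup.inv_mem _ h2)
    have h3 := hle hmem
    obtain ⟨a, ha⟩ := exists_not_orth n hF s hs0
    have h4 := (mem_moveInto n _ _).mp h3 a
    rw [tvElt_mulVec n hF s hs ε hε, add_sub_cancel_left,
      Submodule.smul_mem_iff _ (mul_ne_zero hε0 ha), Submodule.mem_span_pair] at h4
    obtain ⟨x, y, hxy⟩ := h4
    have e1 : y * Cfsg.hermForm n F q r p = 0 := by
      have := o1
      rw [← hxy, hf_add_left, hf_smul_left, hf_smul_left, hp, mul_zero, zero_add] at this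
      exact this
    have e2 : x * Cfsg.hermForm n F q p r = 0 := by
      have := o2
      rw [← hxy, hf_add_left, hf_smul_left, hf_smul_left, hr, mul_zero, add_zero] at this
      exact this
    have hx : x = 0 := by
      rcases mul_eq_zero.mp e2 with h5 | h5
      · exact h5
      · exact absurd h5 h
    have hy : y = 0 := by
      rcases mul_eq_zero.mp e1 with h5 | h5
      · exact h5
      · exact absurd (orth_symm n hF h5) h
    apply hs0
    rw [← hxy, hx, hy, zero_smul, zero_smul, add_zero]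

end Cfsg.Agent.Lib.Helper99.SURoot
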