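import Cfsg.Agent.Lib.Helper99.SURoot2
import Cfsg.Agent.Lib.Helper99.SpRoot2

set_option autoImplicit false

/-!
The `SL₂` attached to a hyperbolic pair of isotropic vectors in a unitary space.
-/

namespace Cfsg.Agent.Lib.Helper99.SURoot

open Matrix Cfsg.Agent.Lib.Helper99

variable {F : Type*} [Field F] [Fintype F] {q : ℕ} (n : ℕ)

theorem frob_dot (u x : Fin n → F) :
    (fun j => (u j) ^ q) ⬝ᵥ x = Cfsg.hermForm n F q x u := by
  unfold Cfsg.hermForm dotProduct
  apply Finset.sum_congr rfl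
  intro j _
  ring

/-- The matrix of the action of `!![A, B; C, D]` on the plane `⟨p, r⟩`, extended by the identity on
the orthogonal complement. -/
def embMat (q : ℕ) (p r : Fin n → F) (A B C D : F) : Matrix (Fin n) (Fin n) F :=
  1 + vecMulVec ((A - 1) • p + C • r) (fun j => (r j) ^ q) +
    vecMulVec (B • p + (D - 1) • r) (fun j => (p j) ^ q)

theorem embMat_mulVec (p r : Fin n → F) (A B C D : F) (x : Fin n → F) :
    embMat n q p r A B C D *ᵥ x = x + Cfsg.hermForm n F q x r • ((A - 1) • p + C • r) +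
      Cfsg.hermForm n F q x p • (B • p + (D - 1) • r) := by
  unfold embMat
  rw [add_mulVec, add_mulVec, one_mulVec, vecMulVec_mulVec, vecMulVec_mulVec, op_smul_eq_smul,
    op_smul_eq_smul, frob_dot, frob_dot]

theorem embMat_p (p r : Fin n → F) (hp : Cfsg.hermForm n F q p p = 0)
    (hpr : Cfsg.hermForm n F q p r = 1) (A B C D : F) :
    embMat n q p r A B C D *ᵥ p = A • p + C • r := by
  rw [embMat_mulVec, hpr, hp, zero_smul, add_zero, one_smul]
  module

theorem embMat_r (p r : Fin n → F) (hr : Cfsg.hermForm n F q r r = 0)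
    (hrp : Cfsg.hermForm n F q r p = 1) (A B C D : F) :
    embMat n q p r A B C D *ᵥ r = B • p + D • r := by
  rw [embMat_mulVec, hrp, hr, zero_smul, add_zero, one_smul]
  module

theorem embMat_mul (p r : Fin n → F) (hp : Cfsg.hermForm n F q p p = 0)
    (hr : Cfsg.hermForm n F q r r = 0) (hpr : Cfsg.hermForm n F q p r = 1)
    (hrp : Cfsg.hermForm n F q r p = 1) (A B C D A' B' C' D' : F) :
    embMat n q p r A B C D * embMat n q p r A' B' C' D' =
      embMat n q p r (A * A' + B * C') (A * B' + B * D') (C * A' + D * C') (C * B' + D * D') := by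
  rw [Matrix.ext_iff_mulVec]
  intro x
  rw [← mulVec_mulVec, embMat_mulVec n p r A' B' C' D' x, mulVec_add, mulVec_add, mulVec_smul,
    mulVec_smul, mulVec_add, mulVec_add, mulVec_smul, mulVec_smul, mulVec_smul, mulVec_smul,
    embMat_p n p r hp hpr, embMat_r n p r hr hrp, embMat_mulVec, embMat_mulVec]
  module

theorem embMat_one (p r : Fin n → F) : embMat n q p r 1 0 0 1 = 1 := by
  rw [Matrix.ext_iff_mulVec]
  intro x
  rw [embMat_mulVec, one_mulVec]
  module

theorem embMat_det (p r : Fin n → F) (hp : Cfsg.hermForm n F q p p = 0)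
    (hr : Cfsg.hermForm n F q r r = 0) (hpr : Cfsg.hermForm n F q p r = 1)
    (hrp : Cfsg.hermForm n F q r p = 1) (A B C D : F) :
    (embMat n q p r A B C D).det = A * D - B * C := by
  obtain ⟨w₁, hw₁⟩ : ∃ w₁ : Fin n → F, w₁ = (A - 1) • p + C • r := ⟨_, rfl⟩
  obtain ⟨w₂, hw₂⟩ : ∃ w₂ : Fin n → F, w₂ = B • p + (D - 1) • r := ⟨_, rfl⟩
  let U : Matrix (Fin n) (Fin 2) F := Matrix.of (fun i k => ![w₁ i, w₂ i] k)
  let W : Matrix (Fin 2) (Fin n) F := Matrix.of (fun k j => ![(r j) ^ q, (p j) ^ q] k)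
  have hE : embMat n q p r A B C D = 1 + U * W := by
    unfold embMat
    rw [← hw₁, ← hw₂, add_assoc]
    congr 1
    ext i j
    simp [U, W, Matrix.mul_apply, Fin.sum_univ_two, vecMulVec_apply]
  have h11 : Cfsg.hermForm n F q w₁ r = A - 1 := by
    rw [hw₁, hf_add_left, hf_smul_left, hf_smul_left, hpr, hr]; ring
  have h12 : Cfsg.hermForm n F q w₂ r = B := by
    rw [hw₂, hf_add_left, hf_smul_left, hf_smul_left, hpr, hr]; ring
  have h21 : Cfsg.hermForm n F q w₁ p = C := by
    rw [hw₁, hf_add_left, hf_smul_left, hf_smul_left, hp, hrp]; ring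
  have h22 : Cfsg.hermForm n F q w₂ p = D - 1 := by
    rw [hw₂, hf_add_left, hf_smul_left, hf_smul_left, hp, hrp]; ring
  have e00 : (W * U) 0 0 = A - 1 := by
    rw [← h11]
    simp only [U, W, Matrix.mul_apply, Matrix.of_apply, Matrix.cons_val_zero]
    unfold Cfsg.hermForm
    apply Finset.sum_congr rfl
    intro j _
    ring
  have e01 : (W * U) 0 1 = B := by
    rw [← h12]
    simp only [U, W, Matrix.mul_apply, Matrix.of_apply, Matrix.cons_val_zero, Matrix.cons_val_one]
    unfold Cfsg.hermForm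
    apply Finset.sum_congr rfl
    intro j _
    ring
  have e10 : (W * U) 1 0 = C := by
    rw [← h21]
    simp only [U, W, Matrix.mul_apply, Matrix.of_apply, Matrix.cons_val_zero, Matrix.cons_val_one]
    unfold Cfsg.hermForm
    apply Finset.sum_congr rfl
    intro j _
    ring
  have e11 : (W * U) 1 1 = D - 1 := by
    rw [← h22]
    simp only [U, W, Matrix.mul_apply, Matrix.of_apply, Matrix.cons_val_one, Matrix.cons_val_zero,
      Matrix.cons_val_fin_one]
    unfold Cfsg.hermForm
    apply Finset.sum_congr rfl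
    intro j _
    ring
  rw [hE, Matrix.det_one_add_mul_comm, Matrix.det_fin_two]
  simp only [Matrix.add_apply, e00, e01, e10, e11, Matrix.one_apply_eq, Matrix.one_apply_ne,
    ne_eq, zero_ne_one, one_ne_zero, not_false_eq_true, zero_add]
  ring

theorem embMat_preserves (hF : Fintype.card F = q ^ 2) (p r : Fin n → F)
    (hp : Cfsg.hermForm n F q p p = 0)
    (hr : Cfsg.hermForm n F q r r = 0) (hpr : Cfsg.hermForm n F q p r = 1)
    (hrp : Cfsg.hermForm n F q r p = 1) (A B C D : F)
    (c1 : A * C ^ q + C * A ^ q = 0) (c2 : B * D ^ q + D * B ^ q = 0)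
    (c3 : A * D ^ q + C * B ^ q = 1) (u v : Fin n → F) :
    Cfsg.hermForm n F q (embMat n q p r A B C D *ᵥ u) (embMat n q p r A B C D *ᵥ v) =
      Cfsg.hermForm n F q u v := by
  have c3' : A ^ q * D + C ^ q * B = 1 := by
    have := congrArg (fun x => x ^ q) c3
    simp only [frob_add hF, mul_pow, pow_q_pow_q hF, one_pow] at this
    exact this
  have hpv : Cfsg.hermForm n F q p v = Cfsg.hermForm n F q v p ^ q := (hf_conj n hF v p).symm
  have hrv : Cfsg.hermForm n F q r v = Cfsg.hermForm n F q v r ^ q := (hf_conj n hF v r).symm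
  rw [embMat_mulVec, embMat_mulVec]
  simp only [hf_add_left, hf_add_right n hF, hf_smul_left, hf_smul_right, hp, hr, hpr, hrp, hpv,
    hrv, frob_sub hF, one_pow]
  linear_combination
    (Cfsg.hermForm n F q u r * Cfsg.hermForm n F q v r ^ q) * c1 +
    (Cfsg.hermForm n F q u p * Cfsg.hermForm n F q v p ^ q) * c2 +
    (Cfsg.hermForm n F q u r * Cfsg.hermForm n F q v p ^ q) * c3 +
    (Cfsg.hermForm n F q u p * Cfsg.hermForm n F q v r ^ q) * c3'

end Cfsg.Agent.Lib.Helper99.SURoot
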