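import Cfsg.Agent.Lib.Helper99.SURoot3
import Cfsg.Agent.Lib.Helper99.RootRestrict

set_option autoImplicit false

/-!
Unitary transvection subgroups: the `SL₂(L)` of a hyperbolic pair, `L` the fixed field of Frobenius.
-/

namespace Cfsg.Agent.Lib.Helper99.SURoot

open Matrix Cfsg.Agent.Lib.Helper99

variable {F : Type*} [Field F] [Fintype F] {q : ℕ} (n : ℕ)

/-- A hyperbolic pair of isotropic vectors, a trace zero element, and an embedding of a field onto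
the fixed field of Frobenius. -/
structure Frame (F : Type*) [Field F] [Fintype F] (q n : ℕ) (L : Type*) [Field L] where
  p : Fin n → F
  r : Fin n → F
  hp : Cfsg.hermForm n F q p p = 0
  hr : Cfsg.hermForm n F q r r = 0
  hpr : Cfsg.hermForm n F q p r = 1
  hrp : Cfsg.hermForm n F q r p = 1
  ε : F
  hε0 : ε ≠ 0
  hε : ε + ε ^ q = 0
  ι : L →+* F
  hι : ∀ a : L, (ι a) ^ q = ι a
  hιs : ∀ x : F, x ^ q = x → ∃ a : L, ι a = x

variable {L : Type*} [Field L]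

namespace Frame

variable {n}
variable (fr : Frame F q n L)

theorem p_ne_zero : fr.p ≠ 0 := by
  intro h
  have := fr.hpr
  rw [h, hermForm_zero_left] at this
  exact zero_ne_one this

theorem r_ne_zero : fr.r ≠ 0 := by
  intro h
  have := fr.hrp
  rw [h, hermForm_zero_left] at this
  exact zero_ne_one this

theorem eps_pow : fr.ε ^ q = -fr.ε := trace_zero_pow fr.ε fr.hε

theorem eps_inv_pow : (fr.ε⁻¹) ^ q = -fr.ε⁻¹ := by
  rw [inv_pow, fr.eps_pow, inv_neg]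

theorem det_cond (a b c d : L) (hdet : a * d - b * c = 1) :
    fr.ι a * fr.ι d - (fr.ε * fr.ι b) * (fr.ε⁻¹ * fr.ι c) = 1 := by
  have h1 : fr.ι a * fr.ι d - fr.ι b * fr.ι c = 1 := by
    rw [← map_mul, ← map_mul, ← map_sub, hdet, map_one]
  have h2 : fr.ε * fr.ε⁻¹ = 1 := mul_inv_cancel₀ fr.hε0
  linear_combination h1 - fr.ι b * fr.ι c * h2

theorem cond1 (a c : L) :
    fr.ι a * (fr.ε⁻¹ * fr.ι c) ^ q + (fr.ε⁻¹ * fr.ι c) * (fr.ι a) ^ q = 0 := by
  rw [mul_pow, fr.eps_inv_pow, fr.hι, fr.hι]; ring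

theorem cond2 (b d : L) :
    (fr.ε * fr.ι b) * (fr.ι d) ^ q + fr.ι d * (fr.ε * fr.ι b) ^ q = 0 := by
  rw [mul_pow, fr.eps_pow, fr.hι, fr.hι]; ring

theorem cond3 (a b c d : L) (hdet : a * d - b * c = 1) :
    fr.ι a * (fr.ι d) ^ q + (fr.ε⁻¹ * fr.ι c) * (fr.ε * fr.ι b) ^ q = 1 := by
  rw [mul_pow, fr.eps_pow, fr.hι, fr.hι]
  have h1 : fr.ι a * fr.ι d - fr.ι b * fr.ι c = 1 := by
    rw [← map_mul, ← map_mul, ← map_sub, hdet, map_one]
  have h2 : fr.ε * fr.ε⁻¹ = 1 := mul_inv_cancel₀ fr.hε0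
  linear_combination h1 - fr.ι b * fr.ι c * h2

theorem trace_zero_upper (b : L) : fr.ε * fr.ι b + (fr.ε * fr.ι b) ^ q = 0 := by
  rw [mul_pow, fr.eps_pow, fr.hι]; ring

theorem trace_zero_lower (c : L) : fr.ε⁻¹ * fr.ι c + (fr.ε⁻¹ * fr.ι c) ^ q = 0 := by
  rw [mul_pow, fr.eps_inv_pow, fr.hι]; ring

end Frame

theorem sl2_det' (g : Matrix.SpecialLinearGroup (Fin 2) L) :
    (g : Matrix (Fin 2) (Fin 2) L) 0 0 * (g : Matrix (Fin 2) (Fin 2) L) 1 1 -
      (g : Matrix (Fin 2) (Fin 2) L) 0 1 * (g : Matrix (Fin 2) (Fin 2) L) 1 0 = 1 := by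
  rw [← Matrix.det_fin_two, Matrix.SpecialLinearGroup.det_coe]

/-- The matrix attached to an element of `SL₂(L)`. -/
def slMat (fr : Frame F q n L) (g : Matrix.SpecialLinearGroup (Fin 2) L) :
    Matrix (Fin n) (Fin n) F :=
  embMat n q fr.p fr.r (fr.ι ((g : Matrix (Fin 2) (Fin 2) L) 0 0))
    (fr.ε * fr.ι ((g : Matrix (Fin 2) (Fin 2) L) 0 1))
    (fr.ε⁻¹ * fr.ι ((g : Matrix (Fin 2) (Fin 2) L) 1 0))
    (fr.ι ((g : Matrix (Fin 2) (Fin 2) L) 1 1))

theorem slMat_det (fr : Frame F q n L) (g : Matrix.SpecialLinearGroup (Fin 2) L) :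
    (slMat n fr g).det = 1 := by
  unfold slMat
  rw [embMat_det n fr.p fr.r fr.hp fr.hr fr.hpr fr.hrp]
  exact fr.det_cond _ _ _ _ (sl2_det' g)

theorem slMat_preserves (hF : Fintype.card F = q ^ 2) (fr : Frame F q n L)
    (g : Matrix.SpecialLinearGroup (Fin 2) L) (u v : Fin n → F) :
    Cfsg.hermForm n F q (slMat n fr g *ᵥ u) (slMat n fr g *ᵥ v) = Cfsg.hermForm n F q u v :=
  embMat_preserves n hF fr.p fr.r fr.hp fr.hr fr.hpr fr.hrp _ _ _ _ (fr.cond1 _ _) (fr.cond2 _ _)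
    (fr.cond3 _ _ _ _ (sl2_det' g)) u v

theorem slMat_one (fr : Frame F q n L) : slMat n fr 1 = 1 := by
  unfold slMat
  simp only [Matrix.SpecialLinearGroup.coe_one, Matrix.one_apply_eq, ne_eq, zero_ne_one,
    not_false_eq_true, Matrix.one_apply_ne, one_ne_zero, map_one, map_zero, mul_zero]
  exact embMat_one n fr.p fr.r

theorem slMat_mul (fr : Frame F q n L) (g h : Matrix.SpecialLinearGroup (Fin 2) L) :
    slMat n fr (g * h) = slMat n fr g * slMat n fr h := by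
  unfold slMat
  rw [embMat_mul n fr.p fr.r fr.hp fr.hr fr.hpr fr.hrp]
  have h2 : fr.ε * fr.ε⁻¹ = 1 := mul_inv_cancel₀ fr.hε0
  simp only [Matrix.SpecialLinearGroup.coe_mul, Matrix.mul_apply, Fin.sum_univ_two, map_add,
    map_mul]
  congr 1
  · linear_combination (-(fr.ι ((g : Matrix (Fin 2) (Fin 2) L) 0 1) *
      fr.ι ((h : Matrix (Fin 2) (Fin 2) L) 1 0))) * h2
  · ring
  · ring
  · linear_combination (-(fr.ι ((g : Matrix (Fin 2) (Fin 2) L) 1 0) *
      fr.ι ((h : Matrix (Fin 2) (Fin 2) L) 0 1))) * h2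

/-- The homomorphism `SL₂(L) → SU` attached to a frame. -/
noncomputable def sl2Hom (hF : Fintype.card F = q ^ 2) (fr : Frame F q n L) :
    Matrix.SpecialLinearGroup (Fin 2) L →* ↥(Cfsg.SU n F q) where
  toFun g := ⟨⟨slMat n fr g, slMat_det n fr g⟩, fun u v => slMat_preserves n hF fr g u v⟩
  map_one' := Subtype.ext (Subtype.ext (slMat_one n fr))
  map_mul' g h := Subtype.ext (Subtype.ext (slMat_mul n fr g h))

theorem sl2Hom_mat (hF : Fintype.card F = q ^ 2) (fr : Frame F q n L)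
    (g : Matrix.SpecialLinearGroup (Fin 2) L) : mat n (sl2Hom n hF fr g) = slMat n fr g := rfl

theorem sl2Hom_upper (hF : Fintype.card F = q ^ 2) (fr : Frame F q n L)
    (g : Matrix.SpecialLinearGroup (Fin 2) L) (h10 : (g : Matrix (Fin 2) (Fin 2) L) 1 0 = 0)
    (h00 : (g : Matrix (Fin 2) (Fin 2) L) 0 0 = 1) (h11 : (g : Matrix (Fin 2) (Fin 2) L) 1 1 = 1) :
    sl2Hom n hF fr g = tvElt n hF fr.p (fr.ε * fr.ι ((g : Matrix (Fin 2) (Fin 2) L) 0 1)) := by
  apply su_ext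
  intro x
  rw [sl2Hom_mat, tvElt_mulVec n hF fr.p fr.hp _ (fr.trace_zero_upper _)]
  unfold slMat
  rw [embMat_mulVec, h10, h00, h11, map_one, map_zero, mul_zero]
  module

theorem sl2Hom_lower (hF : Fintype.card F = q ^ 2) (fr : Frame F q n L)
    (g : Matrix.SpecialLinearGroup (Fin 2) L) (h01 : (g : Matrix (Fin 2) (Fin 2) L) 0 1 = 0)
    (h00 : (g : Matrix (Fin 2) (Fin 2) L) 0 0 = 1) (h11 : (g : Matrix (Fin 2) (Fin 2) L) 1 1 = 1) :
    sl2Hom n hF fr g = tvElt n hF fr.r (fr.ε⁻¹ * fr.ι ((g : Matrix (Fin 2) (Fin 2) L) 1 0)) := by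
  apply su_ext
  intro x
  rw [sl2Hom_mat, tvElt_mulVec n hF fr.r fr.hr _ (fr.trace_zero_lower _)]
  unfold slMat
  rw [embMat_mulVec, h01, h00, h11, map_one, map_zero, mul_zero]
  module

theorem map_upper (hF : Fintype.card F = q ^ 2) (fr : Frame F q n L) :
    (Cfsg.upperUnipotentSL2 L).map (sl2Hom n hF fr) = root n q fr.p := by
  apply le_antisymm
  · rw [Subgroup.map_le_iff_le_comap]
    unfold Cfsg.upperUnipotentSL2
    rw [Subgroup.closure_le]
    rintro g ⟨h10, h00, h11⟩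
    change sl2Hom n hF fr g ∈ root n q fr.p
    rw [sl2Hom_upper n hF fr g h10 h00 h11]
    exact elt_mem_root n hF fr.p fr.p_ne_zero fr.hp _ (fr.trace_zero_upper _)
  · intro g hg
    obtain ⟨c, hc, rfl⟩ := (mem_root_iff n hF fr.p fr.p_ne_zero fr.hp g).mp hg
    have hfix : (fr.ε⁻¹ * c) ^ q = fr.ε⁻¹ * c := by
      rw [mul_pow, fr.eps_inv_pow, trace_zero_pow c hc]; ring
    obtain ⟨b, hb⟩ := fr.hιs _ hfix
    refine ⟨SpRoot.upperElt b, SpRoot.upperElt_mem b, ?_⟩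
    rw [sl2Hom_upper n hF fr _ rfl rfl rfl]
    have : fr.ε * fr.ι ((SpRoot.upperElt b : Matrix (Fin 2) (Fin 2) L) 0 1) = c := by
      change fr.ε * fr.ι b = c
      rw [hb, ← mul_assoc, mul_inv_cancel₀ fr.hε0, one_mul]
    rw [this]

theorem map_lower (hF : Fintype.card F = q ^ 2) (fr : Frame F q n L) :
    (Cfsg.lowerUnipotentSL2 L).map (sl2Hom n hF fr) = root n q fr.r := by
  apply le_antisymm
  · rw [Subgroup.map_le_iff_le_comap]
    unfold Cfsg.lowerUnipotentSL2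
    rw [Subgroup.closure_le]
    rintro g ⟨h01, h00, h11⟩
    change sl2Hom n hF fr g ∈ root n q fr.r
    rw [sl2Hom_lower n hF fr g h01 h00 h11]
    exact elt_mem_root n hF fr.r fr.r_ne_zero fr.hr _ (fr.trace_zero_lower _)
  · intro g hg
    obtain ⟨c, hc, rfl⟩ := (mem_root_iff n hF fr.r fr.r_ne_zero fr.hr g).mp hg
    have hfix : (fr.ε * c) ^ q = fr.ε * c := by
      rw [mul_pow, fr.eps_pow, trace_zero_pow c hc]; ring
    obtain ⟨b, hb⟩ := fr.hιs _ hfix
    refine ⟨SpRoot.lowerElt b, SpRoot.lowerElt_mem b, ?_⟩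
    rw [sl2Hom_lower n hF fr _ rfl rfl rfl]
    have : fr.ε⁻¹ * fr.ι ((SpRoot.lowerElt b : Matrix (Fin 2) (Fin 2) L) 1 0) = c := by
      change fr.ε⁻¹ * fr.ι b = c
      rw [hb, ← mul_assoc, inv_mul_cancel₀ fr.hε0, one_mul]
    rw [this]

theorem sl2Hom_range (hF : Fintype.card F = q ^ 2) (fr : Frame F q n L) :
    (sl2Hom n hF fr).range = root n q fr.p ⊔ root n q fr.r := by
  rw [MonoidHom.range_eq_map, ← SpRoot.upper_sup_lower, Subgroup.map_sup, map_upper, map_lower]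

theorem sl2Hom_ker (hF : Fintype.card F = q ^ 2) (fr : Frame F q n L) :
    (sl2Hom n hF fr).ker = ⊥ := by
  rw [eq_bot_iff]
  intro g hg
  rw [MonoidHom.mem_ker] at hg
  have hcoe := sl2Hom_mat n hF fr g
  rw [hg] at hcoe
  have e1 : slMat n fr g *ᵥ fr.p = fr.p := by rw [← hcoe, su_one_mulVec]
  have e2 : slMat n fr g *ᵥ fr.r = fr.r := by rw [← hcoe, su_one_mulVec]
  unfold slMat at e1 e2
  rw [embMat_p n fr.p fr.r fr.hp fr.hpr] at e1
  rw [embMat_r n fr.p fr.r fr.hr fr.hrp] at e2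
  have a1 := congrArg (fun v => Cfsg.hermForm n F q v fr.r) e1
  have a2 := congrArg (fun v => Cfsg.hermForm n F q v fr.p) e1
  have a3 := congrArg (fun v => Cfsg.hermForm n F q v fr.r) e2
  have a4 := congrArg (fun v => Cfsg.hermForm n F q v fr.p) e2
  simp only [hf_add_left, hf_smul_left, fr.hp, fr.hr, fr.hpr, fr.hrp, mul_zero, add_zero,
    zero_add, mul_one] at a1 a2 a3 a4
  have hinj := fr.ι.injective
  have b1 : (g : Matrix (Fin 2) (Fin 2) L) 0 0 = 1 := hinj (by rw [a1, map_one])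
  have b2 : (g : Matrix (Fin 2) (Fin 2) L) 1 0 = 0 := by
    apply hinj
    rw [map_zero]
    rcases mul_eq_zero.mp a2 with h | h
    · exact absurd h (inv_ne_zero fr.hε0)
    · exact h
  have b3 : (g : Matrix (Fin 2) (Fin 2) L) 0 1 = 0 := by
    apply hinj
    rw [map_zero]
    rcases mul_eq_zero.mp a3 with h | h
    · exact absurd h fr.hε0
    · exact h
  have b4 : (g : Matrix (Fin 2) (Fin 2) L) 1 1 = 1 := hinj (by rw [a4, map_one])
  rw [Subgroup.mem_bot]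
  apply Matrix.SpecialLinearGroup.ext
  intro i j
  fin_cases i <;> fin_cases j
  · simpa using b1
  · simpa using b3
  · simpa using b2
  · simpa using b4

/-- Data of the fixed field: a field `L` with an embedding onto the fixed field of Frobenius. -/
theorem isPSL2PairOver_root (hF : Fintype.card F = q ^ 2) (ι : L →+* F)
    (hι : ∀ a : L, (ι a) ^ q = ι a) (hιs : ∀ x : F, x ^ q = x → ∃ a : L, ι a = x)
    (p r : Fin n → F) (hp0 : p ≠ 0) (hr0 : r ≠ 0) (hp : Cfsg.hermForm n F q p p = 0)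
    (hr : Cfsg.hermForm n F q r r = 0) (h : Cfsg.hermForm n F q p r ≠ 0) :
    Cfsg.IsPSL2PairOver L (root n q p) (root n q r) := by
  obtain ⟨ε, hε0, hε⟩ := exists_trace_zero hF
  obtain ⟨α, hα⟩ : ∃ α, α = Cfsg.hermForm n F q p r := ⟨_, rfl⟩
  have hα0 : α ≠ 0 := by rw [hα]; exact h
  have hl0 : (α⁻¹) ^ q ≠ 0 := pow_ne_zero _ (inv_ne_zero hα0)
  have hpr' : Cfsg.hermForm n F q p ((α⁻¹) ^ q • r) = 1 := by
    rw [hf_smul_right, pow_q_pow_q hF, ← hα, inv_mul_cancel₀ hα0]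
  have hrp' : Cfsg.hermForm n F q ((α⁻¹) ^ q • r) p = 1 := by
    rw [← hf_conj n hF, hpr', one_pow]
  let fr : Frame F q n L :=
    { p := p, r := (α⁻¹) ^ q • r, hp := hp, hr := smul_isotropic n _ r hr, hpr := hpr', hrp := hrp',
      ε := ε, hε0 := hε0, hε := hε, ι := ι, hι := hι, hιs := hιs }
  rw [← root_smul n hF _ hl0 r hr0 hr]
  refine ⟨sl2Hom n hF fr, sl2Hom_range n hF fr, ?_, map_upper n hF fr, map_lower n hF fr⟩
  rw [sl2Hom_ker]
  exact bot_le

end Cfsg.Agent.Lib.Helper99.SURoot
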