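import Cfsg.Agent.Lib.Helper99.SpMaxND
import Cfsg.Agent.Lib.Helper44.Darboux
import Cfsg.Agent.Lib.Helper36.AltEven

set_option autoImplicit false

/-!
Maximality of the stabilizer of a nondegenerate decomposition in the symplectic group:
the set of transvection directions of an overgroup, and block moves.
-/

namespace Cfsg.Agent.Lib.Helper99

open Matrix

section spd1

variable {F : Type*} [Field F] (m : ℕ)

/-- Vectors all of whose transvections lie in `M`. -/
def tvSet (M : Subgroup (GL (Fin m ⊕ Fin m) F)) : Set (Fin m ⊕ Fin m → F) :=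
  {u | ∀ c, stv m u c ∈ M}

theorem stv_zero (c : F) : stv m (0 : Fin m ⊕ Fin m → F) c = 1 := by
  apply Units.ext
  rw [Matrix.ext_iff_mulVec]
  intro x
  rw [stv_mulVec, smul_zero, add_zero, Units.val_one, one_mulVec]

theorem stv_smul (a : F) (u : Fin m ⊕ Fin m → F) (c : F) :
    stv m (a • u) c = stv m u (a * a * c) := by
  apply Units.ext
  rw [Matrix.ext_iff_mulVec]
  intro x
  rw [stv_mulVec, stv_mulVec, Helper13.sympForm_smul_right, smul_smul]
  congr 2
  ring

theorem tvSet_zero (M : Subgroup (GL (Fin m ⊕ Fin m) F)) :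
    (0 : Fin m ⊕ Fin m → F) ∈ tvSet m M := fun c => by
  rw [stv_zero]
  exact M.one_mem

theorem tvSet_smul (M : Subgroup (GL (Fin m ⊕ Fin m) F)) (a : F) (u : Fin m ⊕ Fin m → F)
    (hu : u ∈ tvSet m M) : a • u ∈ tvSet m M := fun c => by
  rw [stv_smul]
  exact hu _

theorem tvSet_map (M : Subgroup (GL (Fin m ⊕ Fin m) F)) (hM : M ≤ Cfsg.spGL m F)
    (g : GL (Fin m ⊕ Fin m) F) (hg : g ∈ M) (u : Fin m ⊕ Fin m → F) (hu : u ∈ tvSet m M) :
    (g : Matrix (Fin m ⊕ Fin m) (Fin m ⊕ Fin m) F) *ᵥ u ∈ tvSet m M := fun c => by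
  rw [← conj_stv m g (hM hg) u c]
  exact M.mul_mem (M.mul_mem hg (hu c)) (M.inv_mem hg)

theorem tvSet_add (M : Subgroup (GL (Fin m ⊕ Fin m) F)) (hM : M ≤ Cfsg.spGL m F)
    (u u' : Fin m ⊕ Fin m → F) (hu : u ∈ tvSet m M) (hu' : u' ∈ tvSet m M)
    (h : Cfsg.sympForm m F u' u ≠ 0) : u + u' ∈ tvSet m M := by
  have h1 := tvSet_map m M hM (stv m u (Cfsg.sympForm m F u' u)⁻¹) (hu _) u' hu'
  rw [stv_mulVec, inv_mul_cancel₀ h, one_smul, add_comm] at h1
  exact h1

theorem map_eq_of_mem_subspaceStabilizer (W : Submodule F (Fin m ⊕ Fin m → F))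
    (g : GL (Fin m ⊕ Fin m) F) (hg : g ∈ Cfsg.Geo.subspaceStabilizer W) :
    W.map (Matrix.toLin' (g : Matrix (Fin m ⊕ Fin m) (Fin m ⊕ Fin m) F)) = W := by
  apply le_antisymm
  · rintro _ ⟨x, hx, rfl⟩
    rw [Matrix.toLin'_apply]
    exact ((mem_subspaceStabilizer_iff W g).mp hg x).mp hx
  · intro y hy
    refine ⟨((g⁻¹ : GL (Fin m ⊕ Fin m) F) : Matrix (Fin m ⊕ Fin m) (Fin m ⊕ Fin m) F) *ᵥ y,
      ?_, ?_⟩
    · rw [SetLike.mem_coe, (mem_subspaceStabilizer_iff W g).mp hg, mulVec_inv_mulVec]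
      exact hy
    · rw [Matrix.toLin'_apply, mulVec_inv_mulVec]

theorem mem_decompositionStabilizer_of_forall {t : ℕ}
    (D : Fin t → Submodule F (Fin m ⊕ Fin m → F)) (g : GL (Fin m ⊕ Fin m) F)
    (h : ∀ i, g ∈ Cfsg.Geo.subspaceStabilizer (D i)) :
    g ∈ Cfsg.Geo.decompositionStabilizer D :=
  ⟨1, fun i => by
    rw [Equiv.Perm.one_apply]
    exact map_eq_of_mem_subspaceStabilizer m (D i) g (h i)⟩

/-- The restricted form on a subspace. -/
noncomputable def blockForm (W : Submodule F (Fin m ⊕ Fin m → F)) : LinearMap.BilinForm F W :=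
  LinearMap.BilinForm.restrict (sympB m) W

theorem blockForm_apply (W : Submodule F (Fin m ⊕ Fin m → F)) (a b : W) :
    blockForm m W a b = Cfsg.sympForm m F (a : Fin m ⊕ Fin m → F) b := by
  unfold blockForm
  rw [LinearMap.BilinForm.restrict_apply, LinearMap.domRestrict_apply, sympB_apply]

theorem blockForm_isAlt (W : Submodule F (Fin m ⊕ Fin m → F)) : (blockForm m W).IsAlt := by
  intro a
  rw [blockForm_apply, Helper13.sympForm_self]

theorem blockForm_nondegenerate (W : Submodule F (Fin m ⊕ Fin m → F))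
    (hW : Cfsg.Geo.IsNondegenerateOn (Cfsg.sympForm m F) W) : (blockForm m W).Nondegenerate := by
  constructor
  · intro a ha
    by_contra h0
    have h0' : (a : Fin m ⊕ Fin m → F) ≠ 0 := fun h => h0 (Subtype.ext h)
    obtain ⟨x, hx, hne⟩ := (hW a a.2 h0').2
    apply hne
    have := ha ⟨x, hx⟩
    rw [blockForm_apply] at this
    exact this
  · intro a ha
    by_contra h0
    have h0' : (a : Fin m ⊕ Fin m → F) ≠ 0 := fun h => h0 (Subtype.ext h)
    obtain ⟨x, hx, hne⟩ := (hW a a.2 h0').1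
    apply hne
    have := ha ⟨x, hx⟩
    rw [blockForm_apply] at this
    exact this

variable {t : ℕ} (k : ℕ) (D : Fin t → Submodule F (Fin m ⊕ Fin m → F))

theorem stv_mem_decomp (hD : Cfsg.Geo.IsNondegenerateMDecomposition (Cfsg.sympForm m F) k D)
    (i : Fin t) (u : Fin m ⊕ Fin m → F) (hu : u ∈ D i) (c : F) :
    stv m u c ∈ Cfsg.Geo.decompositionStabilizer D ⊓ Cfsg.spGL m F := by
  refine ⟨mem_decompositionStabilizer_of_forall m D _ (fun j => ?_), stv_mem_spGL m u c⟩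
  by_cases hji : j = i
  · subst hji
    exact stv_mem_stabilizer_of_mem m (D j) u c hu
  · exact stv_mem_stabilizer_of_perp m (D j) u c
      (fun w hw => hD.orthogonal j i hji w hw u hu)

theorem rel_mem_decomp (hD : Cfsg.Geo.IsNondegenerateMDecomposition (Cfsg.sympForm m F) k D)
    (j : Fin t) (A : Matrix.symplecticGroup (Fin m) F)
    (hA : A ∈ Helper13.sympTransvSubgroupRel m (D j)) :
    spToGL m A ∈ Cfsg.Geo.decompositionStabilizer D ⊓ Cfsg.spGL m F := by
  refine ⟨mem_decompositionStabilizer_of_forall m D _ (fun i => ?_), spToGL_mem m A⟩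
  apply mem_subspaceStabilizer_of_forall
  intro x hx
  rw [coe_spToGL]
  by_cases hij : i = j
  · subst hij
    exact Helper13.sympTransvSubgroupRel_preserves m (D i) A hA x hx
  · rw [Helper13.sympTransvSubgroupRel_fix m (D j) x
      (fun w hw => hD.orthogonal i j hij x hx w hw) A hA]
    exact hx

theorem block_subset_tvSet (hD : Cfsg.Geo.IsNondegenerateMDecomposition (Cfsg.sympForm m F) k D)
    (M : Subgroup (GL (Fin m ⊕ Fin m) F))
    (hHM : Cfsg.Geo.decompositionStabilizer D ⊓ Cfsg.spGL m F ≤ M)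
    (i : Fin t) (u : Fin m ⊕ Fin m → F) (hu : u ∈ D i) : u ∈ tvSet m M :=
  fun c => hHM (stv_mem_decomp m k D hD i u hu c)

/-- Block move: replace the component in `D j` by any other nonzero vector of `D j`. -/
theorem block_move (hD : Cfsg.Geo.IsNondegenerateMDecomposition (Cfsg.sympForm m F) k D)
    (M : Subgroup (GL (Fin m ⊕ Fin m) F))
    (hHM : Cfsg.Geo.decompositionStabilizer D ⊓ Cfsg.spGL m F ≤ M) (hM : M ≤ Cfsg.spGL m F)
    (j : Fin t) (y y' w : Fin m ⊕ Fin m → F) (hy : y ∈ D j) (hy' : y' ∈ D j)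
    (hy0 : y ≠ 0) (hy'0 : y' ≠ 0) (hw : ∀ d ∈ D j, Cfsg.sympForm m F w d = 0)
    (hx : y + w ∈ tvSet m M) : y' + w ∈ tvSet m M := by
  obtain ⟨A, hA, hAy⟩ := Helper13.exists_transvRel_of_ne_zero m (D j)
    (nd_nondegOn m (D j) (hD.nondegenerate j)) y y' hy hy' hy0 hy'0
  have hAw := Helper13.sympTransvSubgroupRel_fix m (D j) w hw A hA
  have h1 := tvSet_map m M hM (spToGL m A) (hHM (rel_mem_decomp m k D hD j A hA)) _ hx
  rw [coe_spToGL, mulVec_add, hAy, hAw] at h1
  exact h1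

/-- If one vector with exactly two nonzero components lies in `tvSet`, so does the whole sum of
the two blocks. -/
theorem pair_all (hD : Cfsg.Geo.IsNondegenerateMDecomposition (Cfsg.sympForm m F) k D)
    (M : Subgroup (GL (Fin m ⊕ Fin m) F))
    (hHM : Cfsg.Geo.decompositionStabilizer D ⊓ Cfsg.spGL m F ≤ M) (hM : M ≤ Cfsg.spGL m F)
    (a b : Fin t) (hab : a ≠ b) (ua ub : Fin m ⊕ Fin m → F) (hua : ua ∈ D a) (hub : ub ∈ D b)
    (hua0 : ua ≠ 0) (hub0 : ub ≠ 0) (h : ua + ub ∈ tvSet m M) :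
    ∀ ya ∈ D a, ∀ yb ∈ D b, ya + yb ∈ tvSet m M := by
  intro ya hya yb hyb
  by_cases hya0 : ya = 0
  · subst hya0
    rw [zero_add]
    exact block_subset_tvSet m k D hD M hHM b yb hyb
  by_cases hyb0 : yb = 0
  · subst hyb0
    rw [add_zero]
    exact block_subset_tvSet m k D hD M hHM a ya hya
  have h1 : ya + ub ∈ tvSet m M :=
    block_move m k D hD M hHM hM a ua ya ub hua hya hua0 hya0
      (fun d hd => hD.orthogonal b a hab.symm ub hub d hd) h
  have h2 : yb + ya ∈ tvSet m M :=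
    block_move m k D hD M hHM hM b ub yb ya hub hyb hub0 hyb0
      (fun d hd => hD.orthogonal a b hab ya hya d hd) (by rw [add_comm]; exact h1)
  rw [add_comm]
  exact h2

/-- Reduction of a vector with at least two nonzero components. -/
theorem reduce_pair (hD : Cfsg.Geo.IsNondegenerateMDecomposition (Cfsg.sympForm m F) k D)
    (M : Subgroup (GL (Fin m ⊕ Fin m) F))
    (hHM : Cfsg.Geo.decompositionStabilizer D ⊓ Cfsg.spGL m F ≤ M) (hM : M ≤ Cfsg.spGL m F)
    (hsp : ∀ i, ∀ y ∈ D i, y ≠ 0 → ∃ y' ∈ D i, y' ≠ 0 ∧ y' ≠ y ∧ Cfsg.sympForm m F y y' = 0)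
    (a b : Fin t) (hab : a ≠ b) (ya yb w : Fin m ⊕ Fin m → F) (hya : ya ∈ D a) (hyb : yb ∈ D b)
    (hya0 : ya ≠ 0) (hyb0 : yb ≠ 0)
    (hwa : ∀ d ∈ D a, Cfsg.sympForm m F w d = 0) (hwb : ∀ d ∈ D b, Cfsg.sympForm m F w d = 0)
    (hx : ya + yb + w ∈ tvSet m M) :
    ∀ za ∈ D a, ∀ zb ∈ D b, za + zb ∈ tvSet m M := by
  obtain ⟨ya', hya', hne⟩ := (hD.nondegenerate a ya hya hya0).2
  obtain ⟨yb', hyb', hyb'0, hyb'ne, hyb'f⟩ := hsp b yb hyb hyb0
  have hya'0 : ya' ≠ 0 := by
    rintro rfl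
    exact hne (Helper13.sympForm_zero_right m ya)
  have hyane : ya ≠ ya' := by
    rintro rfl
    exact hne (Helper13.sympForm_self m ya)
  have h1 : ya' + (yb + w) ∈ tvSet m M := by
    apply block_move m k D hD M hHM hM a ya ya' (yb + w) hya hya' hya0 hya'0
    · intro d hd
      rw [Helper13.sympForm_add_left, hD.orthogonal b a hab.symm yb hyb d hd, hwa d hd, add_zero]
    · rw [← add_assoc]
      exact hx
  have h2 : yb' + (ya' + w) ∈ tvSet m M := by
    apply block_move m k D hD M hHM hM b yb yb' (ya' + w) hyb hyb' hyb0 hyb'0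
    · intro d hd
      rw [Helper13.sympForm_add_left, hD.orthogonal a b hab ya' hya' d hd, hwb d hd, add_zero]
    · have : yb + (ya' + w) = ya' + (yb + w) := by abel
      rw [this]
      exact h1
  have z1 : Cfsg.sympForm m F yb' ya = 0 := hD.orthogonal b a hab.symm yb' hyb' ya hya
  have z2 : Cfsg.sympForm m F yb' yb = 0 := by
    rw [Helper13.sympForm_swap, hyb'f, neg_zero]
  have z3 : Cfsg.sympForm m F yb' w = 0 := by
    rw [Helper13.sympForm_swap, hwb yb' hyb', neg_zero]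
  have z5 : Cfsg.sympForm m F ya' yb = 0 := hD.orthogonal a b hab ya' hya' yb hyb
  have z6 : Cfsg.sympForm m F ya' w = 0 := by
    rw [Helper13.sympForm_swap, hwa ya' hya', neg_zero]
  have z7 : Cfsg.sympForm m F w ya = 0 := hwa ya hya
  have z8 : Cfsg.sympForm m F w yb = 0 := hwb yb hyb
  have z9 : Cfsg.sympForm m F w w = 0 := Helper13.sympForm_self m w
  have zs : Cfsg.sympForm m F ya' ya + Cfsg.sympForm m F ya ya' = 0 := by
    rw [Helper13.sympForm_swap m ya' ya, neg_add_cancel]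
  have e : Cfsg.sympForm m F ((-1 : F) • (yb' + (ya' + w))) (ya + yb + w) =
      Cfsg.sympForm m F ya ya' := by
    simp only [Helper13.sympForm_smul_left, Helper13.sympForm_add_left,
      Helper13.sympForm_add_right]
    linear_combination (-1 : F) * (z1 + z2 + z3 + z5 + z6 + z7 + z8 + z9) + (-1 : F) * zs
  have h3 : (ya + yb + w) + (-1 : F) • (yb' + (ya' + w)) ∈ tvSet m M := by
    apply tvSet_add m M hM _ _ hx (tvSet_smul m M _ _ h2)
    rw [e]
    exact hne
  have h4 : (ya + yb + w) + (-1 : F) • (yb' + (ya' + w)) = (ya - ya') + (yb - yb') := by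
    module
  rw [h4] at h3
  exact pair_all m k D hD M hHM hM a b hab (ya - ya') (yb - yb') ((D a).sub_mem hya hya')
    ((D b).sub_mem hyb hyb') (sub_ne_zero.mpr hyane) (sub_ne_zero.mpr (Ne.symm hyb'ne)) h3

end spd1

end Cfsg.Agent.Lib.Helper99
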