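import Cfsg.Agent.Lib.Helper99.SpDecomp1

set_option autoImplicit false

/-!
Maximality of the stabilizer of a nondegenerate decomposition in the symplectic group:
special vectors, bad vectors, and block permutations.
-/

namespace Cfsg.Agent.Lib.Helper99

open Matrix Module

section spd2

variable {F : Type*} [Field F] (m : ℕ)
variable {t : ℕ} (k : ℕ) (D : Fin t → Submodule F (Fin m ⊕ Fin m → F))

theorem block_even (hD : Cfsg.Geo.IsNondegenerateMDecomposition (Cfsg.sympForm m F) k D) :
    ∃ N, k = 2 * N := by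
  have i0 : Fin t := ⟨0, by have := hD.decomp.two_le; omega⟩
  have h := Helper36.even_finrank_of_isAlt_nondegenerate (blockForm m (D i0))
    (blockForm_isAlt m (D i0)) (blockForm_nondegenerate m (D i0) (hD.nondegenerate i0))
  rw [hD.decomp.finrank_eq i0] at h
  obtain ⟨N, hN⟩ := h
  exact ⟨N, by omega⟩

/-- Special vectors: unless `k = 2` and `q = 2`, each nonzero `y` in a block has a companion
`y'` in the block, different from `0` and `y`, orthogonal to `y`. -/
theorem exists_special [Fintype F]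
    (hD : Cfsg.Geo.IsNondegenerateMDecomposition (Cfsg.sympForm m F) k D)
    (hex : ¬ (k = 2 ∧ Fintype.card F = 2)) (i : Fin t) (y : Fin m ⊕ Fin m → F) (hy : y ∈ D i)
    (hy0 : y ≠ 0) :
    ∃ y' ∈ D i, y' ≠ 0 ∧ y' ≠ y ∧ Cfsg.sympForm m F y y' = 0 := by
  classical
  by_cases hl : ∃ l : F, l ≠ 0 ∧ l ≠ 1
  · obtain ⟨l, hl0, hl1⟩ := hl
    refine ⟨l • y, (D i).smul_mem l hy, smul_ne_zero hl0 hy0, ?_, ?_⟩
    · intro h
      have h1 : (l - 1) • y = 0 := by rw [sub_smul, one_smul, h, sub_self]
      rcases smul_eq_zero.mp h1 with h2 | h2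
      · exact hl1 (sub_eq_zero.mp h2)
      · exact hy0 h2
    · rw [Helper13.sympForm_smul_right, Helper13.sympForm_self, mul_zero]
  · push Not at hl
    have hcard : Fintype.card F = 2 := by
      have huniv : (Finset.univ : Finset F) = {0, 1} := by
        ext l
        simp only [Finset.mem_univ, Finset.mem_insert, Finset.mem_singleton, true_iff]
        by_cases h0 : l = 0
        · left; exact h0
        · right; exact hl l h0
      rw [← Finset.card_univ, huniv, Finset.card_pair zero_ne_one]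
    have hk2 : k ≠ 2 := fun h => hex ⟨h, hcard⟩
    obtain ⟨N, hN⟩ := block_even m k D hD
    have hkpos := hD.decomp.pos
    have hk3 : 3 ≤ k := by omega
    -- the functional `f(y, ·)` on the block
    let y0 : D i := ⟨y, hy⟩
    have hy00 : y0 ≠ 0 := fun h => hy0 (congrArg Subtype.val h)
    let φ : D i →ₗ[F] F := blockForm m (D i) y0
    have hrk := LinearMap.finrank_range_add_finrank_ker φ
    rw [hD.decomp.finrank_eq i] at hrk
    have hr1 : finrank F (LinearMap.range φ) ≤ 1 := by
      have := Submodule.finrank_le (LinearMap.range φ)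
      rw [Module.finrank_self] at this
      exact this
    have hker : 2 ≤ finrank F (LinearMap.ker φ) := by omega
    have hnle : ¬ (LinearMap.ker φ ≤ Submodule.span F {y0}) := by
      intro hle
      have := Submodule.finrank_mono hle
      rw [finrank_span_singleton hy00] at this
      omega
    obtain ⟨y', hy'ker, hy'span⟩ := SetLike.not_le_iff_exists.mp hnle
    refine ⟨(y' : Fin m ⊕ Fin m → F), y'.2, ?_, ?_, ?_⟩
    · intro h
      apply hy'span
      have : y' = 0 := Subtype.ext h
      rw [this]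
      exact Submodule.zero_mem _
    · intro h
      apply hy'span
      have : y' = y0 := Subtype.ext h
      rw [this]
      exact Submodule.mem_span_singleton_self y0
    · have := LinearMap.mem_ker.mp hy'ker
      rw [← this]
      exact (blockForm_apply m (D i) y0 y').symm

/-- A vector with two nonzero components in different blocks lies in no block. -/
theorem two_block_notMem (hD : Cfsg.Geo.IsNondegenerateMDecomposition (Cfsg.sympForm m F) k D)
    (a b : Fin t) (hab : a ≠ b) (x x' : Fin m ⊕ Fin m → F) (hx : x ∈ D a) (hx' : x' ∈ D b)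
    (hx0 : x ≠ 0) (hx'0 : x' ≠ 0) (j : Fin t) : x + x' ∉ D j := by
  intro hj
  by_cases hja : j = a
  · -- then `j ≠ b`
    have hjb : j ≠ b := fun h => hab (hja.symm.trans h)
    obtain ⟨d, hd, hne⟩ := (hD.nondegenerate b x' hx' hx'0).2
    apply hne
    have h1 := hD.orthogonal j b hjb (x + x') hj d hd
    rw [Helper13.sympForm_add_left, hD.orthogonal a b hab x hx d hd, zero_add] at h1
    exact h1
  · obtain ⟨d, hd, hne⟩ := (hD.nondegenerate a x hx hx0).2
    apply hne
    have h1 := hD.orthogonal j a hja (x + x') hj d hd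
    rw [Helper13.sympForm_add_left, hD.orthogonal b a hab.symm x' hx' d hd, add_zero] at h1
    exact h1

/-- A nonzero vector lies in at most one block. -/
theorem block_unique (hD : Cfsg.Geo.IsNondegenerateMDecomposition (Cfsg.sympForm m F) k D)
    (a b : Fin t) (x : Fin m ⊕ Fin m → F) (hxa : x ∈ D a) (hxb : x ∈ D b) (hx0 : x ≠ 0) :
    a = b := by
  by_contra hab
  obtain ⟨d, hd, hne⟩ := (hD.nondegenerate a x hxa hx0).2
  exact hne (hD.orthogonal b a (Ne.symm hab) x hxb d hd)

theorem block_exists_ne_zero (hD : Cfsg.Geo.IsNondegenerateMDecomposition (Cfsg.sympForm m F) k D)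
    (i : Fin t) : ∃ v ∈ D i, v ≠ 0 := by
  apply (D i).exists_mem_ne_zero_of_ne_bot
  intro h
  have h1 := hD.decomp.finrank_eq i
  rw [h, finrank_bot] at h1
  have := hD.decomp.pos
  omega

theorem finrank_map_GL (W : Submodule F (Fin m ⊕ Fin m → F)) (g : GL (Fin m ⊕ Fin m) F) :
    finrank F (W.map (Matrix.toLin' (g : Matrix (Fin m ⊕ Fin m) (Fin m ⊕ Fin m) F))) =
      finrank F W := by
  have hinj : Function.Injective
      (Matrix.toLin' (g : Matrix (Fin m ⊕ Fin m) (Fin m ⊕ Fin m) F)) := by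
    intro x y hxy
    exact mulVec_injective_of_GL g (by simpa [Matrix.toLin'_apply] using hxy)
  exact LinearEquiv.finrank_eq (Submodule.equivMapOfInjective _ hinj _).symm

/-- An element that maps every block vector into some block lies in the stabilizer of the
decomposition. -/
theorem mem_decomp_of_forall (hD : Cfsg.Geo.IsNondegenerateMDecomposition (Cfsg.sympForm m F) k D)
    (g : GL (Fin m ⊕ Fin m) F)
    (h : ∀ i, ∀ v ∈ D i, ∃ j, (g : Matrix (Fin m ⊕ Fin m) (Fin m ⊕ Fin m) F) *ᵥ v ∈ D j) :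
    g ∈ Cfsg.Geo.decompositionStabilizer D := by
  classical
  have hv : ∀ i, ∃ v ∈ D i, v ≠ 0 := block_exists_ne_zero m k D hD
  choose v hvD hv0 using hv
  have hσ : ∀ i, ∃ j, (g : Matrix (Fin m ⊕ Fin m) (Fin m ⊕ Fin m) F) *ᵥ v i ∈ D j :=
    fun i => h i (v i) (hvD i)
  choose σ hσ using hσ
  have hgne : ∀ x : Fin m ⊕ Fin m → F, x ≠ 0 →
      (g : Matrix (Fin m ⊕ Fin m) (Fin m ⊕ Fin m) F) *ᵥ x ≠ 0 := by
    intro x hx h0
    apply hx
    apply mulVec_injective_of_GL g
    show (g : Matrix (Fin m ⊕ Fin m) (Fin m ⊕ Fin m) F) *ᵥ x =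
      (g : Matrix (Fin m ⊕ Fin m) (Fin m ⊕ Fin m) F) *ᵥ 0
    rw [h0, mulVec_zero]
  have hall : ∀ i, ∀ x ∈ D i, (g : Matrix (Fin m ⊕ Fin m) (Fin m ⊕ Fin m) F) *ᵥ x ∈ D (σ i) := by
    intro i x hx
    by_cases hx0 : x = 0
    · rw [hx0, mulVec_zero]
      exact Submodule.zero_mem _
    obtain ⟨j', hj'⟩ := h i x hx
    by_cases hjj : j' = σ i
    · rw [← hjj]; exact hj'
    · exfalso
      obtain ⟨j'', hj''⟩ := h i (x + v i) ((D i).add_mem hx (hvD i))
      rw [mulVec_add] at hj''
      exact two_block_notMem m k D hD j' (σ i) hjj _ _ hj' (hσ i) (hgne x hx0)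
        (hgne (v i) (hv0 i)) j'' hj''
  have hmap : ∀ i, (D i).map (Matrix.toLin' (g : Matrix (Fin m ⊕ Fin m) (Fin m ⊕ Fin m) F)) =
      D (σ i) := by
    intro i
    apply Submodule.eq_of_le_of_finrank_eq
    · rintro _ ⟨x, hx, rfl⟩
      rw [Matrix.toLin'_apply]
      exact hall i x hx
    · rw [finrank_map_GL, hD.decomp.finrank_eq, hD.decomp.finrank_eq]
  have hinj : Function.Injective σ := by
    intro i i' hii
    have h1 : (g : Matrix (Fin m ⊕ Fin m) (Fin m ⊕ Fin m) F) *ᵥ v i ∈
        (D i').map (Matrix.toLin' (g : Matrix (Fin m ⊕ Fin m) (Fin m ⊕ Fin m) F)) := by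
      rw [hmap i', ← hii]
      exact hσ i
    obtain ⟨x, hx, hxe⟩ := h1
    rw [Matrix.toLin'_apply] at hxe
    have hxv : x = v i := mulVec_injective_of_GL g hxe
    rw [hxv] at hx
    exact block_unique m k D hD i i' (v i) (hvD i) hx (hv0 i)
  refine ⟨Equiv.ofBijective σ (Finite.injective_iff_bijective.mp hinj), fun i => ?_⟩
  rw [Equiv.ofBijective_apply]
  exact hmap i

/-- Every vector is a sum of block components. -/
theorem exists_components (hD : Cfsg.Geo.IsNondegenerateMDecomposition (Cfsg.sympForm m F) k D)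
    (x : Fin m ⊕ Fin m → F) :
    ∃ z : Fin t → (Fin m ⊕ Fin m → F), (∀ i, z i ∈ D i) ∧ ∑ i, z i = x := by
  classical
  have hx : x ∈ ⨆ i, D i := by
    rw [hD.decomp.iSup_eq_top]
    trivial
  refine Submodule.iSup_induction D
    (motive := fun x => ∃ z : Fin t → (Fin m ⊕ Fin m → F), (∀ i, z i ∈ D i) ∧ ∑ i, z i = x)
    hx ?_ ?_ ?_
  · intro i x hx
    refine ⟨Pi.single i x, fun j => ?_, ?_⟩
    · by_cases hji : j = i
      · subst hji
        rw [Pi.single_eq_same]
        exact hx
      · rw [Pi.single_eq_of_ne hji]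
        exact Submodule.zero_mem _
    · rw [Finset.sum_pi_single', if_pos (Finset.mem_univ i)]
  · exact ⟨fun _ => 0, fun i => Submodule.zero_mem _, by simp⟩
  · rintro x y ⟨z, hz, hzs⟩ ⟨z', hz', hzs'⟩
    exact ⟨z + z', fun i => (D i).add_mem (hz i) (hz' i), by
      simp only [Pi.add_apply, Finset.sum_add_distrib, hzs, hzs']⟩

/-- The form of a sum of block components against a vector of one block. -/
theorem form_sum_left (hD : Cfsg.Geo.IsNondegenerateMDecomposition (Cfsg.sympForm m F) k D)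
    (z : Fin t → (Fin m ⊕ Fin m → F)) (hz : ∀ i, z i ∈ D i) (S : Finset (Fin t)) (a : Fin t)
    (d : Fin m ⊕ Fin m → F) (hd : d ∈ D a) :
    Cfsg.sympForm m F (∑ i ∈ S, z i) d = if a ∈ S then Cfsg.sympForm m F (z a) d else 0 := by
  classical
  rw [← sympB_apply, map_sum, LinearMap.sum_apply]
  split_ifs with h
  · rw [Finset.sum_eq_single_of_mem a h, sympB_apply]
    intro b _ hb
    rw [sympB_apply]
    exact hD.orthogonal b a hb _ (hz b) _ hd
  · apply Finset.sum_eq_zero
    intro b hb
    have hba : b ≠ a := by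
      rintro rfl
      exact h hb
    rw [sympB_apply]
    exact hD.orthogonal b a hba _ (hz b) _ hd

/-- A vector lying in no block splits as `ya + yb + w` with two nonzero components. -/
theorem exists_two_components
    (hD : Cfsg.Geo.IsNondegenerateMDecomposition (Cfsg.sympForm m F) k D)
    (x : Fin m ⊕ Fin m → F) (hx : ∀ j, x ∉ D j) :
    ∃ a b : Fin t, a ≠ b ∧ ∃ ya yb w : Fin m ⊕ Fin m → F, ya ∈ D a ∧ yb ∈ D b ∧ ya ≠ 0 ∧
      yb ≠ 0 ∧ (∀ d ∈ D a, Cfsg.sympForm m F w d = 0) ∧
      (∀ d ∈ D b, Cfsg.sympForm m F w d = 0) ∧ x = ya + yb + w := by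
  classical
  obtain ⟨z, hz, hzs⟩ := exists_components m k D hD x
  have i0 : Fin t := ⟨0, by have := hD.decomp.two_le; omega⟩
  obtain ⟨a, ha⟩ : ∃ a, z a ≠ 0 := by
    by_contra hcon
    push Not at hcon
    apply hx i0
    rw [← hzs, Finset.sum_eq_zero (fun i _ => hcon i)]
    exact Submodule.zero_mem _
  obtain ⟨b, hba, hb⟩ : ∃ b, b ≠ a ∧ z b ≠ 0 := by
    by_contra hcon
    push Not at hcon
    apply hx a
    rw [← hzs, Finset.sum_eq_single a (fun b _ hb => hcon b hb)
      (fun h => absurd (Finset.mem_univ a) h)]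
    exact hz a
  refine ⟨a, b, hba.symm, z a, z b, x - z a - z b, hz a, hz b, ha, hb, ?_, ?_, by abel⟩
  · intro d hd
    rw [Helper13.sympForm_sub_left, Helper13.sympForm_sub_left, ← hzs,
      form_sum_left m k D hD z hz Finset.univ a d hd, if_pos (Finset.mem_univ a), sub_self,
      zero_sub, hD.orthogonal b a hba (z b) (hz b) d hd, neg_zero]
  · intro d hd
    rw [Helper13.sympForm_sub_left, Helper13.sympForm_sub_left, ← hzs,
      form_sum_left m k D hD z hz Finset.univ b d hd, if_pos (Finset.mem_univ b),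
      hD.orthogonal a b hba.symm (z a) (hz a) d hd, sub_zero, sub_self]

theorem exists_perm_pair (a b a' b' : Fin t) (hab : a ≠ b) (hab' : a' ≠ b') :
    ∃ σ : Equiv.Perm (Fin t), σ a = a' ∧ σ b = b' := by
  refine ⟨Equiv.swap b' (Equiv.swap a a' b) * Equiv.swap a a', ?_, ?_⟩
  · rw [Equiv.Perm.mul_apply, Equiv.swap_apply_left, Equiv.swap_apply_of_ne_of_ne hab']
    intro h
    have := congrArg (Equiv.swap a a') h
    rw [Equiv.swap_apply_right, Equiv.swap_apply_self] at this
    exact hab this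
  · rw [Equiv.Perm.mul_apply, Equiv.swap_apply_right]

end spd2

end Cfsg.Agent.Lib.Helper99
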