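import Cfsg.Agent.Lib.Helper99.SpDecomp2

set_option autoImplicit false

/-!
Maximality of the stabilizer of a nondegenerate decomposition in the symplectic group:
block permutations.
-/

namespace Cfsg.Agent.Lib.Helper99

open Matrix Module

section spd3

variable {F : Type*} [Field F] (m : ℕ)
variable {t : ℕ} (k : ℕ) (D : Fin t → Submodule F (Fin m ⊕ Fin m → F))

theorem span_range_coe_basis {ι : Type*} (W : Submodule F (Fin m ⊕ Fin m → F))
    (b : Basis ι F W) :
    Submodule.span F (Set.range (fun j => ((b j : W) : Fin m ⊕ Fin m → F))) = W := by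
  have h1 : Set.range (fun j => ((b j : W) : Fin m ⊕ Fin m → F)) = W.subtype '' Set.range b := by
    rw [← Set.range_comp]
    rfl
  rw [h1, ← Submodule.map_span, b.span_eq, Submodule.map_top, Submodule.range_subtype]

/-- Every permutation of the blocks is induced by an isometry. -/
theorem exists_block_perm
    (hD : Cfsg.Geo.IsNondegenerateMDecomposition (Cfsg.sympForm m F) k D)
    (σ : Equiv.Perm (Fin t)) :
    ∃ h : GL (Fin m ⊕ Fin m) F, h ∈ Cfsg.spGL m F ∧
      ∀ i, (D i).map (Matrix.toLin' (h : Matrix (Fin m ⊕ Fin m) (Fin m ⊕ Fin m) F)) =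
        D (σ i) := by
  classical
  obtain ⟨N, hN⟩ := block_even m k D hD
  have hb : ∀ i, ∃ b : Basis (Fin N ⊕ Fin N) F (D i),
      LinearMap.BilinForm.toMatrix b (blockForm m (D i)) = Helper44.gramJ N F := fun i =>
    Helper44.darboux_basis N (D i) (blockForm m (D i)) (blockForm_isAlt m (D i))
      (blockForm_nondegenerate m (D i) (hD.nondegenerate i))
      (by rw [hD.decomp.finrank_eq i, hN])
  choose b hb using hb
  have hint : DirectSum.IsInternal D :=
    DirectSum.isInternal_submodule_of_iSupIndep_of_iSup_eq_top hD.decomp.indep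
      hD.decomp.iSup_eq_top
  let 𝔅 : Basis (Σ _ : Fin t, Fin N ⊕ Fin N) F (Fin m ⊕ Fin m → F) := hint.collectedBasis b
  have h𝔅 : ∀ i j, 𝔅 ⟨i, j⟩ = ((b i j : D i) : Fin m ⊕ Fin m → F) := by
    intro i j
    simp only [𝔅, DirectSum.IsInternal.collectedBasis_coe]
  let π : (Σ _ : Fin t, Fin N ⊕ Fin N) ≃ (Σ _ : Fin t, Fin N ⊕ Fin N) :=
    ⟨fun a => ⟨σ a.1, a.2⟩, fun a => ⟨σ.symm a.1, a.2⟩, fun a => by simp, fun a => by simp⟩
  let e : (Fin m ⊕ Fin m → F) ≃ₗ[F] (Fin m ⊕ Fin m → F) := 𝔅.equiv 𝔅 π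
  have he : ∀ i j, e ((b i j : D i) : Fin m ⊕ Fin m → F) =
      ((b (σ i) j : D (σ i)) : Fin m ⊕ Fin m → F) := by
    intro i j
    rw [← h𝔅, ← h𝔅]
    exact Basis.equiv_apply 𝔅 ⟨i, j⟩ 𝔅 π
  have hgram : ∀ i j i' j', Cfsg.sympForm m F ((b i j : D i) : Fin m ⊕ Fin m → F)
      ((b i' j' : D i') : Fin m ⊕ Fin m → F) =
      if i = i' then Helper44.gramJ N F j j' else 0 := by
    intro i j i' j'
    split_ifs with h
    · subst h
      rw [← blockForm_apply, ← hb i, LinearMap.BilinForm.toMatrix_apply]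
    · exact hD.orthogonal i i' h _ (b i j).2 _ (b i' j').2
  have hpres : ∀ u v, Cfsg.sympForm m F (e u) (e v) = Cfsg.sympForm m F u v := by
    have hB : (sympB (F := F) m).compl₁₂ e.toLinearMap e.toLinearMap = sympB m := by
      apply LinearMap.ext_basis 𝔅 𝔅
      rintro ⟨i, j⟩ ⟨i', j'⟩
      rw [LinearMap.compl₁₂_apply, h𝔅, h𝔅]
      show sympB m (e _) (e _) = _
      rw [he, he, sympB_apply, sympB_apply, hgram, hgram]
      by_cases h : i = i'
      · rw [if_pos h, if_pos (by rw [h])]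
      · rw [if_neg h, if_neg (fun h' => h (σ.injective h'))]
    intro u v
    have := congrArg (fun B => B u v) hB
    simp only [LinearMap.compl₁₂_apply] at this
    rw [← sympB_apply, ← sympB_apply]
    exact this
  refine ⟨glOfEquiv m e, ?_, ?_⟩
  · rw [mem_spGL_iff]
    intro u v
    rw [glOfEquiv_mulVec, glOfEquiv_mulVec]
    exact hpres u v
  · intro i
    have hlin : Matrix.toLin' ((glOfEquiv m e : GL (Fin m ⊕ Fin m) F) :
        Matrix (Fin m ⊕ Fin m) (Fin m ⊕ Fin m) F) = e.toLinearMap := by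
      show Matrix.toLin' (LinearMap.toMatrix' e.toLinearMap) = _
      rw [Matrix.toLin'_toMatrix']
    rw [hlin]
    conv_lhs => rw [← span_range_coe_basis m (D i) (b i)]
    rw [Submodule.map_span, ← Set.range_comp]
    have : (⇑e.toLinearMap ∘ fun j => ((b i j : D i) : Fin m ⊕ Fin m → F)) =
        fun j => ((b (σ i) j : D (σ i)) : Fin m ⊕ Fin m → F) := by
      funext j
      exact he i j
    rw [this, span_range_coe_basis m (D (σ i)) (b (σ i))]

end spd3

end Cfsg.Agent.Lib.Helper99
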