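import Cfsg.Agent.Lib.Helper99.SpDecomp3

set_option autoImplicit false

/-!
Maximality of the stabilizer of a nondegenerate decomposition in the symplectic group:
main theorem.
-/

namespace Cfsg.Agent.Lib.Helper99

open Matrix Module

section spd4

variable {F : Type*} [Field F] (m : ℕ)
variable {t : ℕ} (k : ℕ) (D : Fin t → Submodule F (Fin m ⊕ Fin m → F))

/-- If all two-block sums lie in `tvSet`, every sum of block components does. -/
theorem sum_mem_tvSet (hD : Cfsg.Geo.IsNondegenerateMDecomposition (Cfsg.sympForm m F) k D)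
    (M : Subgroup (GL (Fin m ⊕ Fin m) F))
    (hHM : Cfsg.Geo.decompositionStabilizer D ⊓ Cfsg.spGL m F ≤ M) (hM : M ≤ Cfsg.spGL m F)
    (hpairs : ∀ a b : Fin t, a ≠ b → ∀ ya ∈ D a, ∀ yb ∈ D b, ya + yb ∈ tvSet m M)
    (S : Finset (Fin t)) :
    ∀ z : Fin t → (Fin m ⊕ Fin m → F), (∀ i, z i ∈ D i) → ∑ i ∈ S, z i ∈ tvSet m M := by
  classical
  induction S using Finset.induction_on with
  | empty =>
    intro z _
    rw [Finset.sum_empty]
    exact tvSet_zero m M
  | insert j S hjS ih =>
    intro z hz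
    rw [Finset.sum_insert hjS]
    by_cases hzj : z j = 0
    · rw [hzj, zero_add]
      exact ih z hz
    by_cases hall : ∀ i ∈ S, z i = 0
    · rw [Finset.sum_eq_zero hall, add_zero]
      exact block_subset_tvSet m k D hD M hHM j (z j) (hz j)
    push Not at hall
    obtain ⟨i0, hi0S, hzi0⟩ := hall
    have hi0j : i0 ≠ j := by
      rintro rfl
      exact hjS hi0S
    obtain ⟨w, hw, hne⟩ := (hD.nondegenerate i0 (z i0) (hz i0) hzi0).2
    -- `u = x' - w`, `u' = w + z j`
    have hu : ∑ i ∈ S, (Function.update z i0 (z i0 - w)) i ∈ tvSet m M := by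
      apply ih
      intro i
      by_cases hi : i = i0
      · subst hi
        rw [Function.update_self]
        exact (D i).sub_mem (hz i) hw
      · rw [Function.update_of_ne hi]
        exact hz i
    have hu_eq : ∑ i ∈ S, (Function.update z i0 (z i0 - w)) i = ∑ i ∈ S, z i - w := by
      rw [Finset.sum_update_of_mem hi0S, Finset.sdiff_singleton_eq_erase,
        ← Finset.sum_erase_add S z hi0S]
      abel
    rw [hu_eq] at hu
    have hu' : w + z j ∈ tvSet m M := hpairs i0 j hi0j w hw (z j) (hz j)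
    have hform : Cfsg.sympForm m F (w + z j) (∑ i ∈ S, z i - w) ≠ 0 := by
      have e1 : Cfsg.sympForm m F (∑ i ∈ S, z i) w = Cfsg.sympForm m F (z i0) w := by
        rw [form_sum_left m k D hD z hz S i0 w hw, if_pos hi0S]
      have e2 : Cfsg.sympForm m F (∑ i ∈ S, z i) (z j) = 0 := by
        rw [form_sum_left m k D hD z hz S j (z j) (hz j), if_neg hjS]
      have e3 : Cfsg.sympForm m F (z j) w = 0 := hD.orthogonal j i0 hi0j.symm _ (hz j) _ hw
      have e4 : Cfsg.sympForm m F w w = 0 := Helper13.sympForm_self m w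
      have e5 := Helper13.sympForm_swap m w (∑ i ∈ S, z i)
      have e6 := Helper13.sympForm_swap m (z j) (∑ i ∈ S, z i)
      have e : Cfsg.sympForm m F (w + z j) (∑ i ∈ S, z i - w) =
          - Cfsg.sympForm m F (z i0) w := by
        rw [Helper13.sympForm_add_left, Helper13.sympForm_sub_right,
          Helper13.sympForm_sub_right]
        linear_combination e5 + e6 - e1 - e2 - e3 - e4
      rw [e]
      exact neg_ne_zero.mpr hne
    have := tvSet_add m M hM _ _ hu hu' hform
    have heq : ∑ i ∈ S, z i - w + (w + z j) = z j + ∑ i ∈ S, z i := by abel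
    rw [heq] at this
    exact this

/-- The stabilizer of a nondegenerate decomposition is maximal in the symplectic group, unless
`k = 2` and `q = 2`. -/
theorem decomp_stabilizer_isMaximalIn [Fintype F]
    (hD : Cfsg.Geo.IsNondegenerateMDecomposition (Cfsg.sympForm m F) k D)
    (hex : ¬ (k = 2 ∧ Fintype.card F = 2)) :
    Cfsg.Geo.IsMaximalIn (Cfsg.spGL m F)
      (Cfsg.Geo.decompositionStabilizer D ⊓ Cfsg.spGL m F) := by
  classical
  have ht := hD.decomp.two_le
  constructor
  · rw [lt_iff_le_and_ne]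
    refine ⟨inf_le_right, fun heq => ?_⟩
    let a : Fin t := ⟨0, by omega⟩
    let b : Fin t := ⟨1, by omega⟩
    have hab : a ≠ b := by
      intro h
      have := congrArg Fin.val h
      simp [a, b] at this
    obtain ⟨ua, hua, hua0⟩ := block_exists_ne_zero m k D hD a
    obtain ⟨ub, hub, hub0⟩ := block_exists_ne_zero m k D hD b
    obtain ⟨ua', hua', hne⟩ := (hD.nondegenerate a ua hua hua0).2
    have h1 : stv m (ua' + ub) 1 ∈ Cfsg.spGL m F := stv_mem_spGL m _ 1
    rw [← heq] at h1
    obtain ⟨σ, hσ⟩ := h1.1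
    have h2 : (stv m (ua' + ub) 1 : Matrix (Fin m ⊕ Fin m) (Fin m ⊕ Fin m) F) *ᵥ ua ∈
        D (σ a) := by
      rw [← hσ a]
      exact ⟨ua, hua, by rw [Matrix.toLin'_apply]⟩
    rw [stv_mulVec, one_mul, Helper13.sympForm_add_right,
      hD.orthogonal a b hab ua hua ub hub, add_zero, smul_add, ← add_assoc] at h2
    refine two_block_notMem m k D hD a b hab _ _
      ((D a).add_mem hua ((D a).smul_mem _ hua')) ((D b).smul_mem _ hub) ?_
      (smul_ne_zero hne hub0) (σ a) h2
    intro h0
    apply hne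
    have h3 : ua = (-(Cfsg.sympForm m F ua ua')) • ua' := by
      rw [neg_smul]
      exact eq_neg_of_add_eq_zero_left h0
    have h4 : Cfsg.sympForm m F ua ua' = Cfsg.sympForm m F
        ((-(Cfsg.sympForm m F ua ua')) • ua') ua' := by
      rw [← h3]
    rw [Helper13.sympForm_smul_left, Helper13.sympForm_self, mul_zero] at h4
    exact h4
  · intro M hHM hMS
    by_cases hMH : M ≤ Cfsg.Geo.decompositionStabilizer D ⊓ Cfsg.spGL m F
    · left
      exact le_antisymm hMH hHM
    · right
      obtain ⟨g, hgM, hgH⟩ := SetLike.not_le_iff_exists.mp hMH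
      have hgS := hMS hgM
      have hgD : g ∉ Cfsg.Geo.decompositionStabilizer D := fun h => hgH ⟨h, hgS⟩
      -- bad vector
      obtain ⟨i, v, hv, hbad⟩ : ∃ i, ∃ v ∈ D i,
          ∀ j, (g : Matrix (Fin m ⊕ Fin m) (Fin m ⊕ Fin m) F) *ᵥ v ∉ D j := by
        by_contra hcon
        push Not at hcon
        exact hgD (mem_decomp_of_forall m k D hD g hcon)
      have hxZ : (g : Matrix (Fin m ⊕ Fin m) (Fin m ⊕ Fin m) F) *ᵥ v ∈ tvSet m M :=
        tvSet_map m M hMS g hgM v (block_subset_tvSet m k D hD M hHM i v hv)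
      obtain ⟨a, b, hab, ya, yb, w, hya, hyb, hya0, hyb0, hwa, hwb, hxe⟩ :=
        exists_two_components m k D hD _ hbad
      rw [hxe] at hxZ
      have hsp := exists_special m k D hD hex
      have hpair := reduce_pair m k D hD M hHM hMS hsp a b hab ya yb w hya hyb hya0 hyb0
        hwa hwb hxZ
      -- all pairs
      have hpairs : ∀ a' b' : Fin t, a' ≠ b' → ∀ ya ∈ D a', ∀ yb ∈ D b',
          ya + yb ∈ tvSet m M := by
        intro a' b' hab' ya' hya' yb' hyb'
        obtain ⟨σ, hσa, hσb⟩ := exists_perm_pair a b a' b' hab hab'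
        obtain ⟨h, hhS, hhD⟩ := exists_block_perm m k D hD σ
        have hhM : h ∈ M := hHM ⟨⟨σ, hhD⟩, hhS⟩
        have h1 : ya' ∈ (D a).map
            (Matrix.toLin' (h : Matrix (Fin m ⊕ Fin m) (Fin m ⊕ Fin m) F)) := by
          rw [hhD a, hσa]
          exact hya'
        have h2 : yb' ∈ (D b).map
            (Matrix.toLin' (h : Matrix (Fin m ⊕ Fin m) (Fin m ⊕ Fin m) F)) := by
          rw [hhD b, hσb]
          exact hyb'
        obtain ⟨xa, hxa, hxae⟩ := h1
        obtain ⟨xb, hxb, hxbe⟩ := h2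
        rw [Matrix.toLin'_apply] at hxae hxbe
        rw [← hxae, ← hxbe, ← mulVec_add]
        exact tvSet_map m M hMS h hhM _ (hpair xa hxa xb hxb)
      apply eq_spGL_of_stv_mem m M hMS
      intro u
      obtain ⟨z, hz, hzs⟩ := exists_components m k D hD u
      rw [← hzs]
      exact sum_mem_tvSet m k D hD M hHM hMS hpairs Finset.univ z hz

end spd4

end Cfsg.Agent.Lib.Helper99
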