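import Cfsg.Agent.Lib.Helper99.SpMaxTI

set_option autoImplicit false

/-!
The stabilizer of a nondegenerate subspace of dimension `< m` is maximal in the symplectic group.
-/

namespace Cfsg.Agent.Lib.Helper99

open Matrix

section nd

variable {F : Type*} [Field F] (m : ℕ)

theorem spmax_nd_disjoint (W : Submodule F (Fin m ⊕ Fin m → F))
    (hW : Cfsg.Geo.IsNondegenerateOn (Cfsg.sympForm m F) W) :
    Disjoint W (sperp m W) := by
  rw [Submodule.disjoint_def]
  intro x hx hx'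
  by_contra h0
  obtain ⟨⟨y, hyW, hy⟩, _⟩ := hW x hx h0
  exact hy ((mem_sperp m W x).mp hx' y hyW)

theorem spmax_nd_isCompl (W : Submodule F (Fin m ⊕ Fin m → F))
    (hW : Cfsg.Geo.IsNondegenerateOn (Cfsg.sympForm m F) W) :
    IsCompl W (sperp m W) := by
  unfold sperp
  rw [LinearMap.BilinForm.isCompl_orthogonal_iff_disjoint (sympB_isRefl m)]
  exact spmax_nd_disjoint m W hW

theorem spmax_nd_decomp (W : Submodule F (Fin m ⊕ Fin m → F))
    (hW : Cfsg.Geo.IsNondegenerateOn (Cfsg.sympForm m F) W) (v : Fin m ⊕ Fin m → F) :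
    ∃ a ∈ W, ∃ b ∈ sperp m W, a + b = v := by
  have h := (spmax_nd_isCompl m W hW).sup_eq_top
  have hv : v ∈ W ⊔ sperp m W := by rw [h]; trivial
  obtain ⟨a, ha, b, hb, hab⟩ := Submodule.mem_sup.mp hv
  exact ⟨a, ha, b, hb, hab⟩

theorem spmax_nd_finrank (W : Submodule F (Fin m ⊕ Fin m → F))
    (hW : Cfsg.Geo.IsNondegenerateOn (Cfsg.sympForm m F) W) :
    Module.finrank F W + Module.finrank F (sperp m W) = 2 * m := by
  rw [Submodule.finrank_add_eq_of_isCompl (spmax_nd_isCompl m W hW)]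
  simp
  ring

theorem nd_nondegOn (W : Submodule F (Fin m ⊕ Fin m → F))
    (hW : Cfsg.Geo.IsNondegenerateOn (Cfsg.sympForm m F) W) :
    Helper13.SympNondegOn m W := by
  intro u hu hu0
  exact (hW u hu hu0).2

theorem nd_nondegOn_perp (W : Submodule F (Fin m ⊕ Fin m → F))
    (hW : Cfsg.Geo.IsNondegenerateOn (Cfsg.sympForm m F) W) :
    Helper13.SympNondegOn m (sperp m W) := by
  intro u hu hu0
  obtain ⟨x, hx⟩ := Helper13.exists_sympForm_ne_zero m u hu0
  obtain ⟨a, ha, b, hb, hab⟩ := spmax_nd_decomp m W hW x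
  refine ⟨b, hb, ?_⟩
  rw [← hab, Helper13.sympForm_add_right] at hx
  have h1 : Cfsg.sympForm m F u a = 0 := by
    rw [sympForm_swap', (mem_sperp m W u).mp hu a ha, neg_zero]
  rw [h1, zero_add] at hx
  exact hx

/-- The stabilizer of `W` is transitive on the vectors with both components nonzero. -/
theorem exists_stab_map_nd (W : Submodule F (Fin m ⊕ Fin m → F))
    (hW : Cfsg.Geo.IsNondegenerateOn (Cfsg.sympForm m F) W)
    (a a' b b' : Fin m ⊕ Fin m → F) (ha : a ∈ W) (ha' : a' ∈ W) (hb : b ∈ sperp m W)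
    (hb' : b' ∈ sperp m W) (ha0 : a ≠ 0) (ha'0 : a' ≠ 0) (hb0 : b ≠ 0) (hb'0 : b' ≠ 0) :
    ∃ p : GL (Fin m ⊕ Fin m) F, p ∈ Cfsg.spGL m F ∧ p ∈ Cfsg.Geo.subspaceStabilizer W ∧
      (p : Matrix (Fin m ⊕ Fin m) (Fin m ⊕ Fin m) F) *ᵥ (a + b) = a' + b' := by
  obtain ⟨A, hA, hAa⟩ := Helper13.exists_transvRel_of_ne_zero m W (nd_nondegOn m W hW)
    a a' ha ha' ha0 ha'0
  obtain ⟨B, hB, hBb⟩ := Helper13.exists_transvRel_of_ne_zero m (sperp m W)
    (nd_nondegOn_perp m W hW) b b' hb hb' hb0 hb'0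
  have hAfix : ∀ x ∈ sperp m W,
      (A : Matrix (Fin m ⊕ Fin m) (Fin m ⊕ Fin m) F) *ᵥ x = x := by
    intro x hx
    apply Helper13.sympTransvSubgroupRel_fix m W x _ A hA
    intro w hw
    rw [sympForm_swap', (mem_sperp m W x).mp hx w hw, neg_zero]
  have hBfix : ∀ x ∈ W,
      (B : Matrix (Fin m ⊕ Fin m) (Fin m ⊕ Fin m) F) *ᵥ x = x := by
    intro x hx
    apply Helper13.sympTransvSubgroupRel_fix m (sperp m W) x _ B hB
    intro w hw
    exact (mem_sperp m W w).mp hw x hx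
  refine ⟨spToGL m (B * A), spToGL_mem m _, ?_, ?_⟩
  · apply mem_subspaceStabilizer_of_forall
    intro x hx
    rw [coe_spToGL, Submonoid.coe_mul, ← mulVec_mulVec]
    have h1 := Helper13.sympTransvSubgroupRel_preserves m W A hA x hx
    rw [hBfix _ h1]
    exact h1
  · rw [coe_spToGL, Submonoid.coe_mul, ← mulVec_mulVec, mulVec_add, hAa, hAfix b hb, mulVec_add,
      hBfix a' ha', hBb]

/-- The stabilizer of a nonzero nondegenerate subspace of dimension `< m` is maximal in the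
symplectic group. -/
theorem nd_stabilizer_isMaximalIn (W : Submodule F (Fin m ⊕ Fin m → F)) (hW0 : W ≠ ⊥)
    (hW : Cfsg.Geo.IsNondegenerateOn (Cfsg.sympForm m F) W)
    (hdim : Module.finrank F W < m) :
    Cfsg.Geo.IsMaximalIn (Cfsg.spGL m F) (Cfsg.Geo.subspaceStabilizer W ⊓ Cfsg.spGL m F) := by
  obtain ⟨w, hwW, hw0⟩ := W.exists_mem_ne_zero_of_ne_bot hW0
  have hfr := spmax_nd_finrank m W hW
  have hdisj := spmax_nd_disjoint m W hW
  have hWp0 : sperp m W ≠ ⊥ := by
    intro h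
    rw [h, finrank_bot] at hfr
    omega
  obtain ⟨b₀, hb₀, hb₀0⟩ := (sperp m W).exists_mem_ne_zero_of_ne_bot hWp0
  -- mixed vectors
  have hmixed : ∀ v : Fin m ⊕ Fin m → F, v ∉ W → v ∉ sperp m W →
      ∃ a ∈ W, ∃ b ∈ sperp m W, a ≠ 0 ∧ b ≠ 0 ∧ a + b = v := by
    intro v hv hv'
    obtain ⟨a, ha, b, hb, hab⟩ := spmax_nd_decomp m W hW v
    refine ⟨a, ha, b, hb, ?_, ?_, hab⟩
    · rintro rfl
      rw [zero_add] at hab
      exact hv' (hab ▸ hb)
    · rintro rfl
      rw [add_zero] at hab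
      exact hv (hab ▸ ha)
  constructor
  · rw [lt_iff_le_and_ne]
    refine ⟨inf_le_right, fun heq => ?_⟩
    obtain ⟨a, haW, ha⟩ := (hW w hwW hw0).2
    have h1 : stv m (a + b₀) 1 ∈ Cfsg.spGL m F := stv_mem_spGL m _ 1
    rw [← heq] at h1
    have h2 := ((mem_subspaceStabilizer_iff W _).mp h1.1 w).mp hwW
    rw [stv_mulVec, one_mul] at h2
    have hne : Cfsg.sympForm m F w (a + b₀) ≠ 0 := by
      rw [Helper13.sympForm_add_right, (mem_sperp m W b₀).mp hb₀ w hwW, add_zero]
      exact ha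
    have h3 : (Cfsg.sympForm m F w (a + b₀)) • (a + b₀) ∈ W := by
      have : (Cfsg.sympForm m F w (a + b₀)) • (a + b₀) =
          (w + (Cfsg.sympForm m F w (a + b₀)) • (a + b₀)) - w := by abel
      rw [this]
      exact W.sub_mem h2 hwW
    have h4 : a + b₀ ∈ W := by
      have : a + b₀ = (Cfsg.sympForm m F w (a + b₀))⁻¹ •
          ((Cfsg.sympForm m F w (a + b₀)) • (a + b₀)) := by
        rw [smul_smul, inv_mul_cancel₀ hne, one_smul]
      rw [this]
      exact W.smul_mem _ h3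
    have h5 : b₀ ∈ W := by
      have : b₀ = (a + b₀) - a := by abel
      rw [this]
      exact W.sub_mem h4 haW
    exact hb₀0 ((Submodule.disjoint_def.mp hdisj) b₀ h5 hb₀)
  · intro M hPM hMS
    by_cases hMP : M ≤ Cfsg.Geo.subspaceStabilizer W ⊓ Cfsg.spGL m F
    · left
      exact le_antisymm hMP hPM
    · right
      obtain ⟨g, hgM, hgP⟩ := SetLike.not_le_iff_exists.mp hMP
      have hgS := hMS hgM
      have hgW : g ∉ Cfsg.Geo.subspaceStabilizer W := fun h => hgP ⟨h, hgS⟩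
      obtain ⟨w₀, hw₀, hgw₀⟩ : ∃ w₀ ∈ W,
          (g : Matrix (Fin m ⊕ Fin m) (Fin m ⊕ Fin m) F) *ᵥ w₀ ∉ W := by
        by_contra h
        push Not at h
        exact hgW (mem_subspaceStabilizer_of_forall W g h)
      have Z0 : ∀ u ∈ W, ∀ c, stv m u c ∈ M := by
        intro u hu c
        exact hPM ⟨stv_mem_stabilizer_of_mem m W u c hu, stv_mem_spGL m u c⟩
      have Z1 : ∀ u ∈ sperp m W, ∀ c, stv m u c ∈ M := by
        intro u hu c
        exact hPM ⟨stv_mem_stabilizer_of_perp m W u c ((mem_sperp m W u).mp hu),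
          stv_mem_spGL m u c⟩
      have Z2 : ∀ h ∈ M, ∀ u, (∀ c, stv m u c ∈ M) → ∀ c,
          stv m ((h : Matrix (Fin m ⊕ Fin m) (Fin m ⊕ Fin m) F) *ᵥ u) c ∈ M := by
        intro h hh u hu c
        rw [← conj_stv m h (hMS hh) u c]
        exact M.mul_mem (M.mul_mem hh (hu c)) (M.inv_mem hh)
      -- a mixed vector in `Z`
      obtain ⟨u₁, hu₁Z, hu₁W, hu₁Wp⟩ : ∃ u₁, (∀ c, stv m u₁ c ∈ M) ∧ u₁ ∉ W ∧
          u₁ ∉ sperp m W := by
        by_contra hcon
        push Not at hcon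
        -- `g W ⊆ Wp`
        have hgw₀p : (g : Matrix (Fin m ⊕ Fin m) (Fin m ⊕ Fin m) F) *ᵥ w₀ ∈ sperp m W :=
          hcon _ (Z2 g hgM w₀ (Z0 w₀ hw₀)) hgw₀
        have hgWp : ∀ x ∈ sperp m W,
            (g : Matrix (Fin m ⊕ Fin m) (Fin m ⊕ Fin m) F) *ᵥ x ∈ W ∨
            (g : Matrix (Fin m ⊕ Fin m) (Fin m ⊕ Fin m) F) *ᵥ x ∈ sperp m W := by
          intro x hx
          by_cases h : (g : Matrix (Fin m ⊕ Fin m) (Fin m ⊕ Fin m) F) *ᵥ x ∈ W
          · left; exact h
          · right; exact hcon _ (Z2 g hgM x (Z1 x hx)) h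
        by_cases hall : ∀ x ∈ sperp m W,
            (g : Matrix (Fin m ⊕ Fin m) (Fin m ⊕ Fin m) F) *ᵥ x ∈ sperp m W
        · -- `g` stabilizes `Wp`, hence `W`
          have hgst := mem_subspaceStabilizer_of_forall (sperp m W) g hall
          apply hgw₀
          rw [← sperp_sperp m W, mem_sperp]
          intro y hy
          have hy' : ((g⁻¹ : GL (Fin m ⊕ Fin m) F) :
              Matrix (Fin m ⊕ Fin m) (Fin m ⊕ Fin m) F) *ᵥ y ∈ sperp m W := by
            rw [(mem_subspaceStabilizer_iff (sperp m W) g).mp hgst, mulVec_inv_mulVec]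
            exact hy
          have h1 := (mem_spGL_iff m g).mp hgS
            (((g⁻¹ : GL (Fin m ⊕ Fin m) F) :
              Matrix (Fin m ⊕ Fin m) (Fin m ⊕ Fin m) F) *ᵥ y) w₀
          rw [mulVec_inv_mulVec] at h1
          rw [h1, sympForm_swap']
          rw [(mem_sperp m W _).mp hy' w₀ hw₀, neg_zero]
        · -- `g Wp ⊆ W`, contradicting dimensions
          push Not at hall
          obtain ⟨x₀, hx₀, hgx₀⟩ := hall
          have hgx₀W : (g : Matrix (Fin m ⊕ Fin m) (Fin m ⊕ Fin m) F) *ᵥ x₀ ∈ W := by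
            rcases hgWp x₀ hx₀ with h | h
            · exact h
            · exact absurd h hgx₀
          have hallW : ∀ x ∈ sperp m W,
              (g : Matrix (Fin m ⊕ Fin m) (Fin m ⊕ Fin m) F) *ᵥ x ∈ W := by
            intro x hx
            by_contra hxW
            have hxWp : (g : Matrix (Fin m ⊕ Fin m) (Fin m ⊕ Fin m) F) *ᵥ x ∈ sperp m W := by
              rcases hgWp x hx with h | h
              · exact absurd h hxW
              · exact h
            rcases hgWp (x + x₀) ((sperp m W).add_mem hx hx₀) with h | h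
            · rw [mulVec_add] at h
              apply hxW
              have : (g : Matrix (Fin m ⊕ Fin m) (Fin m ⊕ Fin m) F) *ᵥ x =
                  ((g : Matrix (Fin m ⊕ Fin m) (Fin m ⊕ Fin m) F) *ᵥ x +
                    (g : Matrix (Fin m ⊕ Fin m) (Fin m ⊕ Fin m) F) *ᵥ x₀) -
                    (g : Matrix (Fin m ⊕ Fin m) (Fin m ⊕ Fin m) F) *ᵥ x₀ := by abel
              rw [this]
              exact W.sub_mem h hgx₀W
            · rw [mulVec_add] at h
              apply hgx₀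
              have : (g : Matrix (Fin m ⊕ Fin m) (Fin m ⊕ Fin m) F) *ᵥ x₀ =
                  ((g : Matrix (Fin m ⊕ Fin m) (Fin m ⊕ Fin m) F) *ᵥ x +
                    (g : Matrix (Fin m ⊕ Fin m) (Fin m ⊕ Fin m) F) *ᵥ x₀) -
                    (g : Matrix (Fin m ⊕ Fin m) (Fin m ⊕ Fin m) F) *ᵥ x := by abel
              rw [this]
              exact (sperp m W).sub_mem h hxWp
          have hle : (sperp m W).map (Matrix.toLin' (g : Matrix (Fin m ⊕ Fin m) (Fin m ⊕ Fin m) F)) ≤ W := by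
            rintro _ ⟨x, hx, rfl⟩
            rw [Matrix.toLin'_apply]
            exact hallW x hx
          have hinj : Function.Injective (Matrix.toLin' (g : Matrix (Fin m ⊕ Fin m) (Fin m ⊕ Fin m) F)) := by
            intro x y hxy
            exact mulVec_injective_of_GL g (by simpa [Matrix.toLin'_apply] using hxy)
          have hfr2 : Module.finrank F ((sperp m W).map (Matrix.toLin' (g : Matrix (Fin m ⊕ Fin m) (Fin m ⊕ Fin m) F))) =
              Module.finrank F (sperp m W) :=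
            LinearEquiv.finrank_eq (Submodule.equivMapOfInjective _ hinj _).symm
          have := Submodule.finrank_mono hle
          omega
      obtain ⟨a₁, ha₁, b₁, hb₁, ha₁0, hb₁0, hab₁⟩ := hmixed u₁ hu₁W hu₁Wp
      apply eq_spGL_of_stv_mem m M hMS
      intro u c
      by_cases huW : u ∈ W
      · exact Z0 u huW c
      · by_cases huWp : u ∈ sperp m W
        · exact Z1 u huWp c
        · obtain ⟨a, ha, b, hb, ha0, hb0, hab⟩ := hmixed u huW huWp
          obtain ⟨p, hpS, hpW, hpu⟩ := exists_stab_map_nd m W hW a₁ a b₁ b ha₁ ha hb₁ hb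
            ha₁0 ha0 hb₁0 hb0
          have hpM : p ∈ M := hPM ⟨hpW, hpS⟩
          rw [← hab, ← hpu, hab₁]
          exact Z2 p hpM _ hu₁Z c

end nd

end Cfsg.Agent.Lib.Helper99
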