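import Cfsg.Agent.Lib.Helper99.SpPair1

set_option autoImplicit false

/-!
Stabilizer of a pair of complementary Lagrangians in the symplectic group: Lagrangian pairs
relative to an overgroup, rigidity when the overgroup has no transvections.
-/

namespace Cfsg.Agent.Lib.Helper99

open Matrix Module

section sppair2

variable {F : Type*} [Field F] (m : ℕ)

theorem sympForm_isSymplecticForm : Cfsg.Geo.IsSymplecticForm (Cfsg.sympForm m F) where
  bilinear :=
    { add_left := fun x y v => Helper13.sympForm_add_left m x y v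
      smul_left := fun c x v => Helper13.sympForm_smul_left m c x v
      add_right := fun v x y => Helper13.sympForm_add_right m v x y
      smul_right := fun c v x => Helper13.sympForm_smul_right m c v x }
  skew := fun v w => Helper13.sympForm_swap m v w
  alternating := fun v => Helper13.sympForm_self m v
  nondegenerate := fun v hv => by
    obtain ⟨a, ha⟩ := Helper13.exists_sympForm_ne_zero m v hv
    refine ⟨⟨a, ?_⟩, ⟨a, ha⟩⟩
    rw [Helper13.sympForm_swap]
    exact neg_ne_zero.mpr ha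

/-- A pair of complementary totally isotropic subspaces whose root elements lie in `M`. -/
structure LagPair (M : Subgroup (GL (Fin m ⊕ Fin m) F))
    (A A' : Submodule F (Fin m ⊕ Fin m → F)) : Prop where
  iso : ∀ x ∈ A, ∀ y ∈ A, Cfsg.sympForm m F x y = 0
  iso' : ∀ x ∈ A', ∀ y ∈ A', Cfsg.sympForm m F x y = 0
  sum : ∀ x, ∃ x1 ∈ A, ∃ x2 ∈ A', x1 + x2 = x
  dim : 3 ≤ finrank F A
  dim' : 3 ≤ finrank F A'
  base : ∀ a ∈ A, ∀ b ∈ A', Cfsg.sympForm m F a b = 0 → rootElt m a b ∈ M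

variable {m}
variable {M : Subgroup (GL (Fin m ⊕ Fin m) F)} {A A' B B' : Submodule F (Fin m ⊕ Fin m → F)}

theorem LagPair.symm (h : LagPair m M A A') : LagPair m M A' A where
  iso := h.iso'
  iso' := h.iso
  sum := fun x => by
    obtain ⟨x1, hx1, x2, hx2, hx⟩ := h.sum x
    exact ⟨x2, hx2, x1, hx1, by rw [add_comm]; exact hx⟩
  dim := h.dim'
  dim' := h.dim
  base := fun a ha b hb hab => by
    have hba : Cfsg.sympForm m F b a = 0 := by
      rw [Helper13.sympForm_swap, hab, neg_zero]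
    rw [rootElt_symm m a b hab]
    exact h.base b hb a ha hba

theorem LagPair.base_smul (h : LagPair m M A A') (a : Fin m ⊕ Fin m → F) (ha : a ∈ A)
    (b : Fin m ⊕ Fin m → F) (hb : b ∈ A') (hab : Cfsg.sympForm m F a b = 0) (μ : F) :
    rootElt m a (μ • b) ∈ M :=
  h.base a ha _ (A'.smul_mem μ hb) (by rw [Helper13.sympForm_smul_right, hab, mul_zero])

/-- The image of a Lagrangian pair under an element of `M`. -/
theorem LagPair.map (h : LagPair m M A A') (hM : M ≤ Cfsg.spGL m F)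
    (g : GL (Fin m ⊕ Fin m) F) (hg : g ∈ M) :
    LagPair m M (A.map (Matrix.toLin' (g : Matrix (Fin m ⊕ Fin m) (Fin m ⊕ Fin m) F)))
      (A'.map (Matrix.toLin' (g : Matrix (Fin m ⊕ Fin m) (Fin m ⊕ Fin m) F))) where
  iso := by
    rintro _ ⟨x, hx, rfl⟩ _ ⟨y, hy, rfl⟩
    rw [Matrix.toLin'_apply, Matrix.toLin'_apply, (mem_spGL_iff m g).mp (hM hg)]
    exact h.iso x hx y hy
  iso' := by
    rintro _ ⟨x, hx, rfl⟩ _ ⟨y, hy, rfl⟩
    rw [Matrix.toLin'_apply, Matrix.toLin'_apply, (mem_spGL_iff m g).mp (hM hg)]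
    exact h.iso' x hx y hy
  sum := fun x => by
    obtain ⟨x1, hx1, x2, hx2, hx⟩ := h.sum
      (((g⁻¹ : GL (Fin m ⊕ Fin m) F) : Matrix (Fin m ⊕ Fin m) (Fin m ⊕ Fin m) F) *ᵥ x)
    refine ⟨_, ⟨x1, hx1, rfl⟩, _, ⟨x2, hx2, rfl⟩, ?_⟩
    rw [Matrix.toLin'_apply, Matrix.toLin'_apply, ← mulVec_add, hx, mulVec_inv_mulVec]
  dim := by rw [finrank_map_GL]; exact h.dim
  dim' := by rw [finrank_map_GL]; exact h.dim'
  base := by
    rintro _ ⟨a, ha, rfl⟩ _ ⟨b, hb, rfl⟩ hab
    rw [Matrix.toLin'_apply, Matrix.toLin'_apply] at hab ⊢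
    rw [(mem_spGL_iff m g).mp (hM hg)] at hab
    rw [← conj_rootElt m g (hM hg)]
    exact M.mul_mem (M.mul_mem hg (h.base a ha b hb hab)) (M.inv_mem hg)

/-- Duality: a nonzero vector of `A` pairs nontrivially with `A'`. -/
theorem LagPair.exists_pair (h : LagPair m M A A') (a : Fin m ⊕ Fin m → F) (ha : a ∈ A)
    (ha0 : a ≠ 0) : ∃ b ∈ A', Cfsg.sympForm m F a b ≠ 0 := by
  obtain ⟨y, hy⟩ := Helper13.exists_sympForm_ne_zero m a ha0
  obtain ⟨y1, hy1, y2, hy2, rfl⟩ := h.sum y
  refine ⟨y2, hy2, ?_⟩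
  rw [Helper13.sympForm_add_right, h.iso a ha y1 hy1, zero_add] at hy
  exact hy

theorem LagPair.exists_perp_pair (h : LagPair m M A A') (v w : Fin m ⊕ Fin m → F) (hv : v ∈ A)
    (hw : w ∈ A) (hwv : w ∉ Submodule.span F {v}) :
    ∃ b ∈ A', Cfsg.sympForm m F v b = 0 ∧ Cfsg.sympForm m F w b ≠ 0 := by
  obtain ⟨y, hy1, hy2⟩ := exists_perp_not_perp (Cfsg.sympForm m F)
    (sympForm_isSymplecticForm m) v w hwv
  obtain ⟨y1, hy1A, y2, hy2A, rfl⟩ := h.sum y
  refine ⟨y2, hy2A, ?_, ?_⟩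
  · rw [Helper13.sympForm_add_right, h.iso v hv y1 hy1A, zero_add] at hy1
    exact hy1
  · rw [Helper13.sympForm_add_right, h.iso w hw y1 hy1A, zero_add] at hy2
    exact hy2

/-- In a subspace of dimension at least three, some nonzero vector is orthogonal to two given
vectors. -/
theorem exists_ne_zero_perp_two (X : Submodule F (Fin m ⊕ Fin m → F)) (hX : 3 ≤ finrank F X)
    (p q : Fin m ⊕ Fin m → F) :
    ∃ x ∈ X, x ≠ 0 ∧ Cfsg.sympForm m F x p = 0 ∧ Cfsg.sympForm m F x q = 0 := by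
  let L : X →ₗ[F] F × F :=
    (((sympB (F := F) m).flip p).prod ((sympB (F := F) m).flip q)).comp X.subtype
  have hker : LinearMap.ker L ≠ ⊥ := by
    apply LinearMap.ker_ne_bot_of_finrank_lt
    rw [Module.finrank_prod, Module.finrank_self]
    omega
  obtain ⟨x, hx, hx0⟩ := (LinearMap.ker L).exists_mem_ne_zero_of_ne_bot hker
  rw [LinearMap.mem_ker] at hx
  have h1 : sympB (F := F) m (x : Fin m ⊕ Fin m → F) p = 0 := congrArg Prod.fst hx
  have h2 : sympB (F := F) m (x : Fin m ⊕ Fin m → F) q = 0 := congrArg Prod.snd hx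
  rw [sympB_apply] at h1 h2
  exact ⟨x, x.2, fun h => hx0 (Subtype.ext h), h1, h2⟩

/-- Key rigidity lemma: if `M` has no transvection with direction in `B`, two Lagrangian pairs
sharing a vector `a` have the same partner vectors orthogonal to `a`. -/
theorem LagPair.star (h2 : (2 : F) ≠ 0) (hA : LagPair m M A A') (hB : LagPair m M B B')
    (hno : ∀ a ∈ B, a ∈ tvSet m M → a = 0) (a : Fin m ⊕ Fin m → F) (haA : a ∈ A) (haB : a ∈ B)
    (ha0 : a ≠ 0) (b' : Fin m ⊕ Fin m → F) (hb' : b' ∈ A')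
    (hab' : Cfsg.sympForm m F a b' = 0) : b' ∈ B' := by
  have hrootA : ∀ μ : F, rootElt m a (μ • b') ∈ M := hA.base_smul a haA b' hb' hab'
  -- `b'` is orthogonal to `B' ∩ a^⊥`
  have horth : ∀ b ∈ B', Cfsg.sympForm m F a b = 0 → Cfsg.sympForm m F b' b = 0 := by
    intro b hb hab
    by_contra hne
    exact ha0 (hno a haB (tv_of_root_pair m h2 M a b b' hab hab'
      (hB.base_smul a haB b hb hab) (by have := hrootA 1; rwa [one_smul] at this) hne))
  obtain ⟨c1, hc1, c2, hc2, hc⟩ := hB.sum b'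
  -- the `B`-component is a multiple of `a`
  have hc1span : c1 ∈ Submodule.span F {a} := by
    by_contra hns
    obtain ⟨b, hb, hab, hne⟩ := hB.exists_perp_pair a c1 haB hc1 hns
    apply hne
    have := horth b hb hab
    rw [← hc, Helper13.sympForm_add_left, hB.iso' c2 hc2 b hb, add_zero] at this
    exact this
  obtain ⟨l, hl⟩ := Submodule.mem_span_singleton.mp hc1span
  have hac2 : Cfsg.sympForm m F a c2 = 0 := by
    have := hab'
    rw [← hc, Helper13.sympForm_add_right, hB.iso a haB c1 hc1, zero_add] at this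
    exact this
  by_cases hl0 : l = 0
  · rw [hl0, zero_smul] at hl
    rw [← hc, ← hl, zero_add]
    exact hc2
  · exfalso
    apply ha0
    apply hno a haB
    apply tv_of_root_shift m h2 M a c2 l hl0 hac2 (hB.base_smul a haB c2 hc2 hac2)
    intro μ
    have : c2 + l • a = b' := by rw [hl, add_comm]; exact hc
    rw [this]
    exact hrootA μ

/-- Rigidity: if `M` has no transvections with directions in the four subspaces, two Lagrangian
pairs whose first members meet nontrivially coincide. -/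
theorem LagPair.eq_of_meet (h2 : (2 : F) ≠ 0) (hA : LagPair m M A A') (hB : LagPair m M B B')
    (hnoA : ∀ a ∈ A, a ∈ tvSet m M → a = 0) (hnoA' : ∀ a ∈ A', a ∈ tvSet m M → a = 0)
    (hnoB : ∀ a ∈ B, a ∈ tvSet m M → a = 0) (hnoB' : ∀ a ∈ B', a ∈ tvSet m M → a = 0)
    (a : Fin m ⊕ Fin m → F) (haA : a ∈ A) (haB : a ∈ B) (ha0 : a ≠ 0) : A = B ∧ A' = B' := by
  have hAB : A ≤ B := by
    intro x hx
    obtain ⟨b, hb, hb0, hba, hbx⟩ := exists_ne_zero_perp_two A' hA.dim' a x
    have hab : Cfsg.sympForm m F a b = 0 := by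
      rw [Helper13.sympForm_swap, hba, neg_zero]
    have hbB' : b ∈ B' := hA.star h2 hB hnoB a haA haB ha0 b hb hab
    exact hA.symm.star h2 hB.symm hnoB' b hb hbB' hb0 x hx hbx
  have hBA : B ≤ A := by
    intro x hx
    obtain ⟨b, hb, hb0, hba, hbx⟩ := exists_ne_zero_perp_two B' hB.dim' a x
    have hab : Cfsg.sympForm m F a b = 0 := by
      rw [Helper13.sympForm_swap, hba, neg_zero]
    have hbA' : b ∈ A' := hB.star h2 hA hnoA a haB haA ha0 b hb hab
    exact hB.symm.star h2 hA.symm hnoA' b hb hbA' hb0 x hx hbx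
  have hAeq : A = B := le_antisymm hAB hBA
  refine ⟨hAeq, le_antisymm ?_ ?_⟩
  · intro b' hb'
    obtain ⟨a', ha', ha'0, hab, _⟩ := exists_ne_zero_perp_two A hA.dim b' b'
    exact hA.star h2 hB hnoB a' ha' (hAB ha') ha'0 b' hb' hab
  · intro b' hb'
    obtain ⟨a', ha', ha'0, hab, _⟩ := exists_ne_zero_perp_two B hB.dim b' b'
    exact hB.star h2 hA hnoA a' ha' (hBA ha') ha'0 b' hb' hab

end sppair2

end Cfsg.Agent.Lib.Helper99
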