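import Cfsg.Agent.Lib.Helper99.SpPair2

set_option autoImplicit false

/-!
Stabilizer of a pair of complementary Lagrangians in the symplectic group: an overgroup without
transvections stabilizes the pair.
-/

namespace Cfsg.Agent.Lib.Helper99

open Matrix Module

section sppair3

variable {F : Type*} [Field F] {m : ℕ}
variable (D : Fin 2 → Submodule F (Fin m ⊕ Fin m → F))

theorem pair_sum (hD : Cfsg.Geo.IsMDecomposition m D) (x : Fin m ⊕ Fin m → F) :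
    ∃ x1 ∈ D 0, ∃ x2 ∈ D 1, x1 + x2 = x := by
  have hx : x ∈ ⨆ i, D i := by
    rw [hD.iSup_eq_top]
    trivial
  refine Submodule.iSup_induction D
    (motive := fun x => ∃ x1 ∈ D 0, ∃ x2 ∈ D 1, x1 + x2 = x) hx ?_ ?_ ?_
  · intro i x hx
    fin_cases i
    · exact ⟨x, hx, 0, Submodule.zero_mem _, add_zero x⟩
    · exact ⟨0, Submodule.zero_mem _, x, hx, zero_add x⟩
  · exact ⟨0, Submodule.zero_mem _, 0, Submodule.zero_mem _, add_zero 0⟩
  · rintro x y ⟨x1, hx1, x2, hx2, rfl⟩ ⟨y1, hy1, y2, hy2, rfl⟩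
    exact ⟨x1 + y1, (D 0).add_mem hx1 hy1, x2 + y2, (D 1).add_mem hx2 hy2, by abel⟩

theorem rootElt_mem_pairStab (hts : ∀ i, Cfsg.Geo.IsTotallySingularFor (Cfsg.sympForm m F) (D i))
    (a b : Fin m ⊕ Fin m → F) (ha : a ∈ D 0) (hb : b ∈ D 1)
    (hab : Cfsg.sympForm m F a b = 0) :
    rootElt m a b ∈ Cfsg.Geo.decompositionStabilizer D ⊓ Cfsg.spGL m F := by
  refine ⟨mem_decompositionStabilizer_of_forall m D _ (fun i => ?_), rootElt_mem_spGL m a b⟩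
  apply mem_subspaceStabilizer_of_forall
  intro x hx
  rw [rootElt_mulVec m a b hab]
  fin_cases i
  · have h0 : Cfsg.sympForm m F x a = 0 := hts 0 x hx a ha
    rw [h0, zero_smul, add_zero]
    exact (D 0).add_mem hx ((D 0).smul_mem _ ha)
  · have h0 : Cfsg.sympForm m F x b = 0 := hts 1 x hx b hb
    rw [h0, zero_smul, add_zero]
    exact (D 1).add_mem hx ((D 1).smul_mem _ hb)

theorem basePair (hD : Cfsg.Geo.IsMDecomposition m D)
    (hts : ∀ i, Cfsg.Geo.IsTotallySingularFor (Cfsg.sympForm m F) (D i)) (hm : 3 ≤ m)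
    (M : Subgroup (GL (Fin m ⊕ Fin m) F))
    (hHM : Cfsg.Geo.decompositionStabilizer D ⊓ Cfsg.spGL m F ≤ M) :
    LagPair m M (D 0) (D 1) where
  iso := hts 0
  iso' := hts 1
  sum := pair_sum D hD
  dim := by rw [hD.finrank_eq]; exact hm
  dim' := by rw [hD.finrank_eq]; exact hm
  base := fun a ha b hb hab => hHM (rootElt_mem_pairStab D hts a b ha hb hab)

theorem notv_map (M : Subgroup (GL (Fin m ⊕ Fin m) F)) (hMS : M ≤ Cfsg.spGL m F)
    (A : Submodule F (Fin m ⊕ Fin m → F)) (hno : ∀ a ∈ A, a ∈ tvSet m M → a = 0)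
    (g : GL (Fin m ⊕ Fin m) F) (hg : g ∈ M) :
    ∀ a ∈ A.map (Matrix.toLin' (g : Matrix (Fin m ⊕ Fin m) (Fin m ⊕ Fin m) F)),
      a ∈ tvSet m M → a = 0 := by
  rintro _ ⟨a, ha, rfl⟩ hT
  rw [Matrix.toLin'_apply] at hT ⊢
  have h1 := tvSet_map m M hMS g⁻¹ (M.inv_mem hg) _ hT
  rw [inv_mulVec_mulVec] at h1
  rw [hno a ha h1, mulVec_zero]

/-- An overgroup of the stabilizer of the pair that contains no transvection with direction in
`D 0` or `D 1` stabilizes the pair. -/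
theorem mem_pairStab_of_no_tv (h2 : (2 : F) ≠ 0) (hD : Cfsg.Geo.IsMDecomposition m D)
    (hts : ∀ i, Cfsg.Geo.IsTotallySingularFor (Cfsg.sympForm m F) (D i)) (hm : 3 ≤ m)
    (M : Subgroup (GL (Fin m ⊕ Fin m) F))
    (hHM : Cfsg.Geo.decompositionStabilizer D ⊓ Cfsg.spGL m F ≤ M) (hMS : M ≤ Cfsg.spGL m F)
    (hno0 : ∀ a ∈ D 0, a ∈ tvSet m M → a = 0) (hno1 : ∀ a ∈ D 1, a ∈ tvSet m M → a = 0)
    (g : GL (Fin m ⊕ Fin m) F) (hg : g ∈ M) : g ∈ Cfsg.Geo.decompositionStabilizer D := by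
  classical
  have P := basePair D hD hts hm M hHM
  have Q := P.map hMS g hg
  set X := (D 0).map (Matrix.toLin' (g : Matrix (Fin m ⊕ Fin m) (Fin m ⊕ Fin m) F)) with hX
  set X' := (D 1).map (Matrix.toLin' (g : Matrix (Fin m ⊕ Fin m) (Fin m ⊕ Fin m) F)) with hX'
  have hnoX : ∀ a ∈ X, a ∈ tvSet m M → a = 0 := notv_map M hMS (D 0) hno0 g hg
  have hnoX' : ∀ a ∈ X', a ∈ tvSet m M → a = 0 := notv_map M hMS (D 1) hno1 g hg
  have hid : X = D 0 → X' = D 1 → g ∈ Cfsg.Geo.decompositionStabilizer D := by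
    intro h0 h1
    refine ⟨1, fun i => ?_⟩
    fin_cases i
    · exact h0
    · exact h1
  have hsw : X = D 1 → X' = D 0 → g ∈ Cfsg.Geo.decompositionStabilizer D := by
    intro h0 h1
    refine ⟨Equiv.swap 0 1, fun i => ?_⟩
    fin_cases i
    · show X = D (Equiv.swap 0 1 0)
      rw [Equiv.swap_apply_left]
      exact h0
    · show X' = D (Equiv.swap 0 1 1)
      rw [Equiv.swap_apply_right]
      exact h1
  by_cases c1 : ∃ a, a ≠ 0 ∧ a ∈ X ∧ a ∈ D 0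
  · obtain ⟨a, ha0, haX, haD⟩ := c1
    obtain ⟨e1, e2⟩ := Q.eq_of_meet h2 P hnoX hnoX' hno0 hno1 a haX haD ha0
    exact hid e1 e2
  by_cases c2 : ∃ a, a ≠ 0 ∧ a ∈ X ∧ a ∈ D 1
  · obtain ⟨a, ha0, haX, haD⟩ := c2
    obtain ⟨e1, e2⟩ := Q.eq_of_meet h2 P.symm hnoX hnoX' hno1 hno0 a haX haD ha0
    exact hsw e1 e2
  by_cases c3 : ∃ a, a ≠ 0 ∧ a ∈ X' ∧ a ∈ D 0
  · obtain ⟨a, ha0, haX, haD⟩ := c3
    obtain ⟨e1, e2⟩ := Q.symm.eq_of_meet h2 P hnoX' hnoX hno0 hno1 a haX haD ha0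
    exact hsw e2 e1
  by_cases c4 : ∃ a, a ≠ 0 ∧ a ∈ X' ∧ a ∈ D 1
  · obtain ⟨a, ha0, haX, haD⟩ := c4
    obtain ⟨e1, e2⟩ := Q.symm.eq_of_meet h2 P.symm hnoX' hnoX hno1 hno0 a haX haD ha0
    exact hid e2 e1
  -- generic position: contradiction
  exfalso
  push Not at c1 c2
  obtain ⟨x, hxX, hx0, _, _⟩ := exists_ne_zero_perp_two X Q.dim 0 0
  obtain ⟨x1, hx1, x2, hx2, hx12⟩ := P.sum x
  have hx10 : x1 ≠ 0 := by
    rintro rfl
    rw [zero_add] at hx12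
    exact c2 x hx0 hxX (hx12 ▸ hx2)
  obtain ⟨b, hb, hx1b⟩ := P.exists_pair x1 hx1 hx10
  obtain ⟨a, ha, ha0, hax2, hab⟩ := exists_ne_zero_perp_two (D 0) P.dim x2 b
  have hroot : rootElt m a b ∈ M := P.base a ha b hb hab
  have hxa : Cfsg.sympForm m F x a = 0 := by
    rw [← hx12, Helper13.sympForm_add_left, P.iso x1 hx1 a ha, zero_add,
      Helper13.sympForm_swap, hax2, neg_zero]
  have hxb : Cfsg.sympForm m F x b = Cfsg.sympForm m F x1 b := by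
    rw [← hx12, Helper13.sympForm_add_left, P.iso' x2 hx2 b hb, add_zero]
  have R := Q.map hMS (rootElt m a b) hroot
  obtain ⟨x', hx'X, hx'0, hx'a, hx'b⟩ := exists_ne_zero_perp_two X Q.dim a b
  have hfix : ((rootElt m a b : GL (Fin m ⊕ Fin m) F) :
      Matrix (Fin m ⊕ Fin m) (Fin m ⊕ Fin m) F) *ᵥ x' = x' := by
    rw [rootElt_mulVec m a b hab, hx'a, hx'b, zero_smul, zero_smul, add_zero, add_zero]
  have hx'Y : x' ∈ X.map (Matrix.toLin' ((rootElt m a b : GL (Fin m ⊕ Fin m) F) :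
      Matrix (Fin m ⊕ Fin m) (Fin m ⊕ Fin m) F)) :=
    ⟨x', hx'X, by rw [Matrix.toLin'_apply, hfix]⟩
  obtain ⟨e1, _⟩ := R.eq_of_meet h2 Q (notv_map M hMS X hnoX _ hroot)
    (notv_map M hMS X' hnoX' _ hroot) hnoX hnoX' x' hx'Y hx'X hx'0
  have hhx : ((rootElt m a b : GL (Fin m ⊕ Fin m) F) :
      Matrix (Fin m ⊕ Fin m) (Fin m ⊕ Fin m) F) *ᵥ x ∈ X := by
    rw [← e1]
    exact ⟨x, hxX, by rw [Matrix.toLin'_apply]⟩
  rw [rootElt_mulVec m a b hab, hxa, zero_smul, add_zero, hxb] at hhx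
  have h3 : Cfsg.sympForm m F x1 b • a ∈ X := by
    have : Cfsg.sympForm m F x1 b • a = (x + Cfsg.sympForm m F x1 b • a) - x := by abel
    rw [this]
    exact X.sub_mem hhx hxX
  have h4 : a ∈ X := by
    have : a = (Cfsg.sympForm m F x1 b)⁻¹ • (Cfsg.sympForm m F x1 b • a) := by
      rw [smul_smul, inv_mul_cancel₀ hx1b, one_smul]
    rw [this]
    exact X.smul_mem _ h3
  exact c1 a ha0 h4 ha

end sppair3

end Cfsg.Agent.Lib.Helper99
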