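import Cfsg.Agent.Lib.Helper99.SpPair3

set_option autoImplicit false

/-!
Stabilizer of a pair of complementary Lagrangians in the symplectic group: the swap, spreading
transvections, and the main theorem.
-/

namespace Cfsg.Agent.Lib.Helper99

open Matrix Module

section sppair4

variable {F : Type*} [Field F] {m : ℕ}
variable (D : Fin 2 → Submodule F (Fin m ⊕ Fin m → F))

theorem pair_disjoint (hts : ∀ i, Cfsg.Geo.IsTotallySingularFor (Cfsg.sympForm m F) (D i))
    (hD : Cfsg.Geo.IsMDecomposition m D) (x : Fin m ⊕ Fin m → F) (h0 : x ∈ D 0) (h1 : x ∈ D 1) :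
    x = 0 := by
  by_contra hx
  obtain ⟨y, hy⟩ := Helper13.exists_sympForm_ne_zero m x hx
  obtain ⟨y1, hy1, y2, hy2, rfl⟩ := pair_sum D hD y
  apply hy
  rw [Helper13.sympForm_add_right, hts 0 x h0 y1 hy1, hts 1 x h1 y2 hy2, add_zero]

theorem pair_isCompl (hts : ∀ i, Cfsg.Geo.IsTotallySingularFor (Cfsg.sympForm m F) (D i))
    (hD : Cfsg.Geo.IsMDecomposition m D) : IsCompl (D 0) (D 1) := by
  constructor
  · rw [Submodule.disjoint_def]
    exact fun x h0 h1 => pair_disjoint D hts hD x h0 h1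
  · rw [codisjoint_iff, eq_top_iff]
    intro x _
    obtain ⟨x1, hx1, x2, hx2, rfl⟩ := pair_sum D hD x
    exact Submodule.add_mem_sup hx1 hx2

/-- An isometry interchanging the two Lagrangians. -/
theorem exists_swap (hts : ∀ i, Cfsg.Geo.IsTotallySingularFor (Cfsg.sympForm m F) (D i))
    (hD : Cfsg.Geo.IsMDecomposition m D) :
    ∃ s : GL (Fin m ⊕ Fin m) F, s ∈ Cfsg.spGL m F ∧
      (D 0).map (Matrix.toLin' (s : Matrix (Fin m ⊕ Fin m) (Fin m ⊕ Fin m) F)) = D 1 ∧
      (D 1).map (Matrix.toLin' (s : Matrix (Fin m ⊕ Fin m) (Fin m ⊕ Fin m) F)) = D 0 := by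
  classical
  have hcompl := pair_isCompl D hts hD
  let e : Basis (Fin m) F (D 0) := Module.finBasisOfFinrankEq F (D 0) (hD.finrank_eq 0)
  let ψ : D 1 →ₗ[F] Module.Dual F (D 0) := (sympB (F := F) m).flip.domRestrict₁₂ (D 1) (D 0)
  have hψ : ∀ (y : D 1) (x : D 0), ψ y x =
      Cfsg.sympForm m F (x : Fin m ⊕ Fin m → F) (y : Fin m ⊕ Fin m → F) := by
    intro y x
    simp only [ψ, LinearMap.domRestrict₁₂_apply, LinearMap.flip_apply]
    exact sympB_apply m _ _
  have hψinj : Function.Injective ψ := by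
    rw [← LinearMap.ker_eq_bot, LinearMap.ker_eq_bot']
    intro y hy
    apply Subtype.ext
    by_contra hy0
    obtain ⟨z, hz⟩ := Helper13.exists_sympForm_ne_zero m (y : Fin m ⊕ Fin m → F) hy0
    obtain ⟨z1, hz1, z2, hz2, rfl⟩ := pair_sum D hD z
    apply hz
    rw [Helper13.sympForm_add_right, hts 1 _ y.2 z2 hz2, add_zero, Helper13.sympForm_swap]
    have := hψ y ⟨z1, hz1⟩
    rw [hy, LinearMap.zero_apply] at this
    rw [← this, neg_zero]
  have hdim : finrank F (D 1) = finrank F (Module.Dual F (D 0)) := by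
    rw [Subspace.dual_finrank_eq, hD.finrank_eq, hD.finrank_eq]
  let ψe : D 1 ≃ₗ[F] Module.Dual F (D 0) := LinearMap.linearEquivOfInjective ψ hψinj hdim
  let f' : Basis (Fin m) F (D 1) := e.dualBasis.map ψe.symm
  have hef : ∀ i j, Cfsg.sympForm m F ((e i : D 0) : Fin m ⊕ Fin m → F)
      ((f' j : D 1) : Fin m ⊕ Fin m → F) = if i = j then 1 else 0 := by
    intro i j
    rw [← hψ]
    have h1 : ψ (f' j) = e.dualBasis j := by
      show ψe (f' j) = _
      simp only [f', Basis.map_apply, LinearEquiv.apply_symm_apply]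
    rw [h1, Basis.dualBasis_apply_self]
  let α : D 0 ≃ₗ[F] D 1 := e.equiv f' (Equiv.refl _)
  have hα : ∀ i, α (e i) = f' i := fun i => by
    simp only [α, Basis.equiv_apply, Equiv.refl_apply]
  -- symmetry of `α`
  have hsymm : ∀ x y : D 0, Cfsg.sympForm m F (x : Fin m ⊕ Fin m → F) (α y : D 1) =
      Cfsg.sympForm m F (y : Fin m ⊕ Fin m → F) (α x : D 1) := by
    let B₁ : D 0 →ₗ[F] D 0 →ₗ[F] F :=
      ((sympB (F := F) m).domRestrict₁₂ (D 0) (D 1)).compl₂ α.toLinearMap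
    have hB : B₁ = B₁.flip := by
      apply LinearMap.ext_basis e e
      intro i j
      simp only [B₁, LinearMap.compl₂_apply, LinearMap.domRestrict₁₂_apply, LinearMap.flip_apply,
        LinearEquiv.coe_coe, hα, sympB_apply, hef]
      by_cases h : i = j
      · rw [if_pos h, if_pos h.symm]
      · rw [if_neg h, if_neg (Ne.symm h)]
    intro x y
    have := congrArg (fun B => B x y) hB
    simp only [B₁, LinearMap.compl₂_apply, LinearMap.domRestrict₁₂_apply, LinearMap.flip_apply,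
      LinearEquiv.coe_coe, sympB_apply] at this
    exact this
  let s : (Fin m ⊕ Fin m → F) →ₗ[F] (Fin m ⊕ Fin m → F) :=
    LinearMap.ofIsCompl hcompl ((D 1).subtype ∘ₗ α.toLinearMap)
      (-((D 0).subtype ∘ₗ α.symm.toLinearMap))
  have hs0 : ∀ x : D 0, s (x : Fin m ⊕ Fin m → F) = (α x : D 1) := by
    intro x
    simp only [s, LinearMap.ofIsCompl_apply_left, LinearMap.comp_apply, LinearEquiv.coe_coe,
      Submodule.subtype_apply]
  have hs1 : ∀ y : D 1, s (y : Fin m ⊕ Fin m → F) = -((α.symm y : D 0) : Fin m ⊕ Fin m → F) := by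
    intro y
    simp only [s, LinearMap.ofIsCompl_apply_right, LinearMap.neg_apply, LinearMap.comp_apply,
      LinearEquiv.coe_coe, Submodule.subtype_apply]
  have hsiso : ∀ u v, Cfsg.sympForm m F (s u) (s v) = Cfsg.sympForm m F u v := by
    intro u v
    obtain ⟨u0, hu0, u1, hu1, rfl⟩ := pair_sum D hD u
    obtain ⟨v0, hv0, v1, hv1, rfl⟩ := pair_sum D hD v
    have e1 := hs0 ⟨u0, hu0⟩
    have e2 := hs1 ⟨u1, hu1⟩
    have e3 := hs0 ⟨v0, hv0⟩
    have e4 := hs1 ⟨v1, hv1⟩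
    simp only at e1 e2 e3 e4
    rw [map_add, map_add, e1, e2, e3, e4]
    simp only [Helper13.sympForm_add_left, Helper13.sympForm_add_right]
    have z1 : Cfsg.sympForm m F ((α ⟨u0, hu0⟩ : D 1) : Fin m ⊕ Fin m → F)
        ((α ⟨v0, hv0⟩ : D 1) : Fin m ⊕ Fin m → F) = 0 := hts 1 _ (α _).2 _ (α _).2
    have z2 : Cfsg.sympForm m F (-((α.symm ⟨u1, hu1⟩ : D 0) : Fin m ⊕ Fin m → F))
        (-((α.symm ⟨v1, hv1⟩ : D 0) : Fin m ⊕ Fin m → F)) = 0 :=
      hts 0 _ ((D 0).neg_mem (α.symm _).2) _ ((D 0).neg_mem (α.symm _).2)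
    have z3 : Cfsg.sympForm m F u0 v0 = 0 := hts 0 _ hu0 _ hv0
    have z4 : Cfsg.sympForm m F u1 v1 = 0 := hts 1 _ hu1 _ hv1
    -- cross terms
    have c1 : Cfsg.sympForm m F ((α ⟨u0, hu0⟩ : D 1) : Fin m ⊕ Fin m → F)
        (-((α.symm ⟨v1, hv1⟩ : D 0) : Fin m ⊕ Fin m → F)) = Cfsg.sympForm m F u0 v1 := by
      have h1 := hsymm (α.symm ⟨v1, hv1⟩) ⟨u0, hu0⟩
      rw [LinearEquiv.apply_symm_apply] at h1
      rw [← neg_one_smul F ((α.symm ⟨v1, hv1⟩ : D 0) : Fin m ⊕ Fin m → F),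
        Helper13.sympForm_smul_right, Helper13.sympForm_swap, h1]
      ring
    have c2 : Cfsg.sympForm m F (-((α.symm ⟨u1, hu1⟩ : D 0) : Fin m ⊕ Fin m → F))
        ((α ⟨v0, hv0⟩ : D 1) : Fin m ⊕ Fin m → F) = Cfsg.sympForm m F u1 v0 := by
      have h1 := hsymm (α.symm ⟨u1, hu1⟩) ⟨v0, hv0⟩
      rw [LinearEquiv.apply_symm_apply] at h1
      rw [← neg_one_smul F ((α.symm ⟨u1, hu1⟩ : D 0) : Fin m ⊕ Fin m → F),
        Helper13.sympForm_smul_left, h1, Helper13.sympForm_swap]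
      ring
    rw [z1, z2, z3, z4, c1, c2]
  have hsinj : Function.Injective s := by
    rw [← LinearMap.ker_eq_bot, LinearMap.ker_eq_bot']
    intro u hu
    by_contra hu0
    obtain ⟨y, hy⟩ := Helper13.exists_sympForm_ne_zero m u hu0
    apply hy
    rw [← hsiso, hu, Helper13.sympForm_zero_left]
  let se : (Fin m ⊕ Fin m → F) ≃ₗ[F] (Fin m ⊕ Fin m → F) := LinearEquiv.ofInjectiveEndo s hsinj
  have hse : ∀ x, se x = s x := fun x => rfl
  refine ⟨glOfEquiv m se, ?_, ?_, ?_⟩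
  · rw [mem_spGL_iff]
    intro u v
    rw [glOfEquiv_mulVec, glOfEquiv_mulVec, hse, hse]
    exact hsiso u v
  · apply Submodule.eq_of_le_of_finrank_eq
    · rintro _ ⟨x, hx, rfl⟩
      rw [Matrix.toLin'_apply, glOfEquiv_mulVec, hse]
      have := hs0 ⟨x, hx⟩
      simp only at this
      rw [this]
      exact (α _).2
    · rw [finrank_map_GL, hD.finrank_eq, hD.finrank_eq]
  · apply Submodule.eq_of_le_of_finrank_eq
    · rintro _ ⟨x, hx, rfl⟩
      rw [Matrix.toLin'_apply, glOfEquiv_mulVec, hse]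
      have := hs1 ⟨x, hx⟩
      simp only at this
      rw [this]
      exact (D 0).neg_mem (α.symm _).2
    · rw [finrank_map_GL, hD.finrank_eq, hD.finrank_eq]

end sppair4

end Cfsg.Agent.Lib.Helper99
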