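import Cfsg.Agent.Lib.Helper99.SpPair4

set_option autoImplicit false

/-!
Stabilizer of a pair of complementary Lagrangians in the symplectic group: main theorem.
-/

namespace Cfsg.Agent.Lib.Helper99

open Matrix Module

section sppair5

variable {F : Type*} [Field F] {m : ℕ}

/-- Spreading: a transvection direction in `A` gives all transvections. -/
theorem LagPair.tvSet_eq_univ {M : Subgroup (GL (Fin m ⊕ Fin m) F)}
    {A A' : Submodule F (Fin m ⊕ Fin m → F)} (P : LagPair m M A A') (hMS : M ≤ Cfsg.spGL m F)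
    (s : GL (Fin m ⊕ Fin m) F) (hsM : s ∈ M)
    (hsA : A.map (Matrix.toLin' (s : Matrix (Fin m ⊕ Fin m) (Fin m ⊕ Fin m) F)) = A')
    (a₀ : Fin m ⊕ Fin m → F) (ha₀ : a₀ ∈ A) (ha₀0 : a₀ ≠ 0) (hT : a₀ ∈ tvSet m M) :
    ∀ u, u ∈ tvSet m M := by
  -- all of `A`
  have hA : ∀ y ∈ A, y ∈ tvSet m M := by
    intro y hy
    by_cases hys : y ∈ Submodule.span F {a₀}
    · obtain ⟨c, rfl⟩ := Submodule.mem_span_singleton.mp hys
      exact tvSet_smul m M c a₀ hT
    · have hv : y - a₀ ∈ A := A.sub_mem hy ha₀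
      have hns : a₀ ∉ Submodule.span F {y - a₀} := by
        intro h
        obtain ⟨c, hc⟩ := Submodule.mem_span_singleton.mp h
        have hc0 : c ≠ 0 := by
          rintro rfl
          rw [zero_smul] at hc
          exact ha₀0 hc.symm
        apply hys
        rw [Submodule.mem_span_singleton]
        refine ⟨(1 + c) / c, ?_⟩
        have h1 : c • y = (1 + c) • a₀ := by
          have : c • y = c • (y - a₀) + c • a₀ := by module
          rw [this, hc]
          module
        have h2 : y = c⁻¹ • (c • y) := by rw [smul_smul, inv_mul_cancel₀ hc0, one_smul]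
        rw [h2, h1, smul_smul]
        congr 1
        field_simp
      obtain ⟨b, hb, hvb, hab⟩ := P.exists_perp_pair (y - a₀) a₀ hv ha₀ hns
      have hb1 : (Cfsg.sympForm m F a₀ b)⁻¹ • b ∈ A' := A'.smul_mem _ hb
      have hvb1 : Cfsg.sympForm m F (y - a₀) ((Cfsg.sympForm m F a₀ b)⁻¹ • b) = 0 := by
        rw [Helper13.sympForm_smul_right, hvb, mul_zero]
      have hroot := P.base (y - a₀) hv _ hb1 hvb1
      have h3 := tvSet_map m M hMS _ hroot a₀ hT
      rw [rootElt_mulVec m _ _ hvb1, Helper13.sympForm_smul_right, inv_mul_cancel₀ hab, one_smul,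
        P.iso a₀ ha₀ (y - a₀) hv, zero_smul, add_zero] at h3
      have : a₀ + (y - a₀) = y := by abel
      rw [this] at h3
      exact h3
  have hA' : ∀ y ∈ A', y ∈ tvSet m M := by
    intro y hy
    rw [← hsA] at hy
    obtain ⟨x, hx, rfl⟩ := hy
    rw [Matrix.toLin'_apply]
    exact tvSet_map m M hMS s hsM x (hA x hx)
  intro u
  obtain ⟨x1, hx1, x2, hx2, rfl⟩ := P.sum u
  by_cases h10 : x1 = 0
  · rw [h10, zero_add]
    exact hA' x2 hx2
  by_cases hne : Cfsg.sympForm m F x2 x1 ≠ 0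
  · exact tvSet_add m M hMS x1 x2 (hA x1 hx1) (hA' x2 hx2) hne
  · push Not at hne
    obtain ⟨y2, hy2, hxy⟩ := P.exists_pair x1 hx1 h10
    have hyx : Cfsg.sympForm m F y2 x1 ≠ 0 := by
      rw [Helper13.sympForm_swap]
      exact neg_ne_zero.mpr hxy
    have h1 : x1 + y2 ∈ tvSet m M := tvSet_add m M hMS x1 y2 (hA x1 hx1) (hA' y2 hy2) hyx
    have h2 : x2 - y2 ∈ tvSet m M := hA' _ (A'.sub_mem hx2 hy2)
    have h3 : Cfsg.sympForm m F (x2 - y2) (x1 + y2) ≠ 0 := by
      rw [Helper13.sympForm_sub_left, Helper13.sympForm_add_right, Helper13.sympForm_add_right,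
        hne, P.iso' x2 hx2 y2 hy2, P.iso' y2 hy2 y2 hy2, add_zero, add_zero, zero_sub]
      exact neg_ne_zero.mpr hyx
    have h4 := tvSet_add m M hMS _ _ h1 h2 h3
    have : x1 + y2 + (x2 - y2) = x1 + x2 := by abel
    rw [this] at h4
    exact h4

/-- The stabilizer of a pair of complementary totally isotropic subspaces of dimension `m ≥ 3` is
maximal in the symplectic group, in odd characteristic. -/
theorem pair_stabilizer_isMaximalIn (h2 : (2 : F) ≠ 0) (hm : 3 ≤ m)
    (D : Fin 2 → Submodule F (Fin m ⊕ Fin m → F)) (hD : Cfsg.Geo.IsMDecomposition m D)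
    (hts : ∀ i, Cfsg.Geo.IsTotallySingularFor (Cfsg.sympForm m F) (D i)) :
    Cfsg.Geo.IsMaximalIn (Cfsg.spGL m F)
      (Cfsg.Geo.decompositionStabilizer D ⊓ Cfsg.spGL m F) := by
  classical
  obtain ⟨s, hsS, hs0, hs1⟩ := exists_swap D hts hD
  have hsH : s ∈ Cfsg.Geo.decompositionStabilizer D ⊓ Cfsg.spGL m F := by
    refine ⟨⟨Equiv.swap 0 1, fun i => ?_⟩, hsS⟩
    fin_cases i
    · show _ = D (Equiv.swap 0 1 0)
      rw [Equiv.swap_apply_left]
      exact hs0
    · show _ = D (Equiv.swap 0 1 1)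
      rw [Equiv.swap_apply_right]
      exact hs1
  constructor
  · rw [lt_iff_le_and_ne]
    refine ⟨inf_le_right, fun heq => ?_⟩
    have P := basePair D hD hts hm _ (le_refl (Cfsg.Geo.decompositionStabilizer D ⊓ Cfsg.spGL m F))
    obtain ⟨a, ha, ha0, _, _⟩ := exists_ne_zero_perp_two (D 0) P.dim 0 0
    obtain ⟨b, hb, hab⟩ := P.exists_pair a ha ha0
    have hba : Cfsg.sympForm m F b a ≠ 0 := by
      rw [Helper13.sympForm_swap]
      exact neg_ne_zero.mpr hab
    have h1 : stv m a 1 ∈ Cfsg.spGL m F := stv_mem_spGL m a 1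
    rw [← heq] at h1
    obtain ⟨σ, hσ⟩ := h1.1
    have h3 : ((stv m a 1 : GL (Fin m ⊕ Fin m) F) :
        Matrix (Fin m ⊕ Fin m) (Fin m ⊕ Fin m) F) *ᵥ b ∈ D (σ 1) := by
      rw [← hσ 1]
      exact ⟨b, hb, by rw [Matrix.toLin'_apply]⟩
    rw [stv_mulVec, one_mul] at h3
    have hcases : σ 1 = 0 ∨ σ 1 = 1 := by
      generalize σ 1 = j
      fin_cases j
      · left; rfl
      · right; rfl
    rcases hcases with h | h
    · rw [h] at h3
      have hb0 : b ∈ D 0 := by
        have : b = (b + Cfsg.sympForm m F b a • a) - Cfsg.sympForm m F b a • a := by abel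
        rw [this]
        exact (D 0).sub_mem h3 ((D 0).smul_mem _ ha)
      apply hab
      rw [pair_disjoint D hts hD b hb0 hb, Helper13.sympForm_zero_right]
    · rw [h] at h3
      have h4 : Cfsg.sympForm m F b a • a ∈ D 1 := by
        have : Cfsg.sympForm m F b a • a = (b + Cfsg.sympForm m F b a • a) - b := by abel
        rw [this]
        exact (D 1).sub_mem h3 hb
      have h5 : a ∈ D 1 := by
        have : a = (Cfsg.sympForm m F b a)⁻¹ • (Cfsg.sympForm m F b a • a) := by
          rw [smul_smul, inv_mul_cancel₀ hba, one_smul]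
        rw [this]
        exact (D 1).smul_mem _ h4
      exact ha0 (pair_disjoint D hts hD a ha h5)
  · intro M hHM hMS
    by_cases hMH : M ≤ Cfsg.Geo.decompositionStabilizer D ⊓ Cfsg.spGL m F
    · left
      exact le_antisymm hMH hHM
    · right
      obtain ⟨g, hgM, hgH⟩ := SetLike.not_le_iff_exists.mp hMH
      have hgD : g ∉ Cfsg.Geo.decompositionStabilizer D := fun h => hgH ⟨h, hMS hgM⟩
      have P := basePair D hD hts hm M hHM
      have hsM : s ∈ M := hHM hsH
      by_cases hT0 : ∃ a ∈ D 0, a ≠ 0 ∧ a ∈ tvSet m M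
      · obtain ⟨a, ha, ha0, haT⟩ := hT0
        exact eq_spGL_of_stv_mem m M hMS (P.tvSet_eq_univ hMS s hsM hs0 a ha ha0 haT)
      by_cases hT1 : ∃ a ∈ D 1, a ≠ 0 ∧ a ∈ tvSet m M
      · obtain ⟨a, ha, ha0, haT⟩ := hT1
        exact eq_spGL_of_stv_mem m M hMS (P.symm.tvSet_eq_univ hMS s hsM hs1 a ha ha0 haT)
      exfalso
      push Not at hT0 hT1
      apply hgD
      apply mem_pairStab_of_no_tv D h2 hD hts hm M hHM hMS _ _ g hgM
      · intro a ha hT
        by_contra h0
        exact hT0 a ha h0 hT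
      · intro a ha hT
        by_contra h0
        exact hT1 a ha h0 hT

end sppair5

end Cfsg.Agent.Lib.Helper99
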