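import Cfsg.Agent.Lib.Helper13.SympGen2
import Cfsg.Agent.Lib.Helper99.SLGen
import Cfsg.Prelude.Def_RootSubgroups

set_option autoImplicit false

/-!
Symplectic transvection subgroups `T(p)` as abstract root subgroups of `Sp_{2m}(F)`: basics.
-/

namespace Cfsg.Agent.Lib.Helper99.SpRoot

open Matrix Cfsg.Agent.Lib.Helper13

variable {F : Type*} [Field F] (m : ℕ)

theorem sp_ext {g h : Matrix.symplecticGroup (Fin m) F}
    (H : ∀ v : Fin m ⊕ Fin m → F, (g : Matrix (Fin m ⊕ Fin m) (Fin m ⊕ Fin m) F) *ᵥ v =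
      (h : Matrix (Fin m ⊕ Fin m) (Fin m ⊕ Fin m) F) *ᵥ v) : g = h :=
  Subtype.ext (Matrix.ext_iff_mulVec.mpr H)

theorem elt_mulVec (p : Fin m ⊕ Fin m → F) (c : F) (x : Fin m ⊕ Fin m → F) :
    ((sympTransvElt m p c : Matrix.symplecticGroup (Fin m) F) :
      Matrix (Fin m ⊕ Fin m) (Fin m ⊕ Fin m) F) *ᵥ x = x + (c * Cfsg.sympForm m F x p) • p := by
  rw [coe_sympTransvElt, sympTransvection_mulVec]

theorem sp_mul_mulVec (g h : Matrix.symplecticGroup (Fin m) F) (v : Fin m ⊕ Fin m → F) :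
    ((g * h : Matrix.symplecticGroup (Fin m) F) : Matrix (Fin m ⊕ Fin m) (Fin m ⊕ Fin m) F) *ᵥ v =
      (g : Matrix (Fin m ⊕ Fin m) (Fin m ⊕ Fin m) F) *ᵥ
        ((h : Matrix (Fin m ⊕ Fin m) (Fin m ⊕ Fin m) F) *ᵥ v) := by
  rw [Submonoid.coe_mul, mulVec_mulVec]

theorem sp_one_mulVec (v : Fin m ⊕ Fin m → F) :
    ((1 : Matrix.symplecticGroup (Fin m) F) : Matrix (Fin m ⊕ Fin m) (Fin m ⊕ Fin m) F) *ᵥ v = v := by
  rw [Submonoid.coe_one, one_mulVec]

theorem sp_inv_mulVec_mulVec (g : Matrix.symplecticGroup (Fin m) F) (v : Fin m ⊕ Fin m → F) :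
    ((g⁻¹ : Matrix.symplecticGroup (Fin m) F) : Matrix (Fin m ⊕ Fin m) (Fin m ⊕ Fin m) F) *ᵥ
      ((g : Matrix (Fin m ⊕ Fin m) (Fin m ⊕ Fin m) F) *ᵥ v) = v := by
  rw [← sp_mul_mulVec, inv_mul_cancel, sp_one_mulVec]

theorem sp_mulVec_inv_mulVec (g : Matrix.symplecticGroup (Fin m) F) (v : Fin m ⊕ Fin m → F) :
    (g : Matrix (Fin m ⊕ Fin m) (Fin m ⊕ Fin m) F) *ᵥ
      (((g⁻¹ : Matrix.symplecticGroup (Fin m) F) : Matrix (Fin m ⊕ Fin m) (Fin m ⊕ Fin m) F) *ᵥ v)
        = v := by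
  rw [← sp_mul_mulVec, mul_inv_cancel, sp_one_mulVec]

theorem sp_preserves (g : Matrix.symplecticGroup (Fin m) F) (u v : Fin m ⊕ Fin m → F) :
    Cfsg.sympForm m F ((g : Matrix (Fin m ⊕ Fin m) (Fin m ⊕ Fin m) F) *ᵥ u)
      ((g : Matrix (Fin m ⊕ Fin m) (Fin m ⊕ Fin m) F) *ᵥ v) = Cfsg.sympForm m F u v :=
  preserves_of_mem_symplectic m _ g.2 u v

theorem elt_mul (p : Fin m ⊕ Fin m → F) (c d : F) :
    sympTransvElt m p c * sympTransvElt m p d = sympTransvElt m p (c + d) :=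
  Subtype.ext (sympTransvection_mul m p c d)

theorem elt_zero (p : Fin m ⊕ Fin m → F) : sympTransvElt m p (0 : F) = 1 :=
  Subtype.ext (sympTransvection_zero m p)

theorem elt_inv (p : Fin m ⊕ Fin m → F) (c : F) :
    (sympTransvElt m p c)⁻¹ = sympTransvElt m p (-c) := by
  rw [inv_eq_iff_mul_eq_one, elt_mul, add_neg_cancel, elt_zero]

theorem elt_smul (a : F) (p : Fin m ⊕ Fin m → F) (c : F) :
    sympTransvElt m (a • p) c = sympTransvElt m p (a * a * c) := by
  apply sp_ext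
  intro v
  rw [elt_mulVec, elt_mulVec, sympForm_smul_right, smul_smul]
  congr 2
  ring

theorem conj_elt (g : Matrix.symplecticGroup (Fin m) F) (p : Fin m ⊕ Fin m → F) (c : F) :
    g * sympTransvElt m p c * g⁻¹ =
      sympTransvElt m ((g : Matrix (Fin m ⊕ Fin m) (Fin m ⊕ Fin m) F) *ᵥ p) c := by
  apply sp_ext
  intro v
  rw [sp_mul_mulVec, sp_mul_mulVec, elt_mulVec, elt_mulVec, mulVec_add, mulVec_smul,
    sp_mulVec_inv_mulVec]
  congr 3
  rw [← sp_preserves m g, sp_mulVec_inv_mulVec]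

/-- `elt p c = 1` forces `c = 0` when `p ≠ 0`. -/
theorem elt_eq_one_iff (p : Fin m ⊕ Fin m → F) (hp : p ≠ 0) (c : F) :
    sympTransvElt m p c = 1 ↔ c = 0 := by
  constructor
  · intro h
    obtain ⟨a, ha⟩ := exists_sympForm_ne_zero m p hp
    have h1 := elt_mulVec m p c a
    rw [h, sp_one_mulVec] at h1
    have h2 : (c * Cfsg.sympForm m F a p) • p = 0 := by
      have := h1.symm
      rwa [add_eq_left] at this
    rcases smul_eq_zero.mp h2 with h3 | h3
    · rcases mul_eq_zero.mp h3 with h4 | h4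
      · exact h4
      · exfalso
        apply ha
        rw [sympForm_swap, h4, neg_zero]
    · exact absurd h3 hp
  · rintro rfl
    exact elt_zero m p

/-- The generating set of the statement. -/
def rootGen (p : Fin m ⊕ Fin m → F) : Set (Matrix.symplecticGroup (Fin m) F) :=
  {g | ∃ c : F, ∀ v : Fin m ⊕ Fin m → F,
    (g : Matrix (Fin m ⊕ Fin m) (Fin m ⊕ Fin m) F) *ᵥ v =
      v + (c * (v ⬝ᵥ (Matrix.J (Fin m) F *ᵥ p))) • p}

/-- The root subgroup `T(p)` of the statement. -/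
def root (p : Fin m ⊕ Fin m → F) : Subgroup (Matrix.symplecticGroup (Fin m) F) :=
  Subgroup.closure (rootGen m p)

/-- The set of root subgroups of the statement. -/
def rootSet (F : Type*) [Field F] (m : ℕ) : Set (Subgroup (Matrix.symplecticGroup (Fin m) F)) :=
  {A | ∃ p : Fin m ⊕ Fin m → F, p ≠ 0 ∧ A = root m p}

theorem mem_rootGen_iff (p : Fin m ⊕ Fin m → F) (g : Matrix.symplecticGroup (Fin m) F) :
    g ∈ rootGen m p ↔ ∃ c : F, g = sympTransvElt m p c := by
  constructor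
  · rintro ⟨c, hc⟩
    refine ⟨c, sp_ext m fun v => ?_⟩
    rw [hc, elt_mulVec, sympForm_def]
  · rintro ⟨c, rfl⟩
    refine ⟨c, fun v => ?_⟩
    rw [elt_mulVec, sympForm_def]

/-- The transvection subgroup as an explicit subgroup. -/
def tvSub (p : Fin m ⊕ Fin m → F) : Subgroup (Matrix.symplecticGroup (Fin m) F) where
  carrier := {g | ∃ c : F, g = sympTransvElt m p c}
  mul_mem' := by
    rintro _ _ ⟨c, rfl⟩ ⟨d, rfl⟩
    exact ⟨c + d, elt_mul m p c d⟩
  one_mem' := ⟨0, (elt_zero m p).symm⟩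
  inv_mem' := by
    rintro _ ⟨c, rfl⟩
    exact ⟨-c, elt_inv m p c⟩

theorem root_eq (p : Fin m ⊕ Fin m → F) : root m p = tvSub m p := by
  apply le_antisymm
  · rw [root, Subgroup.closure_le]
    intro g hg
    exact (mem_rootGen_iff m p g).mp hg
  · rintro g ⟨c, rfl⟩
    exact Subgroup.subset_closure ((mem_rootGen_iff m p _).mpr ⟨c, rfl⟩)

theorem mem_root_iff (p : Fin m ⊕ Fin m → F) (g : Matrix.symplecticGroup (Fin m) F) :
    g ∈ root m p ↔ ∃ c : F, g = sympTransvElt m p c := by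
  rw [root_eq]; rfl

theorem elt_mem_root (p : Fin m ⊕ Fin m → F) (c : F) : sympTransvElt m p c ∈ root m p :=
  (mem_root_iff m p _).mpr ⟨c, rfl⟩

theorem root_smul (a : F) (ha : a ≠ 0) (p : Fin m ⊕ Fin m → F) : root m (a • p) = root m p := by
  ext g
  rw [mem_root_iff, mem_root_iff]
  constructor
  · rintro ⟨c, rfl⟩
    exact ⟨a * a * c, elt_smul m a p c⟩
  · rintro ⟨c, rfl⟩
    refine ⟨c / (a * a), ?_⟩
    rw [elt_smul]
    congr 1
    field_simp

theorem conjBy_root (p : Fin m ⊕ Fin m → F) (g : Matrix.symplecticGroup (Fin m) F) :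
    Cfsg.conjBy (root m p) g =
      root m ((g : Matrix (Fin m ⊕ Fin m) (Fin m ⊕ Fin m) F) *ᵥ p) := by
  ext x
  rw [Cfsg.conjBy, Subgroup.mem_map, mem_root_iff]
  constructor
  · rintro ⟨a, ha, rfl⟩
    obtain ⟨c, rfl⟩ := (mem_root_iff m p a).mp ha
    exact ⟨c, conj_elt m g p c⟩
  · rintro ⟨c, rfl⟩
    exact ⟨sympTransvElt m p c, elt_mem_root m p c, conj_elt m g p c⟩

theorem root_commutative (p : Fin m ⊕ Fin m → F) : IsMulCommutative (root m p) := by
  refine ⟨⟨fun a b => ?_⟩⟩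
  obtain ⟨c, hc⟩ := (mem_root_iff m p a).mp a.2
  obtain ⟨d, hd⟩ := (mem_root_iff m p b).mp b.2
  apply Subtype.ext
  rw [Subgroup.coe_mul, Subgroup.coe_mul, hc, hd, elt_mul, elt_mul, add_comm]

theorem root_nilpotent (p : Fin m ⊕ Fin m → F) : Group.IsNilpotent (root m p) :=
  ⟨⟨1, Subgroup.upperCentralSeries_one_eq_top_iff.mpr (root_commutative m p)⟩⟩

theorem root_ne_bot (p : Fin m ⊕ Fin m → F) (hp : p ≠ 0) : root m p ≠ ⊥ := by
  intro h
  have h1 : sympTransvElt m p (1 : F) ∈ root m p := elt_mem_root m p 1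
  rw [h, Subgroup.mem_bot, elt_eq_one_iff m p hp] at h1
  exact one_ne_zero h1

theorem conj_mem_rootSet (A : Subgroup (Matrix.symplecticGroup (Fin m) F)) (hA : A ∈ rootSet F m)
    (g : Matrix.symplecticGroup (Fin m) F) : Cfsg.conjBy A g ∈ rootSet F m := by
  obtain ⟨p, hp, rfl⟩ := hA
  refine ⟨(g : Matrix (Fin m ⊕ Fin m) (Fin m ⊕ Fin m) F) *ᵥ p, ?_, conjBy_root m p g⟩
  intro h0
  apply hp
  have := sp_inv_mulVec_mulVec m g p
  rw [h0, mulVec_zero] at this
  exact this.symm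

/-- The root subgroups generate the symplectic group. -/
theorem rootSet_generates : (⨆ A ∈ rootSet F m, A) = ⊤ := by
  rw [eq_top_iff, ← sympTransvSubgroup_eq_top (F := F) m]
  unfold sympTransvSubgroup
  rw [Subgroup.closure_le]
  rintro A ⟨w, c, hA⟩
  have hA' : A = sympTransvElt m w c := Subtype.ext hA
  by_cases hw : w = 0
  · have : A = 1 := by
      rw [hA']
      apply sp_ext
      intro v
      rw [elt_mulVec, hw, smul_zero, add_zero, sp_one_mulVec]
    rw [this]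
    exact Subgroup.one_mem _
  · rw [hA']
    exact Subgroup.mem_iSup_of_mem (root m w)
      (Subgroup.mem_iSup_of_mem ⟨w, hw, rfl⟩ (elt_mem_root m w c))

/-- Orthogonal directions give commuting root subgroups. -/
theorem elt_comm_of_orth (p r : Fin m ⊕ Fin m → F) (h : Cfsg.sympForm m F p r = 0) (c d : F) :
    sympTransvElt m p c * sympTransvElt m r d = sympTransvElt m r d * sympTransvElt m p c := by
  have h' : Cfsg.sympForm m F r p = 0 := by rw [sympForm_swap, h, neg_zero]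
  apply sp_ext
  intro v
  rw [sp_mul_mulVec, sp_mul_mulVec, elt_mulVec, elt_mulVec, elt_mulVec, elt_mulVec]
  simp only [sympForm_add_left, sympForm_smul_left, h, h', mul_zero, add_zero]
  abel

theorem commutator_root_eq_bot (p r : Fin m ⊕ Fin m → F) (h : Cfsg.sympForm m F p r = 0) :
    ⁅root m p, root m r⁆ = ⊥ := by
  rw [Subgroup.commutator_eq_bot_iff_le_centralizer]
  intro a ha
  obtain ⟨c, rfl⟩ := (mem_root_iff m p a).mp ha
  rw [Subgroup.mem_centralizer_iff]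
  intro b hb
  obtain ⟨d, rfl⟩ := (mem_root_iff m r b).mp hb
  exact (elt_comm_of_orth m p r h c d).symm

/-- Non-orthogonal directions give different root subgroups. -/
theorem root_ne_of_not_orth (p r : Fin m ⊕ Fin m → F) (h : Cfsg.sympForm m F p r ≠ 0) :
    root m p ≠ root m r := by
  intro hEq
  have hr : r ≠ 0 := by
    rintro rfl
    exact h (sympForm_zero_right m p)
  have h1 : sympTransvElt m r (1 : F) ∈ root m p := by
    rw [hEq]; exact elt_mem_root m r 1
  obtain ⟨c, hc⟩ := (mem_root_iff m p _).mp h1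
  have h2 := congrArg (fun g : Matrix.symplecticGroup (Fin m) F =>
    (g : Matrix (Fin m ⊕ Fin m) (Fin m ⊕ Fin m) F) *ᵥ p) hc
  simp only [elt_mulVec, sympForm_self, mul_zero, zero_smul, add_zero, one_mul] at h2
  rw [add_eq_left] at h2
  rcases smul_eq_zero.mp h2 with h3 | h3
  · exact h h3
  · exact hr h3

/-- The rank one condition for non-orthogonal directions. -/
theorem rankOneCondition_root (p r : Fin m ⊕ Fin m → F) (h : Cfsg.sympForm m F p r ≠ 0) :
    Cfsg.RankOneCondition (root m p) (root m r) := by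
  have hr : r ≠ 0 := by
    rintro rfl
    exact h (sympForm_zero_right m p)
  have hp : p ≠ 0 := by
    rintro rfl
    exact h (sympForm_zero_left m r)
  intro a ha ha1
  obtain ⟨c, rfl⟩ := (mem_root_iff m p a).mp ha
  have hc : c ≠ 0 := by
    intro h0
    apply ha1
    rw [h0, elt_zero]
  obtain ⟨α, hα⟩ : ∃ α, α = Cfsg.sympForm m F p r := ⟨_, rfl⟩
  have hα0 : α ≠ 0 := by rw [hα]; exact h
  have hrp : Cfsg.sympForm m F r p = -α := by rw [sympForm_swap, hα]
  refine ⟨sympTransvElt m r (-(c * α * α)⁻¹), elt_mem_root m r _, ?_, ?_⟩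
  · rw [Ne, elt_eq_one_iff m r hr, neg_eq_zero, inv_eq_zero]
    exact mul_ne_zero (mul_ne_zero hc hα0) hα0
  · rw [conjBy_root, conjBy_root, elt_inv, elt_inv, elt_mulVec, elt_mulVec, ← hα, hrp, neg_neg]
    have key : p + ((c * α * α)⁻¹ * α) • r = (c * α)⁻¹ • (r + (-c * -α) • p) := by
      have e1 : (c * α)⁻¹ * (-c * -α) = 1 := by field_simp
      have e2 : (c * α * α)⁻¹ * α = (c * α)⁻¹ := by field_simp
      rw [smul_add, smul_smul, e1, e2, one_smul, add_comm]
    rw [key, root_smul m _ (inv_ne_zero (mul_ne_zero hc hα0))]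

theorem isRankOnePair_root (p r : Fin m ⊕ Fin m → F) (h : Cfsg.sympForm m F p r ≠ 0) :
    Cfsg.IsRankOnePair (root m p) (root m r) := by
  have h' : Cfsg.sympForm m F r p ≠ 0 := by
    rw [sympForm_swap]; exact neg_ne_zero.mpr h
  exact ⟨root_ne_of_not_orth m p r h, root_nilpotent m p, root_nilpotent m r,
    rankOneCondition_root m p r h, rankOneCondition_root m r p h'⟩

/-- A rank one pair of root subgroups has non-orthogonal directions. -/
theorem not_orth_of_isRankOnePair (p r : Fin m ⊕ Fin m → F) (hp : p ≠ 0)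
    (h : Cfsg.IsRankOnePair (root m p) (root m r)) : Cfsg.sympForm m F p r ≠ 0 := by
  intro h0
  have h0' : Cfsg.sympForm m F r p = 0 := by rw [sympForm_swap, h0, neg_zero]
  have ha1 : sympTransvElt m p (1 : F) ≠ 1 := by
    rw [Ne, elt_eq_one_iff m p hp]; exact one_ne_zero
  obtain ⟨b, hb, -, hEq⟩ := h.cond_left _ (elt_mem_root m p 1) ha1
  obtain ⟨d, rfl⟩ := (mem_root_iff m r b).mp hb
  rw [conjBy_root, conjBy_root, elt_inv, elt_inv, elt_mulVec, elt_mulVec, h0, h0', mul_zero,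
    zero_smul, add_zero, mul_zero, zero_smul, add_zero] at hEq
  exact h.ne hEq

/-- Connecting vector. -/
theorem exists_connect (p r : Fin m ⊕ Fin m → F) (hp : p ≠ 0) (hr : r ≠ 0) :
    ∃ w, Cfsg.sympForm m F p w ≠ 0 ∧ Cfsg.sympForm m F w r ≠ 0 := by
  obtain ⟨a, ha⟩ := exists_sympForm_ne_zero m p hp
  obtain ⟨b, hb⟩ := exists_sympForm_ne_zero m r hr
  by_cases ha' : Cfsg.sympForm m F r a = 0
  · by_cases hb' : Cfsg.sympForm m F p b = 0
    · refine ⟨a + b, ?_, ?_⟩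
      · rw [sympForm_add_right, hb', add_zero]; exact ha
      · rw [sympForm_swap, sympForm_add_right, ha', zero_add]
        exact neg_ne_zero.mpr hb
    · refine ⟨b, hb', ?_⟩
      rw [sympForm_swap]; exact neg_ne_zero.mpr hb
  · refine ⟨a, ha, ?_⟩
    rw [sympForm_swap]; exact neg_ne_zero.mpr ha'

theorem rootSet_connected :
    Cfsg.IsConnectedFamily (Cfsg.FAdj (rootSet F m)) (rootSet F m) := by
  rintro A ⟨p, hp, rfl⟩ B ⟨r, hr, rfl⟩
  obtain ⟨w, hw1, hw2⟩ := exists_connect m p r hp hr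
  have hw : w ≠ 0 := by
    rintro rfl
    exact hw1 (sympForm_zero_right m p)
  have e1 : Cfsg.FAdj (rootSet F m) (root m p) (root m w) :=
    ⟨⟨p, hp, rfl⟩, ⟨w, hw, rfl⟩, isRankOnePair_root m p w hw1⟩
  have e2 : Cfsg.FAdj (rootSet F m) (root m w) (root m r) :=
    ⟨⟨w, hw, rfl⟩, ⟨r, hr, rfl⟩, isRankOnePair_root m w r hw2⟩
  exact Relation.ReflTransGen.tail (Relation.ReflTransGen.single e1) e2

theorem rootSet_conjClass (hm : 0 < m) : Cfsg.IsConjClassOfSubgroups (rootSet F m) := by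
  constructor
  · refine ⟨root m (Pi.single (Sum.inl ⟨0, hm⟩) 1), Pi.single (Sum.inl ⟨0, hm⟩) 1, ?_, rfl⟩
    intro h
    have := congrFun h (Sum.inl ⟨0, hm⟩)
    simp at this
  · rintro A ⟨p, hp, rfl⟩ B ⟨r, hr, rfl⟩
    obtain ⟨g, -, hg⟩ := exists_transv_of_ne_zero m p r hp hr
    exact ⟨g, by rw [conjBy_root, hg]⟩

end Cfsg.Agent.Lib.Helper99.SpRoot
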