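import Cfsg.Agent.Lib.Helper99.SpSim1

set_option autoImplicit false

/-!
The similarity group of a symplectic form is maximal in the special linear group:
proportionality and transitivity lemmas.
-/

namespace Cfsg.Agent.Lib.Helper99

open Matrix

section spsim2

variable {ι : Type} [Fintype ι] [DecidableEq ι] {F : Type*} [Field F]
variable (f : (ι → F) → (ι → F) → F)

/-- Two bilinear forms that are proportional column by column are proportional. -/
theorem proportional_of_local (hf : Cfsg.Geo.IsSymplecticForm f)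
    (f' : (ι → F) → (ι → F) → F) (hb' : Cfsg.Geo.IsBilinearForm f')
    (h : ∀ y, ∃ μ : F, ∀ x, f' x y = μ * f x y) : ∃ μ : F, ∀ x y, f' x y = μ * f x y := by
  have hb := hf.bilinear
  by_cases hex : ∃ y₀ : ι → F, y₀ ≠ 0
  · obtain ⟨y₀, hy₀⟩ := hex
    obtain ⟨μ₀, hμ₀⟩ := h y₀
    refine ⟨μ₀, fun x y => ?_⟩
    obtain ⟨μy, hμy⟩ := h y
    by_cases hμ : μy = μ₀
    · rw [hμy, hμ]
    obtain ⟨μ₁, hμ₁⟩ := h (y + y₀)
    have key : (μ₁ - μy) • y + (μ₁ - μ₀) • y₀ = 0 := by
      by_contra hne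
      obtain ⟨⟨z, hz⟩, _⟩ := hf.nondegenerate _ hne
      apply hz
      rw [hb.add_right, hb.smul_right, hb.smul_right]
      have e1 := hμ₁ z
      rw [hb'.add_right, hb.add_right, hμy z, hμ₀ z] at e1
      linear_combination -e1
    by_cases h1 : μ₁ = μy
    · exfalso
      rw [h1, sub_self, zero_smul, zero_add] at key
      rcases smul_eq_zero.mp key with h2 | h2
      · exact hμ (sub_eq_zero.mp h2)
      · exact hy₀ h2
    · have h1' : μ₁ - μy ≠ 0 := sub_ne_zero.mpr h1
      have hy : y = (-(μ₁ - μ₀) / (μ₁ - μy)) • y₀ := by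
        have e2 : (μ₁ - μy) • y = -((μ₁ - μ₀) • y₀) := eq_neg_of_add_eq_zero_left key
        have e3 : y = (μ₁ - μy)⁻¹ • ((μ₁ - μy) • y) := by
          rw [smul_smul, inv_mul_cancel₀ h1', one_smul]
        rw [e3, e2, ← neg_smul, smul_smul]
        congr 1
        field_simp
      rw [hy, hb'.smul_right, hb.smul_right, hμ₀ x]
      ring
  · push Not at hex
    refine ⟨0, fun x y => ?_⟩
    rw [hex y, zero_mul]
    exact sf_zero_right f' hb' x

/-- An invertible matrix that is column by column a similarity is a similarity. -/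
theorem similarity_of_local (hf : Cfsg.Geo.IsSymplecticForm f) (g : GL ι F)
    (h : ∀ v, ∃ μ : F, ∀ x, f (((g⁻¹ : GL ι F) : Matrix ι ι F) *ᵥ x) v =
      μ * f x ((g : Matrix ι ι F) *ᵥ v)) :
    g ∈ Cfsg.Geo.similarityGroup f := by
  have hb := hf.bilinear
  by_cases hex : ∃ y₀ : ι → F, y₀ ≠ 0
  swap
  · push Not at hex
    refine ⟨1, fun u v => ?_⟩
    rw [hex u, hex v, mulVec_zero, Units.val_one, one_mul]
  obtain ⟨y₀, hy₀⟩ := hex
  have hgi : ∀ x : ι → F, ((g⁻¹ : GL ι F) : Matrix ι ι F) *ᵥ ((g : Matrix ι ι F) *ᵥ x) = x := by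
    intro x
    rw [mulVec_mulVec, ← Units.val_mul, inv_mul_cancel, Units.val_one, one_mulVec]
  have hig : ∀ x : ι → F, (g : Matrix ι ι F) *ᵥ (((g⁻¹ : GL ι F) : Matrix ι ι F) *ᵥ x) = x := by
    intro x
    rw [mulVec_mulVec, ← Units.val_mul, mul_inv_cancel, Units.val_one, one_mulVec]
  let f' : (ι → F) → (ι → F) → F := fun x y =>
    f (((g⁻¹ : GL ι F) : Matrix ι ι F) *ᵥ x) (((g⁻¹ : GL ι F) : Matrix ι ι F) *ᵥ y)
  have hb' : Cfsg.Geo.IsBilinearForm f' :=
    { add_left := fun x y v => by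
        show f _ _ = f _ _ + f _ _
        rw [mulVec_add, hb.add_left]
      smul_left := fun c x v => by
        show f _ _ = c * f _ _
        rw [mulVec_smul, hb.smul_left]
      add_right := fun v x y => by
        show f _ _ = f _ _ + f _ _
        rw [mulVec_add, hb.add_right]
      smul_right := fun c v x => by
        show f _ _ = c * f _ _
        rw [mulVec_smul, hb.smul_right] }
  have hloc : ∀ y, ∃ μ : F, ∀ x, f' x y = μ * f x y := by
    intro y
    obtain ⟨μ, hμ⟩ := h (((g⁻¹ : GL ι F) : Matrix ι ι F) *ᵥ y)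
    refine ⟨μ, fun x => ?_⟩
    have := hμ x
    rw [hig] at this
    exact this
  obtain ⟨μ, hμ⟩ := proportional_of_local f hf f' hb' hloc
  have hμ0 : μ ≠ 0 := by
    rintro rfl
    obtain ⟨⟨x, hx⟩, _⟩ := hf.nondegenerate y₀ hy₀
    apply hx
    have := hμ ((g : Matrix ι ι F) *ᵥ x) ((g : Matrix ι ι F) *ᵥ y₀)
    rw [zero_mul] at this
    have e : f' ((g : Matrix ι ι F) *ᵥ x) ((g : Matrix ι ι F) *ᵥ y₀) = f x y₀ := by
      show f _ _ = _
      rw [hgi, hgi]
    rw [← e]
    exact this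
  -- `g⁻¹` is a similarity with factor `μ`
  have hginv : g⁻¹ ∈ Cfsg.Geo.similarityGroup f :=
    ⟨Units.mk0 μ hμ0, fun x y => hμ x y⟩
  have := (Cfsg.Geo.similarityGroup f).inv_mem hginv
  rw [inv_inv] at this
  exact this

end spsim2

end Cfsg.Agent.Lib.Helper99
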