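import Mathlib
import Cfsg.Agent.Lib.Helper14.DkMain2
import Cfsg.Agent.Lib.Helper14.DkRep

set_option autoImplicit false

/-!
# A subgroup of `SL₂(F)` containing two noncommuting unipotent-type elements has even order
(odd characteristic), hence contains `-1`.  Consequence of the numerical Dickson classification.
-/

namespace Cfsg.Agent.Lib.Helper99.SubDk

open Cfsg.Agent.Lib.Helper14.Dk
open scoped Pointwise

variable {F : Type*} [Field F] [Fintype F]

local notation "SL2" => Matrix.SpecialLinearGroup (Fin 2) F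

/-- an involution of `SL₂(F)` in characteristic different from two is `-1` -/
theorem eq_neg_one_of_sq (h2 : (2 : F) ≠ 0) (t : SL2) (ht : t * t = 1) (ht1 : t ≠ 1) :
    t = -1 := by
  have hdet := t.det_coe
  rw [Matrix.det_fin_two] at hdet
  have e00 : t 0 0 * t 0 0 + t 0 1 * t 1 0 = 1 := by
    have := congrArg (fun m : SL2 => (m : Matrix (Fin 2) (Fin 2) F) 0 0) ht
    simpa [Matrix.mul_apply, Fin.sum_univ_two] using this
  have e01 : t 0 0 * t 0 1 + t 0 1 * t 1 1 = 0 := by
    have := congrArg (fun m : SL2 => (m : Matrix (Fin 2) (Fin 2) F) 0 1) ht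
    simpa [Matrix.mul_apply, Fin.sum_univ_two] using this
  have e10 : t 1 0 * t 0 0 + t 1 1 * t 1 0 = 0 := by
    have := congrArg (fun m : SL2 => (m : Matrix (Fin 2) (Fin 2) F) 1 0) ht
    simpa [Matrix.mul_apply, Fin.sum_univ_two] using this
  have e11 : t 1 0 * t 0 1 + t 1 1 * t 1 1 = 1 := by
    have := congrArg (fun m : SL2 => (m : Matrix (Fin 2) (Fin 2) F) 1 1) ht
    simpa [Matrix.mul_apply, Fin.sum_univ_two] using this
  -- trace * entries
  have hb : (t 0 0 + t 1 1) * t 0 1 = 0 := by linear_combination e01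
  have hc : (t 0 0 + t 1 1) * t 1 0 = 0 := by linear_combination e10
  have had : t 0 0 * t 0 0 = t 1 1 * t 1 1 := by linear_combination e00 - e11
  by_cases htr : t 0 0 + t 1 1 = 0
  · -- trace zero: then a^2 + bc = 1 and ad - bc = 1 with d = -a gives -a^2 - bc = 1
    exfalso
    have hd : t 1 1 = - t 0 0 := by linear_combination htr
    rw [hd] at hdet
    have : (2 : F) = 0 := by linear_combination -e00 - hdet
    exact h2 this
  · have hb0 : t 0 1 = 0 := by
      rcases mul_eq_zero.1 hb with h | h
      · exact absurd h htr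
      · exact h
    have hc0 : t 1 0 = 0 := by
      rcases mul_eq_zero.1 hc with h | h
      · exact absurd h htr
      · exact h
    rw [hb0, hc0] at hdet e00 e11
    simp only [mul_zero, sub_zero, add_zero, zero_add] at hdet e00 e11
    have ha : t 0 0 = 1 ∨ t 0 0 = -1 := by
      have : (t 0 0 - 1) * (t 0 0 + 1) = 0 := by linear_combination e00
      rcases mul_eq_zero.1 this with h | h
      · left; linear_combination h
      · right; linear_combination h
    rcases ha with ha | ha
    · exfalso
      apply ht1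
      have hd : t 1 1 = 1 := by rw [ha] at hdet; simpa using hdet
      ext i j
      fin_cases i <;> fin_cases j <;> simp [ha, hd, hb0, hc0]
    · have hd : t 1 1 = -1 := by
        rw [ha] at hdet
        linear_combination -hdet
      ext i j
      fin_cases i <;> fin_cases j <;> simp [ha, hd, hb0, hc0]

theorem neg_one_mem_of_noncomm (p : ℕ) [Fact p.Prime] [CharP F p] (hp : p ≠ 2)
    (Y : Subgroup SL2) (a b : SL2) (ha : a ∈ Y) (hb : b ∈ Y)
    (hUa : tr2 a ^ 2 = 4) (hUb : tr2 b ^ 2 = 4) (hab : a * b ≠ b * a) : (-1 : SL2) ∈ Y := by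
  classical
  have h2 : (2 : F) ≠ 0 := by
    intro h
    have : (p : ℕ) ∣ 2 := by
      have h' : ((2 : ℕ) : F) = 0 := by exact_mod_cast h
      exact (CharP.cast_eq_zero_iff F p 2).1 h'
    have hp2 := (Nat.prime_dvd_prime_iff_eq (Fact.out : p.Prime) Nat.prime_two).1 this
    exact hp hp2
  set τ : ↥Y →* SL2 := Y.subtype with hτdef
  have hτ : Function.Injective τ := Subtype.coe_injective
  have hD : Data (ZZ τ) p (UU τ) := data_of_rep p τ hτ
  set a' : ↥Y := ⟨a, ha⟩ with ha'
  set b' : ↥Y := ⟨b, hb⟩ with hb'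
  have hab' : a' * b' ≠ b' * a' := by
    intro h
    apply hab
    have := congrArg (fun y : ↥Y => (y : SL2)) h
    simpa using this
  have haZ : a' ∉ ZZ τ := by
    intro h
    rw [mem_ZZ] at h
    apply hab
    have h' : a = 1 ∨ a = -1 := h
    rcases h' with h' | h'
    · rw [h']; simp
    · rw [h']; simp
  have hbZ : b' ∉ ZZ τ := by
    intro h
    rw [mem_ZZ] at h
    apply hab
    have h' : b = 1 ∨ b = -1 := h
    rcases h' with h' | h'
    · rw [h']; simp
    · rw [h']; simp
  have hUa' : UU τ a' := hUa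
  have hUb' : UU τ b' := hUb
  -- even order
  have heven : 2 ∣ Nat.card ↥Y := by
    rcases hD.main with h | h | h | h | h | h | h | h
    · exfalso
      apply haZ
      rw [h]; trivial
    · exfalso
      obtain ⟨x, hx, -, hM⟩ := h
      apply hab'
      exact hD.toCT.comm_of_mem hx (by rw [hM]; trivial) (by rw [hM]; trivial)
    · exfalso
      obtain ⟨x, hx, hUx, hN⟩ := h
      -- all unipotent-type elements have the same centralizer
      have key : ∀ y : ↥Y, y ∉ ZZ τ → UU τ y → M y = M x := by
        intro y hy hUy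
        have hyE : y ∈ E (ZZ τ) x := by
          have := hD.uni_eq_E hx hUx
          rw [← this]
          exact ⟨hy, hUy⟩
        obtain ⟨-, g, hg⟩ := (hD.toCT.mem_E_iff_M hx).mp hyE
        rw [← conj_smul_M] at hg
        -- M y = conj g⁻¹ • M x = M x
        have hgN : g⁻¹ ∈ Subgroup.normalizer (M x : Set ↥Y) := by rw [hN]; trivial
        have h1 : MulAut.conj g⁻¹ • M x = M x := (conj_smul_eq_iff g⁻¹ (M x)).2 hgN
        have h2 : MulAut.conj g⁻¹ • (MulAut.conj g • M y) = M y := by
          rw [← mul_smul, ← map_mul, inv_mul_cancel, map_one, one_smul]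
        rw [hg] at h2
        rw [← h2, h1]
      have h1 := key a' haZ hUa'
      have h2 := key b' hbZ hUb'
      apply hab'
      have : b' ∈ M a' := by rw [h1, ← h2]; exact self_mem_M b'
      exact mem_M.1 this
    · obtain ⟨x, -, -, -, hee⟩ := h
      have := nn_mul_ee_mul_aa x
      rw [hee] at this
      rw [← this]
      exact ⟨nn x * aa x, by ring⟩
    · obtain ⟨hc, -⟩ := h
      rw [hc]
      exact ⟨Nat.card (ZZ τ) * 6, by ring⟩
    · obtain ⟨hc, -⟩ := h
      rw [hc]
      exact ⟨Nat.card (ZZ τ) * 12, by ring⟩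
    · obtain ⟨hc, -⟩ := h
      rw [hc]
      exact ⟨Nat.card (ZZ τ) * 30, by ring⟩
    · obtain ⟨k, q, g₂, g, -, -, -, -, ⟨y, -, -, hee, -⟩, -, -⟩ := h
      have := nn_mul_ee_mul_aa y
      rw [hee] at this
      rw [← this]
      exact ⟨nn y * aa y, by ring⟩
  -- an involution
  have : Fact (Nat.Prime 2) := ⟨Nat.prime_two⟩
  obtain ⟨t, ht⟩ := exists_prime_orderOf_dvd_card' (G := ↥Y) 2 heven
  have ht2 : t * t = 1 := by
    have := pow_orderOf_eq_one t
    rw [ht, pow_two] at this
    exact this
  have ht1 : t ≠ 1 := by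
    intro h
    rw [h, orderOf_one] at ht
    omega
  have h3 : (t : SL2) = -1 := by
    apply eq_neg_one_of_sq h2
    · have := congrArg (fun y : ↥Y => (y : SL2)) ht2
      simpa using this
    · intro h
      apply ht1
      exact Subtype.ext h
  rw [← h3]
  exact t.2

end Cfsg.Agent.Lib.Helper99.SubDk
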