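import Mathlib
import Cfsg.Prelude.Def_GeometricClasses
import Cfsg.Agent.Lib.Helper42.SubfA

set_option autoImplicit false

/-!
Rational structures `P · F₀^ι` inside `F^ι`: rational vectors and membership in the subfield group.
-/

namespace Cfsg.Agent.Lib.Helper99.SubfO

open Matrix

variable {ι : Type} [Fintype ι] [DecidableEq ι] {F : Type*} [Field F]

/-- the vector of `F^ι` with `F₀`-coordinates `x` in the basis given by the columns of `P` -/
def rv (F₀ : Subfield F) (P : GL ι F) (x : ι → ↥F₀) : ι → F :=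
  (P : Matrix ι ι F) *ᵥ (fun i => (x i : F))

variable (F₀ : Subfield F) (P : GL ι F)

theorem rv_add (x y : ι → ↥F₀) : rv F₀ P (x + y) = rv F₀ P x + rv F₀ P y := by
  unfold rv
  rw [← Matrix.mulVec_add]
  congr 1

theorem rv_smul (c : ↥F₀) (x : ι → ↥F₀) : rv F₀ P (c • x) = (c : F) • rv F₀ P x := by
  unfold rv
  rw [← Matrix.mulVec_smul]
  congr 1

theorem rv_zero : rv F₀ P 0 = 0 := by
  unfold rv
  have : (fun i => (((0 : ι → ↥F₀) i : ↥F₀) : F)) = 0 := by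
    ext i; simp
  rw [this, Matrix.mulVec_zero]

theorem rv_neg (x : ι → ↥F₀) : rv F₀ P (-x) = - rv F₀ P x := by
  unfold rv
  rw [← Matrix.mulVec_neg]
  congr 1

theorem rv_sub (x y : ι → ↥F₀) : rv F₀ P (x - y) = rv F₀ P x - rv F₀ P y := by
  rw [sub_eq_add_neg, rv_add, rv_neg, ← sub_eq_add_neg]

theorem inv_mulVec_rv (x : ι → ↥F₀) :
    ((P⁻¹ : GL ι F) : Matrix ι ι F) *ᵥ rv F₀ P x = fun i => (x i : F) := by
  unfold rv
  rw [Matrix.mulVec_mulVec, ← Units.val_mul, inv_mul_cancel, Units.val_one, Matrix.one_mulVec]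

theorem mulVec_inv_mulVec (v : ι → F) :
    (P : Matrix ι ι F) *ᵥ (((P⁻¹ : GL ι F) : Matrix ι ι F) *ᵥ v) = v := by
  rw [Matrix.mulVec_mulVec, ← Units.val_mul, mul_inv_cancel, Units.val_one, Matrix.one_mulVec]

theorem rv_injective : Function.Injective (rv F₀ P) := by
  intro x y h
  have h1 := congrArg (fun v => ((P⁻¹ : GL ι F) : Matrix ι ι F) *ᵥ v) h
  simp only [inv_mulVec_rv] at h1
  ext i
  exact congrFun h1 i

/-- rational vectors -/
def IsRat (v : ι → F) : Prop := ∃ x : ι → ↥F₀, rv F₀ P x = v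

theorem isRat_rv (x : ι → ↥F₀) : IsRat F₀ P (rv F₀ P x) := ⟨x, rfl⟩

theorem isRat_iff (v : ι → F) :
    IsRat F₀ P v ↔ ∀ i, (((P⁻¹ : GL ι F) : Matrix ι ι F) *ᵥ v) i ∈ F₀ := by
  constructor
  · rintro ⟨x, rfl⟩ i
    rw [inv_mulVec_rv]
    exact (x i).2
  · intro h
    refine ⟨fun i => ⟨_, h i⟩, ?_⟩
    unfold rv
    exact mulVec_inv_mulVec P v

variable {F₀ P}

theorem IsRat.add {v w : ι → F} (hv : IsRat F₀ P v) (hw : IsRat F₀ P w) : IsRat F₀ P (v + w) := by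
  obtain ⟨x, rfl⟩ := hv
  obtain ⟨y, rfl⟩ := hw
  exact ⟨x + y, rv_add F₀ P x y⟩

theorem IsRat.neg {v : ι → F} (hv : IsRat F₀ P v) : IsRat F₀ P (-v) := by
  obtain ⟨x, rfl⟩ := hv
  exact ⟨-x, rv_neg F₀ P x⟩

theorem IsRat.sub {v w : ι → F} (hv : IsRat F₀ P v) (hw : IsRat F₀ P w) : IsRat F₀ P (v - w) := by
  rw [sub_eq_add_neg]
  exact hv.add hw.neg

theorem IsRat.smul {v : ι → F} (hv : IsRat F₀ P v) {c : F} (hc : c ∈ F₀) : IsRat F₀ P (c • v) := by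
  obtain ⟨x, rfl⟩ := hv
  exact ⟨(⟨c, hc⟩ : ↥F₀) • x, rv_smul F₀ P ⟨c, hc⟩ x⟩

theorem isRat_zero : IsRat F₀ P (0 : ι → F) := ⟨0, rv_zero F₀ P⟩

/-- a scalar carrying a non-zero rational vector to a rational vector is rational -/
theorem mem_of_isRat_smul {v : ι → F} (hv : IsRat F₀ P v) (hv0 : v ≠ 0) {c : F}
    (hc : IsRat F₀ P (c • v)) : c ∈ F₀ := by
  rw [isRat_iff] at hv hc
  have : ∃ i, (((P⁻¹ : GL ι F) : Matrix ι ι F) *ᵥ v) i ≠ 0 := by
    by_contra hcon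
    push Not at hcon
    apply hv0
    rw [← mulVec_inv_mulVec P v]
    have : ((P⁻¹ : GL ι F) : Matrix ι ι F) *ᵥ v = 0 := funext hcon
    rw [this, Matrix.mulVec_zero]
  obtain ⟨i, hi⟩ := this
  have h1 := hc i
  rw [Matrix.mulVec_smul, Pi.smul_apply, smul_eq_mul] at h1
  have h2 : c = (c * (((P⁻¹ : GL ι F) : Matrix ι ι F) *ᵥ v) i) *
      ((((P⁻¹ : GL ι F) : Matrix ι ι F) *ᵥ v) i)⁻¹ := by
    field_simp
  rw [h2]
  exact F₀.mul_mem h1 (F₀.inv_mem (hv i))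

variable (F₀ P)

theorem mem_subfield_iff (g : GL ι F) :
    g ∈ Cfsg.Geo.subfieldSubgroup F₀ P ↔
      ∃ μ : F, μ ≠ 0 ∧ ∀ i j, μ * ((P⁻¹ * g * P : GL ι F) : Matrix ι ι F) i j ∈ F₀ := by
  rw [← Cfsg.Agent.Lib.Helper42.Subf.mem_subfield_one_iff]
  unfold Cfsg.Geo.subfieldSubgroup
  have hid : (MulAut.conj (1 : GL ι F)).toMonoidHom = MonoidHom.id (GL ι F) := by
    ext x; simp
  rw [hid, Subgroup.map_id]
  constructor
  · rintro ⟨k, hk, rfl⟩
    have : P⁻¹ * ((MulAut.conj P).toMonoidHom k) * P = k := by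
      show P⁻¹ * (P * k * P⁻¹) * P = k
      group
    rw [this]
    exact hk
  · intro hk
    refine ⟨P⁻¹ * g * P, hk, ?_⟩
    show P * (P⁻¹ * g * P) * P⁻¹ = g
    group

/-- an invertible matrix carrying rational vectors to a fixed multiple of rational vectors lies
in the subfield group -/
theorem mem_subfield_of_maps (g : GL ι F) (c : F) (hc : c ≠ 0)
    (h : ∀ x : ι → ↥F₀, IsRat F₀ P (c • ((g : Matrix ι ι F) *ᵥ rv F₀ P x))) :
    g ∈ Cfsg.Geo.subfieldSubgroup F₀ P := by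
  rw [mem_subfield_iff]
  refine ⟨c, hc, fun i j => ?_⟩
  have h1 := (isRat_iff F₀ P _).1 (h (Pi.single j 1)) i
  have h2 : rv F₀ P (Pi.single j 1) = (P : Matrix ι ι F) *ᵥ (Pi.single j 1) := by
    unfold rv
    congr 1
    ext k
    by_cases hk : k = j
    · subst hk; simp
    · simp [Pi.single_eq_of_ne hk]
  rw [h2, Matrix.mulVec_smul, Pi.smul_apply, smul_eq_mul, Matrix.mulVec_mulVec,
    Matrix.mulVec_mulVec, Matrix.mulVec_single_one] at h1
  simpa [Matrix.mul_assoc] using h1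

/-- elements of the subfield group carry rational vectors to a fixed multiple of rational
vectors -/
theorem maps_of_mem_subfield (g : GL ι F) (hg : g ∈ Cfsg.Geo.subfieldSubgroup F₀ P) :
    ∃ μ : F, μ ≠ 0 ∧ ∀ x : ι → ↥F₀, IsRat F₀ P (μ • ((g : Matrix ι ι F) *ᵥ rv F₀ P x)) := by
  rw [mem_subfield_iff] at hg
  obtain ⟨μ, hμ, h⟩ := hg
  refine ⟨μ, hμ, fun x => ?_⟩
  rw [isRat_iff]
  intro i
  have h1 : ((P⁻¹ : GL ι F) : Matrix ι ι F) *ᵥ (μ • ((g : Matrix ι ι F) *ᵥ rv F₀ P x))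
      = (μ • ((P⁻¹ * g * P : GL ι F) : Matrix ι ι F)) *ᵥ (fun i => (x i : F)) := by
    unfold rv
    rw [Matrix.mulVec_smul, Matrix.smul_mulVec, Matrix.mulVec_mulVec, Matrix.mulVec_mulVec,
      Units.val_mul, Units.val_mul, Matrix.mul_assoc]
  rw [h1]
  show (∑ j, (μ • ((P⁻¹ * g * P : GL ι F) : Matrix ι ι F)) i j * (x j : F)) ∈ F₀
  apply F₀.sum_mem
  intro j _
  rw [Matrix.smul_apply, smul_eq_mul]
  exact F₀.mul_mem (h i j) (x j).2

end Cfsg.Agent.Lib.Helper99.SubfO
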