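import Mathlib
import Cfsg.Prelude.Def_GeometricClasses
import Cfsg.Agent.Lib.Helper99.SubfOA
import Cfsg.Agent.Lib.Helper8.OmegaPoints

set_option autoImplicit false

/-!
The rational quadratic form induced on `F₀^ι` by a rational structure.
-/

namespace Cfsg.Agent.Lib.Helper99.SubfO

open Matrix QuadraticMap
open Cfsg.Agent.Lib.Helper8 Cfsg.Agent.Lib.Helper13

variable {ι : Type} [Fintype ι] [DecidableEq ι] {F : Type*} [Field F]
variable (F₀ : Subfield F) (P : GL ι F)

/-- every vector is a combination of rational vectors -/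
theorem exists_rat_decomp (v : ι → F) :
    v = ∑ i, ((((P⁻¹ : GL ι F) : Matrix ι ι F) *ᵥ v) i) • rv F₀ P (Pi.single i 1) := by
  have h2 : ∀ j : ι, rv F₀ P (Pi.single j 1) = (P : Matrix ι ι F) *ᵥ (Pi.single j 1) := by
    intro j
    unfold rv
    congr 1
    ext k
    by_cases hk : k = j
    · subst hk; simp
    · simp [Pi.single_eq_of_ne hk]
  obtain ⟨c, hc⟩ : ∃ c : ι → F, c = ((P⁻¹ : GL ι F) : Matrix ι ι F) *ᵥ v := ⟨_, rfl⟩
  rw [← hc]
  have h1 : v = (P : Matrix ι ι F) *ᵥ c := by rw [hc, mulVec_inv_mulVec]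
  have h3 : c = ∑ i, c i • (Pi.single i 1 : ι → F) := by
    ext k
    simp [Finset.sum_apply, Pi.single_apply]
  calc v = (P : Matrix ι ι F) *ᵥ c := h1
    _ = Matrix.mulVecLin (P : Matrix ι ι F) (∑ i, c i • (Pi.single i 1 : ι → F)) := by
        rw [← h3]; rfl
    _ = ∑ i, c i • rv F₀ P (Pi.single i 1) := by
        rw [map_sum]
        apply Finset.sum_congr rfl
        intro i _
        rw [map_smul, h2]
        rfl

/-- induction principle: a property of vectors closed under sums and scalar multiples and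
holding on rational vectors holds everywhere -/
theorem rat_induction {p : (ι → F) → Prop} (h0 : p 0) (hadd : ∀ v w, p v → p w → p (v + w))
    (hsmul : ∀ (c : F) v, p v → p (c • v)) (hrat : ∀ x, p (rv F₀ P x)) (v : ι → F) : p v := by
  rw [exists_rat_decomp F₀ P v]
  apply Finset.sum_induction _ p hadd h0
  intro i _
  exact hsmul _ _ (hrat _)

variable (Q : QuadraticForm F (ι → F))
variable (hP : Cfsg.Geo.IsQuadFormRationalStructure (⇑Q) F₀ P)

include hP in
theorem Q_rv_mem (x : ι → ↥F₀) : Q (rv F₀ P x) ∈ F₀ := hP _ (fun i => (x i).2)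

include hP in
theorem polar_rv_mem (x y : ι → ↥F₀) : polar (⇑Q) (rv F₀ P x) (rv F₀ P y) ∈ F₀ := by
  unfold polar
  rw [← rv_add]
  exact F₀.sub_mem (F₀.sub_mem (Q_rv_mem F₀ P Q hP _) (Q_rv_mem F₀ P Q hP _))
    (Q_rv_mem F₀ P Q hP _)

/-- the companion bilinear form over `F₀` -/
noncomputable def B0 : LinearMap.BilinMap ↥F₀ (ι → ↥F₀) ↥F₀ :=
  LinearMap.mk₂ ↥F₀ (fun x y => ⟨polar (⇑Q) (rv F₀ P x) (rv F₀ P y), polar_rv_mem F₀ P Q hP x y⟩)
    (by
      intro x x' y
      apply Subtype.ext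
      show polar (⇑Q) (rv F₀ P (x + x')) (rv F₀ P y)
        = polar (⇑Q) (rv F₀ P x) (rv F₀ P y) + polar (⇑Q) (rv F₀ P x') (rv F₀ P y)
      rw [rv_add, polar_add_left])
    (by
      intro c x y
      apply Subtype.ext
      show polar (⇑Q) (rv F₀ P (c • x)) (rv F₀ P y)
        = (c : F) * polar (⇑Q) (rv F₀ P x) (rv F₀ P y)
      rw [rv_smul, polar_smul_left, smul_eq_mul])
    (by
      intro x y y'
      apply Subtype.ext
      show polar (⇑Q) (rv F₀ P x) (rv F₀ P (y + y'))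
        = polar (⇑Q) (rv F₀ P x) (rv F₀ P y) + polar (⇑Q) (rv F₀ P x) (rv F₀ P y')
      rw [rv_add, polar_add_right])
    (by
      intro c x y
      apply Subtype.ext
      show polar (⇑Q) (rv F₀ P x) (rv F₀ P (c • y))
        = (c : F) * polar (⇑Q) (rv F₀ P x) (rv F₀ P y)
      rw [rv_smul, polar_smul_right, smul_eq_mul])

/-- the induced quadratic form over `F₀` -/
noncomputable def Q0 : QuadraticForm ↥F₀ (ι → ↥F₀) where
  toFun x := ⟨Q (rv F₀ P x), Q_rv_mem F₀ P Q hP x⟩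
  toFun_smul := by
    intro c x
    apply Subtype.ext
    show Q (rv F₀ P (c • x)) = ((c * c : ↥F₀) : F) * Q (rv F₀ P x)
    rw [rv_smul, QuadraticMap.map_smul, smul_eq_mul]
    rfl
  exists_companion' := by
    refine ⟨B0 F₀ P Q hP, ?_⟩
    intro x y
    apply Subtype.ext
    show Q (rv F₀ P (x + y)) = Q (rv F₀ P x) + Q (rv F₀ P y)
      + polar (⇑Q) (rv F₀ P x) (rv F₀ P y)
    rw [rv_add]
    unfold polar
    ring

theorem Q0_coe (x : ι → ↥F₀) : ((Q0 F₀ P Q hP x : ↥F₀) : F) = Q (rv F₀ P x) := rfl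

theorem Q0_polar_coe (x y : ι → ↥F₀) :
    ((polar (⇑(Q0 F₀ P Q hP)) x y : ↥F₀) : F) = polar (⇑Q) (rv F₀ P x) (rv F₀ P y) := by
  unfold polar
  rw [Subfield.coe_sub, Subfield.coe_sub, Q0_coe, Q0_coe, Q0_coe, rv_add]

theorem Q0_eq_zero_iff (x : ι → ↥F₀) : Q0 F₀ P Q hP x = 0 ↔ Q (rv F₀ P x) = 0 := by
  rw [← Q0_coe F₀ P Q hP x]
  constructor
  · intro h; rw [h]; rfl
  · intro h
    apply Subtype.ext
    rw [h]; rfl

theorem Q0_polar_eq_zero_iff (x y : ι → ↥F₀) :
    polar (⇑(Q0 F₀ P Q hP)) x y = 0 ↔ polar (⇑Q) (rv F₀ P x) (rv F₀ P y) = 0 := by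
  rw [← Q0_polar_coe F₀ P Q hP x y]
  constructor
  · intro h; rw [h]; rfl
  · intro h
    apply Subtype.ext
    rw [h]; rfl

/-- a vector orthogonal to all rational vectors is zero -/
theorem eq_zero_of_polar_rv (hQ : (QuadraticMap.polarBilin Q).Nondegenerate) (v : ι → F)
    (h : ∀ x, polar (⇑Q) v (rv F₀ P x) = 0) : v = 0 := by
  apply hQ.1 v
  intro w
  show polar (⇑Q) v w = 0
  apply rat_induction F₀ P (p := fun w => polar (⇑Q) v w = 0)
  · exact polar_zero_right _ _
  · intro a b ha hb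
    show polar (⇑Q) v (a + b) = 0
    rw [polar_add_right, ha, hb, add_zero]
  · intro c a ha
    show polar (⇑Q) v (c • a) = 0
    rw [polar_smul_right, ha, smul_zero]
  · exact h

theorem Q0_nondeg (hQ : (QuadraticMap.polarBilin Q).Nondegenerate) :
    (QuadraticMap.polarBilin (Q0 F₀ P Q hP)).Nondegenerate := by
  have key : ∀ x : ι → ↥F₀, (∀ y, polar (⇑(Q0 F₀ P Q hP)) x y = 0) → x = 0 := by
    intro x hx
    have h1 : rv F₀ P x = 0 := by
      apply eq_zero_of_polar_rv F₀ P Q hQ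
      intro y
      exact (Q0_polar_eq_zero_iff F₀ P Q hP x y).1 (hx y)
    apply rv_injective F₀ P
    rw [h1, rv_zero]
  constructor
  · intro x hx
    exact key x hx
  · intro x hx
    apply key x
    intro y
    rw [polar_comm]
    exact hx y

include hP in
/-- duality: a vector pairing rationally with all rational vectors is rational -/
theorem isRat_of_polar_mem (hQ : (QuadraticMap.polarBilin Q).Nondegenerate) (v : ι → F)
    (h : ∀ x, polar (⇑Q) (rv F₀ P x) v ∈ F₀) : IsRat F₀ P v := by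
  have hnd := Q0_nondeg F₀ P Q hP hQ
  let f : Module.Dual ↥F₀ (ι → ↥F₀) :=
    { toFun := fun x => ⟨polar (⇑Q) (rv F₀ P x) v, h x⟩
      map_add' := by
        intro x y
        apply Subtype.ext
        show polar (⇑Q) (rv F₀ P (x + y)) v = polar (⇑Q) (rv F₀ P x) v + polar (⇑Q) (rv F₀ P y) v
        rw [rv_add, polar_add_left]
      map_smul' := by
        intro c x
        apply Subtype.ext
        show polar (⇑Q) (rv F₀ P (c • x)) v = (c : F) * polar (⇑Q) (rv F₀ P x) v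
        rw [rv_smul, polar_smul_left, smul_eq_mul] }
  obtain ⟨y₀, hy₀⟩ : ∃ y₀ : ι → ↥F₀, ∀ x, polar (⇑(Q0 F₀ P Q hP)) y₀ x = f x := by
    refine ⟨(LinearMap.BilinForm.toDual (QuadraticMap.polarBilin (Q0 F₀ P Q hP)) hnd).symm f, ?_⟩
    intro x
    exact LinearMap.BilinForm.apply_toDual_symm_apply (B := QuadraticMap.polarBilin (Q0 F₀ P Q hP))
      (hB := hnd) f x
  refine ⟨y₀, ?_⟩
  have h1 : v - rv F₀ P y₀ = 0 := by
    apply eq_zero_of_polar_rv F₀ P Q hQ
    intro x
    rw [polar_sub_left, polar_comm (⇑Q) (rv F₀ P y₀), ← Q0_polar_coe F₀ P Q hP, polar_comm _ x y₀,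
      hy₀ x, polar_comm]
    show polar (⇑Q) (rv F₀ P x) v - polar (⇑Q) (rv F₀ P x) v = 0
    exact sub_self _
  exact (sub_eq_zero.1 h1).symm

end Cfsg.Agent.Lib.Helper99.SubfO
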