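import Mathlib
import Cfsg.Prelude.Def_GeometricClasses
import Cfsg.Agent.Lib.Helper99.SubfOB
import Cfsg.Agent.Lib.Helper37.OmegaWitt

set_option autoImplicit false

/-!
Lifting rational isometries to the big field.
-/

namespace Cfsg.Agent.Lib.Helper99.SubfO

open Matrix QuadraticMap
open Cfsg.Agent.Lib.Helper8 Cfsg.Agent.Lib.Helper13 Cfsg.Agent.Lib.Helper37

variable {ι : Type} [Fintype ι] [DecidableEq ι] {F : Type*} [Field F]
variable (F₀ : Subfield F) (P : GL ι F)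

/-- the lift of a rational invertible matrix -/
noncomputable def liftGL : GL ι ↥F₀ →* GL ι F :=
  (MulAut.conj P).toMonoidHom.comp (Matrix.GeneralLinearGroup.map (F₀.subtype : ↥F₀ →+* F))

theorem liftGL_coe (A₀ : GL ι ↥F₀) :
    (liftGL F₀ P A₀ : Matrix ι ι F)
      = (P : Matrix ι ι F) * ((A₀ : Matrix ι ι ↥F₀).map (F₀.subtype)) *
        ((P⁻¹ : GL ι F) : Matrix ι ι F) := rfl

theorem liftGL_mulVec_rv (A₀ : GL ι ↥F₀) (x : ι → ↥F₀) :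
    (liftGL F₀ P A₀ : Matrix ι ι F) *ᵥ rv F₀ P x = rv F₀ P ((A₀ : Matrix ι ι ↥F₀) *ᵥ x) := by
  rw [liftGL_coe]
  unfold rv
  rw [Matrix.mulVec_mulVec, Matrix.mul_assoc, Matrix.mul_assoc, ← Units.val_mul, inv_mul_cancel,
    Units.val_one, Matrix.mul_one, ← Matrix.mulVec_mulVec]
  congr 1
  ext i
  simp only [Matrix.mulVec, dotProduct, Matrix.map_apply, Subfield.coe_subtype]
  push_cast
  rfl

theorem liftGL_mem_subfield (A₀ : GL ι ↥F₀) :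
    liftGL F₀ P A₀ ∈ Cfsg.Geo.subfieldSubgroup F₀ P := by
  unfold Cfsg.Geo.subfieldSubgroup
  refine ⟨Matrix.GeneralLinearGroup.map (F₀.subtype : ↥F₀ →+* F) A₀, ?_, rfl⟩
  exact (le_sup_left : (Matrix.GeneralLinearGroup.map (F₀.subtype : ↥F₀ →+* F)).range ≤ _)
    ⟨A₀, rfl⟩

variable (Q : QuadraticForm F (ι → F))

/-- a matrix preserving the polar form on rational vectors preserves the quadratic form, in
odd characteristic -/
theorem preserves_of_rat (h2 : (2 : F) ≠ 0) (A : Matrix ι ι F)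
    (hA : ∀ x y, polar (⇑Q) (A *ᵥ rv F₀ P x) (A *ᵥ rv F₀ P y)
      = polar (⇑Q) (rv F₀ P x) (rv F₀ P y)) (v : ι → F) : Q (A *ᵥ v) = Q v := by
  have h1 : ∀ x (w : ι → F), polar (⇑Q) (A *ᵥ rv F₀ P x) (A *ᵥ w) = polar (⇑Q) (rv F₀ P x) w := by
    intro x w
    apply rat_induction F₀ P
      (p := fun w => polar (⇑Q) (A *ᵥ rv F₀ P x) (A *ᵥ w) = polar (⇑Q) (rv F₀ P x) w)
    · show polar (⇑Q) (A *ᵥ rv F₀ P x) (A *ᵥ 0) = polar (⇑Q) (rv F₀ P x) 0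
      rw [Matrix.mulVec_zero, polar_zero_right, polar_zero_right]
    · intro a b ha hb
      show polar (⇑Q) (A *ᵥ rv F₀ P x) (A *ᵥ (a + b)) = polar (⇑Q) (rv F₀ P x) (a + b)
      rw [Matrix.mulVec_add, polar_add_right, polar_add_right, ha, hb]
    · intro c a ha
      show polar (⇑Q) (A *ᵥ rv F₀ P x) (A *ᵥ (c • a)) = polar (⇑Q) (rv F₀ P x) (c • a)
      rw [Matrix.mulVec_smul, polar_smul_right, polar_smul_right, ha]
    · exact hA x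
  have h3 : ∀ (u w : ι → F), polar (⇑Q) (A *ᵥ u) (A *ᵥ w) = polar (⇑Q) u w := by
    intro u w
    apply rat_induction F₀ P
      (p := fun u => polar (⇑Q) (A *ᵥ u) (A *ᵥ w) = polar (⇑Q) u w)
    · show polar (⇑Q) (A *ᵥ 0) (A *ᵥ w) = polar (⇑Q) 0 w
      rw [Matrix.mulVec_zero, polar_zero_left, polar_zero_left]
    · intro a b ha hb
      show polar (⇑Q) (A *ᵥ (a + b)) (A *ᵥ w) = polar (⇑Q) (a + b) w
      rw [Matrix.mulVec_add, polar_add_left, polar_add_left, ha, hb]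
    · intro c a ha
      show polar (⇑Q) (A *ᵥ (c • a)) (A *ᵥ w) = polar (⇑Q) (c • a) w
      rw [Matrix.mulVec_smul, polar_smul_left, polar_smul_left, ha]
    · intro x
      exact h1 x w
  have h4 := h3 v v
  rw [polar_self, polar_self] at h4
  simp only [nsmul_eq_mul, Nat.cast_ofNat] at h4
  exact mul_left_cancel₀ h2 h4

variable (hP : Cfsg.Geo.IsQuadFormRationalStructure (⇑Q) F₀ P)

theorem liftGL_mem_iso (h2 : (2 : F) ≠ 0) (A₀ : GL ι ↥F₀)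
    (hA : A₀ ∈ Cfsg.isometryGroup ↥F₀ (⇑(Q0 F₀ P Q hP))) :
    liftGL F₀ P A₀ ∈ Cfsg.isometryGroup F (⇑Q) := by
  rw [mem_isometryGroup_iff]
  intro v
  apply preserves_of_rat F₀ P Q h2
  intro x y
  rw [liftGL_mulVec_rv, liftGL_mulVec_rv, ← Q0_polar_coe F₀ P Q hP, ← Q0_polar_coe F₀ P Q hP,
    polar_mulVec_of_preserves (Q0 F₀ P Q hP) _
      ((mem_isometryGroup_iff (⇑(Q0 F₀ P Q hP)) A₀).1 hA)]

/-- the lifting homomorphism on isometry groups -/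
noncomputable def liftIso (h2 : (2 : F) ≠ 0) :
    ↥(Cfsg.isometryGroup ↥F₀ (⇑(Q0 F₀ P Q hP))) →* ↥(Cfsg.isometryGroup F (⇑Q)) :=
  ((liftGL F₀ P).comp (Cfsg.isometryGroup ↥F₀ (⇑(Q0 F₀ P Q hP))).subtype).codRestrict
    (Cfsg.isometryGroup F (⇑Q)) (fun g => liftGL_mem_iso F₀ P Q hP h2 g.1 g.2)

theorem liftIso_coe (h2 : (2 : F) ≠ 0) (g : ↥(Cfsg.isometryGroup ↥F₀ (⇑(Q0 F₀ P Q hP)))) :
    ((liftIso F₀ P Q hP h2 g : ↥(Cfsg.isometryGroup F (⇑Q))) : GL ι F) = liftGL F₀ P g.1 := rfl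

theorem act_liftIso (h2 : (2 : F) ≠ 0) (g : ↥(Cfsg.isometryGroup ↥F₀ (⇑(Q0 F₀ P Q hP))))
    (x : ι → ↥F₀) :
    act Q (liftIso F₀ P Q hP h2 g) (rv F₀ P x) = rv F₀ P (act (Q0 F₀ P Q hP) g x) := by
  unfold act
  rw [liftIso_coe, liftGL_mulVec_rv]

theorem liftIso_mem_subfield (h2 : (2 : F) ≠ 0)
    (g : ↥(Cfsg.isometryGroup ↥F₀ (⇑(Q0 F₀ P Q hP)))) :
    ((liftIso F₀ P Q hP h2 g : ↥(Cfsg.isometryGroup F (⇑Q))) : GL ι F)
      ∈ Cfsg.Geo.subfieldSubgroup F₀ P := by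
  rw [liftIso_coe]
  exact liftGL_mem_subfield F₀ P g.1

theorem liftIso_mem_omega (h2 : (2 : F) ≠ 0)
    (g : ↥(Cfsg.isometryGroup ↥F₀ (⇑(Q0 F₀ P Q hP))))
    (hg : g ∈ commutator ↥(Cfsg.isometryGroup ↥F₀ (⇑(Q0 F₀ P Q hP)))) :
    liftIso F₀ P Q hP h2 g ∈ commutator ↥(Cfsg.isometryGroup F (⇑Q)) := by
  have h1 : (commutator ↥(Cfsg.isometryGroup ↥F₀ (⇑(Q0 F₀ P Q hP)))).map (liftIso F₀ P Q hP h2)
      ≤ commutator ↥(Cfsg.isometryGroup F (⇑Q)) := by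
    rw [commutator_def, commutator_def, Subgroup.map_commutator]
    exact Subgroup.commutator_mono le_top le_top
  exact h1 ⟨g, hg, rfl⟩

end Cfsg.Agent.Lib.Helper99.SubfO
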