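import Mathlib
import Cfsg.Prelude.Def_GeometricClasses
import Cfsg.Agent.Lib.Helper99.SubfOC
import Cfsg.Agent.Lib.Helper99.SubfOD

set_option autoImplicit false

/-!
Rational hyperbolic frames and the transitivity properties of the rational subgroup.
-/

namespace Cfsg.Agent.Lib.Helper99.SubfO

open Matrix Module QuadraticMap
open Cfsg.Agent.Lib.Helper8 Cfsg.Agent.Lib.Helper13 Cfsg.Agent.Lib.Helper37

variable {ι : Type} [Fintype ι] [DecidableEq ι] {F : Type*} [Field F]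
variable (F₀ : Subfield F) (P : GL ι F) (Q : QuadraticForm F (ι → F))

/-- a rational hyperbolic frame with five pairs -/
structure RatFrame (e f : Fin 5 → ι → F) : Prop where
  fam : HypFam Q 5 e f
  re : ∀ i, IsRat F₀ P (e i)
  rf : ∀ i, IsRat F₀ P (f i)

/-- elements of `Ω` in the subfield group that preserve rationality -/
def IsHElt (h : ↥(Cfsg.isometryGroup F (⇑Q))) : Prop :=
  h ∈ commutator ↥(Cfsg.isometryGroup F (⇑Q)) ∧
    (h : GL ι F) ∈ Cfsg.Geo.subfieldSubgroup F₀ P ∧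
    ∀ v, IsRat F₀ P v ↔ IsRat F₀ P (act Q h v)

variable {F₀ P Q}

theorem RatFrame.act {e f : Fin 5 → ι → F} (fr : RatFrame F₀ P Q e f)
    (h : ↥(Cfsg.isometryGroup F (⇑Q))) (hh : IsHElt F₀ P Q h) :
    RatFrame F₀ P Q (fun i => act Q h (e i)) (fun i => act Q h (f i)) := by
  refine ⟨⟨?_, ?_, ?_, ?_, ?_⟩, ?_, ?_⟩
  · intro i; show Q (Helper37.act Q h (e i)) = 0; rw [Q_act]; exact fr.fam.qe i
  · intro i; show Q (Helper37.act Q h (f i)) = 0; rw [Q_act]; exact fr.fam.qf i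
  · intro i i'; show polar (⇑Q) (Helper37.act Q h (e i)) (Helper37.act Q h (e i')) = 0
    rw [polar_act]; exact fr.fam.ee i i'
  · intro i i'; show polar (⇑Q) (Helper37.act Q h (f i)) (Helper37.act Q h (f i')) = 0
    rw [polar_act]; exact fr.fam.ff i i'
  · intro i i'; show polar (⇑Q) (Helper37.act Q h (e i)) (Helper37.act Q h (f i')) = _
    rw [polar_act]; exact fr.fam.ef i i'
  · intro i; exact (hh.2.2 _).1 (fr.re i)
  · intro i; exact (hh.2.2 _).1 (fr.rf i)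

variable (F₀ P Q)
variable (hP : Cfsg.Geo.IsQuadFormRationalStructure (⇑Q) F₀ P)

theorem linIndep_of_rv {n : ℕ} (x₀ : Fin n → ι → ↥F₀)
    (h : LinearIndependent F (fun i => rv F₀ P (x₀ i))) : LinearIndependent ↥F₀ x₀ := by
  rw [Fintype.linearIndependent_iff] at h ⊢
  intro g hg i
  have h1 : ∑ i, ((g i : ↥F₀) : F) • rv F₀ P (x₀ i) = 0 := by
    have h2 := congrArg (rv F₀ P) hg
    rw [rv_zero] at h2
    rw [← h2]
    have h3 : ∀ (s : Finset (Fin n)), rv F₀ P (∑ i ∈ s, g i • x₀ i)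
        = ∑ i ∈ s, ((g i : ↥F₀) : F) • rv F₀ P (x₀ i) := by
      intro s
      induction s using Finset.induction_on with
      | empty => simp [rv_zero]
      | insert a s ha ih =>
        rw [Finset.sum_insert ha, Finset.sum_insert ha, rv_add, rv_smul, ih]
    exact (h3 Finset.univ).symm
  have h4 := h (fun i => ((g i : ↥F₀) : F)) h1 i
  exact Subtype.ext h4

include hP in
theorem exists_ratFrame [Fintype F] (h2 : (2 : F) ≠ 0)
    (hQ : (QuadraticMap.polarBilin Q).Nondegenerate) (hn : 11 ≤ finrank F (ι → F)) :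
    ∃ e f : Fin 5 → ι → F, RatFrame F₀ P Q e f := by
  classical
  haveI : Fintype ↥F₀ := Fintype.ofFinite _
  have h2' : (2 : ↥F₀) ≠ 0 := by
    intro h
    apply h2
    have h3 := congrArg (fun x : ↥F₀ => (x : F)) h
    simp only [ZeroMemClass.coe_zero] at h3
    rw [← h3]
    norm_cast
  have hn' : 2 * 5 + 1 ≤ finrank ↥F₀ (ι → ↥F₀) := by
    rw [Module.finrank_fintype_fun_eq_card] at hn ⊢
    omega
  obtain ⟨e₀, f₀, h⟩ := exists_hypFam h2' (Q0 F₀ P Q hP) (Q0_nondeg F₀ P Q hP hQ) 5 hn'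
  refine ⟨fun i => rv F₀ P (e₀ i), fun i => rv F₀ P (f₀ i), ⟨?_, ?_, ?_, ?_, ?_⟩,
    fun i => isRat_rv F₀ P _, fun i => isRat_rv F₀ P _⟩
  · intro i; exact (Q0_eq_zero_iff F₀ P Q hP _).1 (h.qe i)
  · intro i; exact (Q0_eq_zero_iff F₀ P Q hP _).1 (h.qf i)
  · intro i i'; exact (Q0_polar_eq_zero_iff F₀ P Q hP _ _).1 (h.ee i i')
  · intro i i'; exact (Q0_polar_eq_zero_iff F₀ P Q hP _ _).1 (h.ff i i')
  · intro i i'
    show polar (⇑Q) (rv F₀ P (e₀ i)) (rv F₀ P (f₀ i')) = _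
    rw [← Q0_polar_coe F₀ P Q hP, h.ef i i']
    split_ifs <;> simp

include hP in
/-- the basic transitivity statement: Witt's theorem inside the rational subgroup -/
theorem ratFrame_move [Fintype F] (h2 : (2 : F) ≠ 0)
    (hQ : (QuadraticMap.polarBilin Q).Nondegenerate) (hn : 5 ≤ finrank F (ι → F))
    (e' f' : ι → F) (hre : IsRat F₀ P e') (hrf : IsRat F₀ P f')
    (he' : Q e' = 0) (hf' : Q f' = 0) (hef' : polar (⇑Q) e' f' = 1)
    (n : ℕ) (x y : Fin n → ι → F) (hxr : ∀ i, IsRat F₀ P (x i)) (hyr : ∀ i, IsRat F₀ P (y i))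
    (hx : LinearIndependent F x) (hy : LinearIndependent F y)
    (hq : ∀ i, Q (y i) = Q (x i)) (hp : ∀ i j, polar ⇑Q (y i) (y j) = polar ⇑Q (x i) (x j))
    (hxe : ∀ i, polar (⇑Q) e' (x i) = 0) (hxf : ∀ i, polar (⇑Q) f' (x i) = 0) :
    ∃ h : ↥(Cfsg.isometryGroup F (⇑Q)), IsHElt F₀ P Q h ∧ ∀ i, act Q h (x i) = y i := by
  classical
  haveI : Fintype ↥F₀ := Fintype.ofFinite _
  obtain ⟨e₀, rfl⟩ := hre
  obtain ⟨f₀, rfl⟩ := hrf
  choose x₀ hx₀ using hxr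
  choose y₀ hy₀ using hyr
  have hxe' : x = fun i => rv F₀ P (x₀ i) := funext fun i => (hx₀ i).symm
  have hye' : y = fun i => rv F₀ P (y₀ i) := funext fun i => (hy₀ i).symm
  subst hxe' hye'
  have hn' : 5 ≤ finrank ↥F₀ (ι → ↥F₀) := by
    rw [Module.finrank_fintype_fun_eq_card] at hn ⊢
    exact hn
  have hcoe : ∀ a b : ↥F₀, (a : F) = (b : F) → a = b := fun a b h => Subtype.ext h
  obtain ⟨g₀, hg₀, hg₀x⟩ := witt_omega_spare (Q0 F₀ P Q hP) (Q0_nondeg F₀ P Q hP hQ) hn'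
    e₀ f₀ ((Q0_eq_zero_iff F₀ P Q hP _).2 he') ((Q0_eq_zero_iff F₀ P Q hP _).2 hf')
    (by apply hcoe; rw [Q0_polar_coe, hef']; rfl)
    n x₀ y₀ (linIndep_of_rv F₀ P x₀ hx) (linIndep_of_rv F₀ P y₀ hy)
    (fun i => by apply hcoe; rw [Q0_coe, Q0_coe]; exact hq i)
    (fun i j => by apply hcoe; rw [Q0_polar_coe, Q0_polar_coe]; exact hp i j)
    (fun i => (Q0_polar_eq_zero_iff F₀ P Q hP _ _).2 (hxe i))
    (fun i => (Q0_polar_eq_zero_iff F₀ P Q hP _ _).2 (hxf i))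
  refine ⟨liftIso F₀ P Q hP h2 g₀, ⟨liftIso_mem_omega F₀ P Q hP h2 g₀ hg₀,
    liftIso_mem_subfield F₀ P Q hP h2 g₀, ?_⟩, ?_⟩
  · intro v
    constructor
    · rintro ⟨z, rfl⟩
      rw [act_liftIso]
      exact isRat_rv F₀ P _
    · rintro ⟨z', hz'⟩
      refine ⟨Helper37.act (Q0 F₀ P Q hP) g₀⁻¹ z', ?_⟩
      have h1 := act_inv_eq Q (liftIso F₀ P Q hP h2 g₀) v _ hz'.symm
      rw [← h1, ← map_inv, act_liftIso]
  · intro i
    show Helper37.act Q (liftIso F₀ P Q hP h2 g₀) (rv F₀ P (x₀ i)) = rv F₀ P (y₀ i)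
    rw [act_liftIso, hg₀x i]

end Cfsg.Agent.Lib.Helper99.SubfO
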