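import Mathlib
import Cfsg.Prelude.Def_GeometricClasses
import Cfsg.Agent.Lib.Helper99.SubfOE
import Cfsg.Agent.Lib.Helper37.ParabolicMax

set_option autoImplicit false

/-!
Consequences of the transitivity statement, rational Eichler transformations, and the calculus of
the sets `{w | E(u, w) ∈ M}`.
-/

namespace Cfsg.Agent.Lib.Helper99.SubfO

open Matrix Module QuadraticMap
open Cfsg.Agent.Lib.Helper8 Cfsg.Agent.Lib.Helper13 Cfsg.Agent.Lib.Helper37

variable {ι : Type} [Fintype ι] [DecidableEq ι] {F : Type*} [Field F]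
variable (F₀ : Subfield F) (P : GL ι F) (Q : QuadraticForm F (ι → F))
variable (hP : Cfsg.Geo.IsQuadFormRationalStructure (⇑Q) F₀ P)

include hP in
theorem Q_mem_of_isRat {v : ι → F} (hv : IsRat F₀ P v) : Q v ∈ F₀ := by
  obtain ⟨x, rfl⟩ := hv
  exact Q_rv_mem F₀ P Q hP x

include hP in
theorem polar_mem_of_isRat {v w : ι → F} (hv : IsRat F₀ P v) (hw : IsRat F₀ P w) :
    polar (⇑Q) v w ∈ F₀ := by
  obtain ⟨x, rfl⟩ := hv
  obtain ⟨y, rfl⟩ := hw
  exact polar_rv_mem F₀ P Q hP x y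

section moves

variable [Fintype F] (h2 : (2 : F) ≠ 0) (hQ : (QuadraticMap.polarBilin Q).Nondegenerate)
  (hn : 5 ≤ finrank F (ι → F))

include hP h2 hQ hn in
theorem exists_move_one {e f : Fin 5 → ι → F} (fr : RatFrame F₀ P Q e f) (u : ι → F)
    (hur : IsRat F₀ P u) (hu0 : u ≠ 0) (hQu : Q u = 0) :
    ∃ h : ↥(Cfsg.isometryGroup F (⇑Q)), IsHElt F₀ P Q h ∧ act Q h (e 0) = u := by
  obtain ⟨h, hh, hx⟩ := ratFrame_move F₀ P Q hP h2 hQ hn (e 4) (f 4) (fr.re 4) (fr.rf 4)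
    (fr.fam.qe 4) (fr.fam.qf 4) (by rw [fr.fam.ef]; simp) 1 (fun _ => e 0) (fun _ => u)
    (fun _ => fr.re 0) (fun _ => hur)
    (by rw [linearIndependent_unique_iff]; exact fr.fam.e_ne_zero 0)
    (by rw [linearIndependent_unique_iff]; exact hu0)
    (fun _ => by rw [hQu, fr.fam.qe])
    (fun _ _ => by rw [polar_self, polar_self, hQu, fr.fam.qe])
    (fun _ => fr.fam.ee 4 0)
    (fun _ => by rw [fr.fam.fe]; simp)
  exact ⟨h, hh, hx 0⟩

include hP h2 hQ hn in
theorem exists_move_pair {e f : Fin 5 → ι → F} (fr : RatFrame F₀ P Q e f) (u a : ι → F)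
    (hur : IsRat F₀ P u) (har : IsRat F₀ P a) (hQu : Q u = 0) (hQa : Q a = 0)
    (hua : polar (⇑Q) u a = 0) (hli : LinearIndependent F ![u, a]) :
    ∃ h : ↥(Cfsg.isometryGroup F (⇑Q)), IsHElt F₀ P Q h ∧ act Q h (e 0) = u ∧
      act Q h (e 1) = a := by
  have hx : LinearIndependent F ![e 0, e 1] := by
    rw [LinearIndependent.pair_iff]
    intro s t hst
    have h0 := congrArg (fun x => polar (⇑Q) x (f 0)) hst
    have h1 := congrArg (fun x => polar (⇑Q) x (f 1)) hst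
    simp only [polar_add_left, polar_smul_left, fr.fam.ef, polar_zero_left, smul_eq_mul] at h0 h1
    simp at h0 h1
    exact ⟨h0, h1⟩
  have hau : polar (⇑Q) a u = 0 := by rw [polar_comm]; exact hua
  obtain ⟨h, hh, hxy⟩ := ratFrame_move F₀ P Q hP h2 hQ hn (e 4) (f 4) (fr.re 4) (fr.rf 4)
    (fr.fam.qe 4) (fr.fam.qf 4) (by rw [fr.fam.ef]; simp) 2 ![e 0, e 1] ![u, a]
    (by intro i; fin_cases i; exact fr.re 0; exact fr.re 1)
    (by intro i; fin_cases i; exact hur; exact har)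
    hx hli
    (by intro i; fin_cases i <;> simp [hQu, hQa, fr.fam.qe])
    (by
      intro i j
      fin_cases i <;> fin_cases j <;>
        simp [polar_self, hQu, hQa, hua, hau, fr.fam.qe, fr.fam.ee])
    (by intro i; fin_cases i <;> simp [fr.fam.ee])
    (by intro i; fin_cases i <;> simp [fr.fam.fe])
  exact ⟨h, hh, hxy 0, hxy 1⟩

include hP h2 hQ hn in
theorem exists_move_quad {e f : Fin 5 → ι → F} (fr : RatFrame F₀ P Q e f) (a a' b b' : ι → F)
    (har : IsRat F₀ P a) (har' : IsRat F₀ P a') (hbr : IsRat F₀ P b) (hbr' : IsRat F₀ P b')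
    (hQa : Q a = 0) (hQa' : Q a' = 0) (hQb : Q b = 0) (hQb' : Q b' = 0)
    (haa' : polar (⇑Q) a a' = 1) (hbb' : polar (⇑Q) b b' = 1)
    (hab : polar (⇑Q) a b = 0) (hab' : polar (⇑Q) a b' = 0)
    (ha'b : polar (⇑Q) a' b = 0) (ha'b' : polar (⇑Q) a' b' = 0) :
    ∃ h : ↥(Cfsg.isometryGroup F (⇑Q)), IsHElt F₀ P Q h ∧ act Q h (e 0) = a ∧
      act Q h (f 0) = a' ∧ act Q h (e 1) = b ∧ act Q h (f 1) = b' := by
  have hx : LinearIndependent F ![e 0, f 0, e 1, f 1] := by
    have h1 := (HypFam.linearIndependent' fr.fam).comp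
      (![Sum.inl 0, Sum.inr 0, Sum.inl 1, Sum.inr 1] : Fin 4 → Fin 5 ⊕ Fin 5) (by decide)
    convert h1 using 1
    ext i : 1
    fin_cases i <;> rfl
  have hfam2 : HypFam Q 2 ![a, b] ![a', b'] := by
    refine ⟨?_, ?_, ?_, ?_, ?_⟩
    · intro i; fin_cases i <;> simp [hQa, hQb]
    · intro i; fin_cases i <;> simp [hQa', hQb']
    · intro i j
      fin_cases i <;> fin_cases j <;>
        simp [polar_self, hQa, hQb, hab, polar_comm (⇑Q) b a]
    · intro i j
      fin_cases i <;> fin_cases j <;>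
        simp [polar_self, hQa', hQb', ha'b', polar_comm (⇑Q) b' a']
    · intro i j
      fin_cases i <;> fin_cases j <;>
        simp [haa', hbb', hab', polar_comm (⇑Q) b a', ha'b]
  have hy : LinearIndependent F ![a, a', b, b'] := by
    have h1 := (HypFam.linearIndependent' hfam2).comp
      (![Sum.inl 0, Sum.inr 0, Sum.inl 1, Sum.inr 1] : Fin 4 → Fin 2 ⊕ Fin 2) (by decide)
    convert h1 using 1
    ext i : 1
    fin_cases i <;> rfl
  obtain ⟨h, hh, hxy⟩ := ratFrame_move F₀ P Q hP h2 hQ hn (e 4) (f 4) (fr.re 4) (fr.rf 4)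
    (fr.fam.qe 4) (fr.fam.qf 4) (by rw [fr.fam.ef]; simp) 4 ![e 0, f 0, e 1, f 1]
    ![a, a', b, b']
    (by intro i; fin_cases i; exact fr.re 0; exact fr.rf 0; exact fr.re 1; exact fr.rf 1)
    (by intro i; fin_cases i; exact har; exact har'; exact hbr; exact hbr')
    hx hy
    (by intro i; fin_cases i <;> simp [hQa, hQa', hQb, hQb', fr.fam.qe, fr.fam.qf])
    (by
      intro i j
      fin_cases i <;> fin_cases j <;>
        simp [polar_self, hQa, hQa', hQb, hQb', haa', hbb', hab, hab', ha'b, ha'b',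
          polar_comm (⇑Q) a' a, polar_comm (⇑Q) b a, polar_comm (⇑Q) b' a,
          polar_comm (⇑Q) b a', polar_comm (⇑Q) b' a', polar_comm (⇑Q) b' b,
          fr.fam.qe, fr.fam.qf, fr.fam.ee, fr.fam.ff, fr.fam.ef, fr.fam.fe])
    (by intro i; fin_cases i <;> simp [fr.fam.ee, fr.fam.ef])
    (by intro i; fin_cases i <;> simp [fr.fam.fe, fr.fam.ff])
  exact ⟨h, hh, hxy 0, hxy 1, hxy 2, hxy 3⟩

end moves

end Cfsg.Agent.Lib.Helper99.SubfO
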