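import Mathlib
import Cfsg.Prelude.Def_GeometricClasses
import Cfsg.Agent.Lib.Helper99.SubfOF

set_option autoImplicit false

/-!
Rational Eichler transformations and the calculus of the sets `{w | E(u, w) ∈ M}`.
-/

namespace Cfsg.Agent.Lib.Helper99.SubfO

open Matrix Module QuadraticMap
open Cfsg.Agent.Lib.Helper8 Cfsg.Agent.Lib.Helper13 Cfsg.Agent.Lib.Helper37

variable {ι : Type} [Fintype ι] [DecidableEq ι] {F : Type*} [Field F]
variable (F₀ : Subfield F) (P : GL ι F) (Q : QuadraticForm F (ι → F))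
variable (hP : Cfsg.Geo.IsQuadFormRationalStructure (⇑Q) F₀ P)
variable (hQ : (QuadraticMap.polarBilin Q).Nondegenerate)

include hP in
theorem ratEichler_maps (u w : ι → F) (hur : IsRat F₀ P u) (hwr : IsRat F₀ P w)
    (hu : Q u = 0) (huw : polar (⇑Q) u w = 0) (v : ι → F) (hv : IsRat F₀ P v) :
    IsRat F₀ P (act Q (eichlerElt Q hQ u w hu huw) v) := by
  rw [act_eichlerElt]
  have h1 := polar_mem_of_isRat F₀ P Q hP hur hv
  have h2 := polar_mem_of_isRat F₀ P Q hP hwr hv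
  have h3 := Q_mem_of_isRat F₀ P Q hP hwr
  exact ((hv.add (hwr.smul h1)).sub (hur.smul h2)).sub (hur.smul (F₀.mul_mem h3 h1))

include hP in
theorem ratEichler_isHElt [Fintype F] (h2 : (2 : F) ≠ 0) (hn : 5 ≤ finrank F (ι → F))
    (u w : ι → F) (hur : IsRat F₀ P u) (hwr : IsRat F₀ P w)
    (hu : Q u = 0) (huw : polar (⇑Q) u w = 0) :
    IsHElt F₀ P Q (eichlerElt Q hQ u w hu huw) := by
  refine ⟨eichlerElt_mem_omega Q hQ hn (fun h => absurd h h2) u w hu huw, ?_, ?_⟩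
  · apply mem_subfield_of_maps F₀ P _ 1 one_ne_zero
    intro x
    rw [one_smul]
    exact ratEichler_maps F₀ P Q hP hQ u w hur hwr hu huw _ (isRat_rv F₀ P x)
  · intro v
    constructor
    · exact ratEichler_maps F₀ P Q hP hQ u w hur hwr hu huw v
    · intro hv
      have h1 := act_inv_eq Q (eichlerElt Q hQ u w hu huw) v _ rfl
      rw [← h1, eichlerElt_inv]
      exact ratEichler_maps F₀ P Q hP hQ u (-w) hur hwr.neg hu _ _ hv

variable (M : Subgroup ↥(Cfsg.isometryGroup F (⇑Q)))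

/-- the Eichler transformation `E(u, w)` exists and lies in `M` -/
def EM (u w : ι → F) : Prop :=
  ∃ (hu : Q u = 0) (huw : polar (⇑Q) u w = 0), eichlerElt Q hQ u w hu huw ∈ M

variable {Q hQ M}

theorem EM.add {u w₁ w₂ : ι → F} (h1 : EM Q hQ M u w₁) (h2 : EM Q hQ M u w₂) :
    EM Q hQ M u (w₁ + w₂) := by
  obtain ⟨hu, huw₁, hm₁⟩ := h1
  obtain ⟨_, huw₂, hm₂⟩ := h2
  refine ⟨hu, by rw [polar_add_right, huw₁, huw₂, add_zero], ?_⟩
  rw [← eichlerElt_mul Q hQ u w₁ w₂ hu huw₁ huw₂]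
  exact M.mul_mem hm₁ hm₂

theorem EM.neg {u w : ι → F} (h1 : EM Q hQ M u w) : EM Q hQ M u (-w) := by
  obtain ⟨hu, huw, hm⟩ := h1
  refine ⟨hu, by rw [polar_neg_right, huw, neg_zero], ?_⟩
  rw [← eichlerElt_inv Q hQ u w hu huw]
  exact M.inv_mem hm

theorem EM.sub {u w₁ w₂ : ι → F} (h1 : EM Q hQ M u w₁) (h2 : EM Q hQ M u w₂) :
    EM Q hQ M u (w₁ - w₂) := by
  rw [sub_eq_add_neg]
  exact h1.add h2.neg

theorem EM.conj {u w : ι → F} (h1 : EM Q hQ M u w) (k : ↥(Cfsg.isometryGroup F (⇑Q)))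
    (hk : k ∈ M) : EM Q hQ M (act Q k u) (act Q k w) := by
  obtain ⟨hu, huw, hm⟩ := h1
  refine ⟨by rw [Q_act]; exact hu, by rw [polar_act]; exact huw, ?_⟩
  have := conj_eichlerElt Q hQ k u w hu huw
  have h2 : k * eichlerElt Q hQ u w hu huw * k⁻¹ ∈ M := M.mul_mem (M.mul_mem hk hm) (M.inv_mem hk)
  rw [this] at h2
  exact h2

theorem EM.zero_right {u : ι → F} (hu : Q u = 0) : EM Q hQ M u 0 := by
  refine ⟨hu, by simp, ?_⟩
  rw [eichlerElt_zero]
  exact M.one_mem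

theorem EM.smul_self {u : ι → F} (hu : Q u = 0) (t : F) : EM Q hQ M u (t • u) := by
  have huu : polar (⇑Q) u (t • u) = 0 := by
    rw [polar_smul_right, polar_self, hu]; simp
  refine ⟨hu, huu, ?_⟩
  have h1 := eichlerElt_add_smul Q hQ u 0 hu (by simp) t
  rw [eichlerElt_zero] at h1
  have h2 : eichlerElt Q hQ u (t • u) hu huu = 1 := by
    rw [← h1]
    exact eichlerElt_congr Q hQ _ _ _ _ _ _ _ _ rfl (by rw [zero_add])
  rw [h2]
  exact M.one_mem

theorem EM.add_smul_self {u w : ι → F} (h1 : EM Q hQ M u w) (t : F) :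
    EM Q hQ M u (w + t • u) :=
  h1.add (EM.smul_self h1.1 t)

theorem EM.of_smul_left {u w : ι → F} {c : F} (hc : c ≠ 0) (h1 : EM Q hQ M (c • u) w) :
    EM Q hQ M u (c • w) := by
  obtain ⟨hcu, hcuw, hm⟩ := h1
  have hu : Q u = 0 := by
    rw [QuadraticMap.map_smul, smul_eq_mul] at hcu
    exact (mul_eq_zero.1 hcu).resolve_left (mul_ne_zero hc hc)
  have huw : polar (⇑Q) u w = 0 := by
    rw [polar_smul_left, smul_eq_mul] at hcuw
    exact (mul_eq_zero.1 hcuw).resolve_left hc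
  refine ⟨hu, by rw [polar_smul_right, huw, smul_zero], ?_⟩
  rw [← eichlerElt_smul_left Q hQ u w hu huw c]
  exact hm

end Cfsg.Agent.Lib.Helper99.SubfO
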