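import Mathlib
import Cfsg.Prelude.Def_GeometricClasses
import Cfsg.Agent.Lib.Helper99.SubfOG

set_option autoImplicit false

/-!
Case A: an irrational root element at a rational singular point forces `M = Ω`.
-/

namespace Cfsg.Agent.Lib.Helper99.SubfO

open Matrix Module QuadraticMap
open Cfsg.Agent.Lib.Helper8 Cfsg.Agent.Lib.Helper13 Cfsg.Agent.Lib.Helper37
open scoped commutatorElement

variable {ι : Type} [Fintype ι] [DecidableEq ι] {F : Type*} [Field F]
variable (F₀ : Subfield F) (P : GL ι F) (Q : QuadraticForm F (ι → F))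
variable (hP : Cfsg.Geo.IsQuadFormRationalStructure (⇑Q) F₀ P)
variable (hQ : (QuadraticMap.polarBilin Q).Nondegenerate)

include hP in
/-- decomposition of a rational vector along the first two pairs of a rational frame, the
remainder being made singular -/
theorem rat_decomp2 {e f : Fin 5 → ι → F} (fr : RatFrame F₀ P Q e f) (x : ι → F)
    (hx : IsRat F₀ P x) :
    ∃ (s : ι → F) (α β : F), IsRat F₀ P s ∧ Q s = 0 ∧ s ≠ 0 ∧ polar (⇑Q) (e 0) s = 0 ∧
      polar (⇑Q) (f 0) s = 0 ∧ α ∈ F₀ ∧ β ∈ F₀ ∧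
      x = polar (⇑Q) (f 0) x • e 0 + polar (⇑Q) (e 0) x • f 0 + s + α • e 1 + β • f 1 := by
  have h01 : (0 : Fin 5) ≠ 1 := by decide
  have h10 : (1 : Fin 5) ≠ 0 := by decide
  obtain ⟨γ, hγ⟩ : ∃ γ, γ = polar (⇑Q) (f 0) x := ⟨_, rfl⟩
  obtain ⟨δ, hδ⟩ : ∃ δ, δ = polar (⇑Q) (e 0) x := ⟨_, rfl⟩
  obtain ⟨α₀, hα₀⟩ : ∃ α₀, α₀ = polar (⇑Q) (f 1) x := ⟨_, rfl⟩
  obtain ⟨β₀, hβ₀⟩ : ∃ β₀, β₀ = polar (⇑Q) (e 1) x := ⟨_, rfl⟩
  have hγm : γ ∈ F₀ := by rw [hγ]; exact polar_mem_of_isRat F₀ P Q hP (fr.rf 0) hx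
  have hδm : δ ∈ F₀ := by rw [hδ]; exact polar_mem_of_isRat F₀ P Q hP (fr.re 0) hx
  have hα₀m : α₀ ∈ F₀ := by rw [hα₀]; exact polar_mem_of_isRat F₀ P Q hP (fr.rf 1) hx
  have hβ₀m : β₀ ∈ F₀ := by rw [hβ₀]; exact polar_mem_of_isRat F₀ P Q hP (fr.re 1) hx
  obtain ⟨t', ht'⟩ : ∃ t', t' = x - γ • e 0 - δ • f 0 - α₀ • e 1 - β₀ • f 1 := ⟨_, rfl⟩
  have ht'r : IsRat F₀ P t' := by
    rw [ht']
    exact (((hx.sub ((fr.re 0).smul hγm)).sub ((fr.rf 0).smul hδm)).sub
      ((fr.re 1).smul hα₀m)).sub ((fr.rf 1).smul hβ₀m)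
  have hte0 : polar (⇑Q) (e 0) t' = 0 := by
    rw [ht']
    simp only [polar_sub_right, polar_smul_right, fr.fam.ee, fr.fam.ef, ← hδ, smul_eq_mul,
      if_neg h01]
    simp
  have htf0 : polar (⇑Q) (f 0) t' = 0 := by
    rw [ht']
    simp only [polar_sub_right, polar_smul_right, fr.fam.fe, fr.fam.ff, ← hγ, smul_eq_mul,
      if_neg h01]
    simp
  have hte1 : polar (⇑Q) (e 1) t' = 0 := by
    rw [ht']
    simp only [polar_sub_right, polar_smul_right, fr.fam.ee, fr.fam.ef, ← hβ₀, smul_eq_mul,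
      if_neg h10]
    simp
  have htf1 : polar (⇑Q) (f 1) t' = 0 := by
    rw [ht']
    simp only [polar_sub_right, polar_smul_right, fr.fam.fe, fr.fam.ff, ← hα₀, smul_eq_mul,
      if_neg h10]
    simp
  obtain ⟨q, hq⟩ : ∃ q, q = Q t' := ⟨_, rfl⟩
  have hqm : q ∈ F₀ := by rw [hq]; exact Q_mem_of_isRat F₀ P Q hP ht'r
  refine ⟨t' + ((-q) • e 1 + (1 : F) • f 1), α₀ + q, β₀ - 1, ?_, ?_, ?_, ?_, ?_,
    F₀.add_mem hα₀m hqm, F₀.sub_mem hβ₀m F₀.one_mem, ?_⟩
  · exact ht'r.add (((fr.re 1).smul (F₀.neg_mem hqm)).add ((fr.rf 1).smul F₀.one_mem))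
  · rw [fr.fam.Q_add_comb 1 (-q) 1 t' hte1 htf1, ← hq]; ring
  · intro h0
    have h1 : polar (⇑Q) (e 1) (t' + ((-q) • e 1 + (1 : F) • f 1)) = 1 := by
      simp only [polar_add_right, polar_smul_right, hte1, fr.fam.ee, fr.fam.ef, smul_eq_mul]
      simp
    rw [h0, polar_zero_right] at h1
    exact zero_ne_one h1
  · simp only [polar_add_right, polar_smul_right, hte0, fr.fam.ee, fr.fam.ef, smul_eq_mul,
      if_neg h01]
    simp
  · simp only [polar_add_right, polar_smul_right, htf0, fr.fam.fe, fr.fam.ff, smul_eq_mul,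
      if_neg h01]
    simp
  · rw [← hγ, ← hδ, ht']
    module

variable [Fintype F] (h2 : (2 : F) ≠ 0) (hn : 5 ≤ finrank F (ι → F))
variable (M : Subgroup ↥(Cfsg.isometryGroup F (⇑Q)))
variable (hHM : ∀ h : ↥(Cfsg.isometryGroup F (⇑Q)), IsHElt F₀ P Q h → h ∈ M)

include hP h2 hn hHM in
theorem EM_of_rat (u w : ι → F) (hur : IsRat F₀ P u) (hwr : IsRat F₀ P w) (hu : Q u = 0)
    (huw : polar (⇑Q) u w = 0) : EM Q hQ M u w :=
  ⟨hu, huw, hHM _ (ratEichler_isHElt F₀ P Q hP hQ h2 hn u w hur hwr hu huw)⟩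

include hP h2 hn hHM in
/-- the parameter set of a rational totally singular pair does not depend on the pair -/
theorem em_pair_iff {e f : Fin 5 → ι → F} (fr : RatFrame F₀ P Q e f) (u a : ι → F)
    (hur : IsRat F₀ P u) (har : IsRat F₀ P a) (hQu : Q u = 0) (hQa : Q a = 0)
    (hua : polar (⇑Q) u a = 0) (hli : LinearIndependent F ![u, a]) (s : F) :
    EM Q hQ M u (s • a) ↔ EM Q hQ M (e 0) (s • e 1) := by
  obtain ⟨h, hh, h0, h1⟩ := exists_move_pair F₀ P Q hP h2 hQ hn fr u a hur har hQu hQa hua hli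
  have hM : h ∈ M := hHM h hh
  constructor
  · intro hE
    have := hE.conj h⁻¹ (M.inv_mem hM)
    rw [act_smul, act_inv_eq Q h _ _ h0, act_inv_eq Q h _ _ h1] at this
    exact this
  · intro hE
    have := hE.conj h hM
    rw [act_smul, h0, h1] at this
    exact this

include hP h2 hn hHM in
theorem param_mul {e f : Fin 5 → ι → F} (fr : RatFrame F₀ P Q e f) (s t : F)
  (hs : EM Q hQ M (e 0) (s • e 1)) (ht : EM Q hQ M (e 0) (t • e 1)) :
  EM Q hQ M (e 0) ((s * t) • e 1) := by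
  have h02 : (0 : Fin 5) ≠ 2 := by decide
  have h12 : (1 : Fin 5) ≠ 2 := by decide
  have h21 : (2 : Fin 5) ≠ 1 := by decide
  have h20 : (2 : Fin 5) ≠ 0 := by decide
  have h01 : (0 : Fin 5) ≠ 1 := by decide
  -- the pair (e 2, f 1)
  have hli1 : LinearIndependent F ![e 2, f 1] := by
    rw [LinearIndependent.pair_iff]
    intro a b hab
    have ha := congrArg (fun x => polar (⇑Q) x (f 2)) hab
    have hb := congrArg (fun x => polar (⇑Q) x (e 1)) hab
    simp only [polar_add_left, polar_smul_left, fr.fam.ef, fr.fam.ff, fr.fam.ee, fr.fam.fe,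
      polar_zero_left, smul_eq_mul] at ha hb
    simp at ha hb
    exact ⟨ha, hb⟩
  have ht' : EM Q hQ M (e 2) (t • f 1) :=
    (em_pair_iff F₀ P Q hP hQ h2 hn M hHM fr (e 2) (f 1) (fr.re 2) (fr.rf 1) (fr.fam.qe 2)
      (fr.fam.qf 1) (by rw [fr.fam.ef, if_neg h21]) hli1 t).2 ht
  obtain ⟨hu0, huw0, hm0⟩ := hs
  obtain ⟨hu2, huw2, hm2⟩ := ht'
  have hc := eichler_commutator Q hQ (e 0) (e 2) (s • e 1) (t • f 1) hu0 hu2 (fr.fam.ee 0 2)
    huw0 (by rw [polar_smul_right, fr.fam.ee]; simp)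
    (by rw [polar_smul_right, fr.fam.ef, if_neg h01]; simp) huw2
  have hmem : ⁅eichlerElt Q hQ (e 2) (t • f 1) hu2 huw2,
      eichlerElt Q hQ (e 0) (s • e 1) hu0 huw0⁆ ∈ M := by
    rw [commutatorElement_def]
    exact M.mul_mem (M.mul_mem (M.mul_mem hm2 hm0) (M.inv_mem hm2)) (M.inv_mem hm0)
  rw [hc] at hmem
  have hpol : polar (⇑Q) (t • f 1) (s • e 1) = t * s := by
    rw [polar_smul_left, polar_smul_right, fr.fam.fe]; simp
  have hE : EM Q hQ M (e 0) ((-(t * s)) • e 2) := by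
    refine ⟨hu0, by rw [polar_smul_right, fr.fam.ee]; simp, ?_⟩
    have := hmem
    rw [eichlerElt_congr Q hQ (e 0) (-polar (⇑Q) (t • f 1) (s • e 1) • e 2) (e 0)
      ((-(t * s)) • e 2) hu0 _ hu0 (by rw [polar_smul_right, fr.fam.ee]; simp) rfl
      (by rw [hpol])] at this
    exact this
  have hli2 : LinearIndependent F ![e 0, e 2] := by
    rw [LinearIndependent.pair_iff]
    intro a b hab
    have ha := congrArg (fun x => polar (⇑Q) x (f 0)) hab
    have hb := congrArg (fun x => polar (⇑Q) x (f 2)) hab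
    simp only [polar_add_left, polar_smul_left, fr.fam.ef, polar_zero_left, smul_eq_mul]
      at ha hb
    simp at ha hb
    exact ⟨ha, hb⟩
  have h3 := (em_pair_iff F₀ P Q hP hQ h2 hn M hHM fr (e 0) (e 2) (fr.re 0) (fr.re 2)
    (fr.fam.qe 0) (fr.fam.qe 2) (fr.fam.ee 0 2) hli2 (-(t * s))).1 hE
  have h4 := h3.neg
  rw [← neg_smul, neg_neg, mul_comm] at h4
  exact h4

include hP h2 hn hHM in
theorem param_one {e f : Fin 5 → ι → F} (fr : RatFrame F₀ P Q e f) :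
    EM Q hQ M (e 0) ((1 : F) • e 1) := by
  rw [one_smul]
  exact EM_of_rat F₀ P Q hP hQ h2 hn M hHM (e 0) (e 1) (fr.re 0) (fr.re 1) (fr.fam.qe 0)
    (fr.fam.ee 0 1)

include hP h2 hn hHM in
theorem param_pow {e f : Fin 5 → ι → F} (fr : RatFrame F₀ P Q e f) (s : F)
    (hs : EM Q hQ M (e 0) (s • e 1)) (k : ℕ) : EM Q hQ M (e 0) ((s ^ k) • e 1) := by
  induction k with
  | zero =>
    rw [pow_zero]
    exact param_one F₀ P Q hP hQ h2 hn M hHM fr
  | succ k ih =>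
    rw [pow_succ]
    exact param_mul F₀ P Q hP hQ h2 hn M hHM fr _ _ ih hs

/-- the parameter set as a subfield -/
def paramField {e f : Fin 5 → ι → F} (fr : RatFrame F₀ P Q e f) : Subfield F where
  carrier := {s | EM Q hQ M (e 0) (s • e 1)}
  mul_mem' := by
    intro s t hs ht
    exact param_mul F₀ P Q hP hQ h2 hn M hHM fr s t hs ht
  one_mem' := param_one F₀ P Q hP hQ h2 hn M hHM fr
  add_mem' := by
    intro s t hs ht
    show EM Q hQ M (e 0) ((s + t) • e 1)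
    rw [add_smul]
    exact EM.add hs ht
  zero_mem' := by
    show EM Q hQ M (e 0) ((0 : F) • e 1)
    rw [zero_smul]
    exact EM.zero_right (fr.fam.qe 0)
  neg_mem' := by
    intro s hs
    show EM Q hQ M (e 0) ((-s) • e 1)
    rw [neg_smul]
    exact EM.neg hs
  inv_mem' := by
    intro s hs
    show EM Q hQ M (e 0) (s⁻¹ • e 1)
    by_cases hs0 : s = 0
    · rw [hs0, _root_.inv_zero, zero_smul]
      exact EM.zero_right (fr.fam.qe 0)
    · have h1 : s ^ (Fintype.card F - 1) = 1 := FiniteField.pow_card_sub_one_eq_one s hs0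
      have hcard : 2 ≤ Fintype.card F := Fintype.one_lt_card
      have h3 : s⁻¹ = s ^ (Fintype.card F - 2) := by
        apply inv_eq_of_mul_eq_one_right
        rw [← pow_succ']
        have : Fintype.card F - 2 + 1 = Fintype.card F - 1 := by omega
        rw [this, h1]
      rw [h3]
      exact param_pow F₀ P Q hP hQ h2 hn M hHM fr s hs _

end Cfsg.Agent.Lib.Helper99.SubfO
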