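import Mathlib
import Cfsg.Prelude.Def_GeometricClasses
import Cfsg.Agent.Lib.Helper99.SubfOH

set_option autoImplicit false

/-!
Case A, continued: a full parameter set gives `Ω ≤ M`; an irrational root element at a rational
singular point gives a full parameter set.
-/

namespace Cfsg.Agent.Lib.Helper99.SubfO

open Matrix Module QuadraticMap
open Cfsg.Agent.Lib.Helper8 Cfsg.Agent.Lib.Helper13 Cfsg.Agent.Lib.Helper37
open scoped commutatorElement

variable {ι : Type} [Fintype ι] [DecidableEq ι] {F : Type*} [Field F]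
variable (F₀ : Subfield F) (P : GL ι F) (Q : QuadraticForm F (ι → F))
variable (hP : Cfsg.Geo.IsQuadFormRationalStructure (⇑Q) F₀ P)
variable (hQ : (QuadraticMap.polarBilin Q).Nondegenerate)
variable [Fintype F] (h2 : (2 : F) ≠ 0) (hn : 5 ≤ finrank F (ι → F))
variable (M : Subgroup ↥(Cfsg.isometryGroup F (⇑Q)))
variable (hHM : ∀ h : ↥(Cfsg.isometryGroup F (⇑Q)), IsHElt F₀ P Q h → h ∈ M)

include hP h2 hn hHM in
theorem em_sing_all {e f : Fin 5 → ι → F} (fr : RatFrame F₀ P Q e f)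
    (hall : ∀ s : F, EM Q hQ M (e 0) (s • e 1))
    {e' f' : Fin 5 → ι → F} (fr' : RatFrame F₀ P Q e' f') (s : ι → F) (hsr : IsRat F₀ P s)
    (hQs : Q s = 0) (hs0 : s ≠ 0) (hse : polar (⇑Q) (e' 0) s = 0)
    (hsf : polar (⇑Q) (f' 0) s = 0) (c : F) : EM Q hQ M (e' 0) (c • s) := by
  have hli : LinearIndependent F ![e' 0, s] := by
    rw [LinearIndependent.pair_iff]
    intro a b hab
    have ha := congrArg (fun x => polar (⇑Q) (f' 0) x) hab
    simp only [polar_add_right, polar_smul_right, fr'.fam.fe, hsf, polar_zero_right,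
      smul_eq_mul] at ha
    simp at ha
    subst ha
    rw [zero_smul, zero_add] at hab
    exact ⟨rfl, (smul_eq_zero.1 hab).resolve_right hs0⟩
  exact (em_pair_iff F₀ P Q hP hQ h2 hn M hHM fr (e' 0) s (fr'.re 0) hsr (fr'.fam.qe 0) hQs hse
    hli c).2 (hall c)

include hP h2 hn hHM in
theorem rootFull_of_all {e f : Fin 5 → ι → F} (fr : RatFrame F₀ P Q e f)
    (hall : ∀ s : F, EM Q hQ M (e 0) (s • e 1))
    {e' f' : Fin 5 → ι → F} (fr' : RatFrame F₀ P Q e' f') :
    rootFull Q hQ M (e' 0) := by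
  have h01 : (0 : Fin 5) ≠ 1 := by decide
  have key : ∀ x : ι → F, ∀ c : F, EM Q hQ M (e' 0)
      (c • (x - polar (⇑Q) (f' 0) x • e' 0 - polar (⇑Q) (e' 0) x • f' 0)) := by
    intro x
    apply rat_induction F₀ P (p := fun x => ∀ c : F, EM Q hQ M (e' 0)
      (c • (x - polar (⇑Q) (f' 0) x • e' 0 - polar (⇑Q) (e' 0) x • f' 0)))
    · intro c
      simp only [polar_zero_right, zero_smul, sub_zero, smul_zero]
      exact EM.zero_right (fr'.fam.qe 0)
    · intro a b ha hb c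
      have : c • (a + b - polar (⇑Q) (f' 0) (a + b) • e' 0 - polar (⇑Q) (e' 0) (a + b) • f' 0)
          = c • (a - polar (⇑Q) (f' 0) a • e' 0 - polar (⇑Q) (e' 0) a • f' 0)
            + c • (b - polar (⇑Q) (f' 0) b • e' 0 - polar (⇑Q) (e' 0) b • f' 0) := by
        simp only [polar_add_right]
        module
      rw [this]
      exact (ha c).add (hb c)
    · intro d a ha c
      have : c • (d • a - polar (⇑Q) (f' 0) (d • a) • e' 0 - polar (⇑Q) (e' 0) (d • a) • f' 0)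
          = (c * d) • (a - polar (⇑Q) (f' 0) a • e' 0 - polar (⇑Q) (e' 0) a • f' 0) := by
        simp only [polar_smul_right, smul_eq_mul]
        module
      rw [this]
      exact ha (c * d)
    · intro z c
      obtain ⟨s, α, β, hsr, hQs, hs0, hse, hsf, hα, hβ, hx⟩ :=
        rat_decomp2 F₀ P Q hP fr' (rv F₀ P z) (isRat_rv F₀ P z)
      obtain ⟨γ, hγ⟩ : ∃ γ, γ = polar (⇑Q) (f' 0) (rv F₀ P z) := ⟨_, rfl⟩
      obtain ⟨δ, hδ⟩ : ∃ δ, δ = polar (⇑Q) (e' 0) (rv F₀ P z) := ⟨_, rfl⟩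
      rw [← hγ, ← hδ] at hx ⊢
      have : c • (rv F₀ P z - γ • e' 0 - δ • f' 0)
          = c • s + (c * α) • e' 1 + (c * β) • f' 1 := by
        rw [hx]
        module
      rw [this]
      refine ((em_sing_all F₀ P Q hP hQ h2 hn M hHM fr hall fr' s hsr hQs hs0 hse hsf c).add
        ?_).add ?_
      · exact em_sing_all F₀ P Q hP hQ h2 hn M hHM fr hall fr' (e' 1) (fr'.re 1) (fr'.fam.qe 1)
          (fr'.fam.e_ne_zero 1) (fr'.fam.ee 0 1) (by rw [fr'.fam.fe, if_neg h01]) _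
      · exact em_sing_all F₀ P Q hP hQ h2 hn M hHM fr hall fr' (f' 1) (fr'.rf 1) (fr'.fam.qf 1)
          (fr'.fam.f_ne_zero 1) (by rw [fr'.fam.ef, if_neg h01]) (fr'.fam.ff 0 1) _
  intro v hu huv
  have h1 := (key v 1).add_smul_self (polar (⇑Q) (f' 0) v)
  have hv : (1 : F) • (v - polar (⇑Q) (f' 0) v • e' 0 - polar (⇑Q) (e' 0) v • f' 0)
      + polar (⇑Q) (f' 0) v • e' 0 = v := by
    rw [huv]
    module
  rw [hv] at h1
  obtain ⟨_, _, hm⟩ := h1
  exact hm

include hP h2 hn hHM in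
theorem omega_le_of_param_top {e f : Fin 5 → ι → F} (fr : RatFrame F₀ P Q e f)
    (hall : ∀ s : F, EM Q hQ M (e 0) (s • e 1)) :
    commutator ↥(Cfsg.isometryGroup F (⇑Q)) ≤ M := by
  have hf1 : rootFull Q hQ M (e 0) := rootFull_of_all F₀ P Q hP hQ h2 hn M hHM fr hall fr
  obtain ⟨h, hh, h0⟩ := exists_move_one F₀ P Q hP h2 hQ hn fr (f 0) (fr.rf 0)
    (fr.fam.f_ne_zero 0) (fr.fam.qf 0)
  have hf2 : rootFull Q hQ M (f 0) := by
    have := rootFull_of_all F₀ P Q hP hQ h2 hn M hHM fr hall (fr.act h hh)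
    rw [h0] at this
    exact this
  apply omega_le_of_rootFull Q hQ hn (fun h => absurd h h2) M
  intro y hy
  exact rootFull_all Q hQ M (e 0) (f 0) (fr.fam.qe 0) (fr.fam.qf 0) hf1 hf2
    (by rw [fr.fam.ef]; simp) y hy

end Cfsg.Agent.Lib.Helper99.SubfO
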