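import Mathlib
import Cfsg.Prelude.Def_GeometricClasses
import Cfsg.Agent.Lib.Helper99.SubfOI

set_option autoImplicit false

/-!
Case A: an irrational root element at a rational singular point forces `Ω ≤ M`.
-/

namespace Cfsg.Agent.Lib.Helper99.SubfO

open Matrix Module QuadraticMap
open Cfsg.Agent.Lib.Helper8 Cfsg.Agent.Lib.Helper13 Cfsg.Agent.Lib.Helper37
open scoped commutatorElement

variable {ι : Type} [Fintype ι] [DecidableEq ι] {F : Type*} [Field F]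
variable (F₀ : Subfield F) (P : GL ι F) (Q : QuadraticForm F (ι → F))
variable (hP : Cfsg.Geo.IsQuadFormRationalStructure (⇑Q) F₀ P)
variable (hQ : (QuadraticMap.polarBilin Q).Nondegenerate)
variable [Fintype F] (h2 : (2 : F) ≠ 0) (hn : 11 ≤ finrank F (ι → F))
variable (M : Subgroup ↥(Cfsg.isometryGroup F (⇑Q)))
variable (hHM : ∀ h : ↥(Cfsg.isometryGroup F (⇑Q)), IsHElt F₀ P Q h → h ∈ M)

include hP hQ h2 hn in
theorem exists_ratFrame_sing (u : ι → F) (hur : IsRat F₀ P u) (hu0 : u ≠ 0) (hQu : Q u = 0) :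
    ∃ e f : Fin 5 → ι → F, RatFrame F₀ P Q e f ∧ e 0 = u := by
  obtain ⟨e₀, f₀, fr₀⟩ := exists_ratFrame F₀ P Q hP h2 hQ hn
  obtain ⟨h, hh, h0⟩ := exists_move_one F₀ P Q hP h2 hQ (by omega) fr₀ u hur hu0 hQu
  exact ⟨_, _, fr₀.act h hh, h0⟩

include hP hQ h2 hn in
theorem exists_ratFrame_pair {e f : Fin 5 → ι → F} (fr : RatFrame F₀ P Q e f) (u a : ι → F)
    (hur : IsRat F₀ P u) (har : IsRat F₀ P a) (hQu : Q u = 0) (hQa : Q a = 0)
    (hua : polar (⇑Q) u a = 0) (hli : LinearIndependent F ![u, a]) :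
    ∃ e' f' : Fin 5 → ι → F, RatFrame F₀ P Q e' f' ∧ e' 0 = u ∧ e' 1 = a := by
  obtain ⟨h, hh, h0, h1⟩ := exists_move_pair F₀ P Q hP h2 hQ (by omega) fr u a hur har hQu hQa
    hua hli
  exact ⟨_, _, fr.act h hh, h0, h1⟩

include hP h2 hn hHM in
theorem caseA (r : ℕ) (hr : r.Prime) (hcard : Fintype.card F = Nat.card ↥F₀ ^ r)
    (u v : ι → F) (hur : IsRat F₀ P u) (hu0 : u ≠ 0) (hE : EM Q hQ M u v)
    (hv : ¬ ∃ t : F, IsRat F₀ P (v - t • u)) :
    commutator ↥(Cfsg.isometryGroup F (⇑Q)) ≤ M := by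
  have hn5 : 5 ≤ finrank F (ι → F) := by omega
  obtain ⟨e, f, fr, he0⟩ := exists_ratFrame_sing F₀ P Q hP hQ h2 hn u hur hu0 hE.1
  subst he0
  have h01 : (0 : Fin 5) ≠ 1 := by decide
  have huv : polar (⇑Q) (e 0) v = 0 := hE.2.1
  -- step 2: a rational singular vector of the complement pairing irrationally with `v`
  obtain ⟨a, har, hQa, hae, haf, hav⟩ : ∃ a, IsRat F₀ P a ∧ Q a = 0 ∧ polar (⇑Q) (e 0) a = 0 ∧
      polar (⇑Q) (f 0) a = 0 ∧ polar (⇑Q) a v ∉ F₀ := by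
    by_contra hcon
    push Not at hcon
    apply hv
    refine ⟨polar (⇑Q) (f 0) v, ?_⟩
    apply isRat_of_polar_mem F₀ P Q hP hQ
    intro x
    obtain ⟨s, α, β, hsr, hQs, hs0, hse, hsf, hα, hβ, hx⟩ :=
      rat_decomp2 F₀ P Q hP fr (rv F₀ P x) (isRat_rv F₀ P x)
    obtain ⟨γ, hγ⟩ : ∃ γ, γ = polar (⇑Q) (f 0) (rv F₀ P x) := ⟨_, rfl⟩
    obtain ⟨δ, hδ⟩ : ∃ δ, δ = polar (⇑Q) (e 0) (rv F₀ P x) := ⟨_, rfl⟩
    have hγm : γ ∈ F₀ := by
      rw [hγ]; exact polar_mem_of_isRat F₀ P Q hP (fr.rf 0) (isRat_rv F₀ P x)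
    have hδm : δ ∈ F₀ := by
      rw [hδ]; exact polar_mem_of_isRat F₀ P Q hP (fr.re 0) (isRat_rv F₀ P x)
    rw [← hγ, ← hδ] at hx
    rw [hx]
    have hs1 := hcon s hsr hQs hse hsf
    have he1 := hcon (e 1) (fr.re 1) (fr.fam.qe 1) (fr.fam.ee 0 1)
      (by rw [fr.fam.fe, if_neg h01])
    have hf1 := hcon (f 1) (fr.rf 1) (fr.fam.qf 1) (by rw [fr.fam.ef, if_neg h01])
      (fr.fam.ff 0 1)
    have hse' : polar (⇑Q) s (e 0) = 0 := by rw [polar_comm]; exact hse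
    have key : polar (⇑Q) (γ • e 0 + δ • f 0 + s + α • e 1 + β • f 1)
        (v - polar (⇑Q) (f 0) v • e 0)
        = polar (⇑Q) s v + α * polar (⇑Q) (e 1) v + β * polar (⇑Q) (f 1) v := by
      simp only [polar_add_left, polar_smul_left, polar_sub_right, polar_smul_right, huv,
        fr.fam.ee, fr.fam.fe, hse', smul_eq_mul, if_neg h01.symm]
      simp
      ring
    rw [key]
    exact F₀.add_mem (F₀.add_mem hs1 (F₀.mul_mem hα he1)) (F₀.mul_mem hβ hf1)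
  have ha0 : a ≠ 0 := by
    rintro rfl
    apply hav
    rw [polar_zero_left]
    exact F₀.zero_mem
  have hli : LinearIndependent F ![e 0, a] := by
    rw [LinearIndependent.pair_iff]
    intro s t hab
    have ha := congrArg (fun x => polar (⇑Q) (f 0) x) hab
    simp only [polar_add_right, polar_smul_right, fr.fam.fe, haf, polar_zero_right,
      smul_eq_mul] at ha
    simp at ha
    subst ha
    rw [zero_smul, zero_add] at hab
    exact ⟨rfl, (smul_eq_zero.1 hab).resolve_right ha0⟩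
  obtain ⟨e', f', fr', he'0, he'1⟩ := exists_ratFrame_pair F₀ P Q hP hQ h2 hn fr (e 0) a
    (fr.re 0) har (fr.fam.qe 0) hQa hae hli
  rw [← he'0] at hE
  rw [← he'1] at hav
  clear huv hli hae haf
  -- step 4: the closure argument
  have h12 : (1 : Fin 5) ≠ 2 := by decide
  have h21 : (2 : Fin 5) ≠ 1 := by decide
  have h02 : (0 : Fin 5) ≠ 2 := by decide
  have h20 : (2 : Fin 5) ≠ 0 := by decide
  have h10 : (1 : Fin 5) ≠ 0 := by decide
  obtain ⟨hk1a, hk1b, hk1⟩ := EM_of_rat F₀ P Q hP hQ h2 hn5 M hHM (e' 1) (e' 2) (fr'.re 1)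
    (fr'.re 2) (fr'.fam.qe 1) (fr'.fam.ee 1 2)
  obtain ⟨hk2a, hk2b, hk2⟩ := EM_of_rat F₀ P Q hP hQ h2 hn5 M hHM (f' 2) (e' 1) (fr'.rf 2)
    (fr'.re 1) (fr'.fam.qf 2) (by rw [fr'.fam.fe, if_neg h21])
  have hE1' := hE.conj _ hk1
  have hfix1 : act Q (eichlerElt Q hQ (e' 1) (e' 2) hk1a hk1b) (e' 0) = e' 0 := by
    rw [act_eichlerElt, fr'.fam.ee 1 0, fr'.fam.ee 2 0]
    simp
  have hw1 : act Q (eichlerElt Q hQ (e' 1) (e' 2) hk1a hk1b) v - v
      = polar (⇑Q) (e' 1) v • e' 2 - polar (⇑Q) (e' 2) v • e' 1 := by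
    rw [act_eichlerElt, fr'.fam.qe 2]
    simp only [zero_mul, zero_smul, sub_zero]
    abel
  rw [hfix1] at hE1'
  have hE1 := hE1'.sub hE
  rw [hw1] at hE1
  have hE2' := hE1.conj _ hk2
  have hfix2 : act Q (eichlerElt Q hQ (f' 2) (e' 1) hk2a hk2b) (e' 0) = e' 0 := by
    rw [act_eichlerElt, fr'.fam.fe 2 0, if_neg h20, fr'.fam.ee 1 0]
    simp
  have hw2 : act Q (eichlerElt Q hQ (f' 2) (e' 1) hk2a hk2b)
        (polar (⇑Q) (e' 1) v • e' 2 - polar (⇑Q) (e' 2) v • e' 1)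
      - (polar (⇑Q) (e' 1) v • e' 2 - polar (⇑Q) (e' 2) v • e' 1)
      = polar (⇑Q) (e' 1) v • e' 1 := by
    rw [act_eichlerElt, fr'.fam.qe 1]
    simp only [polar_sub_right, polar_smul_right, fr'.fam.fe, fr'.fam.ee, smul_eq_mul,
      if_neg h21]
    simp only [if_true, mul_one, mul_zero, sub_zero, zero_mul, zero_smul]
    abel
  rw [hfix2] at hE2'
  have hE2 := hE2'.sub hE1
  rw [hw2] at hE2
  -- step 5: the parameter field is everything
  obtain ⟨S, hS⟩ : ∃ S : Subfield F, S = paramField F₀ P Q hP hQ h2 hn5 M hHM fr' := ⟨_, rfl⟩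
  have hmemS : ∀ s, s ∈ S ↔ EM Q hQ M (e' 0) (s • e' 1) := by
    intro s; rw [hS]; rfl
  have hF₀S : F₀ ≤ S := by
    intro s hs
    rw [hmemS]
    exact EM_of_rat F₀ P Q hP hQ h2 hn5 M hHM (e' 0) (s • e' 1) (fr'.re 0) ((fr'.re 1).smul hs)
      (fr'.fam.qe 0) (by rw [polar_smul_right, fr'.fam.ee]; simp)
  have hc1 : polar (⇑Q) (e' 1) v ∈ S := (hmemS _).2 hE2
  rcases Cfsg.Agent.Lib.Helper42.Subf.subfield_dichotomy F₀ r hr hcard S hF₀S with hS0 | hS1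
  · rw [hS0] at hc1
    exact absurd hc1 hav
  · apply omega_le_of_param_top F₀ P Q hP hQ h2 hn5 M hHM fr'
    intro s
    rw [← hmemS, hS1]
    exact Subfield.mem_top s

end Cfsg.Agent.Lib.Helper99.SubfO
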