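import Mathlib
import Cfsg.Prelude.Def_GeometricClasses
import Cfsg.Agent.Lib.Helper99.SubfOJ

set_option autoImplicit false

/-!
Case B: when all root elements of `M` at rational singular points are rational, the stabiliser
in `M` of a rational singular point lies in the subfield group.
-/

namespace Cfsg.Agent.Lib.Helper99.SubfO

open Matrix Module QuadraticMap
open Cfsg.Agent.Lib.Helper8 Cfsg.Agent.Lib.Helper13 Cfsg.Agent.Lib.Helper37
open scoped commutatorElement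

variable {ι : Type} [Fintype ι] [DecidableEq ι] {F : Type*} [Field F]
variable (F₀ : Subfield F) (P : GL ι F) (Q : QuadraticForm F (ι → F))
variable (hP : Cfsg.Geo.IsQuadFormRationalStructure (⇑Q) F₀ P)
variable (hQ : (QuadraticMap.polarBilin Q).Nondegenerate)
variable [Fintype F] (h2 : (2 : F) ≠ 0) (hn : 11 ≤ finrank F (ι → F))
variable (M : Subgroup ↥(Cfsg.isometryGroup F (⇑Q)))
variable (hMΩ : M ≤ commutator ↥(Cfsg.isometryGroup F (⇑Q)))
variable (hHM' : ∀ h : ↥(Cfsg.isometryGroup F (⇑Q)),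
  h ∈ commutator ↥(Cfsg.isometryGroup F (⇑Q)) →
    (h : GL ι F) ∈ Cfsg.Geo.subfieldSubgroup F₀ P → h ∈ M)
variable (hCB : ∀ u v : ι → F, IsRat F₀ P u → u ≠ 0 → EM Q hQ M u v →
  ∃ t : F, IsRat F₀ P (v - t • u))

include hHM' in
theorem hHM_of : ∀ h : ↥(Cfsg.isometryGroup F (⇑Q)), IsHElt F₀ P Q h → h ∈ M :=
  fun h hh => hHM' h hh.1 hh.2.1

include hP h2 hn hMΩ hHM' hCB in
/-- an element of `M` fixing the rational singular point spanned by `e 0` is in the subfield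
group -/
theorem stab_mem_subfield_frame {e f : Fin 5 → ι → F} (fr : RatFrame F₀ P Q e f)
    (y : ↥(Cfsg.isometryGroup F (⇑Q))) (hy : y ∈ M) (lam : F)
    (hlam : act Q y (e 0) = lam • e 0) :
    (y : GL ι F) ∈ Cfsg.Geo.subfieldSubgroup F₀ P := by
  have hn5 : 5 ≤ finrank F (ι → F) := by omega
  have hHM := hHM_of F₀ P Q M hHM'
  have h01 : (0 : Fin 5) ≠ 1 := by decide
  have h10 : (1 : Fin 5) ≠ 0 := by decide
  have hlam0 : lam ≠ 0 := by
    rintro rfl
    rw [zero_smul] at hlam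
    exact fr.fam.e_ne_zero 0 (act_eq_zero Q y _ hlam)
  have hee : polar (⇑Q) (e 0) (e 0) = 0 := fr.fam.ee 0 0
  have hef : polar (⇑Q) (e 0) (f 0) = 1 := by rw [fr.fam.ef]; simp
  have hfe : polar (⇑Q) (f 0) (e 0) = 1 := by rw [fr.fam.fe]; simp
  have hff : polar (⇑Q) (f 0) (f 0) = 0 := fr.fam.ff 0 0
  -- `e 0` as an image
  have he0 : e 0 = act Q y (lam⁻¹ • e 0) := by
    rw [act_smul, hlam, smul_smul, inv_mul_cancel₀ hlam0, one_smul]
  obtain ⟨yf, hyf⟩ : ∃ yf, yf = act Q y (f 0) := ⟨_, rfl⟩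
  have hpe : polar (⇑Q) (e 0) yf = lam⁻¹ := by
    rw [hyf]
    conv_lhs => rw [he0]
    rw [polar_act, polar_smul_left, hef, smul_eq_mul, mul_one]
  obtain ⟨ν, hν⟩ : ∃ ν, ν = polar (⇑Q) (f 0) yf := ⟨_, rfl⟩
  obtain ⟨z, hz⟩ : ∃ z, z = yf - ν • e 0 - lam⁻¹ • f 0 := ⟨_, rfl⟩
  have hze : polar (⇑Q) (e 0) z = 0 := by
    rw [hz]
    simp only [polar_sub_right, polar_smul_right, hpe, hee, hef, smul_eq_mul]
    ring
  have hzf : polar (⇑Q) (f 0) z = 0 := by
    rw [hz]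
    simp only [polar_sub_right, polar_smul_right, ← hν, hfe, hff, smul_eq_mul]
    ring
  have hyfz : yf = z + (ν • e 0 + lam⁻¹ • f 0) := by rw [hz]; abel
  have hQyf : Q yf = 0 := by rw [hyf, Q_act]; exact fr.fam.qf 0
  have hνz : Q z + ν * lam⁻¹ = 0 := by
    rw [← fr.fam.Q_add_comb 0 ν lam⁻¹ z hze hzf, ← hyfz, hQyf]
  obtain ⟨w, hw⟩ : ∃ w, w = (-lam) • z := ⟨_, rfl⟩
  have hwe : polar (⇑Q) (e 0) w = 0 := by rw [hw, polar_smul_right, hze, smul_zero]
  have hwf : polar (⇑Q) (f 0) w = 0 := by rw [hw, polar_smul_right, hzf, smul_zero]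
  have hwe' : polar (⇑Q) w (e 0) = 0 := by rw [polar_comm]; exact hwe
  have hwf' : polar (⇑Q) w (f 0) = 0 := by rw [polar_comm]; exact hwf
  have hQw : Q w = lam * lam * Q z := by
    rw [hw, QuadraticMap.map_smul, smul_eq_mul]; ring
  have hwz : polar (⇑Q) w z = -(2 * lam * Q z) := by
    rw [hw, polar_smul_left, polar_self, smul_eq_mul]
    simp only [nsmul_eq_mul, Nat.cast_ofNat]
    ring
  obtain ⟨Ew, hEw⟩ : ∃ Ew, Ew = eichlerElt Q hQ (e 0) w (fr.fam.qe 0) hwe := ⟨_, rfl⟩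
  have hEwact : ∀ x, act Q Ew x = x + polar (⇑Q) (e 0) x • w - polar (⇑Q) w x • e 0
      - (Q w * polar (⇑Q) (e 0) x) • e 0 := by
    intro x; rw [hEw, act_eichlerElt]
  have hEw_e : act Q Ew (e 0) = e 0 := by
    rw [hEwact, hee, hwe']; simp
  obtain ⟨y₁, hy₁⟩ : ∃ y₁, y₁ = Ew * y := ⟨_, rfl⟩
  have h1e : act Q y₁ (e 0) = lam • e 0 := by
    rw [hy₁, act_mul, hlam, act_smul, hEw_e]
  have hwyf : polar (⇑Q) w yf = -(2 * lam * Q z) := by
    rw [hyfz, polar_add_right, polar_add_right, polar_smul_right, polar_smul_right, hwe', hwf',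
      hwz]
    simp
  have h1f : act Q y₁ (f 0) = lam⁻¹ • f 0 := by
    rw [hy₁, act_mul, ← hyf, hEwact, hpe, hwyf, hQw]
    have hν' : ν = -(lam * Q z) := by
      field_simp at hνz
      linear_combination hνz
    rw [hyfz, hw, hν']
    have : lam⁻¹ * lam = 1 := inv_mul_cancel₀ hlam0
    match_scalars <;> field_simp <;> ring
  have hf0 : f 0 = act Q y₁ (lam • f 0) := by
    rw [act_smul, h1f, smul_smul, mul_inv_cancel₀ hlam0, one_smul]
  -- rational vectors of the complement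
  have hT : ∀ t : ι → F, IsRat F₀ P t → polar (⇑Q) (e 0) t = 0 → polar (⇑Q) (f 0) t = 0 →
      IsRat F₀ P (lam • act Q y₁ t) := by
    intro t htr hte htf
    have hEt : EM Q hQ M (e 0) t :=
      EM_of_rat F₀ P Q hP hQ h2 hn5 M hHM (e 0) t (fr.re 0) htr (fr.fam.qe 0) hte
    have h3 := hEt.conj y hy
    rw [hlam] at h3
    have h4 := EM.of_smul_left hlam0 h3
    obtain ⟨t', ht'⟩ := hCB _ _ (fr.re 0) (fr.fam.e_ne_zero 0) h4
    obtain ⟨r, hr⟩ : ∃ r, r = lam • act Q y t - t' • e 0 := ⟨_, rfl⟩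
    rw [← hr] at ht'
    have hyt : polar (⇑Q) (e 0) (act Q y t) = 0 := by
      conv_lhs => rw [he0]
      rw [polar_act, polar_smul_left, hte, smul_zero]
    have her : polar (⇑Q) (e 0) r = 0 := by
      rw [hr, polar_sub_right, polar_smul_right, polar_smul_right, hyt, hee]; simp
    have h5 : lam • act Q y₁ t = r + (t' - polar (⇑Q) w r) • e 0 := by
      have h6 : lam • act Q y₁ t = act Q Ew (r + t' • e 0) := by
        rw [hy₁, act_mul, ← act_smul, hr]
        congr 1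
        abel
      rw [h6, act_add, act_smul, hEw_e, hEwact, her]
      simp only [zero_smul, mul_zero, add_zero, sub_zero]
      module
    have h7 : polar (⇑Q) (lam • act Q y₁ t) (f 0) = 0 := by
      conv_lhs => rw [hf0]
      rw [polar_smul_left, polar_act, polar_smul_right, polar_comm, htf]; simp
    rw [h5, polar_add_left, polar_smul_left, hef, smul_eq_mul, mul_one] at h7
    have h8 : t' - polar (⇑Q) w r = - polar (⇑Q) r (f 0) := by linear_combination h7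
    rw [h5, h8]
    exact ht'.add ((fr.re 0).smul (F₀.neg_mem (polar_mem_of_isRat F₀ P Q hP ht' (fr.rf 0))))
  -- `lam ^ 2` is rational
  have hlam2 : lam * lam ∈ F₀ := by
    have ht := hT (e 1 + f 1) ((fr.re 1).add (fr.rf 1))
      (by rw [polar_add_right, fr.fam.ee, fr.fam.ef, if_neg h01, add_zero])
      (by rw [polar_add_right, fr.fam.fe, fr.fam.ff, if_neg h01, add_zero])
    have hq := Q_mem_of_isRat F₀ P Q hP ht
    rw [QuadraticMap.map_smul, Q_act] at hq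
    have h11 := fr.fam.Q_comb 1 1 1
    rw [one_smul, one_smul, mul_one] at h11
    rw [h11, smul_eq_mul, mul_one] at hq
    exact hq
  -- hence `y₁` is in the subfield group
  have hy₁S : (y₁ : GL ι F) ∈ Cfsg.Geo.subfieldSubgroup F₀ P := by
    apply mem_subfield_of_maps F₀ P _ lam hlam0
    intro x
    obtain ⟨γ, hγ⟩ : ∃ γ, γ = polar (⇑Q) (f 0) (rv F₀ P x) := ⟨_, rfl⟩
    obtain ⟨δ, hδ⟩ : ∃ δ, δ = polar (⇑Q) (e 0) (rv F₀ P x) := ⟨_, rfl⟩
    have hγm : γ ∈ F₀ := by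
      rw [hγ]; exact polar_mem_of_isRat F₀ P Q hP (fr.rf 0) (isRat_rv F₀ P x)
    have hδm : δ ∈ F₀ := by
      rw [hδ]; exact polar_mem_of_isRat F₀ P Q hP (fr.re 0) (isRat_rv F₀ P x)
    obtain ⟨t, ht⟩ : ∃ t, t = rv F₀ P x - γ • e 0 - δ • f 0 := ⟨_, rfl⟩
    have htr : IsRat F₀ P t := by
      rw [ht]
      exact ((isRat_rv F₀ P x).sub ((fr.re 0).smul hγm)).sub ((fr.rf 0).smul hδm)
    have hte : polar (⇑Q) (e 0) t = 0 := by
      rw [ht]
      simp only [polar_sub_right, polar_smul_right, ← hδ, hee, hef, smul_eq_mul]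
      ring
    have htf : polar (⇑Q) (f 0) t = 0 := by
      rw [ht]
      simp only [polar_sub_right, polar_smul_right, ← hγ, hfe, hff, smul_eq_mul]
      ring
    have hx : rv F₀ P x = t + γ • e 0 + δ • f 0 := by rw [ht]; abel
    have h9 : lam • ((y₁ : GL ι F) : Matrix ι ι F) *ᵥ rv F₀ P x
        = lam • act Q y₁ t + (γ * (lam * lam)) • e 0 + δ • f 0 := by
      show lam • act Q y₁ (rv F₀ P x) = _
      rw [hx, act_add, act_add, act_smul, act_smul, h1e, h1f]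
      have : lam * lam⁻¹ = 1 := mul_inv_cancel₀ hlam0
      match_scalars <;> field_simp
    rw [h9]
    exact ((hT t htr hte htf).add ((fr.re 0).smul (F₀.mul_mem hγm hlam2))).add
      ((fr.rf 0).smul hδm)
  have hEwΩ : Ew ∈ commutator ↥(Cfsg.isometryGroup F (⇑Q)) := by
    rw [hEw]
    exact eichlerElt_mem_omega Q hQ hn5 (fun h => absurd h h2) _ _ _ _
  have hy₁M : y₁ ∈ M := by
    apply hHM' y₁ _ hy₁S
    rw [hy₁]
    exact Subgroup.mul_mem _ hEwΩ (hMΩ hy)
  have hEwM : Ew ∈ M := by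
    have : Ew = y₁ * y⁻¹ := by rw [hy₁]; group
    rw [this]
    exact M.mul_mem hy₁M (M.inv_mem hy)
  have hEMw : EM Q hQ M (e 0) w := ⟨fr.fam.qe 0, hwe, by rw [← hEw]; exact hEwM⟩
  obtain ⟨t'', ht''⟩ := hCB _ _ (fr.re 0) (fr.fam.e_ne_zero 0) hEMw
  have ht''m : t'' ∈ F₀ := by
    have := polar_mem_of_isRat F₀ P Q hP (fr.rf 0) ht''
    rw [polar_sub_right, polar_smul_right, hwf, hfe, smul_eq_mul, mul_one, zero_sub] at this
    have h := F₀.neg_mem this
    rwa [neg_neg] at h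
  have hwr : IsRat F₀ P w := by
    have := ht''.add ((fr.re 0).smul ht''m)
    rwa [sub_add_cancel] at this
  have hEwS : (Ew : GL ι F) ∈ Cfsg.Geo.subfieldSubgroup F₀ P := by
    rw [hEw]
    exact (ratEichler_isHElt F₀ P Q hP hQ h2 hn5 (e 0) w (fr.re 0) hwr (fr.fam.qe 0) hwe).2.1
  have hyE : (y : GL ι F) = (Ew : GL ι F)⁻¹ * (y₁ : GL ι F) := by
    rw [hy₁, Subgroup.coe_mul]
    group
  rw [hyE]
  exact Subgroup.mul_mem _ (Subgroup.inv_mem _ hEwS) hy₁S

end Cfsg.Agent.Lib.Helper99.SubfO
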