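import Mathlib
import Cfsg.Prelude.Def_GeometricClasses
import Cfsg.Agent.Lib.Helper99.SubfOK
import Cfsg.Agent.Lib.Helper99.SubDk

set_option autoImplicit false
set_option linter.unusedSectionVars false

/-!
The `SL₂` generated by two opposite long root subgroups, and the involution it contains.
-/

namespace Cfsg.Agent.Lib.Helper99.SubfO

open Matrix Module QuadraticMap
open Cfsg.Agent.Lib.Helper8 Cfsg.Agent.Lib.Helper13 Cfsg.Agent.Lib.Helper37
open scoped commutatorElement

variable {ι : Type} [Fintype ι] [DecidableEq ι] {F : Type*} [Field F]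
variable (Q : QuadraticForm F (ι → F))

/-- two totally singular lines `⟨a, b⟩`, `⟨a', b'⟩` in duality -/
structure Hyp4 (a b a' b' : ι → F) : Prop where
  qa : Q a = 0
  qb : Q b = 0
  qa' : Q a' = 0
  qb' : Q b' = 0
  ab : polar (⇑Q) a b = 0
  aa' : polar (⇑Q) a a' = 1
  ab' : polar (⇑Q) a b' = 0
  ba' : polar (⇑Q) b a' = 0
  bb' : polar (⇑Q) b b' = 1
  a'b' : polar (⇑Q) a' b' = 0

namespace Hyp4

variable {Q} {a b a' b' : ι → F} (h : Hyp4 Q a b a' b')
include h

theorem aa : polar (⇑Q) a a = 0 := by rw [polar_self, h.qa]; simp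
theorem bb : polar (⇑Q) b b = 0 := by rw [polar_self, h.qb]; simp
theorem a'a' : polar (⇑Q) a' a' = 0 := by rw [polar_self, h.qa']; simp
theorem b'b' : polar (⇑Q) b' b' = 0 := by rw [polar_self, h.qb']; simp
theorem ba : polar (⇑Q) b a = 0 := by rw [polar_comm]; exact h.ab
theorem a'a : polar (⇑Q) a' a = 1 := by rw [polar_comm]; exact h.aa'
theorem b'a : polar (⇑Q) b' a = 0 := by rw [polar_comm]; exact h.ab'
theorem a'b : polar (⇑Q) a' b = 0 := by rw [polar_comm]; exact h.ba'
theorem b'b : polar (⇑Q) b' b = 1 := by rw [polar_comm]; exact h.bb'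
theorem b'a' : polar (⇑Q) b' a' = 0 := by rw [polar_comm]; exact h.a'b'

end Hyp4

/-- the action of a `2 × 2` matrix on the four-space spanned by `a, b, a', b'`, extended by the
identity on the orthogonal complement -/
noncomputable def rho (a b a' b' : ι → F) (t : Matrix (Fin 2) (Fin 2) F) :
    (ι → F) →ₗ[F] (ι → F) :=
  LinearMap.id
    + (QuadraticMap.polarBilin Q b').smulRight ((t 0 0 - 1) • b + t 1 0 • a')
    + (QuadraticMap.polarBilin Q a).smulRight (t 0 1 • b + (t 1 1 - 1) • a')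
    + (QuadraticMap.polarBilin Q b).smulRight ((t 1 1 - 1) • b' - t 0 1 • a)
    + (QuadraticMap.polarBilin Q a').smulRight (- t 1 0 • b' + (t 0 0 - 1) • a)

theorem rho_apply (a b a' b' : ι → F) (t : Matrix (Fin 2) (Fin 2) F) (x : ι → F) :
    rho Q a b a' b' t x = x
      + polar (⇑Q) b' x • ((t 0 0 - 1) • b + t 1 0 • a')
      + polar (⇑Q) a x • (t 0 1 • b + (t 1 1 - 1) • a')
      + polar (⇑Q) b x • ((t 1 1 - 1) • b' - t 0 1 • a)
      + polar (⇑Q) a' x • (- t 1 0 • b' + (t 0 0 - 1) • a) := by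
  simp only [rho, LinearMap.add_apply, LinearMap.id_apply, LinearMap.smulRight_apply,
    QuadraticMap.polarBilin_apply_apply]

theorem rho_one (a b a' b' : ι → F) (x : ι → F) : rho Q a b a' b' 1 x = x := by
  rw [rho_apply]
  simp

theorem rho_mul {a b a' b' : ι → F} (h : Hyp4 Q a b a' b') (t t' : Matrix (Fin 2) (Fin 2) F)
    (x : ι → F) : rho Q a b a' b' (t * t') x = rho Q a b a' b' t (rho Q a b a' b' t' x) := by
  rw [rho_apply Q a b a' b' t, rho_apply Q a b a' b' t', rho_apply Q a b a' b' (t * t')]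
  simp only [polar_add_right, polar_smul_right, polar_sub_right, polar_neg_right, h.aa, h.ab,
    h.aa', h.ab', h.ba, h.bb, h.ba', h.bb', h.a'a, h.a'b, h.a'a', h.a'b', h.b'a, h.b'b, h.b'a',
    h.b'b', smul_eq_mul, Matrix.mul_apply, Fin.sum_univ_two]
  module

end Cfsg.Agent.Lib.Helper99.SubfO
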