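import Mathlib
import Cfsg.Prelude.Def_GeometricClasses
import Cfsg.Agent.Lib.Helper99.SubfOL

set_option autoImplicit false
set_option linter.unusedSectionVars false

/-!
The involution `-1` on the sum of two opposite totally singular lines, one rational and one the
image of a rational line, lies in `M`; consequently the projection onto this sum is rational.
-/

namespace Cfsg.Agent.Lib.Helper99.SubfO

open Matrix Module QuadraticMap
open Cfsg.Agent.Lib.Helper8 Cfsg.Agent.Lib.Helper13 Cfsg.Agent.Lib.Helper37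
open scoped commutatorElement

variable {ι : Type} [Fintype ι] [DecidableEq ι] {F : Type*} [Field F]
variable (Q : QuadraticForm F (ι → F))
variable (hQ : (QuadraticMap.polarBilin Q).Nondegenerate)

local notation "SL2" => Matrix.SpecialLinearGroup (Fin 2) F

/-- upper unipotent -/
def upU (s : F) : SL2 := ⟨!![1, s; 0, 1], by simp [Matrix.det_fin_two]⟩

/-- lower unipotent -/
def loU (s : F) : SL2 := ⟨!![1, 0; -s, 1], by simp [Matrix.det_fin_two]⟩

theorem rho_upU {a b a' b' : ι → F} (h : Hyp4 Q a b a' b') (s : F) (x : ι → F) :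
    rho Q a b a' b' (upU s : SL2).1 x
      = act Q (eichlerElt Q hQ a (s • b) h.qa (by rw [polar_smul_right, h.ab, smul_zero])) x := by
  rw [act_eichlerElt, rho_apply, QuadraticMap.map_smul, h.qb]
  simp only [upU, Matrix.of_apply, Matrix.cons_val', Matrix.cons_val_zero, Matrix.cons_val_one,
    Matrix.cons_val_fin_one, polar_smul_left, smul_eq_mul]
  module

theorem rho_loU {a b a' b' : ι → F} (h : Hyp4 Q a b a' b') (s : F) (x : ι → F) :
    rho Q a b a' b' (loU s : SL2).1 x
      = act Q (eichlerElt Q hQ a' (s • b') h.qa'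
          (by rw [polar_smul_right, h.a'b', smul_zero])) x := by
  rw [act_eichlerElt, rho_apply, QuadraticMap.map_smul, h.qb']
  simp only [loU, Matrix.of_apply, Matrix.cons_val', Matrix.cons_val_zero, Matrix.cons_val_one,
    Matrix.cons_val_fin_one, polar_smul_left, smul_eq_mul]
  module

theorem rho_neg_one (a b a' b' : ι → F) (x : ι → F) :
    rho Q a b a' b' ((-1 : SL2) : Matrix (Fin 2) (Fin 2) F) x
      = x - (2 : F) • (polar (⇑Q) b' x • b + polar (⇑Q) a x • a' + polar (⇑Q) b x • b'
          + polar (⇑Q) a' x • a) := by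
  rw [rho_apply]
  simp only [Matrix.SpecialLinearGroup.coe_neg, Matrix.SpecialLinearGroup.coe_one, Matrix.neg_apply,
    Matrix.one_apply_eq, Matrix.one_apply_ne (show (0 : Fin 2) ≠ 1 by decide),
    Matrix.one_apply_ne (show (1 : Fin 2) ≠ 0 by decide)]
  module

/-- every element of the subgroup of `SL₂` generated by two unipotent elements is realised by an
element of `M`, if the generators are -/
theorem exists_rep {a b a' b' : ι → F} (h : Hyp4 Q a b a' b')
    (M : Subgroup ↥(Cfsg.isometryGroup F (⇑Q))) (c : F)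
    (k₁ k₂ : ↥(Cfsg.isometryGroup F (⇑Q))) (hk₁ : k₁ ∈ M) (hk₂ : k₂ ∈ M)
    (h1 : ∀ x, act Q k₁ x = rho Q a b a' b' (upU 1 : SL2).1 x)
    (h2 : ∀ x, act Q k₂ x = rho Q a b a' b' (loU c : SL2).1 x)
    (t : SL2) (ht : t ∈ Subgroup.closure ({upU 1, loU c} : Set SL2)) :
    ∃ k ∈ M, ∀ x, act Q k x = rho Q a b a' b' t.1 x := by
  induction ht using Subgroup.closure_induction with
  | mem y hy =>
    rcases hy with rfl | rfl
    · exact ⟨k₁, hk₁, h1⟩
    · exact ⟨k₂, hk₂, h2⟩
  | one =>
    refine ⟨1, M.one_mem, fun x => ?_⟩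
    rw [act_one]
    show x = rho Q a b a' b' (1 : Matrix (Fin 2) (Fin 2) F) x
    rw [rho_one]
  | mul y z _ _ hy hz =>
    obtain ⟨ky, hkyM, hky⟩ := hy
    obtain ⟨kz, hkzM, hkz⟩ := hz
    refine ⟨ky * kz, M.mul_mem hkyM hkzM, fun x => ?_⟩
    rw [act_mul, hkz, hky]
    show _ = rho Q a b a' b' (y.1 * z.1) x
    rw [rho_mul Q h]
  | inv y _ hy =>
    obtain ⟨ky, hkyM, hky⟩ := hy
    refine ⟨ky⁻¹, M.inv_mem hkyM, fun x => ?_⟩
    apply act_inv_eq
    rw [hky, ← rho_mul Q h]
    have : y.1 * (y⁻¹ : SL2).1 = 1 := by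
      rw [← Matrix.SpecialLinearGroup.coe_mul, mul_inv_cancel]
      rfl
    rw [this, rho_one]

/-- the group generated by two opposite unipotent elements contains `-1`, in odd
characteristic -/
theorem neg_one_mem_closure [Fintype F] (h2 : (2 : F) ≠ 0) (c : F) (hc : c ≠ 0) :
    (-1 : SL2) ∈ Subgroup.closure ({upU 1, loU c} : Set SL2) := by
  obtain ⟨p, hp⟩ := CharP.exists F
  haveI := hp
  haveI : Fact p.Prime := ⟨CharP.char_is_prime F p⟩
  have hp2 : p ≠ 2 := by
    rintro rfl
    apply h2
    have := CharP.cast_eq_zero F 2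
    exact_mod_cast this
  apply Cfsg.Agent.Lib.Helper99.SubDk.neg_one_mem_of_noncomm p hp2 _ (upU 1) (loU c)
    (Subgroup.subset_closure (by simp)) (Subgroup.subset_closure (by simp))
  · simp only [Cfsg.Agent.Lib.Helper14.Dk.tr2, upU]
    simp
    norm_num
  · simp only [Cfsg.Agent.Lib.Helper14.Dk.tr2, loU]
    simp
    norm_num
  · intro heq
    have h00 : ((upU (1 : F)).1 * (loU c).1) 0 0 = ((loU c).1 * (upU (1 : F)).1) 0 0 :=
      congrArg (fun m : SL2 => m.1 0 0) heq
    simp only [upU, loU, Matrix.mul_apply, Fin.sum_univ_two,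
      Matrix.of_apply, Matrix.cons_val', Matrix.cons_val_zero, Matrix.cons_val_one,
      Matrix.cons_val_fin_one] at h00
    apply hc
    linear_combination -h00

end Cfsg.Agent.Lib.Helper99.SubfO
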