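import Mathlib
import Cfsg.Prelude.Def_GeometricClasses
import Cfsg.Agent.Lib.Helper99.SubfOM

set_option autoImplicit false
set_option linter.unusedSectionVars false

/-!
Case B: the projection onto the sum of a rational totally singular line and an opposite line whose
root group meets `M` is rational.
-/

namespace Cfsg.Agent.Lib.Helper99.SubfO

open Matrix Module QuadraticMap
open Cfsg.Agent.Lib.Helper8 Cfsg.Agent.Lib.Helper13 Cfsg.Agent.Lib.Helper37
open scoped commutatorElement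

variable {ι : Type} [Fintype ι] [DecidableEq ι] {F : Type*} [Field F]
variable (F₀ : Subfield F) (P : GL ι F) (Q : QuadraticForm F (ι → F))
variable (hP : Cfsg.Geo.IsQuadFormRationalStructure (⇑Q) F₀ P)
variable (hQ : (QuadraticMap.polarBilin Q).Nondegenerate)
variable [Fintype F] (h2 : (2 : F) ≠ 0) (hn : 11 ≤ finrank F (ι → F))
variable (M : Subgroup ↥(Cfsg.isometryGroup F (⇑Q)))
variable (hMΩ : M ≤ commutator ↥(Cfsg.isometryGroup F (⇑Q)))
variable (hHM' : ∀ h : ↥(Cfsg.isometryGroup F (⇑Q)),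
  h ∈ commutator ↥(Cfsg.isometryGroup F (⇑Q)) →
    (h : GL ι F) ∈ Cfsg.Geo.subfieldSubgroup F₀ P → h ∈ M)
variable (hCB : ∀ u v : ι → F, IsRat F₀ P u → u ≠ 0 → EM Q hQ M u v →
  ∃ t : F, IsRat F₀ P (v - t • u))

include hP h2 hn hMΩ hHM' hCB in
theorem stab_mem_subfield (u : ι → F) (hur : IsRat F₀ P u) (hu0 : u ≠ 0) (hQu : Q u = 0)
    (y : ↥(Cfsg.isometryGroup F (⇑Q))) (hy : y ∈ M) (lam : F)
    (hlam : act Q y u = lam • u) :
    (y : GL ι F) ∈ Cfsg.Geo.subfieldSubgroup F₀ P := by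
  obtain ⟨e, f, fr, he0⟩ := exists_ratFrame_sing F₀ P Q hP hQ h2 hn u hur hu0 hQu
  subst he0
  exact stab_mem_subfield_frame F₀ P Q hP hQ h2 hn M hMΩ hHM' hCB fr y hy lam hlam

include hP h2 hn hMΩ hHM' hCB in
/-- an element of `M` carrying a rational singular point to a rational point is in the subfield
group -/
theorem mem_subfield_of_maps_point (u r : ι → F) (hur : IsRat F₀ P u) (hu0 : u ≠ 0)
    (hQu : Q u = 0) (hrr : IsRat F₀ P r)
    (y : ↥(Cfsg.isometryGroup F (⇑Q))) (hy : y ∈ M) (c : F)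
    (hyu : act Q y u = c • r) :
    (y : GL ι F) ∈ Cfsg.Geo.subfieldSubgroup F₀ P := by
  have hn5 : 5 ≤ finrank F (ι → F) := by omega
  have hc0 : c ≠ 0 := by
    rintro rfl
    rw [zero_smul] at hyu
    exact hu0 (act_eq_zero Q y u hyu)
  have hr0 : r ≠ 0 := by
    rintro rfl
    rw [smul_zero] at hyu
    exact hu0 (act_eq_zero Q y u hyu)
  have hQr : Q r = 0 := by
    have := Q_act Q y u
    rw [hyu, QuadraticMap.map_smul, hQu, smul_eq_mul] at this
    exact (mul_eq_zero.1 this).resolve_left (mul_ne_zero hc0 hc0)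
  obtain ⟨e, f, fr, he0⟩ := exists_ratFrame_sing F₀ P Q hP hQ h2 hn u hur hu0 hQu
  obtain ⟨h, hh, h0⟩ := exists_move_one F₀ P Q hP h2 hQ hn5 fr r hrr hr0 hQr
  rw [he0] at h0
  have hhM : h ∈ M := hHM' h hh.1 hh.2.1
  have h1 : act Q (h⁻¹ * y) u = c • u := by
    rw [act_mul, hyu, act_smul, act_inv_eq Q h u r h0]
  have h3 := stab_mem_subfield F₀ P Q hP hQ h2 hn M hMΩ hHM' hCB u hur hu0 hQu (h⁻¹ * y)
    (M.mul_mem (M.inv_mem hhM) hy) c h1
  have h4 : (y : GL ι F) = (h : GL ι F) * ((h⁻¹ * y : ↥(Cfsg.isometryGroup F (⇑Q))) : GL ι F) := by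
    rw [← Subgroup.coe_mul]
    congr 1
    group
  rw [h4]
  exact Subgroup.mul_mem _ hh.2.1 h3

include hP h2 hn hMΩ hHM' hCB in
/-- Lemma S -/
theorem proj_rat {a b a' b' : ι → F} (h4 : Hyp4 Q a b a' b') (har : IsRat F₀ P a)
    (hbr : IsRat F₀ P b) (c : F) (hc : c ≠ 0) (hE : EM Q hQ M a' (c • b')) (x : ι → F)
    (hx : IsRat F₀ P x) :
    IsRat F₀ P (polar (⇑Q) b' x • b + polar (⇑Q) a x • a' + polar (⇑Q) b x • b'
      + polar (⇑Q) a' x • a) := by
  have hn5 : 5 ≤ finrank F (ι → F) := by omega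
  have hHM := hHM_of F₀ P Q M hHM'
  have hab1 : polar (⇑Q) a ((1 : F) • b) = 0 := by rw [polar_smul_right, h4.ab, smul_zero]
  obtain ⟨_, _, hk₁⟩ := EM_of_rat F₀ P Q hP hQ h2 hn5 M hHM a ((1 : F) • b) har
    (hbr.smul F₀.one_mem) h4.qa hab1
  obtain ⟨_, _, hk₂⟩ := hE
  obtain ⟨d, hdM, hd⟩ := exists_rep Q h4 M c _ _ hk₁ hk₂
    (fun x => (rho_upU Q hQ h4 1 x).symm) (fun x => (rho_loU Q hQ h4 c x).symm) (-1)
    (neg_one_mem_closure h2 c hc)
  have hd' : ∀ x, act Q d x = x - (2 : F) • (polar (⇑Q) b' x • b + polar (⇑Q) a x • a'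
      + polar (⇑Q) b x • b' + polar (⇑Q) a' x • a) := by
    intro x
    rw [hd, rho_neg_one]
  have hda : act Q d a = (-1 : F) • a := by
    rw [hd', h4.b'a, h4.aa, h4.ba, h4.a'a]
    module
  have ha0 : a ≠ 0 := by
    rintro rfl
    have := h4.aa'
    rw [polar_zero_left] at this
    exact zero_ne_one this
  have hdS := stab_mem_subfield F₀ P Q hP hQ h2 hn M hMΩ hHM' hCB a har ha0 h4.qa d hdM (-1) hda
  obtain ⟨μ, hμ0, hμ⟩ := maps_of_mem_subfield F₀ P (d : GL ι F) hdS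
  have hμm : μ ∈ F₀ := by
    obtain ⟨a₀, ha₀⟩ := har
    have h5 := hμ a₀
    rw [ha₀] at h5
    have h6 : μ • ((d : GL ι F) : Matrix ι ι F) *ᵥ a = (-μ) • a := by
      show μ • act Q d a = _
      rw [hda, smul_smul]
      congr 1
      ring
    rw [h6] at h5
    have h7 : -μ ∈ F₀ := mem_of_isRat_smul ⟨a₀, ha₀⟩ ha0 h5
    have h8 := F₀.neg_mem h7
    rwa [neg_neg] at h8
  have hdx : IsRat F₀ P (act Q d x) := by
    obtain ⟨z, rfl⟩ := hx
    have h5 := (hμ z).smul (F₀.inv_mem hμm)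
    rw [smul_smul, inv_mul_cancel₀ hμ0, one_smul] at h5
    exact h5
  have h2m : (2 : F) ∈ F₀ := by
    rw [← one_add_one_eq_two]
    exact F₀.add_mem F₀.one_mem F₀.one_mem
  have h9 : polar (⇑Q) b' x • b + polar (⇑Q) a x • a' + polar (⇑Q) b x • b'
      + polar (⇑Q) a' x • a = (2 : F)⁻¹ • (x - act Q d x) := by
    rw [hd' x, sub_sub_cancel, smul_smul, inv_mul_cancel₀ h2, one_smul]
  rw [h9]
  exact (hx.sub hdx).smul (F₀.inv_mem h2m)

end Cfsg.Agent.Lib.Helper99.SubfO
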