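import Mathlib
import Cfsg.Prelude.Def_GeometricClasses
import Cfsg.Agent.Lib.Helper99.SubfON

set_option autoImplicit false
set_option linter.unusedSectionVars false

/-!
Case B: existence of a rational totally singular line opposite a given totally singular line.
-/

namespace Cfsg.Agent.Lib.Helper99.SubfO

open Matrix Module QuadraticMap
open Cfsg.Agent.Lib.Helper8 Cfsg.Agent.Lib.Helper13 Cfsg.Agent.Lib.Helper37
open scoped commutatorElement

variable {ι : Type} [Fintype ι] [DecidableEq ι] {F : Type*} [Field F]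
variable (F₀ : Subfield F) (P : GL ι F) (Q : QuadraticForm F (ι → F))
variable (hP : Cfsg.Geo.IsQuadFormRationalStructure (⇑Q) F₀ P)
variable (hQ : (QuadraticMap.polarBilin Q).Nondegenerate)

/-- the root element of a totally singular line only depends on the bivector -/
theorem EM.wedge {M : Subgroup ↥(Cfsg.isometryGroup F (⇑Q))} {p q : ι → F}
    (h : EM Q hQ M p q) (hq : Q q = 0) (α β γ δ : F) (hdet : α * δ - β * γ = 1) :
    EM Q hQ M (α • p + β • q) (γ • p + δ • q) := by
  obtain ⟨hp, hpq, hm⟩ := h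
  have hqp : polar (⇑Q) q p = 0 := by rw [polar_comm]; exact hpq
  have hpp : polar (⇑Q) p p = 0 := by rw [polar_self, hp]; simp
  have hqq : polar (⇑Q) q q = 0 := by rw [polar_self, hq]; simp
  have hu : Q (α • p + β • q) = 0 := by
    rw [QuadraticMap.map_add Q, QuadraticMap.map_smul, QuadraticMap.map_smul, hp, hq,
      polar_smul_left, polar_smul_right, hpq]
    simp
  have hv : Q (γ • p + δ • q) = 0 := by
    rw [QuadraticMap.map_add Q, QuadraticMap.map_smul, QuadraticMap.map_smul, hp, hq,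
      polar_smul_left, polar_smul_right, hpq]
    simp
  have huv : polar (⇑Q) (α • p + β • q) (γ • p + δ • q) = 0 := by
    simp only [polar_add_left, polar_add_right, polar_smul_left, polar_smul_right, hpp, hqq, hpq,
      hqp]
    simp
  refine ⟨hu, huv, ?_⟩
  have : eichlerElt Q hQ (α • p + β • q) (γ • p + δ • q) hu huv = eichlerElt Q hQ p q hp hpq := by
    apply iso_ext
    intro x
    rw [eichlerElt_mulVec, eichlerElt_mulVec, hv, hq]
    simp only [polar_add_left, polar_smul_left, smul_eq_mul]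
    have h1 : α * δ = 1 + β * γ := by linear_combination hdet
    match_scalars
    · ring
    · ring_nf
      linear_combination (-polar (⇑Q) q x) * hdet
    · ring_nf
      linear_combination (polar (⇑Q) p x) * hdet
  rw [this]
  exact hm


variable [Fintype F] (h2 : (2 : F) ≠ 0) (hn : 11 ≤ finrank F (ι → F))

include hP hQ h2 hn in
/-- a rational totally singular line opposite a given totally singular line -/
theorem exists_opposite (p q : ι → F) (hli : LinearIndependent F ![p, q]) (hQp : Q p = 0)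
    (hQq : Q q = 0) (hpq : polar (⇑Q) p q = 0) :
    ∃ a b : ι → F, IsRat F₀ P a ∧ IsRat F₀ P b ∧ Q a = 0 ∧ Q b = 0 ∧ polar (⇑Q) a b = 0 ∧
      polar (⇑Q) a p * polar (⇑Q) b q - polar (⇑Q) a q * polar (⇑Q) b p ≠ 0 := by
  have h01 : (0 : Fin 5) ≠ 1 := by decide
  have hp0 : p ≠ 0 := hli.ne_zero 0
  have hqp : polar (⇑Q) q p = 0 := by rw [polar_comm]; exact hpq
  have hpp : polar (⇑Q) p p = 0 := by rw [polar_self, hQp]; simp
  have hqq : polar (⇑Q) q q = 0 := by rw [polar_self, hQq]; simp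
  -- (i) a rational singular vector not orthogonal to the line
  obtain ⟨a, har, hQa, hane⟩ : ∃ a, IsRat F₀ P a ∧ Q a = 0 ∧
      ¬ (polar (⇑Q) a p = 0 ∧ polar (⇑Q) a q = 0) := by
    by_contra hcon
    push Not at hcon
    obtain ⟨e₀, f₀, fr₀⟩ := exists_ratFrame F₀ P Q hP h2 hQ hn
    apply hp0
    apply eq_zero_of_polar_rv F₀ P Q hQ
    intro x
    obtain ⟨s, α, β, hsr, hQs, hs0, hse, hsf, hα, hβ, hx⟩ :=
      rat_decomp2 F₀ P Q hP fr₀ (rv F₀ P x) (isRat_rv F₀ P x)
    rw [polar_comm, hx]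
    simp only [polar_add_left, polar_smul_left,
      (hcon _ (fr₀.re 0) (fr₀.fam.qe 0)).1, (hcon _ (fr₀.rf 0) (fr₀.fam.qf 0)).1,
      (hcon _ hsr hQs).1, (hcon _ (fr₀.re 1) (fr₀.fam.qe 1)).1,
      (hcon _ (fr₀.rf 1) (fr₀.fam.qf 1)).1, smul_zero, add_zero]
  have ha0 : a ≠ 0 := by
    rintro rfl
    apply hane
    rw [polar_zero_left, polar_zero_left]
    exact ⟨rfl, rfl⟩
  by_contra hcon
  push Not at hcon
  obtain ⟨e, f, fr, he0⟩ := exists_ratFrame_sing F₀ P Q hP hQ h2 hn a har ha0 hQa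
  subst he0
  obtain ⟨w, hw⟩ : ∃ w, w = polar (⇑Q) (e 0) p • q - polar (⇑Q) (e 0) q • p := ⟨_, rfl⟩
  have hxw : ∀ x, polar (⇑Q) x w
      = polar (⇑Q) (e 0) p * polar (⇑Q) x q - polar (⇑Q) (e 0) q * polar (⇑Q) x p := by
    intro x
    rw [hw, polar_sub_right, polar_smul_right, polar_smul_right, smul_eq_mul, smul_eq_mul]
  have hsing : ∀ b, IsRat F₀ P b → Q b = 0 → polar (⇑Q) (e 0) b = 0 → polar (⇑Q) b w = 0 := by
    intro b hbr hQb hab
    rw [hxw]
    exact hcon (e 0) b har hbr hQa hQb hab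
  have hτ : ∀ x : ι → F,
      polar (⇑Q) (x - polar (⇑Q) (f 0) x • e 0 - polar (⇑Q) (e 0) x • f 0) w = 0 := by
    intro x
    apply rat_induction F₀ P (p := fun x =>
      polar (⇑Q) (x - polar (⇑Q) (f 0) x • e 0 - polar (⇑Q) (e 0) x • f 0) w = 0)
    · simp only [polar_zero_right, zero_smul, sub_zero, polar_zero_left]
    · intro u v hu hv
      have : u + v - polar (⇑Q) (f 0) (u + v) • e 0 - polar (⇑Q) (e 0) (u + v) • f 0
          = (u - polar (⇑Q) (f 0) u • e 0 - polar (⇑Q) (e 0) u • f 0)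
            + (v - polar (⇑Q) (f 0) v • e 0 - polar (⇑Q) (e 0) v • f 0) := by
        simp only [polar_add_right]
        module
      show polar (⇑Q) (u + v - polar (⇑Q) (f 0) (u + v) • e 0
        - polar (⇑Q) (e 0) (u + v) • f 0) w = 0
      rw [this, polar_add_left, hu, hv, add_zero]
    · intro c u hu
      have : c • u - polar (⇑Q) (f 0) (c • u) • e 0 - polar (⇑Q) (e 0) (c • u) • f 0
          = c • (u - polar (⇑Q) (f 0) u • e 0 - polar (⇑Q) (e 0) u • f 0) := by
        simp only [polar_smul_right, smul_eq_mul]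
        module
      show polar (⇑Q) (c • u - polar (⇑Q) (f 0) (c • u) • e 0
        - polar (⇑Q) (e 0) (c • u) • f 0) w = 0
      rw [this, polar_smul_left, hu, smul_zero]
    · intro z
      obtain ⟨s, α, β, hsr, hQs, hs0, hse, hsf, hα, hβ, hx⟩ :=
        rat_decomp2 F₀ P Q hP fr (rv F₀ P z) (isRat_rv F₀ P z)
      obtain ⟨γ, hγ⟩ : ∃ γ, γ = polar (⇑Q) (f 0) (rv F₀ P z) := ⟨_, rfl⟩
      obtain ⟨δ, hδ⟩ : ∃ δ, δ = polar (⇑Q) (e 0) (rv F₀ P z) := ⟨_, rfl⟩
      rw [← hγ, ← hδ] at hx ⊢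
      have : rv F₀ P z - γ • e 0 - δ • f 0 = s + α • e 1 + β • f 1 := by
        rw [hx]; abel
      rw [this, polar_add_left, polar_add_left, polar_smul_left, polar_smul_left,
        hsing s hsr hQs hse, hsing (e 1) (fr.re 1) (fr.fam.qe 1) (fr.fam.ee 0 1),
        hsing (f 1) (fr.rf 1) (fr.fam.qf 1) (by rw [fr.fam.ef, if_neg h01])]
      simp
  have hew : polar (⇑Q) (e 0) w = 0 := by rw [hxw]; ring
  obtain ⟨κ, hκ⟩ : ∃ κ, κ = polar (⇑Q) (f 0) w := ⟨_, rfl⟩
  have hwκ : w = κ • e 0 := by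
    have h0 : w - κ • e 0 = 0 := by
      apply hQ.1
      intro x
      show polar (⇑Q) (w - κ • e 0) x = 0
      rw [polar_comm, polar_sub_right, polar_smul_right, smul_eq_mul]
      have h1 := hτ x
      rw [polar_sub_left, polar_sub_left, polar_smul_left, polar_smul_left, hew, ← hκ,
        smul_eq_mul, smul_eq_mul] at h1
      rw [polar_comm (⇑Q) x (e 0)]
      linear_combination h1
    exact sub_eq_zero.1 h0
  have hpw : polar (⇑Q) p w = 0 := by rw [hxw, hpq, hpp]; ring
  have hqw : polar (⇑Q) q w = 0 := by rw [hxw, hqq, hqp]; ring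
  by_cases hκ0 : κ = 0
  · rw [hκ0, zero_smul] at hwκ
    rw [hwκ] at hw
    have hli' := LinearIndependent.pair_iff.1 hli (-polar (⇑Q) (e 0) q) (polar (⇑Q) (e 0) p)
      (by rw [hw]; module)
    apply hane
    exact ⟨hli'.2, by have := hli'.1; rwa [neg_eq_zero] at this⟩
  · rw [hwκ, polar_smul_right, smul_eq_mul] at hpw hqw
    apply hane
    constructor
    · rw [polar_comm]; exact (mul_eq_zero.1 hpw).resolve_left hκ0
    · rw [polar_comm]; exact (mul_eq_zero.1 hqw).resolve_left hκ0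

end Cfsg.Agent.Lib.Helper99.SubfO
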