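import Mathlib
import Cfsg.Prelude.Def_GeometricClasses
import Cfsg.Agent.Lib.Helper99.SubfOP

set_option autoImplicit false
set_option linter.unusedSectionVars false

/-!
Case B: the image of a rational totally singular line under an element of `M` is rational.
-/

namespace Cfsg.Agent.Lib.Helper99.SubfO

open Matrix Module QuadraticMap
open Cfsg.Agent.Lib.Helper8 Cfsg.Agent.Lib.Helper13 Cfsg.Agent.Lib.Helper37
open scoped commutatorElement

variable {ι : Type} [Fintype ι] [DecidableEq ι] {F : Type*} [Field F]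
variable (F₀ : Subfield F) (P : GL ι F) (Q : QuadraticForm F (ι → F))
variable (hP : Cfsg.Geo.IsQuadFormRationalStructure (⇑Q) F₀ P)
variable (hQ : (QuadraticMap.polarBilin Q).Nondegenerate)

/-- the dual basis, in a totally singular line `⟨p, q⟩`, of a pair `a, b` in general position -/
theorem exists_dual (p q a b : ι → F) (hQp : Q p = 0) (hQq : Q q = 0)
    (hpq : polar (⇑Q) p q = 0) (hQa : Q a = 0) (hQb : Q b = 0) (hab : polar (⇑Q) a b = 0)
    (D : F) (hDdef : D = polar (⇑Q) a p * polar (⇑Q) b q - polar (⇑Q) a q * polar (⇑Q) b p)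
    (hD : D ≠ 0) :
    ∃ (a' b' : ι → F) (α β γ δ : F), a' = α • p + β • q ∧ b' = γ • p + δ • q ∧
      α * (D * δ) - β * (D * γ) = 1 ∧ Hyp4 Q a b a' b' ∧
      p = polar (⇑Q) a p • a' + polar (⇑Q) b p • b' ∧
      q = polar (⇑Q) a q • a' + polar (⇑Q) b q • b' := by
  have hqp : polar (⇑Q) q p = 0 := by rw [polar_comm]; exact hpq
  have hpp : polar (⇑Q) p p = 0 := by rw [polar_self, hQp]; simp
  have hqq : polar (⇑Q) q q = 0 := by rw [polar_self, hQq]; simp
  have hcomb : ∀ s t : F, Q (s • p + t • q) = 0 := by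
    intro s t
    rw [QuadraticMap.map_add Q, QuadraticMap.map_smul, QuadraticMap.map_smul, hQp, hQq,
      polar_smul_left, polar_smul_right, hpq]
    simp
  have hD' : polar (⇑Q) a p * polar (⇑Q) b q - polar (⇑Q) a q * polar (⇑Q) b p ≠ 0 := by
    rw [← hDdef]; exact hD
  refine ⟨(polar (⇑Q) b q / D) • p + (-polar (⇑Q) b p / D) • q,
    (-polar (⇑Q) a q / D) • p + (polar (⇑Q) a p / D) • q,
    polar (⇑Q) b q / D, -polar (⇑Q) b p / D, -polar (⇑Q) a q / D, polar (⇑Q) a p / D,
    rfl, rfl, ?_, ⟨hQa, hQb, hcomb _ _, hcomb _ _, hab, ?_, ?_, ?_, ?_, ?_⟩, ?_, ?_⟩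
  · field_simp
    rw [hDdef]; ring
  · simp only [polar_add_right, polar_smul_right, smul_eq_mul]
    field_simp
    rw [hDdef]; ring
  · simp only [polar_add_right, polar_smul_right, smul_eq_mul]
    field_simp
    ring
  · simp only [polar_add_right, polar_smul_right, smul_eq_mul]
    field_simp
    ring
  · simp only [polar_add_right, polar_smul_right, smul_eq_mul]
    field_simp
    rw [hDdef]; ring
  · simp only [polar_add_right, polar_add_left, polar_smul_right, polar_smul_left, hpp, hqq, hpq,
      hqp]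
    simp
  · match_scalars
    · field_simp
      rw [hDdef]; ring
    · field_simp
      (try rw [hDdef]); ring
  · match_scalars
    · field_simp
      (try rw [hDdef]); ring
    · field_simp
      rw [hDdef]; ring

end Cfsg.Agent.Lib.Helper99.SubfO
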