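import Mathlib
import Cfsg.Prelude.Def_GeometricClasses
import Cfsg.Agent.Lib.Helper99.SubfOQ

set_option autoImplicit false
set_option linter.unusedSectionVars false

/-!
Case B: the image of a rational totally singular line under an element of `M` is rational.
-/

namespace Cfsg.Agent.Lib.Helper99.SubfO

open Matrix Module QuadraticMap
open Cfsg.Agent.Lib.Helper8 Cfsg.Agent.Lib.Helper13 Cfsg.Agent.Lib.Helper37
open scoped commutatorElement

variable {ι : Type} [Fintype ι] [DecidableEq ι] {F : Type*} [Field F]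
variable (F₀ : Subfield F) (P : GL ι F) (Q : QuadraticForm F (ι → F))
variable (hP : Cfsg.Geo.IsQuadFormRationalStructure (⇑Q) F₀ P)
variable (hQ : (QuadraticMap.polarBilin Q).Nondegenerate)
variable [Fintype F] (h2 : (2 : F) ≠ 0) (hn : 11 ≤ finrank F (ι → F))
variable (M : Subgroup ↥(Cfsg.isometryGroup F (⇑Q)))
variable (hMΩ : M ≤ commutator ↥(Cfsg.isometryGroup F (⇑Q)))
variable (hHM' : ∀ h : ↥(Cfsg.isometryGroup F (⇑Q)),
  h ∈ commutator ↥(Cfsg.isometryGroup F (⇑Q)) →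
    (h : GL ι F) ∈ Cfsg.Geo.subfieldSubgroup F₀ P → h ∈ M)
variable (hCB : ∀ u v : ι → F, IsRat F₀ P u → u ≠ 0 → EM Q hQ M u v →
  ∃ t : F, IsRat F₀ P (v - t • u))

include hP h2 hn hMΩ hHM' hCB in
/-- given a rational line `⟨a, b⟩` opposite a totally singular line `⟨p, q⟩` whose root element
lies in `M`, the dual basis of `⟨p, q⟩` is rational -/
theorem dual_rat (p q a b : ι → F) (hEpq : EM Q hQ M p q) (hQq : Q q = 0)
    (har : IsRat F₀ P a) (hbr : IsRat F₀ P b) (hQa : Q a = 0) (hQb : Q b = 0)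
    (hab : polar (⇑Q) a b = 0)
    (hD : polar (⇑Q) a p * polar (⇑Q) b q - polar (⇑Q) a q * polar (⇑Q) b p ≠ 0) :
    ∃ a' b' : ι → F, IsRat F₀ P a' ∧ IsRat F₀ P b' ∧ Hyp4 Q a b a' b' ∧
      p = polar (⇑Q) a p • a' + polar (⇑Q) b p • b' ∧
      q = polar (⇑Q) a q • a' + polar (⇑Q) b q • b' := by
  have hn5 : 5 ≤ finrank F (ι → F) := by omega
  have hQp : Q p = 0 := hEpq.1
  have hpq : polar (⇑Q) p q = 0 := hEpq.2.1
  obtain ⟨D, hDdef⟩ : ∃ D, D = polar (⇑Q) a p * polar (⇑Q) b q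
      - polar (⇑Q) a q * polar (⇑Q) b p := ⟨_, rfl⟩
  rw [← hDdef] at hD
  obtain ⟨a', b', α, β, γ, δ, ha', hb', hdet, h4, hp, hq⟩ :=
    exists_dual Q p q a b hQp hQq hpq hQa hQb hab D hDdef hD
  -- the root element of the opposite line
  have hE' : EM Q hQ M a' (D • b') := by
    have := hEpq.wedge Q hQ hQq α β (D * γ) (D * δ) hdet
    rw [ha', hb']
    convert this using 1
    module
  have hπ₀ := proj_rat F₀ P Q hP hQ h2 hn M hMΩ hHM' hCB h4 har hbr D hD hE'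
  -- a rational frame through `a, b`
  have hli : LinearIndependent F ![a, b] := by
    rw [LinearIndependent.pair_iff]
    intro s t hst
    have h1 := congrArg (fun x => polar (⇑Q) x a') hst
    have h2' := congrArg (fun x => polar (⇑Q) x b') hst
    simp only [polar_add_left, polar_smul_left, h4.aa', h4.ba', h4.ab', h4.bb', polar_zero_left,
      smul_eq_mul] at h1 h2'
    simp at h1 h2'
    exact ⟨h1, h2'⟩
  obtain ⟨e₀, f₀, fr₀⟩ := exists_ratFrame F₀ P Q hP h2 hQ hn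
  obtain ⟨e, f, fr, he0, he1⟩ := exists_ratFrame_pair F₀ P Q hP hQ h2 hn fr₀ a b har hbr hQa hQb
    hab hli
  have h01 : (0 : Fin 5) ≠ 1 := by decide
  have h10 : (1 : Fin 5) ≠ 0 := by decide
  -- the partners
  have haf0 : polar (⇑Q) a (f 0) = 1 := by rw [← he0, fr.fam.ef]; simp
  have hbf0 : polar (⇑Q) b (f 0) = 0 := by rw [← he1, fr.fam.ef, if_neg h10]
  have haf1 : polar (⇑Q) a (f 1) = 0 := by rw [← he0, fr.fam.ef, if_neg h01]
  have hbf1 : polar (⇑Q) b (f 1) = 1 := by rw [← he1, fr.fam.ef]; simp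
  obtain ⟨μ₁, hμ₁⟩ : ∃ μ₁, μ₁ = polar (⇑Q) b' (f 0) := ⟨_, rfl⟩
  obtain ⟨lam₁, hlam₁⟩ : ∃ lam₁, lam₁ = polar (⇑Q) a' (f 0) := ⟨_, rfl⟩
  obtain ⟨lam₂, hlam₂⟩ : ∃ lam₂, lam₂ = polar (⇑Q) b' (f 1) := ⟨_, rfl⟩
  obtain ⟨μ₂, hμ₂⟩ : ∃ μ₂, μ₂ = polar (⇑Q) a' (f 1) := ⟨_, rfl⟩
  have hA1 : IsRat F₀ P (μ₁ • b + a' + lam₁ • a) := by
    have := hπ₀ (f 0) (fr.rf 0)
    rw [← hμ₁, haf0, hbf0, ← hlam₁, one_smul, zero_smul, add_zero] at this
    exact this
  have hB1 : IsRat F₀ P (lam₂ • b + b' + μ₂ • a) := by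
    have := hπ₀ (f 1) (fr.rf 1)
    rw [← hlam₂, haf1, hbf1, ← hμ₂, one_smul, zero_smul, add_zero] at this
    exact this
  have hQA1 : Q (μ₁ • b + a' + lam₁ • a) = lam₁ := by
    rw [QuadraticMap.map_add Q, QuadraticMap.map_add Q, QuadraticMap.map_smul,
      QuadraticMap.map_smul, h4.qa, h4.qb, h4.qa']
    simp only [polar_add_left, polar_smul_left, polar_smul_right, h4.ba', h4.ba, h4.a'a,
      smul_eq_mul]
    ring
  have hQB1 : Q (lam₂ • b + b' + μ₂ • a) = lam₂ := by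
    rw [QuadraticMap.map_add Q, QuadraticMap.map_add Q, QuadraticMap.map_smul,
      QuadraticMap.map_smul, h4.qa, h4.qb, h4.qb']
    simp only [polar_add_left, polar_smul_left, polar_smul_right, h4.bb', h4.ba, h4.b'a,
      smul_eq_mul]
    ring
  have hlam₁m : lam₁ ∈ F₀ := by rw [← hQA1]; exact Q_mem_of_isRat F₀ P Q hP hA1
  have hlam₂m : lam₂ ∈ F₀ := by rw [← hQB1]; exact Q_mem_of_isRat F₀ P Q hP hB1
  -- the rational hyperbolic frame of the four-space
  have hAr : IsRat F₀ P (a' + μ₁ • b) := by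
    have := hA1.sub (har.smul hlam₁m)
    convert this using 1
    abel
  have hB2r : IsRat F₀ P (b' + μ₂ • a) := by
    have := hB1.sub (hbr.smul hlam₂m)
    convert this using 1
    abel
  have hμsum : μ₁ + μ₂ ∈ F₀ := by
    have := polar_mem_of_isRat F₀ P Q hP hAr hB2r
    simp only [polar_add_left, polar_add_right, polar_smul_left, polar_smul_right, h4.a'b',
      h4.a'a, h4.bb', h4.ba, smul_eq_mul] at this
    convert this using 1
    ring
  have hBr : IsRat F₀ P (b' - μ₁ • a) := by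
    have := hB2r.sub (har.smul hμsum)
    convert this using 1
    module
  obtain ⟨h, hh, hm0, hm0', hm1, hm1'⟩ := exists_move_quad F₀ P Q hP h2 hQ hn5 fr a
    (a' + μ₁ • b) b (b' - μ₁ • a) har hAr hbr hBr hQa
    (by
      rw [QuadraticMap.map_add Q, QuadraticMap.map_smul, h4.qa', h4.qb, polar_smul_right, h4.a'b]
      simp)
    hQb
    (by
      rw [sub_eq_add_neg, QuadraticMap.map_add Q, QuadraticMap.map_neg, QuadraticMap.map_smul,
        h4.qb', h4.qa, polar_neg_right, polar_smul_right, h4.b'a]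
      simp)
    (by rw [polar_add_right, polar_smul_right, h4.aa', h4.ab]; simp)
    (by rw [polar_sub_right, polar_smul_right, h4.bb', h4.ba]; simp)
    hab
    (by rw [polar_sub_right, polar_smul_right, h4.ab', h4.aa]; simp)
    (by rw [polar_add_left, polar_smul_left, h4.a'b, h4.bb]; simp)
    (by
      simp only [polar_add_left, polar_sub_right, polar_smul_left, polar_smul_right, h4.a'b',
        h4.a'a, h4.bb', h4.ba, smul_eq_mul]
      ring)
  have fr2 := fr.act h hh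
  obtain ⟨e2, he2⟩ : ∃ e2 : Fin 5 → ι → F, e2 = fun i => act Q h (e i) := ⟨_, rfl⟩
  obtain ⟨f2, hf2⟩ : ∃ f2 : Fin 5 → ι → F, f2 = fun i => act Q h (f i) := ⟨_, rfl⟩
  rw [← he2, ← hf2] at fr2
  have h2e0 : e2 0 = a := by rw [he2]; exact hm0
  have h2f0 : f2 0 = a' + μ₁ • b := by rw [hf2]; exact hm0'
  have h2e1 : e2 1 = b := by rw [he2]; exact hm1
  have h2f1 : f2 1 = b' - μ₁ • a := by rw [hf2]; exact hm1'
  -- orthogonality of the remaining pairs to the four-space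
  have horth : ∀ z : ι → F, polar (⇑Q) z (e2 0) = 0 → polar (⇑Q) z (f2 0) = 0 →
      polar (⇑Q) z (e2 1) = 0 → polar (⇑Q) z (f2 1) = 0 →
      polar (⇑Q) z a = 0 ∧ polar (⇑Q) z b = 0 ∧ polar (⇑Q) z a' = 0 ∧ polar (⇑Q) z b' = 0 := by
    intro z hz1 hz2 hz3 hz4
    rw [h2e0] at hz1
    rw [h2e1] at hz3
    rw [h2f0, polar_add_right, polar_smul_right, hz3, smul_zero, add_zero] at hz2
    rw [h2f1, polar_sub_right, polar_smul_right, hz1, smul_zero, sub_zero] at hz4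
    exact ⟨hz1, hz3, hz2, hz4⟩
  have h20 : (2 : Fin 5) ≠ 0 := by decide
  have h21 : (2 : Fin 5) ≠ 1 := by decide
  have h30 : (3 : Fin 5) ≠ 0 := by decide
  have h31 : (3 : Fin 5) ≠ 1 := by decide
  have h23 : (2 : Fin 5) ≠ 3 := by decide
  have h32 : (3 : Fin 5) ≠ 2 := by decide
  obtain ⟨ha2a, ha2b, ha2a', ha2b'⟩ := horth (e2 2) (fr2.fam.ee 2 0)
    (by rw [fr2.fam.ef, if_neg h20]) (fr2.fam.ee 2 1) (by rw [fr2.fam.ef, if_neg h21])
  obtain ⟨hb2a, hb2b, hb2a', hb2b'⟩ := horth (e2 3) (fr2.fam.ee 3 0)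
    (by rw [fr2.fam.ef, if_neg h30]) (fr2.fam.ee 3 1) (by rw [fr2.fam.ef, if_neg h31])
  obtain ⟨hc2a, hc2b, hc2a', hc2b'⟩ := horth (f2 2) (by rw [fr2.fam.fe, if_neg h20])
    (fr2.fam.ff 2 0) (by rw [fr2.fam.fe, if_neg h21]) (fr2.fam.ff 2 1)
  obtain ⟨hd2a, hd2b, hd2a', hd2b'⟩ := horth (f2 3) (by rw [fr2.fam.fe, if_neg h30])
    (fr2.fam.ff 3 0) (by rw [fr2.fam.fe, if_neg h31]) (fr2.fam.ff 3 1)
  have h4' : Hyp4 Q (a + e2 2) (b + e2 3) a' b' := by
    refine ⟨?_, ?_, h4.qa', h4.qb', ?_, ?_, ?_, ?_, ?_, h4.a'b'⟩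
    · rw [QuadraticMap.map_add Q, hQa, fr2.fam.qe, polar_comm, ha2a]; simp
    · rw [QuadraticMap.map_add Q, hQb, fr2.fam.qe, polar_comm, hb2b]; simp
    · rw [polar_add_left, polar_add_right, polar_add_right, hab, polar_comm (⇑Q) a (e2 3), hb2a,
        ha2b, fr2.fam.ee]
      simp
    · rw [polar_add_left, h4.aa', ha2a']; simp
    · rw [polar_add_left, h4.ab', ha2b']; simp
    · rw [polar_add_left, h4.ba', hb2a']; simp
    · rw [polar_add_left, h4.bb', hb2b']; simp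
  have hπ₁ := proj_rat F₀ P Q hP hQ h2 hn M hMΩ hHM' hCB h4' (har.add (fr2.re 2))
    (hbr.add (fr2.re 3)) D hD hE'
  have hra' : IsRat F₀ P a' := by
    have := hπ₁ (f2 2) (fr2.rf 2)
    rw [polar_comm (⇑Q) b' (f2 2), hc2b', polar_comm (⇑Q) a' (f2 2), hc2a', polar_add_left,
      polar_add_left, polar_comm (⇑Q) a (f2 2), hc2a, polar_comm (⇑Q) b (f2 2), hc2b,
      fr2.fam.ef, fr2.fam.ef, if_neg h32] at this
    simpa using this
  have hrb' : IsRat F₀ P b' := by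
    have := hπ₁ (f2 3) (fr2.rf 3)
    rw [polar_comm (⇑Q) b' (f2 3), hd2b', polar_comm (⇑Q) a' (f2 3), hd2a', polar_add_left,
      polar_add_left, polar_comm (⇑Q) a (f2 3), hd2a, polar_comm (⇑Q) b (f2 3), hd2b,
      fr2.fam.ef, fr2.fam.ef, if_neg h23] at this
    simpa using this
  exact ⟨a', b', hra', hrb', h4, hp, hq⟩

end Cfsg.Agent.Lib.Helper99.SubfO
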