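import Mathlib
import Cfsg.Prelude.Def_GeometricClasses
import Cfsg.Agent.Lib.Helper99.SubfOR

set_option autoImplicit false
set_option linter.unusedSectionVars false

/-!
Case B: if all root elements of `M` at rational singular points are rational, then `M` lies in
the subfield group.
-/

namespace Cfsg.Agent.Lib.Helper99.SubfO

open Matrix Module QuadraticMap
open Cfsg.Agent.Lib.Helper8 Cfsg.Agent.Lib.Helper13 Cfsg.Agent.Lib.Helper37
open scoped commutatorElement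

variable {ι : Type} [Fintype ι] [DecidableEq ι] {F : Type*} [Field F]
variable (F₀ : Subfield F) (P : GL ι F) (Q : QuadraticForm F (ι → F))
variable (hP : Cfsg.Geo.IsQuadFormRationalStructure (⇑Q) F₀ P)
variable (hQ : (QuadraticMap.polarBilin Q).Nondegenerate)
variable [Fintype F] (h2 : (2 : F) ≠ 0) (hn : 11 ≤ finrank F (ι → F))
variable (M : Subgroup ↥(Cfsg.isometryGroup F (⇑Q)))
variable (hMΩ : M ≤ commutator ↥(Cfsg.isometryGroup F (⇑Q)))
variable (hHM' : ∀ h : ↥(Cfsg.isometryGroup F (⇑Q)),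
  h ∈ commutator ↥(Cfsg.isometryGroup F (⇑Q)) →
    (h : GL ι F) ∈ Cfsg.Geo.subfieldSubgroup F₀ P → h ∈ M)
variable (hCB : ∀ u v : ι → F, IsRat F₀ P u → u ≠ 0 → EM Q hQ M u v →
  ∃ t : F, IsRat F₀ P (v - t • u))

include hP h2 hn hMΩ hHM' hCB in
/-- the image of a rational totally singular line under an element of `M` is rational -/
theorem image_line_rat (g : ↥(Cfsg.isometryGroup F (⇑Q))) (hg : g ∈ M) (a₀ b₀ : ι → F)
    (har : IsRat F₀ P a₀) (hbr : IsRat F₀ P b₀) (hQa : Q a₀ = 0) (hQb : Q b₀ = 0)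
    (hab : polar (⇑Q) a₀ b₀ = 0) (hli : LinearIndependent F ![a₀, b₀]) :
    ∃ a' b' : ι → F, IsRat F₀ P a' ∧ IsRat F₀ P b' ∧ Q a' = 0 ∧ Q b' = 0 ∧
      polar (⇑Q) a' b' = 0 ∧
      ∃ α β γ δ : F, act Q g a₀ = α • a' + β • b' ∧ act Q g b₀ = γ • a' + δ • b' := by
  have hn5 : 5 ≤ finrank F (ι → F) := by omega
  have hHM := hHM_of F₀ P Q M hHM'
  have hE0 : EM Q hQ M a₀ b₀ := EM_of_rat F₀ P Q hP hQ h2 hn5 M hHM a₀ b₀ har hbr hQa hab
  have hE := hE0.conj g hg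
  have hli' : LinearIndependent F ![act Q g a₀, act Q g b₀] := by
    rw [LinearIndependent.pair_iff] at hli ⊢
    intro s t hst
    rw [← act_smul, ← act_smul, ← act_add] at hst
    exact hli s t (act_eq_zero Q g _ hst)
  have hQq : Q (act Q g b₀) = 0 := by rw [Q_act]; exact hQb
  obtain ⟨a, b, har', hbr', hQa', hQb', hab', hD⟩ := exists_opposite F₀ P Q hP hQ h2 hn
    (act Q g a₀) (act Q g b₀) hli' hE.1 hQq hE.2.1
  obtain ⟨a', b', hra', hrb', h4, hp, hq⟩ := dual_rat F₀ P Q hP hQ h2 hn M hMΩ hHM' hCB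
    (act Q g a₀) (act Q g b₀) a b hE hQq har' hbr' hQa' hQb' hab' hD
  exact ⟨a', b', hra', hrb', h4.qa', h4.qb', h4.a'b', _, _, _, _, hp, hq⟩

/-- a vector of a rational line satisfying a rational linear relation is proportional to a
rational vector -/
theorem prop_of_rel {a' b' : ι → F} (hra' : IsRat F₀ P a') (hrb' : IsRat F₀ P b')
    (α β m m' : F) (hm : m ∈ F₀) (hm' : m' ∈ F₀) (hrel : α * m + β * m' = 0)
    (hne : m ≠ 0 ∨ m' ≠ 0) :
    ∃ (c : F) (r : ι → F), IsRat F₀ P r ∧ α • a' + β • b' = c • r := by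
  classical
  refine ⟨if m = 0 then α / m' else -β / m, m' • a' - m • b',
    (hra'.smul hm').sub (hrb'.smul hm), ?_⟩
  by_cases h0 : m = 0
  · have hm'0 : m' ≠ 0 := hne.resolve_left (fun h => h h0)
    rw [if_pos h0]
    subst h0
    have hβ : β = 0 := by
      rw [mul_zero, zero_add] at hrel
      exact (mul_eq_zero.1 hrel).resolve_right hm'0
    subst hβ
    match_scalars
    · field_simp
    · ring
  · rw [if_neg h0]
    match_scalars
    · field_simp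
      linear_combination hrel
    · field_simp

include hP h2 hn hMΩ hHM' hCB in
theorem caseB (g : ↥(Cfsg.isometryGroup F (⇑Q))) (hg : g ∈ M) :
    (g : GL ι F) ∈ Cfsg.Geo.subfieldSubgroup F₀ P := by
  obtain ⟨e, f, fr⟩ := exists_ratFrame F₀ P Q hP h2 hQ hn
  have h01 : (0 : Fin 5) ≠ 1 := by decide
  have hli1 : LinearIndependent F ![e 0, e 1] := by
    rw [LinearIndependent.pair_iff]
    intro s t hst
    have h0 := congrArg (fun x => polar (⇑Q) x (f 0)) hst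
    have h1 := congrArg (fun x => polar (⇑Q) x (f 1)) hst
    simp only [polar_add_left, polar_smul_left, fr.fam.ef, polar_zero_left, smul_eq_mul] at h0 h1
    simp at h0 h1
    exact ⟨h0, h1⟩
  have hli2 : LinearIndependent F ![e 0, f 1] := by
    rw [LinearIndependent.pair_iff]
    intro s t hst
    have h0 := congrArg (fun x => polar (⇑Q) x (f 0)) hst
    have h1 := congrArg (fun x => polar (⇑Q) x (e 1)) hst
    simp only [polar_add_left, polar_smul_left, fr.fam.ef, fr.fam.ee, fr.fam.ff, fr.fam.fe,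
      polar_zero_left, smul_eq_mul] at h0 h1
    simp at h0 h1
    exact ⟨h0, h1⟩
  obtain ⟨a₁, b₁, hra₁, hrb₁, hQa₁, hQb₁, hab₁, α₁, β₁, γ₁, δ₁, hp₁, hq₁⟩ :=
    image_line_rat F₀ P Q hP hQ h2 hn M hMΩ hHM' hCB g hg (e 0) (e 1) (fr.re 0) (fr.re 1)
      (fr.fam.qe 0) (fr.fam.qe 1) (fr.fam.ee 0 1) hli1
  obtain ⟨a₂, b₂, hra₂, hrb₂, hQa₂, hQb₂, hab₂, α₂, β₂, γ₂, δ₂, hp₂, hq₂⟩ :=
    image_line_rat F₀ P Q hP hQ h2 hn M hMΩ hHM' hCB g hg (e 0) (f 1) (fr.re 0) (fr.rf 1)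
      (fr.fam.qe 0) (fr.fam.qf 1) (by rw [fr.fam.ef, if_neg h01]) hli2
  have haa₂ : polar (⇑Q) a₂ a₂ = 0 := by rw [polar_self, hQa₂]; simp
  have hbb₂ : polar (⇑Q) b₂ b₂ = 0 := by rw [polar_self, hQb₂]; simp
  have hba₂ : polar (⇑Q) b₂ a₂ = 0 := by rw [polar_comm]; exact hab₂
  -- the image of `e 0` is orthogonal to the second line
  have ho1 : polar (⇑Q) (act Q g (e 0)) a₂ = 0 := by
    rw [hp₂, polar_add_left, polar_smul_left, polar_smul_left, haa₂, hba₂]; simp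
  have ho2 : polar (⇑Q) (act Q g (e 0)) b₂ = 0 := by
    rw [hp₂, polar_add_left, polar_smul_left, polar_smul_left, hab₂, hbb₂]; simp
  rw [hp₁, polar_add_left, polar_smul_left, polar_smul_left, smul_eq_mul, smul_eq_mul] at ho1 ho2
  -- the two lines are not orthogonal
  have hne : polar (⇑Q) (act Q g (e 1)) (act Q g (f 1)) = 1 := by
    rw [polar_act, fr.fam.ef]; simp
  rw [hq₁, hq₂] at hne
  simp only [polar_add_left, polar_add_right, polar_smul_left, polar_smul_right, smul_eq_mul]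
    at hne
  have hsome : (polar (⇑Q) a₁ a₂ ≠ 0 ∨ polar (⇑Q) b₁ a₂ ≠ 0) ∨
      (polar (⇑Q) a₁ b₂ ≠ 0 ∨ polar (⇑Q) b₁ b₂ ≠ 0) := by
    by_contra hcon
    push Not at hcon
    rw [hcon.1.1, hcon.1.2, hcon.2.1, hcon.2.2] at hne
    simp at hne
  have hu0 : e 0 ≠ 0 := fr.fam.e_ne_zero 0
  rcases hsome with h | h
  · obtain ⟨c, r, hrr, hcr⟩ := prop_of_rel F₀ P hra₁ hrb₁ α₁ β₁ _ _
      (polar_mem_of_isRat F₀ P Q hP hra₁ hra₂) (polar_mem_of_isRat F₀ P Q hP hrb₁ hra₂) ho1 h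
    rw [← hp₁] at hcr
    exact mem_subfield_of_maps_point F₀ P Q hP hQ h2 hn M hMΩ hHM' hCB (e 0) r (fr.re 0) hu0
      (fr.fam.qe 0) hrr g hg c hcr
  · obtain ⟨c, r, hrr, hcr⟩ := prop_of_rel F₀ P hra₁ hrb₁ α₁ β₁ _ _
      (polar_mem_of_isRat F₀ P Q hP hra₁ hrb₂) (polar_mem_of_isRat F₀ P Q hP hrb₁ hrb₂) ho2 h
    rw [← hp₁] at hcr
    exact mem_subfield_of_maps_point F₀ P Q hP hQ h2 hn M hMΩ hHM' hCB (e 0) r (fr.re 0) hu0
      (fr.fam.qe 0) hrr g hg c hcr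

end Cfsg.Agent.Lib.Helper99.SubfO
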