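import Mathlib
import Cfsg.Prelude.Def_GeometricClasses
import Cfsg.Agent.Lib.Helper99.SubfOS

set_option autoImplicit false
set_option linter.unusedSectionVars false

/-!
Maximality of the orthogonal subfield subgroups `Ω(q₀) < Ω(q₀ ^ r)`, `r` prime, in odd
characteristic and dimension at least `11`.
-/

namespace Cfsg.Agent.Lib.Helper99.SubfO

open Matrix Module QuadraticMap
open Cfsg.Agent.Lib.Helper8 Cfsg.Agent.Lib.Helper13 Cfsg.Agent.Lib.Helper37
open scoped commutatorElement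

variable {ι : Type} [Fintype ι] [DecidableEq ι] {F : Type*} [Field F]

/-- the bridge between overgroups inside the isometry group and maximality in `GL` -/
theorem isMaximalIn_of_overgroups (Q : QuadraticForm F (ι → F)) (K : Subgroup (GL ι F))
    (hproper : ∃ g ∈ commutator ↥(Cfsg.isometryGroup F ⇑Q), (g : GL ι F) ∉ K)
    (hmax : ∀ M : Subgroup ↥(Cfsg.isometryGroup F ⇑Q),
      M ≤ commutator ↥(Cfsg.isometryGroup F ⇑Q) →
      (∀ h : ↥(Cfsg.isometryGroup F ⇑Q), h ∈ commutator ↥(Cfsg.isometryGroup F ⇑Q) →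
        (h : GL ι F) ∈ K → h ∈ M) →
      ∀ g ∈ M, (g : GL ι F) ∉ K → commutator ↥(Cfsg.isometryGroup F ⇑Q) ≤ M) :
    Cfsg.Geo.IsMaximalIn (Cfsg.Geo.omegaGL ⇑Q) (K ⊓ Cfsg.Geo.omegaGL ⇑Q) := by
  have hmemΩ : ∀ x : Matrix.GeneralLinearGroup ι F, x ∈ Cfsg.Geo.omegaGL ⇑Q ↔
      ∃ g : ↥(Cfsg.isometryGroup F ⇑Q), g ∈ commutator ↥(Cfsg.isometryGroup F ⇑Q) ∧
        (g : Matrix.GeneralLinearGroup ι F) = x := by
    intro x
    unfold Cfsg.Geo.omegaGL
    rw [Subgroup.mem_map]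
    rfl
  refine ⟨lt_of_le_of_ne inf_le_right ?_, ?_⟩
  · intro heq
    obtain ⟨g, hgΩ, hg⟩ := hproper
    have h1 : (g : Matrix.GeneralLinearGroup ι F) ∈ Cfsg.Geo.omegaGL ⇑Q :=
      (hmemΩ _).2 ⟨g, hgΩ, rfl⟩
    rw [← heq] at h1
    exact hg h1.1
  · intro M hHM hMK
    by_cases hMH : M ≤ K ⊓ Cfsg.Geo.omegaGL ⇑Q
    · exact Or.inl (le_antisymm hMH hHM)
    · right
      apply le_antisymm hMK
      obtain ⟨x, hxM, hxH⟩ := SetLike.not_le_iff_exists.1 hMH
      obtain ⟨g, hgΩ, rfl⟩ := (hmemΩ x).1 (hMK hxM)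
      have hgS : (g : GL ι F) ∉ K := by
        intro h
        exact hxH ⟨h, hMK hxM⟩
      have h2 := hmax (M.comap (Cfsg.isometryGroup F ⇑Q).subtype)
        (by
          intro a ha
          rw [Subgroup.mem_comap] at ha
          obtain ⟨a', ha'Ω, ha'⟩ := (hmemΩ _).1 (hMK ha)
          have : a' = a := Subtype.ext ha'
          rw [← this]
          exact ha'Ω)
        (by
          intro a haΩ haK
          rw [Subgroup.mem_comap]
          apply hHM
          exact ⟨haK, (hmemΩ _).2 ⟨a, haΩ, rfl⟩⟩) g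
        (by rw [Subgroup.mem_comap]; exact hxM) hgS
      intro y hy
      obtain ⟨a, haΩ, rfl⟩ := (hmemΩ y).1 hy
      exact h2 haΩ

/-- the orthogonal subfield groups are maximal in `Ω`, in odd characteristic -/
theorem subfield_orth_isMaximalIn [Fintype F] (h2 : (2 : F) ≠ 0) (Q : QuadraticForm F (ι → F))
    (hQ : (QuadraticMap.polarBilin Q).Nondegenerate) (hn : 11 ≤ finrank F (ι → F))
    (F₀ : Subfield F) (r : ℕ) (hr : r.Prime) (hcard : Fintype.card F = Nat.card ↥F₀ ^ r)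
    (P : GL ι F) (hP : Cfsg.Geo.IsQuadFormRationalStructure (⇑Q) F₀ P) :
    Cfsg.Geo.IsMaximalIn (Cfsg.Geo.omegaGL ⇑Q)
      (Cfsg.Geo.subfieldSubgroup F₀ P ⊓ Cfsg.Geo.omegaGL ⇑Q) := by
  have hn5 : 5 ≤ finrank F (ι → F) := by omega
  apply isMaximalIn_of_overgroups
  · -- properness
    obtain ⟨c, hc⟩ : ∃ c : F, c ∉ F₀ := by
      by_contra hcon
      push Not at hcon
      have h1 : Nat.card ↥F₀ = Fintype.card F := by
        rw [← Nat.card_eq_fintype_card]
        exact Nat.card_congr (Equiv.subtypeUnivEquiv hcon)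
      rw [h1] at hcard
      have hq : 2 ≤ Fintype.card F := Fintype.one_lt_card
      have hr2 : 2 ≤ r := hr.two_le
      have h3 : Fintype.card F ^ 2 ≤ Fintype.card F ^ r :=
        Nat.pow_le_pow_right (by omega) hr2
      nlinarith
    obtain ⟨e, f, fr⟩ := exists_ratFrame F₀ P Q hP h2 hQ hn
    have h01 : (0 : Fin 5) ≠ 1 := by decide
    have huw : polar (⇑Q) (e 0) (c • e 1) = 0 := by
      rw [polar_smul_right, fr.fam.ee, smul_zero]
    refine ⟨eichlerElt Q hQ (e 0) (c • e 1) (fr.fam.qe 0) huw,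
      eichlerElt_mem_omega Q hQ hn5 (fun h => absurd h h2) _ _ _ _, ?_⟩
    intro hmem
    obtain ⟨μ, hμ0, hμ⟩ := maps_of_mem_subfield F₀ P _ hmem
    have hact : ∀ x, ((eichlerElt Q hQ (e 0) (c • e 1) (fr.fam.qe 0) huw : GL ι F) :
        Matrix ι ι F) *ᵥ x = act Q (eichlerElt Q hQ (e 0) (c • e 1) (fr.fam.qe 0) huw) x :=
      fun x => rfl
    have hμm : μ ∈ F₀ := by
      obtain ⟨z, hz⟩ := fr.re 0
      have h5 := hμ z
      rw [hz, hact, act_eichlerElt, fr.fam.ee 0 0, polar_smul_left, fr.fam.ee 1 0] at h5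
      simp only [zero_smul, smul_zero, mul_zero, add_zero, sub_zero] at h5
      exact mem_of_isRat_smul (fr.re 0) (fr.fam.e_ne_zero 0) h5
    obtain ⟨z, hz⟩ := fr.rf 0
    have h5 := (hμ z).smul (F₀.inv_mem hμm)
    rw [smul_smul, inv_mul_cancel₀ hμ0, one_smul, hz, hact, act_eichlerElt, fr.fam.ef 0 0,
      polar_smul_left, fr.fam.ef 1 0, QuadraticMap.map_smul, fr.fam.qe 1] at h5
    simp only [if_true, one_smul, if_neg h01.symm, smul_zero, zero_smul, mul_zero, sub_zero]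
      at h5
    have h6 := h5.sub (fr.rf 0)
    have h7 : f 0 + c • e 1 - (0 * 1 : F) • e 0 - f 0 = c • e 1 := by
      rw [zero_mul, zero_smul, sub_zero, add_sub_cancel_left]
    rw [h7] at h6
    exact hc (mem_of_isRat_smul (fr.re 1) (fr.fam.e_ne_zero 1) h6)
  · intro M hMΩ hHM' g hg hgK
    by_cases hCB : ∀ u v : ι → F, IsRat F₀ P u → u ≠ 0 → EM Q hQ M u v →
        ∃ t : F, IsRat F₀ P (v - t • u)
    · exact absurd (caseB F₀ P Q hP hQ h2 hn M hMΩ hHM' hCB g hg) hgK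
    · push Not at hCB
      obtain ⟨u, v, hur, hu0, hE, hv⟩ := hCB
      exact caseA F₀ P Q hP hQ h2 hn M (hHM_of F₀ P Q M hHM') r hr hcard u v hur hu0 hE
        (by
          rintro ⟨t, ht⟩
          exact hv t ht)

end Cfsg.Agent.Lib.Helper99.SubfO
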