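import Mathlib

set_option autoImplicit false

/-!
Subgroups of index `n` in the symmetric group of degree `n`: counting part.
An isomorphism `Perm α ≃* Perm β` (with `card α = card β`) maps swaps to swaps, unless
the degree is `6`, where it may map swaps to products of three disjoint swaps.
-/

namespace Cfsg.Agent.Lib.Helper99

open Equiv Equiv.Perm

section arith

open Nat

theorem fact_ineq (k : ℕ) (hk : 4 ≤ k) : 2 ^ k * k ! < 2 * (2 * k - 2)! := by
  induction k, hk using Nat.le_induction with
  | base => decide
  | succ k hk ih =>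
    have h1 : 2 * (k + 1) - 2 = (2 * k - 2) + 2 := by omega
    rw [h1, Nat.factorial_succ, Nat.factorial_succ, Nat.factorial_succ, pow_succ]
    have h2 : 2 * k - 2 + 1 + 1 = 2 * k := by omega
    have h3 : 2 * k - 2 + 1 = 2 * k - 1 := by omega
    rw [h2, h3]
    have h4 : 2 * (k + 1) ≤ (2 * k) * (2 * k - 1) := by
      have : 3 ≤ 2 * k - 1 := by omega
      nlinarith
    calc 2 ^ k * 2 * ((k + 1) * k !) = (2 ^ k * k !) * (2 * (k + 1)) := by ring
      _ < (2 * (2 * k - 2)!) * (2 * (k + 1)) := by
          apply Nat.mul_lt_mul_of_pos_right ih (by omega)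
      _ ≤ (2 * (2 * k - 2)!) * ((2 * k) * (2 * k - 1)) := Nat.mul_le_mul_left _ h4
      _ = 2 * (2 * k * ((2 * k - 1) * (2 * k - 2)!)) := by ring

theorem arith_key (m k : ℕ) (hk : 1 ≤ k)
    (h : m ! * 2 ^ k * k ! = 2 * (m + 2 * k - 2)!) : k = 1 ∨ (k = 3 ∧ m = 0) := by
  have hm : 0 < m ! := Nat.factorial_pos m
  rcases Nat.lt_or_ge k 4 with hk4 | hk4
  · interval_cases k
    · left; rfl
    · exfalso
      have h1 : m + 2 * 2 - 2 = m + 2 := by omega
      rw [h1, Nat.factorial_succ, Nat.factorial_succ] at h
      have : (m + 1 + 1) * (m + 1) = 4 := by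
        have h2 : m ! * 4 = m ! * ((m + 1 + 1) * (m + 1)) := by
          simp only [Nat.factorial] at h ⊢
          nlinarith
        exact (Nat.eq_of_mul_eq_mul_left hm h2).symm
      rcases m with _ | _ | m
      · omega
      · omega
      · nlinarith
    · right
      refine ⟨rfl, ?_⟩
      have h1 : m + 2 * 3 - 2 = m + 4 := by omega
      rw [h1, Nat.factorial_succ, Nat.factorial_succ, Nat.factorial_succ, Nat.factorial_succ] at h
      have : (m + 3 + 1) * ((m + 2 + 1) * ((m + 1 + 1) * (m + 1))) = 24 := by
        have h2 : m ! * 24 = m ! * ((m + 3 + 1) * ((m + 2 + 1) * ((m + 1 + 1) * (m + 1)))) := by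
          simp only [Nat.factorial] at h ⊢
          nlinarith
        exact (Nat.eq_of_mul_eq_mul_left hm h2).symm
      rcases m with _ | m
      · rfl
      · exfalso
        have : 5 * (4 * (3 * 2)) ≤ (m + 1 + 3 + 1) * ((m + 1 + 2 + 1) * ((m + 1 + 1 + 1) * (m + 1 + 1))) := by
          apply Nat.mul_le_mul (by omega)
          apply Nat.mul_le_mul (by omega)
          apply Nat.mul_le_mul (by omega) (by omega)
        omega
  · exfalso
    have h1 := fact_ineq k hk4
    have h2 : m ! * (2 * k - 2)! ≤ (m + 2 * k - 2)! := by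
      have h3 : m + 2 * k - 2 = m + (2 * k - 2) := by omega
      rw [h3]
      exact Nat.le_of_dvd (Nat.factorial_pos _) (Nat.factorial_mul_factorial_dvd_factorial_add m (2 * k - 2))
    have : m ! * (2 ^ k * k !) < m ! * (2 * (2 * k - 2)!) := Nat.mul_lt_mul_of_pos_left h1 hm
    nlinarith


end arith

section maps

variable {α β : Type*} [Fintype α] [DecidableEq α] [Fintype β] [DecidableEq β]

theorem cycleType_map_eq (φ : Perm α →* Perm β) {g g₀ : Perm α}
    (h : g.cycleType = g₀.cycleType) : (φ g).cycleType = (φ g₀).cycleType := by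
  obtain ⟨c, hc⟩ := isConj_iff.mp (isConj_iff_cycleType_eq.mpr h)
  rw [← hc, map_mul, map_mul, map_inv, cycleType_conj]

theorem card_cycleType_eq (φ : Perm α ≃* Perm β) (g₀ : Perm α) :
    (Finset.univ.filter fun g : Perm α => g.cycleType = g₀.cycleType).card =
      (Finset.univ.filter fun h : Perm β => h.cycleType = (φ g₀).cycleType).card := by
  apply Finset.card_bij (fun g _ => φ g)
  · intro g hg
    simp only [Finset.mem_filter, Finset.mem_univ, true_and] at hg ⊢
    exact cycleType_map_eq φ.toMonoidHom hg
  · intro a _ b _ h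
    exact φ.injective h
  · intro h hh
    simp only [Finset.mem_filter, Finset.mem_univ, true_and] at hh
    refine ⟨φ.symm h, ?_, by simp⟩
    simp only [Finset.mem_filter, Finset.mem_univ, true_and]
    have := cycleType_map_eq φ.symm.toMonoidHom (g := h) (g₀ := φ g₀) hh
    simpa using this

theorem isSwap_iff_cycleType {g : Perm α} : g.IsSwap ↔ g.cycleType = {2} := by
  constructor
  · intro h
    rw [h.isCycle.cycleType, card_support_eq_two.mpr h]
  · intro h
    rw [← card_support_eq_two, ← sum_cycleType, h]
    rfl

theorem count_two (hα : 2 ≤ Fintype.card α) :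
    (Finset.univ.filter fun g : Perm α => g.cycleType = {2}).card *
      ((Fintype.card α - 2).factorial * 2) = (Fintype.card α).factorial := by
  have := card_of_cycleType_mul_eq α ({2} : Multiset ℕ)
  rw [if_pos] at this
  · simpa using this
  · simpa using hα

theorem count_rep (k : ℕ) (hk : 1 ≤ k) (hα : 2 * k ≤ Fintype.card α) :
    (Finset.univ.filter fun g : Perm α => g.cycleType = Multiset.replicate k 2).card *
      ((Fintype.card α - 2 * k).factorial * 2 ^ k * k.factorial) = (Fintype.card α).factorial := by
  have := card_of_cycleType_mul_eq α (Multiset.replicate k 2)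
  rw [if_pos] at this
  · have h1 : (Multiset.replicate k 2).toFinset = {2} := by
      ext x
      simp only [Multiset.mem_toFinset, Multiset.mem_replicate, Finset.mem_singleton]
      constructor
      · exact fun h => h.2
      · intro h; exact ⟨by omega, h⟩
    rw [h1] at this
    simp only [Multiset.sum_replicate, Multiset.prod_replicate, Finset.prod_singleton,
      Multiset.count_replicate_self, smul_eq_mul] at this
    rw [mul_comm k 2] at this
    exact this
  · constructor
    · simp only [Multiset.sum_replicate, smul_eq_mul]; omega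
    · intro a ha
      rw [Multiset.eq_of_mem_replicate ha]

/-- The key counting statement: an isomorphism between symmetric groups of the same degree maps
swaps to swaps, unless the degree is `6` and it maps swaps to triple transpositions. -/
theorem swap_type (φ : Perm α ≃* Perm β) (hcard : Fintype.card β = Fintype.card α) :
    ∃ k, (k = 1 ∨ (k = 3 ∧ Fintype.card α = 6)) ∧
      ∀ g : Perm α, g.cycleType = {2} → (φ g).cycleType = Multiset.replicate k 2 := by
  by_cases hex : ∃ g₀ : Perm α, g₀.cycleType = {2}
  · obtain ⟨g₀, hg₀⟩ := hex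
    have hα : 2 ≤ Fintype.card α := by
      have := sum_cycleType_le g₀
      rw [hg₀] at this
      simpa using this
    have ho : orderOf g₀ = 2 := by
      rw [← lcm_cycleType, hg₀]; simp
    have ho' : orderOf (φ g₀) = 2 := by
      rw [MulEquiv.orderOf_eq]; exact ho
    obtain ⟨k', hk'⟩ := cycleType_prime_order (σ := φ g₀) (by rw [ho']; exact Nat.prime_two)
    rw [ho'] at hk'
    have hle : 2 * (k' + 1) ≤ Fintype.card α := by
      have := sum_cycleType_le (φ g₀)
      rw [hk', hcard] at this
      simp only [Multiset.sum_replicate, smul_eq_mul] at this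
      omega
    have hc := card_cycleType_eq φ g₀
    rw [hg₀, hk'] at hc
    have e1 := count_two hα
    have e2 := count_rep (α := β) (k' + 1) (by omega) (by rw [hcard]; exact hle)
    rw [← hc, hcard] at e2
    have hpos : 0 < (Finset.univ.filter fun g : Perm α => g.cycleType = {2}).card := by
      apply Finset.card_pos.mpr
      exact ⟨g₀, by simp [hg₀]⟩
    have e3 : (Fintype.card α - 2 * (k' + 1)).factorial * 2 ^ (k' + 1) * (k' + 1).factorial =
        (Fintype.card α - 2).factorial * 2 := by
      apply Nat.eq_of_mul_eq_mul_left hpos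
      rw [e2, e1]
    obtain ⟨m, hm⟩ : ∃ m, Fintype.card α = m + 2 * (k' + 1) := ⟨_, (Nat.sub_add_cancel hle).symm⟩
    have e4 : m.factorial * 2 ^ (k' + 1) * (k' + 1).factorial = 2 * (m + 2 * (k' + 1) - 2).factorial := by
      rw [hm] at e3
      rw [Nat.add_sub_cancel] at e3
      rw [e3, mul_comm]
    have key := arith_key m (k' + 1) (by omega) e4
    refine ⟨k' + 1, ?_, ?_⟩
    · rcases key with h | ⟨h1, h2⟩
      · left; exact h
      · right; refine ⟨h1, ?_⟩; rw [hm, h1, h2]
    · intro g hg
      rw [← hk']
      exact cycleType_map_eq φ.toMonoidHom (hg.trans hg₀.symm)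
  · refine ⟨1, Or.inl rfl, ?_⟩
    intro g hg
    exact absurd ⟨g, hg⟩ hex

end maps

end Cfsg.Agent.Lib.Helper99
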