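import Cfsg.Agent.Lib.Helper99.SymIndexA

set_option autoImplicit false

/-!
An isomorphism `Perm α ≃* Perm β` that maps swaps to swaps pulls point stabilizers back to
point stabilizers.
-/

namespace Cfsg.Agent.Lib.Helper99

open Equiv Equiv.Perm

section pointstab

variable {α β : Type*} [Fintype α] [DecidableEq α] [Fintype β] [DecidableEq β]

theorem eq_swap_of_isSwap_of_ne {t : Perm β} (ht : t.IsSwap) {x : β} (hx : t x ≠ x) :
    t = swap x (t x) := by
  obtain ⟨u, v, huv, rfl⟩ := ht
  by_cases h1 : x = u
  · subst h1; rw [swap_apply_left]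
  · by_cases h2 : x = v
    · subst h2; rw [swap_apply_right, swap_comm]
    · exact absurd (swap_apply_of_ne_of_ne h1 h2) hx

theorem card_stabilizer_mul (a : α) :
    Nat.card (MulAction.stabilizer (Perm α) a) * Fintype.card α = Nat.card (Perm α) := by
  have h := Subgroup.card_mul_index (MulAction.stabilizer (Perm α) a)
  rw [MulAction.index_stabilizer_of_transitive, Nat.card_eq_fintype_card (α := α)] at h
  exact h

theorem stabilizer_le_of_swaps (K : Subgroup (Perm α)) (a : α)
    (h : ∀ u v : α, u ≠ a → v ≠ a → u ≠ v → swap u v ∈ K) :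
    MulAction.stabilizer (Perm α) a ≤ K := by
  intro g hg
  have hga : g a = a := hg
  have h₁ : ∀ x, (g x ≠ a) ↔ (x ≠ a) := by
    intro x
    constructor
    · rintro h1 rfl; exact h1 hga
    · intro h1 h2
      apply h1
      apply g.injective
      rw [h2, hga]
  have h₂ : ∀ x, g x ≠ x → x ≠ a := by
    rintro x hx rfl
    exact hx hga
  have e := ofSubtype_subtypePerm (f := g) (p := fun x => x ≠ a) h₁ h₂
  rw [← e]
  have htop : (subtypePerm g h₁) ∈ (⊤ : Subgroup (Perm {x // x ≠ a})) := Subgroup.mem_top _
  rw [← closure_isSwap] at htop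
  have hle : Subgroup.closure {σ : Perm {x // x ≠ a} | σ.IsSwap} ≤
      K.comap (ofSubtype : Perm {x // x ≠ a} →* Perm α) := by
    rw [Subgroup.closure_le]
    rintro σ ⟨u, v, huv, rfl⟩
    simp only [Subgroup.coe_comap, Set.mem_preimage, SetLike.mem_coe]
    rw [ofSubtype_swap_eq]
    exact h u v u.2 v.2 (fun huv' => huv (Subtype.ext huv'))
  exact hle htop

/-- An isomorphism of symmetric groups preserving swaps pulls back a point stabilizer to a point
stabilizer. -/
theorem exists_point_of_swap_preserving (φ : Perm α ≃* Perm β)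
    (hcard : Fintype.card β = Fintype.card α) (hn2 : 2 ≤ Fintype.card α)
    (hφ : ∀ g : Perm α, g.IsSwap → (φ g).IsSwap) (x₀ : β) :
    ∃ a : α, ∀ g : Perm α, φ g x₀ = x₀ ↔ g a = a := by
  classical
  -- the subgroup `K`
  let K : Subgroup (Perm α) := (MulAction.stabilizer (Perm β) x₀).comap φ.toMonoidHom
  have memK : ∀ g, g ∈ K ↔ φ g x₀ = x₀ := fun g => Iff.rfl
  -- bad swaps
  let N : Finset (Perm α) := Finset.univ.filter fun s => s.IsSwap ∧ φ s x₀ ≠ x₀
  have memN : ∀ s, s ∈ N ↔ s.IsSwap ∧ φ s x₀ ≠ x₀ := by
    intro s; simp [N]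
  have hN : N.card ≤ Fintype.card α - 1 := by
    have : N.card ≤ (Finset.univ.erase x₀).card := by
      apply Finset.card_le_card_of_injOn (fun s => φ s x₀)
      · intro s hs
        have hs' := (memN s).mp hs
        simp only [Finset.coe_erase, Finset.coe_univ, Set.mem_sdiff, Set.mem_univ,
          Set.mem_singleton_iff, true_and]
        exact hs'.2
      · intro s hs s' hs' h
        have h1 := (memN s).mp hs
        have h2 := (memN s').mp hs'
        have e1 := eq_swap_of_isSwap_of_ne (hφ s h1.1) h1.2
        have e2 := eq_swap_of_isSwap_of_ne (hφ s' h2.1) h2.2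
        apply φ.injective
        simp only at h
        rw [e1, e2, h]
    rwa [Finset.card_erase_of_mem (Finset.mem_univ _), Finset.card_univ, hcard] at this
  -- the relation
  let r : α → α → Prop := fun a b => a = b ∨ φ (swap a b) x₀ = x₀
  have r_trans : ∀ a b c, r a b → r b c → r a c := by
    intro a b c hab hbc
    by_cases hab' : a = b
    · subst hab'; exact hbc
    by_cases hbc' : b = c
    · subst hbc'; exact hab
    by_cases hac : a = c
    · exact Or.inl hac
    have hab := hab.resolve_left hab'
    have hbc := hbc.resolve_left hbc'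
    right
    have e : swap a c = swap b c * swap a b * (swap b c)⁻¹ := by
      rw [← swap_apply_apply, swap_apply_of_ne_of_ne hab' hac, swap_apply_left]
    have h1 : (φ (swap b c))⁻¹ x₀ = x₀ := Perm.inv_eq_iff_eq.mpr hbc.symm
    rw [e, map_mul, map_mul, map_inv, Perm.mul_apply, Perm.mul_apply, h1, hab, hbc]
  have r_symm : ∀ a b, r a b → r b a := by
    intro a b h
    rcases h with h | h
    · exact Or.inl h.symm
    · right; rwa [swap_comm]
  let D : α → Finset α := fun a => Finset.univ.filter (r a)
  have memD : ∀ a b, b ∈ D a ↔ r a b := by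
    intro a b; simp [D]
  have hcount : ∀ a, (D a).card * (Fintype.card α - (D a).card) ≤ Fintype.card α - 1 := by
    intro a
    have h1 : ((D a) ×ˢ (D a)ᶜ).card ≤ N.card := by
      apply Finset.card_le_card_of_injOn (fun p => swap p.1 p.2)
      · rintro ⟨x, y⟩ hxy
        simp only [Finset.coe_product, Set.mem_prod, Finset.mem_coe, Finset.mem_compl] at hxy
        obtain ⟨hx, hy⟩ := hxy
        have hne : x ≠ y := by rintro rfl; exact hy hx
        rw [Finset.mem_coe, memN]
        refine ⟨⟨x, y, hne, rfl⟩, ?_⟩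
        intro h
        exact hy ((memD a y).mpr (r_trans a x y ((memD a x).mp hx) (Or.inr h)))
      · rintro ⟨x, y⟩ hxy ⟨x', y'⟩ hxy' h
        simp only [Finset.coe_product, Set.mem_prod, Finset.mem_coe, Finset.mem_compl] at hxy hxy'
        obtain ⟨hx, hy⟩ := hxy
        obtain ⟨hx', hy'⟩ := hxy'
        simp only at h
        have hne : x ≠ y := by rintro rfl; exact hy hx
        have hxy'ne : x ≠ y' := by rintro rfl; exact hy' hx
        have h2 := congrArg (fun t : Perm α => t x) h
        simp only [swap_apply_left] at h2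
        by_cases hxx : x = x'
        · subst hxx
          rw [swap_apply_left] at h2
          rw [h2]
        · rw [swap_apply_of_ne_of_ne hxx hxy'ne] at h2
          exact absurd h2.symm hne
    rw [Finset.card_product, Finset.card_compl] at h1
    exact h1.trans hN
  -- `K ≠ ⊤`
  have hex : ∃ a₀ b₀, ¬ r a₀ b₀ := by
    by_contra hcon
    push Not at hcon
    obtain ⟨y, hy⟩ := Fintype.exists_ne_of_one_lt_card (by omega : 1 < Fintype.card β) x₀
    have hle : Subgroup.closure {σ : Perm α | σ.IsSwap} ≤ K := by
      rw [Subgroup.closure_le]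
      rintro σ ⟨u, v, huv, rfl⟩
      exact (hcon u v).resolve_left huv
    rw [closure_isSwap] at hle
    have := (memK (φ.symm (swap x₀ y))).mp (hle (Subgroup.mem_top _))
    rw [MulEquiv.apply_symm_apply, swap_apply_left] at this
    exact hy this
  obtain ⟨a₀, b₀, hab₀⟩ := hex
  have hdisj : Disjoint (D a₀) (D b₀) := by
    rw [Finset.disjoint_left]
    intro c hc hc'
    exact hab₀ (r_trans a₀ c b₀ ((memD a₀ c).mp hc) (r_symm b₀ c ((memD b₀ c).mp hc')))
  have hk1 : 1 ≤ (D a₀).card := Finset.card_pos.mpr ⟨a₀, (memD a₀ a₀).mpr (Or.inl rfl)⟩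
  have hl1 : 1 ≤ (D b₀).card := Finset.card_pos.mpr ⟨b₀, (memD b₀ b₀).mpr (Or.inl rfl)⟩
  have hkl : (D a₀).card + (D b₀).card ≤ Fintype.card α := by
    rw [← Finset.card_union_of_disjoint hdisj]
    exact Finset.card_le_univ _
  have hone : ∃ a, (D a).card = 1 := by
    by_contra hcon
    push Not at hcon
    have h1 := hcount a₀
    have h2 := hcon a₀
    have h3 := hcon b₀
    obtain ⟨m, hm⟩ : ∃ m, Fintype.card α = (D a₀).card + m := ⟨_, (Nat.add_sub_cancel' (by omega)).symm⟩
    rw [hm, Nat.add_sub_cancel_left] at h1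
    have hk2 : 2 ≤ (D a₀).card := by omega
    have hm2 : 2 ≤ m := by omega
    obtain ⟨k', hk'⟩ := Nat.exists_eq_add_of_le hk2
    obtain ⟨m', hm'⟩ := Nat.exists_eq_add_of_le hm2
    rw [hk', hm'] at h1
    have h4 : (2 + k') * (2 + m') + 1 ≤ 2 + k' + (2 + m') := by
      have : 0 < (2 + k') * (2 + m') := by positivity
      omega
    nlinarith
  obtain ⟨a, ha⟩ := hone
  have hbad : ∀ b, b ≠ a → φ (swap a b) x₀ ≠ x₀ := by
    intro b hb h
    have h1 : b ∈ D a := (memD a b).mpr (Or.inr h)
    have h2 : a ∈ D a := (memD a a).mpr (Or.inl rfl)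
    exact hb (Finset.card_le_one.mp ha.le b h1 a h2)
  have himg : (Finset.univ.erase a).image (swap a) = N := by
    apply Finset.eq_of_subset_of_card_le
    · intro s hs
      rw [Finset.mem_image] at hs
      obtain ⟨b, hb, rfl⟩ := hs
      have hb' : b ≠ a := Finset.ne_of_mem_erase hb
      rw [memN]
      exact ⟨⟨a, b, hb'.symm, rfl⟩, hbad b hb'⟩
    · rw [Finset.card_image_of_injective]
      · rw [Finset.card_erase_of_mem (Finset.mem_univ _), Finset.card_univ]
        exact hN
      · intro b b' h
        have := congrArg (fun t : Perm α => t a) h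
        simpa using this
  have hgood : ∀ u v : α, u ≠ a → v ≠ a → u ≠ v → swap u v ∈ K := by
    intro u v hu hv huv
    rw [memK]
    by_contra hcon
    have : swap u v ∈ N := (memN _).mpr ⟨⟨u, v, huv, rfl⟩, hcon⟩
    rw [← himg, Finset.mem_image] at this
    obtain ⟨b, hb, hb'⟩ := this
    have hba : b ≠ a := Finset.ne_of_mem_erase hb
    have := congrArg (fun t : Perm α => t a) hb'
    simp only [swap_apply_left] at this
    rw [swap_apply_of_ne_of_ne hu.symm hv.symm] at this
    exact hba this
  have hle := stabilizer_le_of_swaps K a hgood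
  have heq : MulAction.stabilizer (Perm α) a = K := by
    apply Subgroup.eq_of_le_of_card_ge hle
    have h1 := card_stabilizer_mul a
    have h2 := Subgroup.card_mul_index K
    have h3 : K.index = Fintype.card α := by
      rw [Subgroup.index_comap_of_surjective _ φ.surjective,
        MulAction.index_stabilizer_of_transitive, Nat.card_eq_fintype_card, hcard]
    rw [h3, ← h1] at h2
    exact (Nat.eq_of_mul_eq_mul_right (by omega) h2).le
  refine ⟨a, fun g => ?_⟩
  rw [← memK, ← heq]
  exact Iff.rfl

end pointstab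

end Cfsg.Agent.Lib.Helper99
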