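import Cfsg.Agent.Lib.Helper99.SymIndexB

set_option autoImplicit false

/-!
Subgroups of index `n` in the symmetric group of degree `n ≠ 6` are point stabilizers.
-/

namespace Cfsg.Agent.Lib.Helper99

open Equiv Equiv.Perm

universe u

section coset

variable {α : Type u} [Fintype α] [DecidableEq α]

/-- The action on the cosets of a subgroup of index `n ≥ 5` of `Perm α`, `card α = n`, is an
isomorphism onto a symmetric group of degree `n`. -/
theorem exists_coset_iso (H : Subgroup (Perm α)) (hH : H.index = Fintype.card α)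
    (h5 : 5 ≤ Fintype.card α) :
    ∃ (X : Type u) (_ : Fintype X) (_ : DecidableEq X) (φ : Perm α ≃* Perm X) (x₀ : X),
      Fintype.card X = Fintype.card α ∧ ∀ g, φ g x₀ = x₀ ↔ g ∈ H := by
  classical
  let X := Perm α ⧸ H
  let _ : Fintype X := Fintype.ofFinite X
  have hX : Fintype.card X = Fintype.card α := by
    rw [← Nat.card_eq_fintype_card, ← hH]; rfl
  let ρ : Perm α →* Perm X := MulAction.toPermHom (Perm α) X
  have hker : ρ.ker = ⊥ := by
    by_contra hne
    have : Nontrivial ρ.ker := (Subgroup.nontrivial_iff_ne_bot _).mpr hne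
    have hA := alternatingGroup_le_of_normal (α := α)
      (by rw [Nat.card_eq_fintype_card]; exact h5) (N := ρ.ker) this
    have hle : ρ.ker ≤ H := by
      rw [← Subgroup.normalCore_eq_ker]; exact Subgroup.normalCore_le H
    have h1 := Subgroup.index_dvd_of_le (hA.trans hle)
    have : Nontrivial α := Fintype.one_lt_card_iff_nontrivial.mp (by omega)
    rw [alternatingGroup.index_eq_two, hH] at h1
    have := Nat.le_of_dvd (by norm_num) h1
    omega
  have hinj : Function.Injective ρ := (MonoidHom.ker_eq_bot_iff ρ).mp hker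
  have hbij : Function.Bijective ρ := by
    rw [Fintype.bijective_iff_injective_and_card]
    refine ⟨hinj, ?_⟩
    rw [Fintype.card_perm, Fintype.card_perm, hX]
  refine ⟨X, inferInstance, inferInstance, MulEquiv.ofBijective ρ hbij,
    (QuotientGroup.mk 1 : X), hX, ?_⟩
  intro g
  show ρ g (QuotientGroup.mk 1) = _ ↔ _
  rw [MulAction.toPermHom_apply, MulAction.toPerm_apply, MulAction.Quotient.smul_mk,
    QuotientGroup.eq]
  simp

theorem fixed_unique_of_prime_order (p : ℕ) (hp : p.Prime) (hn : Fintype.card α = p + 1)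
    (g : Perm α) (hg : orderOf g = p) : ∃ a, g a = a ∧ ∀ x, g x = x → x = a := by
  obtain ⟨k, hk⟩ := cycleType_prime_order (σ := g) (by rw [hg]; exact hp)
  rw [hg] at hk
  have h1 := sum_cycleType g
  have h2 := sum_cycleType_le g
  rw [hk] at h1 h2
  simp only [Multiset.sum_replicate, smul_eq_mul] at h1 h2
  have hp2 := hp.two_le
  have hk0 : k = 0 := by
    by_contra hk0
    have : 2 * p ≤ (k + 1) * p := Nat.mul_le_mul_right p (by omega)
    omega
  subst hk0
  have h3 : g.supportᶜ.card = 1 := by
    rw [Finset.card_compl, ← h1, hn]; omega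
  obtain ⟨a, ha⟩ := Finset.card_eq_one.mp h3
  refine ⟨a, ?_, ?_⟩
  · have : a ∈ g.supportᶜ := by rw [ha]; exact Finset.mem_singleton_self a
    rw [Finset.mem_compl, mem_support, not_not] at this
    exact this
  · intro x hx
    have : x ∈ g.supportᶜ := by
      rw [Finset.mem_compl, mem_support, not_not]; exact hx
    rw [ha, Finset.mem_singleton] at this
    exact this

theorem eq_stabilizer_of_le_of_index (H : Subgroup (Perm α)) (hH : H.index = Fintype.card α)
    (a : α) (hle : H ≤ MulAction.stabilizer (Perm α) a) :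
    H = MulAction.stabilizer (Perm α) a := by
  apply Subgroup.eq_of_le_of_card_ge hle
  have h1 := card_stabilizer_mul a
  have h2 := Subgroup.card_mul_index H
  rw [hH, ← h1] at h2
  have h0 : Fintype.card α ≠ 0 := by
    rw [← hH]; exact Subgroup.index_ne_zero_of_finite
  exact (Nat.eq_of_mul_eq_mul_right (Nat.pos_of_ne_zero h0) h2).ge

theorem small_case (p : ℕ) (hp : p.Prime) (hn : Fintype.card α = p + 1)
    (H : Subgroup (Perm α)) (hcard : Nat.card H = p ∨ Nat.card H = 2 * p)
    (hidx : H.index = Fintype.card α) : ∃ a : α, H = MulAction.stabilizer (Perm α) a := by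
  have := Fact.mk hp
  have hdvd : p ∣ Nat.card H := by
    rcases hcard with h | h <;> rw [h]
    exact Dvd.intro_left 2 rfl
  obtain ⟨c, hc⟩ := exists_prime_orderOf_dvd_card' p hdvd
  have hc' : orderOf (c : Perm α) = p := by rw [Subgroup.orderOf_coe]; exact hc
  obtain ⟨a, hca, huniq⟩ := fixed_unique_of_prime_order p hp hn (c : Perm α) hc'
  have hnorm : (Subgroup.zpowers c).Normal := by
    have h1 : Nat.card (Subgroup.zpowers c) = p := by rw [Nat.card_zpowers, hc]
    have h2 := Subgroup.card_mul_index (Subgroup.zpowers c)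
    rw [h1] at h2
    rcases hcard with h | h
    · have : (Subgroup.zpowers c).index = 1 := by
        rw [h] at h2
        exact Nat.eq_of_mul_eq_mul_left hp.pos (by rw [h2, mul_one])
      rw [Subgroup.index_eq_one] at this
      rw [this]; infer_instance
    · have : (Subgroup.zpowers c).index = 2 := by
        rw [h] at h2
        exact Nat.eq_of_mul_eq_mul_left hp.pos (by rw [h2, mul_comm])
      exact Subgroup.normal_of_index_eq_two this
  have hfix : ∀ h ∈ H, h a = a := by
    intro h hh
    have h1 : (⟨h, hh⟩ : H) * c * (⟨h, hh⟩ : H)⁻¹ ∈ Subgroup.zpowers c :=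
      hnorm.conj_mem c (Subgroup.mem_zpowers c) _
    obtain ⟨j, hj⟩ := Subgroup.mem_zpowers_iff.mp h1
    have hj' : (c : Perm α) ^ j = h * c * h⁻¹ := by
      have := congrArg (Subtype.val) hj
      simpa using this
    have ho : orderOf (h * (c : Perm α) * h⁻¹) = p := by
      rw [← MulAut.conj_apply, MulEquiv.orderOf_eq]; exact hc'
    obtain ⟨a', ha', huniq'⟩ := fixed_unique_of_prime_order p hp hn _ ho
    have e1 : h a = a' := by
      apply huniq'
      simp [Perm.mul_apply, hca]
    have e2 : a = a' := by
      apply huniq'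
      rw [← hj']
      exact zpow_apply_eq_self_of_apply_eq_self hca j
    rw [e1, e2]
  exact ⟨a, eq_stabilizer_of_le_of_index H hidx a (fun h hh => hfix h hh)⟩

end coset

/-- Subgroups of index `n` in the symmetric group of degree `n ≠ 6` are point stabilizers. -/
theorem index_eq_card_imp_stabilizer {Ω : Type u} [Fintype Ω] [DecidableEq Ω]
    (h6 : Fintype.card Ω ≠ 6) (H : Subgroup (Perm Ω)) (hH : H.index = Fintype.card Ω) :
    ∃ x : Ω, H = MulAction.stabilizer (Perm Ω) x := by
  rcases Nat.lt_or_ge (Fintype.card Ω) 5 with h | h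
  · have h0 : Fintype.card Ω ≠ 0 := by
      rw [← hH]; exact Subgroup.index_ne_zero_of_finite
    have hcardH : Nat.card H * Fintype.card Ω = (Fintype.card Ω).factorial := by
      have := Subgroup.card_mul_index H
      rw [hH, Nat.card_eq_fintype_card (α := Perm Ω), Fintype.card_perm] at this
      exact this
    have hcases : Fintype.card Ω = 1 ∨ Fintype.card Ω = 2 ∨ Fintype.card Ω = 3 ∨
        Fintype.card Ω = 4 := by omega
    rcases hcases with hc | hc | hc | hc
    · -- `n = 1`
      have : Nonempty Ω := Fintype.card_pos_iff.mp (by omega)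
      obtain ⟨a⟩ := ‹Nonempty Ω›
      refine ⟨a, eq_stabilizer_of_le_of_index H hH a ?_⟩
      intro g _
      have : Subsingleton Ω := Fintype.card_le_one_iff_subsingleton.mp (by omega)
      exact Subsingleton.elim _ _
    · -- `n = 2`
      have : Nonempty Ω := Fintype.card_pos_iff.mp (by omega)
      obtain ⟨a⟩ := ‹Nonempty Ω›
      refine ⟨a, eq_stabilizer_of_le_of_index H hH a ?_⟩
      rw [hc] at hcardH
      have h1 : Nat.card H = 1 := by
        have : (2 : ℕ).factorial = 2 := rfl
        omega
      rw [Subgroup.card_eq_one.mp h1]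
      exact bot_le
    · rw [hc] at hcardH
      have h1 : Nat.card H = 2 := by
        have : (3 : ℕ).factorial = 6 := rfl
        omega
      exact small_case 2 Nat.prime_two hc H (Or.inl h1) hH
    · rw [hc] at hcardH
      have h1 : Nat.card H = 6 := by
        have : (4 : ℕ).factorial = 24 := rfl
        omega
      exact small_case 3 Nat.prime_three hc H (Or.inr h1) hH
  · obtain ⟨X, _, _, φ, x₀, hX, hφ⟩ := exists_coset_iso H hH h
    obtain ⟨k, hk, hswap⟩ := swap_type φ hX
    have hk1 : k = 1 := by
      rcases hk with h | ⟨_, h⟩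
      · exact h
      · exact absurd h h6
    subst hk1
    obtain ⟨a, ha⟩ := exists_point_of_swap_preserving φ hX (by omega)
      (fun g hg => by
        rw [isSwap_iff_cycleType] at hg ⊢
        simpa using hswap g hg) x₀
    refine ⟨a, ?_⟩
    ext g
    rw [← hφ, ha]
    exact Iff.rfl

end Cfsg.Agent.Lib.Helper99
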