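import Cfsg.Agent.Lib.Helper99.SymIndexC

set_option autoImplicit false

/-!
Degree `6`: the exotic subgroups of index `6` of the symmetric group of degree `6`.
-/

namespace Cfsg.Agent.Lib.Helper99

open Equiv Equiv.Perm

universe u

section sylow

local instance fact_prime_five_h99 : Fact (Nat.Prime 5) := ⟨by norm_num⟩

theorem card_perm_fin_five : Nat.card (Perm (Fin 5)) = 120 := by
  rw [Nat.card_eq_fintype_card, Fintype.card_perm, Fintype.card_fin]; rfl

theorem card_sylow_five : Nat.card (Sylow 5 (Perm (Fin 5))) = 6 := by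
  obtain ⟨P⟩ : Nonempty (Sylow 5 (Perm (Fin 5))) := inferInstance
  have h1 := card_sylow_modEq_one 5 (Perm (Fin 5))
  have h2 := Sylow.card_dvd_index P
  have h3 : ¬ 5 ∣ (P : Subgroup (Perm (Fin 5))).index := Sylow.not_dvd_index P
  have h4 := Subgroup.card_mul_index (P : Subgroup (Perm (Fin 5)))
  rw [card_perm_fin_five] at h4
  obtain ⟨k, hk⟩ := (IsPGroup.iff_card (p := 5)).mp P.isPGroup'
  have hidx : (P : Subgroup (Perm (Fin 5))).index ∣ 24 := by
    have h5 : (P : Subgroup (Perm (Fin 5))).index ∣ 5 * 24 := ⟨Nat.card (P : Subgroup (Perm (Fin 5))), by rw [mul_comm (P : Subgroup (Perm (Fin 5))).index, h4]⟩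
    exact (Nat.Coprime.dvd_mul_left
      ((Nat.coprime_comm.mp ((Nat.Prime.coprime_iff_not_dvd (by norm_num)).mpr h3)))).mp h5
  have hs : Nat.card (Sylow 5 (Perm (Fin 5))) ∣ 24 := h2.trans hidx
  have hle : Nat.card (Sylow 5 (Perm (Fin 5))) ≤ 24 := Nat.le_of_dvd (by norm_num) hs
  have hne1 : Nat.card (Sylow 5 (Perm (Fin 5))) ≠ 1 := by
    intro h
    rw [Sylow.card_eq_index_normalizer P, Subgroup.index_eq_one] at h
    have hN : (P : Subgroup (Perm (Fin 5))).Normal := Subgroup.normalizer_eq_top_iff.mp h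
    have hP5 : 5 ∣ Nat.card (P : Subgroup (Perm (Fin 5))) := by
      have h5 : 5 ∣ Nat.card (P : Subgroup (Perm (Fin 5))) *
          (P : Subgroup (Perm (Fin 5))).index := by rw [h4]; norm_num
      exact ((Nat.Prime.dvd_mul (by norm_num)).mp h5).resolve_right h3
    have hnt : Nontrivial (P : Subgroup (Perm (Fin 5))) := by
      rw [← Finite.one_lt_card_iff_nontrivial]
      have := Nat.le_of_dvd Nat.card_pos hP5
      omega
    have hA := alternatingGroup_le_of_normal (α := Fin 5) (by simp)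
      (N := (P : Subgroup (Perm (Fin 5)))) hnt
    have h6 := Subgroup.index_dvd_of_le hA
    rw [alternatingGroup.index_eq_two] at h6
    have h7 : (P : Subgroup (Perm (Fin 5))).index ≤ 2 := Nat.le_of_dvd (by norm_num) h6
    have h8 : (P : Subgroup (Perm (Fin 5))).index ≠ 0 := Subgroup.index_ne_zero_of_finite
    rw [hk] at h4
    have hk2 : k ≤ 1 := by
      by_contra hcon
      have : 5 ^ 2 ∣ 5 ^ k := pow_dvd_pow 5 (by omega)
      have : 25 ∣ 120 := by
        rw [← h4]; exact Dvd.dvd.mul_right this _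
      omega
    have : 5 ^ k ≤ 5 := by
      calc 5 ^ k ≤ 5 ^ 1 := Nat.pow_le_pow_right (by norm_num) hk2
        _ = 5 := by norm_num
    nlinarith
  have hmod : Nat.card (Sylow 5 (Perm (Fin 5))) % 5 = 1 := h1
  generalize Nat.card (Sylow 5 (Perm (Fin 5))) = s at *
  interval_cases s <;> omega

/-- A subgroup of index `6` of the symmetric group of degree `6` acting without fixed point. -/
theorem exists_exotic {Ω : Type u} [Fintype Ω] [DecidableEq Ω] (h6 : Fintype.card Ω = 6) :
    ∃ H₀ : Subgroup (Perm Ω), H₀.index = 6 ∧ ∀ a : Ω, ∃ h ∈ H₀, h a ≠ a := by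
  classical
  have hS : Nat.card (Sylow 5 (Perm (Fin 5))) = 6 := card_sylow_five
  obtain ⟨e⟩ : Nonempty (Sylow 5 (Perm (Fin 5)) ≃ Ω) := by
    rw [← Finite.card_eq, hS, Nat.card_eq_fintype_card, h6]
  let ρ₀ : Perm (Fin 5) →* Perm (Sylow 5 (Perm (Fin 5))) :=
    MulAction.toPermHom (Perm (Fin 5)) (Sylow 5 (Perm (Fin 5)))
  let ρ : Perm (Fin 5) →* Perm Ω :=
    (e.permCongrHom : Perm (Sylow 5 (Perm (Fin 5))) ≃* Perm Ω).toMonoidHom.comp ρ₀
  have hρ : ∀ g P, ρ g (e P) = e (g • P) := by
    intro g P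
    simp [ρ, ρ₀, Equiv.permCongrHom]
  have hinj : Function.Injective ρ := by
    rw [← MonoidHom.ker_eq_bot_iff]
    by_contra hne
    have hnt : Nontrivial ρ.ker := (Subgroup.nontrivial_iff_ne_bot _).mpr hne
    have hA := alternatingGroup_le_of_normal (α := Fin 5) (by simp) (N := ρ.ker) hnt
    obtain ⟨P₀⟩ : Nonempty (Sylow 5 (Perm (Fin 5))) := inferInstance
    have hle : ρ.ker ≤ MulAction.stabilizer (Perm (Fin 5)) P₀ := by
      intro g hg
      rw [MonoidHom.mem_ker] at hg
      rw [MulAction.mem_stabilizer_iff]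
      apply e.injective
      rw [← hρ, hg]; rfl
    have h1 := Subgroup.index_dvd_of_le (hA.trans hle)
    rw [MulAction.index_stabilizer_of_transitive, hS, alternatingGroup.index_eq_two] at h1
    omega
  have hcard : Nat.card ρ.range = 120 := by
    rw [← card_perm_fin_five]
    exact (Nat.card_congr (MonoidHom.ofInjective hinj).toEquiv).symm
  refine ⟨ρ.range, ?_, ?_⟩
  · have h1 := Subgroup.card_mul_index ρ.range
    rw [hcard, Nat.card_eq_fintype_card, Fintype.card_perm, h6] at h1
    have : (6 : ℕ).factorial = 720 := rfl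
    omega
  · intro a
    obtain ⟨P₁, rfl⟩ := e.surjective a
    obtain ⟨P₂, hP₂⟩ : ∃ P₂ : Sylow 5 (Perm (Fin 5)), P₂ ≠ P₁ := by
      have : 1 < Nat.card (Sylow 5 (Perm (Fin 5))) := by omega
      have := Finite.one_lt_card_iff_nontrivial.mp this
      exact exists_ne P₁
    obtain ⟨g, hg⟩ := MulAction.exists_smul_eq (Perm (Fin 5)) P₁ P₂
    refine ⟨ρ g, ⟨g, rfl⟩, ?_⟩
    rw [hρ, hg]
    exact fun h => hP₂ (e.injective h)

end sylow

section exotic

variable {α β : Type*} [Fintype α] [DecidableEq α] [Fintype β] [DecidableEq β]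

theorem exotic_symm (φ : Perm α ≃* Perm β) (hcard : Fintype.card β = Fintype.card α)
    (h2 : 2 ≤ Fintype.card α)
    (h : ∀ g : Perm α, g.cycleType = {2} → (φ g).cycleType = Multiset.replicate 3 2) :
    (∀ t : Perm β, t.cycleType = {2} → (φ.symm t).cycleType = Multiset.replicate 3 2) ∧
      (∀ g : Perm α, g.cycleType = Multiset.replicate 3 2 → (φ g).cycleType = {2}) := by
  obtain ⟨x, y, hxy⟩ := Fintype.exists_pair_of_one_lt_card (by omega : 1 < Fintype.card β)
  have ht₀ : (swap x y).cycleType = {2} := isSwap_iff_cycleType.mp ⟨x, y, hxy, rfl⟩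
  obtain ⟨k', hk', hswap'⟩ := swap_type φ.symm hcard.symm
  have hk3 : k' = 3 := by
    rcases hk' with h1 | ⟨h1, _⟩
    · exfalso
      subst h1
      have e1 := hswap' _ ht₀
      rw [Multiset.replicate_one] at e1
      have e2 := h _ e1
      rw [MulEquiv.apply_symm_apply, ht₀] at e2
      have := congrArg Multiset.card e2
      simp at this
    · exact h1
  subst hk3
  refine ⟨hswap', ?_⟩
  intro g hg
  have e1 := hswap' _ ht₀
  have e2 := cycleType_map_eq φ.toMonoidHom (hg.trans e1.symm)
  simp only [MulEquiv.coe_toMonoidHom, MulEquiv.apply_symm_apply] at e2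
  rw [e2, ht₀]

theorem stabilizer_injective (h3 : 3 ≤ Fintype.card α) {a a' : α}
    (h : MulAction.stabilizer (Perm α) a = MulAction.stabilizer (Perm α) a') : a = a' := by
  by_contra hne
  have : ∃ c, c ≠ a ∧ c ≠ a' := by
    by_contra hcon
    push Not at hcon
    have : (Finset.univ : Finset α) ⊆ {a, a'} := by
      intro c _
      by_cases hc : c = a
      · simp [hc]
      · simp [hcon c hc]
    have := Finset.card_le_card this
    rw [Finset.card_univ] at this
    have := (Finset.card_le_two (a := a) (b := a'))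
    omega
  obtain ⟨c, hca, hca'⟩ := this
  have h1 : swap a' c ∈ MulAction.stabilizer (Perm α) a := by
    rw [MulAction.mem_stabilizer_iff, Perm.smul_def]
    exact swap_apply_of_ne_of_ne hne hca.symm
  rw [h] at h1
  rw [MulAction.mem_stabilizer_iff, Perm.smul_def, swap_apply_left] at h1
  exact hca' h1

theorem exists_swap_mem_stabilizer (h3 : 3 ≤ Fintype.card α) (a : α) :
    ∃ s : Perm α, s.IsSwap ∧ s ∈ MulAction.stabilizer (Perm α) a := by
  obtain ⟨u, hu⟩ := Fintype.exists_ne_of_one_lt_card (by omega : 1 < Fintype.card α) a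
  have : ∃ c, c ≠ a ∧ c ≠ u := by
    by_contra hcon
    push Not at hcon
    have : (Finset.univ : Finset α) ⊆ {a, u} := by
      intro c _
      by_cases hc : c = a
      · simp [hc]
      · simp [hcon c hc]
    have := Finset.card_le_card this
    rw [Finset.card_univ] at this
    have := (Finset.card_le_two (a := a) (b := u))
    omega
  obtain ⟨v, hva, hvu⟩ := this
  refine ⟨swap u v, ⟨u, v, hvu.symm, rfl⟩, ?_⟩
  rw [MulAction.mem_stabilizer_iff, Perm.smul_def]
  exact swap_apply_of_ne_of_ne hu.symm hva.symm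

/-- The pull-back of a point stabilizer under an isomorphism. -/
def pullStab (φ : Perm α ≃* Perm β) (b : β) : Subgroup (Perm α) :=
  (MulAction.stabilizer (Perm β) b).comap φ.toMonoidHom

theorem mem_pullStab (φ : Perm α ≃* Perm β) (b : β) (g : Perm α) :
    g ∈ pullStab φ b ↔ φ g b = b := Iff.rfl

theorem index_pullStab (φ : Perm α ≃* Perm β) (b : β) :
    (pullStab φ b).index = Fintype.card β := by
  rw [pullStab, Subgroup.index_comap_of_surjective _ φ.surjective,
    MulAction.index_stabilizer_of_transitive, Nat.card_eq_fintype_card]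

theorem pullStab_injective (φ : Perm α ≃* Perm β) (h3 : 3 ≤ Fintype.card β) {b b' : β}
    (h : pullStab φ b = pullStab φ b') : b = b' :=
  stabilizer_injective h3 (Subgroup.comap_injective φ.surjective h)

theorem map_conj_pullStab (φ : Perm α ≃* Perm β) (b : β) (g : Perm α) :
    Subgroup.map (MulAut.conj g).toMonoidHom (pullStab φ b) = pullStab φ (φ g b) := by
  ext h
  rw [Subgroup.mem_map_equiv, mem_pullStab, mem_pullStab, MulAut.conj_symm_apply, map_mul,
    map_mul, map_inv, Perm.mul_apply, Perm.mul_apply, Perm.inv_eq_iff_eq]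

theorem not_swap_mem_pullStab (φ : Perm α ≃* Perm β) (h6 : Fintype.card β = 6)
    (h : ∀ g : Perm α, g.IsSwap → (φ g).cycleType = Multiset.replicate 3 2) (b : β)
    (s : Perm α) (hs : s.IsSwap) : s ∉ pullStab φ b := by
  rw [mem_pullStab]
  have h1 := sum_cycleType (φ s)
  rw [h s hs] at h1
  simp only [Multiset.sum_replicate, smul_eq_mul] at h1
  have h2 : (φ s).support = Finset.univ := by
    apply Finset.eq_univ_of_card
    rw [← h1, h6]
  have : b ∈ (φ s).support := by rw [h2]; exact Finset.mem_univ b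
  exact mem_support.mp this

theorem pullStab_ne_stabilizer (φ : Perm α ≃* Perm β) (h6 : Fintype.card β = 6)
    (h3 : 3 ≤ Fintype.card α)
    (h : ∀ g : Perm α, g.IsSwap → (φ g).cycleType = Multiset.replicate 3 2) (b : β) (a : α) :
    pullStab φ b ≠ MulAction.stabilizer (Perm α) a := by
  intro heq
  obtain ⟨s, hs, hmem⟩ := exists_swap_mem_stabilizer h3 a
  rw [← heq] at hmem
  exact not_swap_mem_pullStab φ h6 h b s hs hmem

end exotic

/-- The classification of subgroups of index `6` in the symmetric group of degree `6`. -/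
theorem exotic_data {Ω : Type u} [Fintype Ω] [DecidableEq Ω] (h6 : Fintype.card Ω = 6) :
    ∃ (X : Type u) (_ : Fintype X) (_ : DecidableEq X) (φ₀ : Perm Ω ≃* Perm X),
      Fintype.card X = 6 ∧
      (∀ g : Perm Ω, g.IsSwap → (φ₀ g).cycleType = Multiset.replicate 3 2) ∧
      ∀ H : Subgroup (Perm Ω), H.index = 6 →
        (∃ a : Ω, H = MulAction.stabilizer (Perm Ω) a) ∨ (∃ b : X, H = pullStab φ₀ b) := by
  obtain ⟨H₀, hH₀, hfree⟩ := exists_exotic h6
  obtain ⟨X, instF, instD, φ₀, x₀, hX, hφ₀⟩ := exists_coset_iso H₀ (by rw [hH₀, h6]) (by omega)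
  obtain ⟨k₀, hk₀, hswap₀⟩ := swap_type φ₀ hX
  have hk₀3 : k₀ = 3 := by
    rcases hk₀ with h | ⟨h, _⟩
    · exfalso
      subst h
      obtain ⟨a, ha⟩ := exists_point_of_swap_preserving φ₀ hX (by omega)
        (fun g hg => by
          rw [isSwap_iff_cycleType] at hg ⊢
          simpa using hswap₀ g hg) x₀
      obtain ⟨h, hh, hne⟩ := hfree a
      exact hne ((ha h).mp ((hφ₀ h).mpr hh))
    · exact h
  subst hk₀3
  refine ⟨X, instF, instD, φ₀, by rw [hX, h6], fun g hg => hswap₀ g (isSwap_iff_cycleType.mp hg), ?_⟩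
  intro H hH
  obtain ⟨Y, instFY, instDY, φ, y₀, hY, hφ⟩ := exists_coset_iso H (by rw [hH, h6]) (by omega)
  obtain ⟨k, hk, hswap⟩ := swap_type φ hY
  rcases hk with h | ⟨h, _⟩
  · left
    subst h
    obtain ⟨a, ha⟩ := exists_point_of_swap_preserving φ hY (by omega)
      (fun g hg => by
        rw [isSwap_iff_cycleType] at hg ⊢
        simpa using hswap g hg) y₀
    refine ⟨a, ?_⟩
    ext g
    rw [← hφ, ha]
    exact Iff.rfl
  · right
    subst h
    have hs₀ := exotic_symm φ₀ hX (by omega) hswap₀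
    have hs := exotic_symm φ hY (by omega) hswap
    obtain ⟨b, hb⟩ := exists_point_of_swap_preserving (φ₀.symm.trans φ) (by rw [hY, hX]) (by omega)
      (fun t ht => by
        rw [isSwap_iff_cycleType] at ht ⊢
        rw [MulEquiv.trans_apply]
        exact hs.2 _ (hs₀.1 t ht)) y₀
    refine ⟨b, ?_⟩
    ext g
    rw [mem_pullStab, ← hφ, ← hb (φ₀ g), MulEquiv.trans_apply, MulEquiv.symm_apply_apply]


end Cfsg.Agent.Lib.Helper99
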