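import Cfsg.Agent.Lib.Helper99.SymIndexD

set_option autoImplicit false

/-!
Degree `6`: counting the subgroups of index `6`, and their isomorphism type.
-/

namespace Cfsg.Agent.Lib.Helper99

open Equiv Equiv.Perm

universe u

theorem card_index_six {Ω : Type u} [Fintype Ω] [DecidableEq Ω] (h6 : Fintype.card Ω = 6) :
    Nat.card {H : Subgroup (Perm Ω) // H.index = 6} = 12 := by
  obtain ⟨X, instF, instD, φ₀, hX, hsw, hall⟩ := exotic_data h6
  let F : Ω ⊕ X → {H : Subgroup (Perm Ω) // H.index = 6} := fun z =>
    Sum.elim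
      (fun a => ⟨MulAction.stabilizer (Perm Ω) a, by
        rw [MulAction.index_stabilizer_of_transitive, Nat.card_eq_fintype_card, h6]⟩)
      (fun b => ⟨pullStab φ₀ b, by rw [index_pullStab, hX]⟩) z
  have hF : Function.Bijective F := by
    constructor
    · rintro (a | b) (a' | b') h
      · have := congrArg Subtype.val h
        simp only [F, Sum.elim_inl] at this
        rw [stabilizer_injective (by omega) this]
      · exfalso
        have := congrArg Subtype.val h
        simp only [F, Sum.elim_inl, Sum.elim_inr] at this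
        exact pullStab_ne_stabilizer φ₀ hX (by omega) hsw b' a this.symm
      · exfalso
        have := congrArg Subtype.val h
        simp only [F, Sum.elim_inl, Sum.elim_inr] at this
        exact pullStab_ne_stabilizer φ₀ hX (by omega) hsw b a' this
      · have := congrArg Subtype.val h
        simp only [F, Sum.elim_inr] at this
        rw [pullStab_injective φ₀ (by omega) this]
    · rintro ⟨H, hH⟩
      rcases hall H hH with ⟨a, rfl⟩ | ⟨b, rfl⟩
      · exact ⟨Sum.inl a, rfl⟩
      · exact ⟨Sum.inr b, rfl⟩
  rw [← Nat.card_congr (Equiv.ofBijective F hF), Nat.card_eq_fintype_card, Fintype.card_sum,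
    h6, hX]

section iso

variable {α X : Type*} [Fintype α] [DecidableEq α] [Fintype X] [DecidableEq X]

theorem nonempty_stabilizer_mulEquiv (x₀ : X) :
    Nonempty (Perm {x // x ≠ x₀} ≃* MulAction.stabilizer (Perm X) x₀) := by
  let f : Perm {x // x ≠ x₀} →* MulAction.stabilizer (Perm X) x₀ :=
    (ofSubtype : Perm {x // x ≠ x₀} →* Perm X).codRestrict (MulAction.stabilizer (Perm X) x₀)
      (fun σ => by
        rw [MulAction.mem_stabilizer_iff, Perm.smul_def]
        exact ofSubtype_apply_of_not_mem σ (by simp))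
  have hf : Function.Bijective f := by
    constructor
    · intro σ τ h
      have := congrArg Subtype.val h
      exact ofSubtype_injective this
    · rintro ⟨g, hg⟩
      have hga : g x₀ = x₀ := hg
      have h₁ : ∀ x, (g x ≠ x₀) ↔ (x ≠ x₀) := by
        intro x
        constructor
        · rintro h1 rfl; exact h1 hga
        · intro h1 h2
          apply h1
          apply g.injective
          rw [h2, hga]
      have h₂ : ∀ x, g x ≠ x → x ≠ x₀ := by
        rintro x hx rfl
        exact hx hga
      refine ⟨subtypePerm g h₁, ?_⟩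
      apply Subtype.ext
      exact ofSubtype_subtypePerm (f := g) (p := fun x => x ≠ x₀) h₁ h₂
  exact ⟨MulEquiv.ofBijective f hf⟩

theorem nonempty_mulEquiv_of_iso (φ : Perm α ≃* Perm X) (x₀ : X) (H : Subgroup (Perm α))
    (hH : ∀ g, φ g x₀ = x₀ ↔ g ∈ H) (m : ℕ) (hm : Fintype.card X = m + 1) :
    Nonempty (H ≃* Perm (Fin m)) := by
  have e2 : H.map φ.toMonoidHom = MulAction.stabilizer (Perm X) x₀ := by
    ext y
    rw [Subgroup.mem_map_equiv, ← hH, MulEquiv.apply_symm_apply]
    exact Iff.rfl
  obtain ⟨e3⟩ := nonempty_stabilizer_mulEquiv x₀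
  have hc : Fintype.card {x // x ≠ x₀} = Fintype.card (Fin m) := by
    simp [Fintype.card_subtype_compl, hm]
  exact ⟨((φ.subgroupMap H).trans (MulEquiv.subgroupCongr e2)).trans
    (e3.symm.trans (Fintype.equivOfCardEq hc).permCongrHom)⟩

end iso

theorem nonempty_mulEquiv_of_index {Ω : Type u} [Fintype Ω] [DecidableEq Ω] (m : ℕ)
    (hm : Fintype.card Ω = m + 1) (h5 : 5 ≤ Fintype.card Ω) (H : Subgroup (Perm Ω))
    (hH : H.index = Fintype.card Ω) : Nonempty (H ≃* Perm (Fin m)) := by
  obtain ⟨X, instF, instD, φ, x₀, hX, hφ⟩ := exists_coset_iso H hH h5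
  exact nonempty_mulEquiv_of_iso φ x₀ H hφ m (by rw [hX, hm])

end Cfsg.Agent.Lib.Helper99
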