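import Mathlib
import Cfsg.Prelude.Def_ClassicalGeometry

set_option autoImplicit false

namespace Cfsg.Agent.Lib.Helper99

section BD

variable {F V : Type*} [Field F] [AddCommGroup V] [Module F V]

/-- Relative nondegeneracy of a bilinear form on a subspace. -/
def Nd (B : V →ₗ[F] V →ₗ[F] F) (M : Submodule F V) : Prop :=
  ∀ u ∈ M, (∀ v ∈ M, B u v = 0) → u = 0

/-- The two possible types of a block. -/
def BlockTyp (B : V →ₗ[F] V →ₗ[F] F) (ψ : V →ₗ[F] V) {ι : Type} (v w : ι → V) (π : ι → ι)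
    (k : ι) : Prop :=
  (π k = k ∧ B (v k) (ψ (v k)) ≠ 0 ∧ ψ (v k) ∈ Submodule.span F {w k} ∧
        ψ (w k) ∈ Submodule.span F {v k}) ∨
      ((ψ (v k) ∈ Submodule.span F {v (π k)} ∧ ψ (w k) ∈ Submodule.span F {w (π k)}) ∧
        ∃ M₀ : Submodule F V, M₀ ≠ ⊥ ∧ (∀ u ∈ M₀, ψ u ∈ M₀) ∧ Nd B M₀ ∧ ∀ u ∈ M₀, B u (ψ u) = 0)

/-- A hyperbolic family spanning `M`, permuted blockwise by `ψ`. -/
structure HypData (B : V →ₗ[F] V →ₗ[F] F) (ψ : V →ₗ[F] V) (M : Submodule F V) (ι : Type)
    (v w : ι → V) (π : ι → ι) : Prop where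
  mem_v : ∀ k, v k ∈ M
  mem_w : ∀ k, w k ∈ M
  span_le : M ≤ Submodule.span F (Set.range v ∪ Set.range w)
  hvw : ∀ k, B (v k) (w k) = 1
  hvv : ∀ k l, B (v k) (v l) = 0
  hww : ∀ k l, B (w k) (w l) = 0
  hvw' : ∀ k l, k ≠ l → B (v k) (w l) = 0
  inv : ∀ k, π (π k) = k
  typ : ∀ k, BlockTyp B ψ v w π k

variable (B : V →ₗ[F] V →ₗ[F] F) (hB : ∀ v, B v v = 0)

include hB in
lemma skew (u v : V) : B u v = - B v u := by
  have h := hB (u + v)
  simp only [map_add, LinearMap.add_apply, hB, zero_add, add_zero] at h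
  linear_combination h

/-- The part of `M` orthogonal to a finite family. -/
def perpIn (M : Submodule F V) {τ : Type} (v₀ w₀ : τ → V) : Submodule F V :=
  M ⊓ ⨅ k, (LinearMap.ker (B.flip (v₀ k)) ⊓ LinearMap.ker (B.flip (w₀ k)))

lemma mem_perpIn (M : Submodule F V) {τ : Type} (v₀ w₀ : τ → V) (u : V) :
    u ∈ perpIn B M v₀ w₀ ↔ u ∈ M ∧ ∀ k, B u (v₀ k) = 0 ∧ B u (w₀ k) = 0 := by
  simp [perpIn, Submodule.mem_iInf]

end BD

section Split

variable {F V : Type*} [Field F] [AddCommGroup V] [Module F V]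
variable (B : V →ₗ[F] V →ₗ[F] F) (hB : ∀ v, B v v = 0)
variable (ψ : V →ₗ[F] V) (z : F) (hψ : ∀ v, ψ (ψ v) = z • v) (hψB : ∀ u v, B (ψ u) (ψ v) = B u v)

/-- Hyperbolic relations for a finite family. -/
structure HypRel {τ : Type} (v₀ w₀ : τ → V) : Prop where
  hvw : ∀ k, B (v₀ k) (w₀ k) = 1
  hvv : ∀ k l, B (v₀ k) (v₀ l) = 0
  hww : ∀ k l, B (w₀ k) (w₀ l) = 0
  hvw' : ∀ k l, k ≠ l → B (v₀ k) (w₀ l) = 0

variable {B}

include hB in
lemma HypRel.hwv {τ : Type} {v₀ w₀ : τ → V} (h : HypRel B v₀ w₀) (k : τ) : B (w₀ k) (v₀ k) = -1 := by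
  rw [skew B hB, h.hvw]

include hB in
lemma HypRel.hwv' {τ : Type} {v₀ w₀ : τ → V} (h : HypRel B v₀ w₀) (k l : τ) (hkl : k ≠ l) :
    B (w₀ k) (v₀ l) = 0 := by
  rw [skew B hB, h.hvw' l k (Ne.symm hkl), neg_zero]

lemma perp_span {M : Submodule F V} {τ : Type} (v₀ w₀ : τ → V) (u : V)
    (hu : u ∈ perpIn B M v₀ w₀) (h : V) (hh : h ∈ Submodule.span F (Set.range v₀ ∪ Set.range w₀)) :
    B u h = 0 := by
  rw [mem_perpIn] at hu
  induction hh using Submodule.span_induction with
  | mem x hx =>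
    rcases hx with ⟨k, rfl⟩ | ⟨k, rfl⟩
    · exact (hu.2 k).1
    · exact (hu.2 k).2
  | zero => simp
  | add x y _ _ hx hy => rw [map_add, hx, hy, add_zero]
  | smul a x _ hx => rw [map_smul, hx, smul_zero]

include hB in
lemma split_decomp {M : Submodule F V} {τ : Type} [Fintype τ] (v₀ w₀ : τ → V)
    (hrel : HypRel B v₀ w₀) (hv₀ : ∀ k, v₀ k ∈ M) (hw₀ : ∀ k, w₀ k ∈ M) (u : V) (hu : u ∈ M) :
    ∃ h ∈ Submodule.span F (Set.range v₀ ∪ Set.range w₀), u - h ∈ perpIn B M v₀ w₀ := by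
  refine ⟨∑ k, (B u (w₀ k) • v₀ k + B (v₀ k) u • w₀ k), ?_, ?_⟩
  · refine Submodule.sum_mem _ fun k _ => Submodule.add_mem _ ?_ ?_
    · exact Submodule.smul_mem _ _ (Submodule.subset_span (Or.inl ⟨k, rfl⟩))
    · exact Submodule.smul_mem _ _ (Submodule.subset_span (Or.inr ⟨k, rfl⟩))
  · rw [mem_perpIn]
    refine ⟨M.sub_mem hu (Submodule.sum_mem _ fun k _ => M.add_mem (M.smul_mem _ (hv₀ k)) (M.smul_mem _ (hw₀ k))), ?_⟩
    intro l
    constructor
    · rw [map_sub, LinearMap.sub_apply, map_sum, LinearMap.sum_apply,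
        Finset.sum_eq_single l]
      · simp only [map_add, map_smul, LinearMap.add_apply, LinearMap.smul_apply, smul_eq_mul,
          hrel.hvv, mul_zero, zero_add, hrel.hwv hB, mul_neg, mul_one]
        rw [skew B hB u (v₀ l)]
        ring
      · intro k _ hkl
        simp only [map_add, map_smul, LinearMap.add_apply, LinearMap.smul_apply, smul_eq_mul,
          hrel.hvv, mul_zero, zero_add, hrel.hwv' hB k l hkl]
      · intro h; exact absurd (Finset.mem_univ l) h
    · rw [map_sub, LinearMap.sub_apply, map_sum, LinearMap.sum_apply,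
        Finset.sum_eq_single l]
      · simp only [map_add, map_smul, LinearMap.add_apply, LinearMap.smul_apply, smul_eq_mul,
          hrel.hww, mul_zero, add_zero, hrel.hvw, mul_one, sub_self]
      · intro k _ hkl
        simp only [map_add, map_smul, LinearMap.add_apply, LinearMap.smul_apply, smul_eq_mul,
          hrel.hww, mul_zero, add_zero, hrel.hvw' k l hkl]
      · intro h; exact absurd (Finset.mem_univ l) h

include hB hψ hψB in
lemma split_props [FiniteDimensional F V] (hz : z ≠ 0) {M : Submodule F V}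
    (hMinv : ∀ u ∈ M, ψ u ∈ M) (hMnd : Nd B M)
    {τ : Type} [Fintype τ] [Nonempty τ] (v₀ w₀ : τ → V) (hrel : HypRel B v₀ w₀)
    (hv₀ : ∀ k, v₀ k ∈ M) (hw₀ : ∀ k, w₀ k ∈ M)
    (hHinv : ∀ k, ψ (v₀ k) ∈ Submodule.span F (Set.range v₀ ∪ Set.range w₀) ∧
      ψ (w₀ k) ∈ Submodule.span F (Set.range v₀ ∪ Set.range w₀)) :
    (∀ u ∈ perpIn B M v₀ w₀, ψ u ∈ perpIn B M v₀ w₀) ∧ Nd B (perpIn B M v₀ w₀) ∧
      Module.finrank F (perpIn B M v₀ w₀) < Module.finrank F M := by
  refine ⟨?_, ?_, ?_⟩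
  · intro u hu
    have huM : u ∈ M := ((mem_perpIn B M v₀ w₀ u).mp hu).1
    rw [mem_perpIn]
    refine ⟨hMinv u huM, fun k => ⟨?_, ?_⟩⟩
    · have h1 : B (ψ u) (ψ (ψ (v₀ k))) = 0 := by
        rw [hψB]
        exact perp_span v₀ w₀ u hu _ (hHinv k).1
      rw [hψ, map_smul, smul_eq_mul] at h1
      exact (mul_eq_zero.mp h1).resolve_left hz
    · have h1 : B (ψ u) (ψ (ψ (w₀ k))) = 0 := by
        rw [hψB]
        exact perp_span v₀ w₀ u hu _ (hHinv k).2
      rw [hψ, map_smul, smul_eq_mul] at h1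
      exact (mul_eq_zero.mp h1).resolve_left hz
  · intro u hu hu0
    have huM : u ∈ M := ((mem_perpIn B M v₀ w₀ u).mp hu).1
    apply hMnd u huM
    intro m hm
    obtain ⟨h, hh, hmh⟩ := split_decomp hB v₀ w₀ hrel hv₀ hw₀ m hm
    have h1 : B u h = 0 := perp_span v₀ w₀ u hu h hh
    have h2 : B u (m - h) = 0 := hu0 _ hmh
    have : m = h + (m - h) := by abel
    rw [this, map_add, h1, h2, add_zero]
  · apply Submodule.finrank_lt_finrank_of_lt
    refine lt_of_le_of_ne inf_le_left ?_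
    intro heq
    obtain ⟨k₀⟩ := ‹Nonempty τ›
    have : v₀ k₀ ∈ perpIn B M v₀ w₀ := by rw [heq]; exact hv₀ k₀
    rw [mem_perpIn] at this
    have h1 := (this.2 k₀).2
    rw [hrel.hvw] at h1
    exact one_ne_zero h1

end Split

section Main

variable {F V : Type*} [Field F] [AddCommGroup V] [Module F V] [FiniteDimensional F V]
variable {B : V →ₗ[F] V →ₗ[F] F} (hB : ∀ v, B v v = 0)
variable {ψ : V →ₗ[F] V} {z : F} (hz : z ≠ 0) (hψ : ∀ v, ψ (ψ v) = z • v)
  (hψB : ∀ u v, B (ψ u) (ψ v) = B u v)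

include hB in
lemma HypData.glue {M : Submodule F V} {ι τ : Type} [Fintype τ] {v' w' : ι → V} {π' : ι → ι}
    {v₀ w₀ : τ → V} {π₀ : τ → τ}
    (hM' : HypData B ψ (perpIn B M v₀ w₀) ι v' w' π')
    (hrel : HypRel B v₀ w₀) (hv₀ : ∀ k, v₀ k ∈ M) (hw₀ : ∀ k, w₀ k ∈ M)
    (hπ₀ : ∀ k, π₀ (π₀ k) = k) (htyp : ∀ k, BlockTyp B ψ v₀ w₀ π₀ k) :
    HypData B ψ M (ι ⊕ τ) (Sum.elim v' v₀) (Sum.elim w' w₀) (Sum.map π' π₀) := by
  have hle : perpIn B M v₀ w₀ ≤ M := inf_le_left
  have hperp_v : ∀ k l, B (v' k) (v₀ l) = 0 ∧ B (v' k) (w₀ l) = 0 := fun k l =>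
    ((mem_perpIn B M v₀ w₀ _).mp (hM'.mem_v k)).2 l
  have hperp_w : ∀ k l, B (w' k) (v₀ l) = 0 ∧ B (w' k) (w₀ l) = 0 := fun k l =>
    ((mem_perpIn B M v₀ w₀ _).mp (hM'.mem_w k)).2 l
  refine ⟨?_, ?_, ?_, ?_, ?_, ?_, ?_, ?_, ?_⟩
  · rintro (k | k)
    · exact hle (hM'.mem_v k)
    · exact hv₀ k
  · rintro (k | k)
    · exact hle (hM'.mem_w k)
    · exact hw₀ k
  · intro u hu
    obtain ⟨h, hh, huh⟩ := split_decomp hB v₀ w₀ hrel hv₀ hw₀ u hu
    have h1 : Submodule.span F (Set.range v₀ ∪ Set.range w₀) ≤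
        Submodule.span F (Set.range (Sum.elim v' v₀) ∪ Set.range (Sum.elim w' w₀)) := by
      apply Submodule.span_mono
      rw [Set.Sum.elim_range, Set.Sum.elim_range]
      rintro x (hx | hx)
      · exact Or.inl (Or.inr hx)
      · exact Or.inr (Or.inr hx)
    have h2 : Submodule.span F (Set.range v' ∪ Set.range w') ≤
        Submodule.span F (Set.range (Sum.elim v' v₀) ∪ Set.range (Sum.elim w' w₀)) := by
      apply Submodule.span_mono
      rw [Set.Sum.elim_range, Set.Sum.elim_range]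
      rintro x (hx | hx)
      · exact Or.inl (Or.inl hx)
      · exact Or.inr (Or.inl hx)
    have : u = h + (u - h) := by abel
    rw [this]
    exact Submodule.add_mem _ (h1 hh) (h2 (hM'.span_le huh))
  · rintro (k | k)
    · exact hM'.hvw k
    · exact hrel.hvw k
  · rintro (k | k) (l | l)
    · exact hM'.hvv k l
    · exact (hperp_v k l).1
    · simp only [Sum.elim_inl, Sum.elim_inr]
      rw [skew B hB, (hperp_v l k).1, neg_zero]
    · exact hrel.hvv k l
  · rintro (k | k) (l | l)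
    · exact hM'.hww k l
    · exact (hperp_w k l).2
    · simp only [Sum.elim_inl, Sum.elim_inr]
      rw [skew B hB, (hperp_w l k).2, neg_zero]
    · exact hrel.hww k l
  · rintro (k | k) (l | l) hkl
    · exact hM'.hvw' k l (fun h => hkl (by rw [h]))
    · exact (hperp_v k l).2
    · simp only [Sum.elim_inl, Sum.elim_inr]
      rw [skew B hB, (hperp_w l k).1, neg_zero]
    · exact hrel.hvw' k l (fun h => hkl (by rw [h]))
  · rintro (k | k)
    · simp [hM'.inv]
    · simp [hπ₀]
  · rintro (k | k)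
    · simpa [BlockTyp] using hM'.typ k
    · simpa [BlockTyp] using htyp k

include hB hz hψ hψB in
lemma step {d : ℕ}
    (ih : ∀ m < d, ∀ (M : Submodule F V), Module.finrank F M = m → (∀ u ∈ M, ψ u ∈ M) → Nd B M →
      ∃ (ι : Type) (_ : Fintype ι) (v w : ι → V) (π : ι → ι), HypData B ψ M ι v w π)
    (M : Submodule F V) (hMd : Module.finrank F M = d) (hMinv : ∀ u ∈ M, ψ u ∈ M) (hMnd : Nd B M)
    {τ : Type} [Fintype τ] [Nonempty τ] (v₀ w₀ : τ → V) (π₀ : τ → τ) (hrel : HypRel B v₀ w₀)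
    (hv₀ : ∀ k, v₀ k ∈ M) (hw₀ : ∀ k, w₀ k ∈ M)
    (hHinv : ∀ k, ψ (v₀ k) ∈ Submodule.span F (Set.range v₀ ∪ Set.range w₀) ∧
      ψ (w₀ k) ∈ Submodule.span F (Set.range v₀ ∪ Set.range w₀))
    (hπ₀ : ∀ k, π₀ (π₀ k) = k) (htyp : ∀ k, BlockTyp B ψ v₀ w₀ π₀ k) :
    ∃ (ι : Type) (_ : Fintype ι) (v w : ι → V) (π : ι → ι), HypData B ψ M ι v w π := by
  obtain ⟨hinv', hnd', hlt⟩ := split_props hB ψ z hψ hψB hz hMinv hMnd v₀ w₀ hrel hv₀ hw₀ hHinv
  rw [hMd] at hlt
  obtain ⟨ι, _, v', w', π', hM'⟩ := ih _ hlt (perpIn B M v₀ w₀) rfl hinv' hnd'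
  exact ⟨ι ⊕ τ, inferInstance, _, _, _, hM'.glue hB hrel hv₀ hw₀ hπ₀ htyp⟩

include hB hz hψ hψB in
theorem exists_hypData : ∀ (d : ℕ) (M : Submodule F V), Module.finrank F M = d →
    (∀ u ∈ M, ψ u ∈ M) → Nd B M →
      ∃ (ι : Type) (_ : Fintype ι) (v w : ι → V) (π : ι → ι), HypData B ψ M ι v w π := by
  intro d
  induction d using Nat.strong_induction_on with
  | _ d ih =>
  intro M hMd hMinv hMnd
  by_cases hM0 : M = ⊥
  · subst hM0
    refine ⟨Empty, inferInstance, Empty.elim, Empty.elim, id, ?_⟩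
    exact ⟨fun k => k.elim, fun k => k.elim, bot_le, fun k => k.elim, fun k => k.elim,
      fun k => k.elim, fun k => k.elim, fun k => k.elim, fun k => k.elim⟩
  -- a helper: for nonzero u in M there is a partner
  have hpartner : ∀ u ∈ M, u ≠ 0 → ∃ w ∈ M, B u w = 1 := by
    intro u hu hu0
    by_contra hcon
    push Not at hcon
    apply hu0
    apply hMnd u hu
    intro w hw
    by_contra hne
    apply hcon ((B u w)⁻¹ • w) (M.smul_mem _ hw)
    rw [map_smul, smul_eq_mul, inv_mul_cancel₀ hne]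
  by_cases hA : ∃ v ∈ M, B v (ψ v) ≠ 0
  · -- case A
    obtain ⟨v, hvM, hc⟩ := hA
    set c := B v (ψ v) with hcdef
    have hψψ : ψ (c⁻¹ • ψ v) = (c⁻¹ * z) • v := by
      rw [map_smul, hψ, smul_smul]
    refine step hB hz hψ hψB ih M hMd hMinv hMnd (τ := Unit) (fun _ => v) (fun _ => c⁻¹ • ψ v) id
      ?_ (fun _ => hvM) (fun _ => M.smul_mem _ (hMinv v hvM)) ?_ (fun _ => rfl) ?_
    · refine ⟨fun _ => ?_, fun _ _ => hB v, fun _ _ => hB _, fun k l hkl => absurd rfl hkl⟩
      rw [map_smul, smul_eq_mul, ← hcdef, inv_mul_cancel₀ hc]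
    · intro _
      constructor
      · have hmem : c⁻¹ • ψ v ∈ Submodule.span F (Set.range (fun _ : Unit => v) ∪
            Set.range (fun _ : Unit => c⁻¹ • ψ v)) := Submodule.subset_span (Or.inr ⟨(), rfl⟩)
        have := Submodule.smul_mem _ c hmem
        rwa [smul_smul, mul_inv_cancel₀ hc, one_smul] at this
      · rw [hψψ]
        exact Submodule.smul_mem _ _ (Submodule.subset_span (Or.inl ⟨(), rfl⟩))
    · intro _
      left
      refine ⟨rfl, hc, ?_, ?_⟩
      · exact Submodule.mem_span_singleton.mpr ⟨c, by rw [smul_smul, mul_inv_cancel₀ hc, one_smul]⟩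
      · rw [hψψ]
        exact Submodule.smul_mem _ _ (Submodule.mem_span_singleton_self _)
  · push Not at hA
    have hwit : ∃ M₀ : Submodule F V, M₀ ≠ ⊥ ∧ (∀ u ∈ M₀, ψ u ∈ M₀) ∧ Nd B M₀ ∧
        ∀ u ∈ M₀, B u (ψ u) = 0 := ⟨M, hM0, hMinv, hMnd, hA⟩
    by_cases hB1 : ∃ w ∈ M, ψ w ∉ Submodule.span F {w}
    · -- case B1
      obtain ⟨w, hwM, hw⟩ := hB1
      have hw0 : w ≠ 0 := by
        rintro rfl
        apply hw
        simp
      obtain ⟨u₁, hu₁M, hu₁⟩ := hpartner w hwM hw0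
      -- v₁ with B v₁ w = 1
      obtain ⟨v₁, hv₁M, hv₁w⟩ : ∃ v₁ ∈ M, B v₁ w = 1 := by
        refine ⟨(-1 : F) • u₁, M.smul_mem _ hu₁M, ?_⟩
        rw [map_smul, LinearMap.smul_apply, skew B hB, hu₁]
        simp
      obtain ⟨β, hβ⟩ : ∃ β, β = B v₁ (ψ w) := ⟨_, rfl⟩
      have hex : ∃ v₂ ∈ M, B v₂ w = 0 ∧ B v₂ (ψ w) ≠ 0 := by
        by_contra hcon
        push Not at hcon
        apply hw
        have hkey : ψ w - β • w = 0 := by
          apply hMnd _ (M.sub_mem (hMinv w hwM) (M.smul_mem _ hwM))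
          intro u hu
          rw [skew B hB]
          have h1 : B (u - B u w • v₁) w = 0 := by
            rw [map_sub, LinearMap.sub_apply, map_smul, LinearMap.smul_apply, hv₁w]
            simp
          have h2 := hcon _ (M.sub_mem hu (M.smul_mem _ hv₁M)) h1
          rw [map_sub, LinearMap.sub_apply, map_smul, LinearMap.smul_apply, ← hβ, smul_eq_mul] at h2
          rw [map_sub, map_smul, smul_eq_mul]
          rw [neg_eq_zero]
          linear_combination h2
        rw [sub_eq_zero] at hkey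
        rw [hkey]
        exact Submodule.smul_mem _ _ (Submodule.mem_span_singleton_self _)
      obtain ⟨v₂, hv₂M, hv₂w, hv₂ψ⟩ := hex
      obtain ⟨v, hvM, hvw, hvψw⟩ : ∃ v ∈ M, B v w = 1 ∧ B v (ψ w) = 0 := by
        refine ⟨v₁ - (β / B v₂ (ψ w)) • v₂, M.sub_mem hv₁M (M.smul_mem _ hv₂M), ?_, ?_⟩
        · rw [map_sub, LinearMap.sub_apply, map_smul, LinearMap.smul_apply, hv₁w, hv₂w]
          simp
        · rw [map_sub, LinearMap.sub_apply, map_smul, LinearMap.smul_apply, ← hβ,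
            smul_eq_mul, div_mul_cancel₀ _ hv₂ψ, sub_self]
      have hψvw : B (ψ v) w = 0 := by
        have h1 : B (ψ (ψ v)) (ψ w) = B (ψ v) w := hψB _ _
        rw [← h1, hψ, map_smul, LinearMap.smul_apply, hvψw, smul_zero]
      have hψMv : ψ v ∈ M := hMinv v hvM
      have hψMw : ψ w ∈ M := hMinv w hwM
      refine step hB hz hψ hψB ih M hMd hMinv hMnd (τ := Fin 2) ![v, ψ v] ![w, ψ w] ![1, 0]
        ?_ ?_ ?_ ?_ ?_ ?_
      · refine ⟨?_, ?_, ?_, ?_⟩
        · intro k
          fin_cases k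
          · simpa using hvw
          · simpa [hψB] using hvw
        · intro k l
          fin_cases k <;> fin_cases l
          · simpa using hB v
          · simpa using hA v hvM
          · simp only [Fin.mk_one, Matrix.cons_val_one, Matrix.cons_val_fin_one, Fin.zero_eta,
              Matrix.cons_val_zero]
            rw [skew B hB, hA v hvM, neg_zero]
          · simpa using hB (ψ v)
        · intro k l
          fin_cases k <;> fin_cases l
          · simpa using hB w
          · simpa using hA w hwM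
          · simp only [Fin.mk_one, Matrix.cons_val_one, Matrix.cons_val_fin_one, Fin.zero_eta,
              Matrix.cons_val_zero]
            rw [skew B hB, hA w hwM, neg_zero]
          · simpa using hB (ψ w)
        · intro k l hkl
          fin_cases k <;> fin_cases l
          · exact absurd rfl hkl
          · simpa using hvψw
          · simpa using hψvw
          · exact absurd rfl hkl
      · intro k
        fin_cases k
        · simpa using hvM
        · simpa using hψMv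
      · intro k
        fin_cases k
        · simpa using hwM
        · simpa using hψMw
      · intro k
        fin_cases k
        · constructor
          · exact Submodule.subset_span (Or.inl ⟨1, rfl⟩)
          · exact Submodule.subset_span (Or.inr ⟨1, rfl⟩)
        · constructor
          · simp only [Fin.mk_one, Matrix.cons_val_one, Matrix.cons_val_fin_one]
            rw [hψ]
            exact Submodule.smul_mem _ _ (Submodule.subset_span (Or.inl ⟨0, rfl⟩))
          · simp only [Fin.mk_one, Matrix.cons_val_one, Matrix.cons_val_fin_one]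
            rw [hψ]
            exact Submodule.smul_mem _ _ (Submodule.subset_span (Or.inr ⟨0, rfl⟩))
      · intro k
        fin_cases k <;> rfl
      · intro k
        right
        refine ⟨?_, hwit⟩
        fin_cases k
        · constructor
          · exact Submodule.mem_span_singleton_self _
          · exact Submodule.mem_span_singleton_self _
        · constructor
          · simp only [Fin.mk_one, Matrix.cons_val_one, Matrix.cons_val_fin_one,
              Matrix.cons_val_zero]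
            rw [hψ]
            exact Submodule.smul_mem _ _ (Submodule.mem_span_singleton_self _)
          · simp only [Fin.mk_one, Matrix.cons_val_one, Matrix.cons_val_fin_one,
              Matrix.cons_val_zero]
            rw [hψ]
            exact Submodule.smul_mem _ _ (Submodule.mem_span_singleton_self _)
    · -- case B2
      push Not at hB1
      obtain ⟨v, hvM, hv0⟩ := (Submodule.ne_bot_iff M).mp hM0
      obtain ⟨w, hwM, hvw⟩ := hpartner v hvM hv0
      refine step hB hz hψ hψB ih M hMd hMinv hMnd (τ := Unit) (fun _ => v) (fun _ => w) id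
        ?_ (fun _ => hvM) (fun _ => hwM) ?_ (fun _ => rfl) ?_
      · exact ⟨fun _ => hvw, fun _ _ => hB v, fun _ _ => hB _, fun k l hkl => absurd rfl hkl⟩
      · intro _
        constructor
        · exact Submodule.span_mono (by
            rintro x hx
            rw [Set.mem_singleton_iff] at hx
            exact Or.inl ⟨(), hx.symm⟩) (hB1 v hvM)
        · exact Submodule.span_mono (by
            rintro x hx
            rw [Set.mem_singleton_iff] at hx
            exact Or.inr ⟨(), hx.symm⟩) (hB1 w hwM)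
      · intro _
        right
        exact ⟨⟨hB1 v hvM, hB1 w hwM⟩, hwit⟩

end Main

end Cfsg.Agent.Lib.Helper99
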