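import Mathlib
import Cfsg.Prelude.Def_ClassicalGeometry
import Cfsg.Agent.Lib.Helper2.BGLin
import Cfsg.Agent.Lib.Helper2.BGPoly
import Cfsg.Agent.Lib.Helper99.SympForm
import Cfsg.Agent.Lib.Helper48.TiDefs
import Cfsg.Agent.Lib.Helper48.TiInd

/-! # TI-W2 (S5955 hive of helper48): elements with `x² = ± 1` -/

set_option autoImplicit false
set_option linter.unusedVariables false

namespace Cfsg.Agent.Lib.Helper48.Ti

open Polynomial Module
open Cfsg.Agent.Lib.Helper2.BG Cfsg.Agent.Lib.Helper99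

theorem w2_coprime_lin {F : Type*} [Field F] (h2 : (2 : F) ≠ 0) :
    IsCoprime (X - 1 : F[X]) (X - C (-1 : F)) := by
  refine ⟨-C (2⁻¹ : F), C (2⁻¹ : F), ?_⟩
  have h : (C (2⁻¹ : F) : F[X]) * 2 = 1 := by
    have : (2 : F[X]) = C (2 : F) := (map_ofNat C 2).symm
    rw [this, ← C_mul, inv_mul_cancel₀ h2, C_1]
  have e : -C (2⁻¹ : F) * (X - 1) + C (2⁻¹ : F) * (X - C (-1 : F)) = C (2⁻¹ : F) * 2 := by
    simp only [C_neg, C_1]
    ring
  rw [e, h]

theorem w2_coprime_quad {F : Type*} [Field F] (h2 : (2 : F) ≠ 0) (ι : F) (hι : ι * ι = -1) :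
    IsCoprime (X - 1 : F[X]) ((X - C ι) * (X - C (-ι))) := by
  refine ⟨-C (2⁻¹ : F) * (X + 1), C (2⁻¹ : F), ?_⟩
  have h : (C (2⁻¹ : F) : F[X]) * 2 = 1 := by
    have : (2 : F[X]) = C (2 : F) := (map_ofNat C 2).symm
    rw [this, ← C_mul, inv_mul_cancel₀ h2, C_1]
  have hιC : (C ι : F[X]) * C ι = -1 := by
    rw [← C_mul, hι, C_neg, C_1]
  have e : -C (2⁻¹ : F) * (X + 1) * (X - 1) + C (2⁻¹ : F) * ((X - C ι) * (X - C (-ι)))
      = C (2⁻¹ : F) * 2 := by
    simp only [C_neg]
    have : (X - C ι) * (X - -C ι) = X * X - C ι * C ι := by ring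
    rw [this, hιC]
    ring
  rw [e, h]

theorem w2_coprime_irr {F : Type*} [Field F] (h2 : (2 : F) ≠ 0) :
    IsCoprime (X - 1 : F[X]) (X ^ 2 + 1) := by
  refine ⟨-C (2⁻¹ : F) * (X + 1), C (2⁻¹ : F), ?_⟩
  have h : (C (2⁻¹ : F) : F[X]) * 2 = 1 := by
    have : (2 : F[X]) = C (2 : F) := (map_ofNat C 2).symm
    rw [this, ← C_mul, inv_mul_cancel₀ h2, C_1]
  have e : -C (2⁻¹ : F) * (X + 1) * (X - 1) + C (2⁻¹ : F) * (X ^ 2 + 1) = C (2⁻¹ : F) * 2 := by
    ring
  rw [e, h]

/-- the abstract statement: `f ∘ f = z`, `z = ± 1` -/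
theorem w2_abstract {F V : Type*} [Field F] [Fintype F] [AddCommGroup V] [Module F V]
    [FiniteDimensional F V] {B : V →ₗ[F] V →ₗ[F] F} (h2 : (2 : F) ≠ 0)
    (hB : ∀ v, B v v = 0) (hV : Nd B ⊤) {f : Module.End F V} (hf : Isom B f)
    (hinj : Function.Injective f) (hss : f.IsSemisimple) (z : F) (hz : z = 1 ∨ z = -1)
    (hff : ∀ v, f (f v) = z • v) (m : ℕ) (hmd : 2 * m ≤ finrank F (⊤ : Submodule F V))
    (hm : Even m ∨ Fintype.card F % 4 = 1) : Good B f ⊤ m := by
  classical
  have hff' : f * f = z • (1 : Module.End F V) := by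
    apply LinearMap.ext
    intro v
    rw [Module.End.mul_apply, hff, LinearMap.smul_apply, Module.End.one_apply]
  rcases hz with hz | hz
  · -- `f² = 1`
    subst hz
    have hkill : aeval f ((X - 1 : F[X]) * (X - C (-1 : F))) = 0 := by
      rw [map_mul, map_sub, map_sub, aeval_X, map_one, aeval_C, map_neg, map_one]
      have e : (f - 1) * (f - -1) = f * f - 1 := by noncomm_ring
      rw [e, hff', one_smul, sub_self]
    have hP0 : (X - C (-1 : F) : F[X]) ≠ 0 := X_sub_C_ne_zero _
    have key := exists_ti_odd hB hf hinj hss hP0 (i := 1) odd_one (allIrrDeg_X_sub_C (-1 : F))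
      (w2_coprime_lin h2) hkill m ⊤ hV (inv_top f) hmd (by simp [Nat.mod_one])
    exact key
  · subst hz
    by_cases hsq : IsSquare (-1 : F)
    · obtain ⟨ι, hι⟩ := hsq
      have hkill : aeval f ((X - 1 : F[X]) * ((X - C ι) * (X - C (-ι)))) = 0 := by
        have h1 : aeval f ((X - C ι) * (X - C (-ι)) : F[X]) = 0 := by
          rw [map_mul, map_sub, map_sub, aeval_X, aeval_C, aeval_C, map_neg]
          have hcomm : f * algebraMap F (Module.End F V) ι = algebraMap F (Module.End F V) ι * f :=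
            (Algebra.commutes ι f).symm
          have haa : algebraMap F (Module.End F V) ι * algebraMap F (Module.End F V) ι = -1 := by
            rw [← map_mul, ← hι, map_neg, map_one]
          have e : (f - algebraMap F (Module.End F V) ι) * (f - -algebraMap F (Module.End F V) ι)
              = f * f + (f * algebraMap F (Module.End F V) ι - algebraMap F (Module.End F V) ι * f)
                - algebraMap F (Module.End F V) ι * algebraMap F (Module.End F V) ι := by
            noncomm_ring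
          rw [e, hcomm, sub_self, add_zero, haa, hff', neg_smul, one_smul]
          abel
        rw [map_mul, h1, mul_zero]
      have hP0 : ((X - C ι) * (X - C (-ι)) : F[X]) ≠ 0 :=
        mul_ne_zero (X_sub_C_ne_zero _) (X_sub_C_ne_zero _)
      have key := exists_ti_odd hB hf hinj hss hP0 (i := 1) odd_one
        ((allIrrDeg_X_sub_C ι).mul (allIrrDeg_X_sub_C (-ι)))
        (w2_coprime_quad h2 ι hι.symm) hkill m ⊤ hV (inv_top f) hmd (by simp [Nat.mod_one])
      exact key
    · -- `X² + 1` irreducible, `m` even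
      have hcard : Fintype.card F % 4 = 3 := by
        by_contra h3
        exact hsq (FiniteField.isSquare_neg_one_iff.2 h3)
      have hme : Even m := by
        rcases hm with h | h
        · exact h
        · omega
      obtain ⟨k, hk⟩ := hme
      have hφ : Irreducible (X ^ 2 + 1 : F[X]) := by
        have hmon : (X ^ 2 + 1 : F[X]).Monic := by
          have : (X ^ 2 + 1 : F[X]) = X ^ 2 + C 1 := by simp
          rw [this]
          exact monic_X_pow_add_C 1 (by norm_num)
        have hdeg : (X ^ 2 + 1 : F[X]).natDegree = 2 := by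
          have : (X ^ 2 + 1 : F[X]) = X ^ 2 + C 1 := by simp
          rw [this]
          exact natDegree_X_pow_add_C
        apply (Polynomial.irreducible_iff_roots_eq_zero_of_degree_le_three (by omega) (by omega)).2
        apply Multiset.eq_zero_of_forall_notMem
        intro a ha
        have hroot := (mem_roots hmon.ne_zero).1 ha
        rw [IsRoot.def, eval_add, eval_pow, eval_X, eval_one] at hroot
        apply hsq
        exact ⟨a, by linear_combination (-1 : F) * hroot⟩
      have hdeg : (X ^ 2 + 1 : F[X]).natDegree = 2 := by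
        have : (X ^ 2 + 1 : F[X]) = X ^ 2 + C 1 := by simp
        rw [this]
        exact natDegree_X_pow_add_C
      have hkill : aeval f (X ^ 2 + 1 : F[X]) = 0 := by
        rw [map_add, map_pow, aeval_X, map_one, pow_two, hff', neg_smul, one_smul]
        abel
      have key := exists_ti_irred hB hf hinj hss hφ hkill k ⊤ hV (inv_top f)
        (by rw [hdeg]; omega)
      rw [hdeg] at key
      have : m = k * 2 := by omega
      rw [this]
      exact key

/-- TI-W2: involutions -/
theorem fix_of_two {F : Type*} [Field F] [Fintype F] {p : ℕ} [Fact p.Prime] [CharP F p] (d m : ℕ) (hd : 1 ≤ d)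
    (hmd : m ≤ d) (hp2 : p ≠ 2) (hm : Even m ∨ Fintype.card F % 4 = 1)
    (x : ↥(Matrix.symplecticGroup (Fin d) F))
    (hx : ∃ z : F, ((x ^ 2 : ↥(Matrix.symplecticGroup (Fin d) F)) :
      Matrix (Fin d ⊕ Fin d) (Fin d ⊕ Fin d) F) = z • (1 : Matrix (Fin d ⊕ Fin d) (Fin d ⊕ Fin d) F)) :
    ∃ W : Submodule F (Fin d ⊕ Fin d → F), finrank F W = m ∧
      (∀ u ∈ W, ∀ v ∈ W, Cfsg.sympForm d F u v = 0) ∧
      W.map (Matrix.toLin' (x : Matrix (Fin d ⊕ Fin d) (Fin d ⊕ Fin d) F)) ≤ W := by
  classical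
  obtain ⟨z, hz⟩ := hx
  have h2 : (2 : F) ≠ 0 := by
    intro h
    have h' : ((2 : ℕ) : F) = 0 := by exact_mod_cast h
    rw [CharP.cast_eq_zero_iff F p 2] at h'
    exact hp2 ((Nat.prime_dvd_prime_iff_eq (Fact.out : p.Prime) Nat.prime_two).1 h')
  have hzz : z * z = 1 := scalar_sq_eq_one d hd (x ^ 2) z hz
  have hz1 : z = 1 ∨ z = -1 := mul_self_eq_one_iff.1 hzz
  have hz0 : z ≠ 0 := by
    intro h
    rw [h, mul_zero] at hzz
    exact zero_ne_one hzz
  have hA2 : (x : Matrix (Fin d ⊕ Fin d) (Fin d ⊕ Fin d) F) ^ 2 = z • 1 := by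
    rw [← hz]
    rfl
  have hff : ∀ v, Matrix.toLin' (x : Matrix (Fin d ⊕ Fin d) (Fin d ⊕ Fin d) F)
      (Matrix.toLin' (x : Matrix (Fin d ⊕ Fin d) (Fin d ⊕ Fin d) F) v) = z • v := by
    intro v
    rw [Matrix.toLin'_apply, Matrix.toLin'_apply, Matrix.mulVec_mulVec, ← pow_two, hA2,
      Matrix.smul_mulVec, Matrix.one_mulVec]
  have hss := isSemisimple_of_pow_eq d 2 (by exact_mod_cast h2)
    (x : Matrix (Fin d ⊕ Fin d) (Fin d ⊕ Fin d) F) z hz0 hA2
  have key := w2_abstract (B := sympB (F := F) d) h2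
    (fun v => Cfsg.Agent.Lib.Helper99.sympB_self (F := F) (d := d) v)
    (Cfsg.Agent.Lib.Helper99.sympB_nd (F := F) (d := d)) (isom_toLin' d x) (injective_toLin' d x) hss z hz1 hff m
    (by rw [finrank_top_symp]; omega) hm
  exact (good_top_iff d m _).1 key

end Cfsg.Agent.Lib.Helper48.Ti
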