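import Mathlib
import Cfsg.Prelude.Def_GeometricClasses
import Cfsg.Agent.Lib.Helper44.TnsDefs

set_option autoImplicit false
open scoped MatrixGroups Kronecker
open Matrix Polynomial

/-! TNS-G0 (helper99 for helper44's S5979 hive): basis criterion for `IsKronSimilar`. -/

namespace Cfsg.Agent.Lib.Helper44.Tns

universe v

variable {F : Type v} [Field F]

/-- TNS-G0 : basis criterion -/
theorem isKronSimilar_of_basis {n a b : ℕ} (e : Fin n ≃ Fin a × Fin b)
    (x : Matrix (Fin n) (Fin n) F) (A : Matrix (Fin a) (Fin a) F) (B : Matrix (Fin b) (Fin b) F)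
    (hA : IsUnit A.det) (hB : IsUnit B.det) (w : Module.Basis (Fin a × Fin b) F (Fin n → F))
    (h : ∀ j l, x *ᵥ w (j, l) = ∑ i, ∑ k, (A i j * B k l) • w (i, k)) :
    IsKronSimilar a b e x := by
  classical
  let P : Matrix (Fin n) (Fin a × Fin b) F := (Pi.basisFun F (Fin n)).toMatrix w
  let P' : Matrix (Fin a × Fin b) (Fin n) F := w.toMatrix (Pi.basisFun F (Fin n))
  have hP : ∀ i q, P i q = w q i := by
    intro i q
    show (Pi.basisFun F (Fin n)).toMatrix w i q = w q i
    rw [Module.Basis.toMatrix_apply, Pi.basisFun_repr]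
  have hPP' : P * P' = 1 := Module.Basis.toMatrix_mul_toMatrix_flip _ _
  have hxP : x * P = P * (A ⊗ₖ B) := by
    ext i ⟨j, l⟩
    rw [Matrix.mul_apply, Matrix.mul_apply, Fintype.sum_prod_type]
    have h1 : ∑ i', x i i' * P i' (j, l) = (x *ᵥ w (j, l)) i := by
      rw [Matrix.mulVec, dotProduct]
      exact Finset.sum_congr rfl (fun i' _ => by rw [hP])
    rw [h1, h j l, Finset.sum_apply]
    refine Finset.sum_congr rfl (fun i0 _ => ?_)
    rw [Finset.sum_apply]
    refine Finset.sum_congr rfl (fun k _ => ?_)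
    rw [Pi.smul_apply, smul_eq_mul, hP, Matrix.kroneckerMap_apply]
    ring
  have h3 : P.submatrix e.symm id * P'.submatrix id e.symm = 1 := by
    have h := Matrix.submatrix_mul_equiv P P' e.symm (Equiv.refl _) e.symm
    rw [hPP', Matrix.submatrix_one_equiv] at h
    exact h
  refine ⟨A, B, P.submatrix e.symm id, P'.submatrix id e.symm, hA, hB, h3, ?_⟩
  · have h2 : Matrix.reindex e e x * P.submatrix e.symm id = P.submatrix e.symm id * (A ⊗ₖ B) := by
      rw [Matrix.reindex_apply, Matrix.submatrix_mul_equiv x P e.symm e.symm id, hxP]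
      ext p q
      simp [Matrix.mul_apply]
    calc Matrix.reindex e e x = Matrix.reindex e e x * (P.submatrix e.symm id * P'.submatrix id e.symm) := by
          rw [h3, Matrix.mul_one]
      _ = P.submatrix e.symm id * (A ⊗ₖ B) * P'.submatrix id e.symm := by
          rw [← Matrix.mul_assoc, h2]

end Cfsg.Agent.Lib.Helper44.Tns
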