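import Mathlib
import Cfsg.Prelude.Def_GeometricClasses
import Cfsg.Agent.Lib.Helper44.TnsDefs
import Cfsg.Agent.Lib.Helper44.SLInvForm
import Cfsg.Agent.Lib.Helper44.SLInvCent
import Cfsg.Agent.Lib.Helper99.TnsG0

set_option autoImplicit false
open scoped MatrixGroups Kronecker
open Matrix Polynomial

/-! TNS-G2 (helper99 for helper44's S5979 hive): an element of `SL_{2b}(q)` with `x² = c²`
(`q` odd, `v₂(q-1) ≤ v₂(n)`) is similar to `1₂ ⊗ diag(c,…,c,-c,…,-c)`. -/

namespace Cfsg.Agent.Lib.Helper44.Tns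

universe u v

variable {F : Type v} [Field F]

/-- a basis indexed by `Fin 2 × Fin b` adapted to a decomposition into two even dimensional
complements -/
theorem TNSG2_basis {V : Type u} [AddCommGroup V] [Module F V] [FiniteDimensional F V]
    (E₁ E₂ : Submodule F V) (hc : IsCompl E₁ E₂) (s t b : ℕ)
    (hs : Module.finrank F E₁ = 2 * s) (ht : Module.finrank F E₂ = 2 * t) (hst : s + t = b) :
    ∃ (w : Module.Basis (Fin 2 × Fin b) F V) (κ : Fin b → Bool),
      ∀ j l, (κ l = true → w (j, l) ∈ E₁) ∧ (κ l = false → w (j, l) ∈ E₂) := by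
  classical
  let b₁ : Module.Basis (Fin 2 × Fin s) F E₁ :=
    (Module.finBasisOfFinrankEq F E₁ hs).reindex finProdFinEquiv.symm
  let b₂ : Module.Basis (Fin 2 × Fin t) F E₂ :=
    (Module.finBasisOfFinrankEq F E₂ ht).reindex finProdFinEquiv.symm
  let bp : Module.Basis ((Fin 2 × Fin s) ⊕ (Fin 2 × Fin t)) F V :=
    (b₁.prod b₂).map (Submodule.prodEquivOfIsCompl E₁ E₂ hc)
  let τ : Fin s ⊕ Fin t ≃ Fin b := finSumFinEquiv.trans (finCongr hst)
  let σ : (Fin 2 × Fin s) ⊕ (Fin 2 × Fin t) ≃ Fin 2 × Fin b :=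
    (Equiv.prodSumDistrib (Fin 2) (Fin s) (Fin t)).symm.trans
      (Equiv.prodCongr (Equiv.refl _) τ)
  have hσ : ∀ j l, σ.symm (j, l) = (Equiv.prodSumDistrib (Fin 2) (Fin s) (Fin t)) (j, τ.symm l) := by
    intro j l
    rfl
  have hbp1 : ∀ u, bp (Sum.inl u) ∈ E₁ := by
    intro u
    show ((b₁.prod b₂).map (Submodule.prodEquivOfIsCompl E₁ E₂ hc)) (Sum.inl u) ∈ E₁
    rw [Module.Basis.map_apply, Submodule.coe_prodEquivOfIsCompl', Module.Basis.prod_apply]
    simp
  have hbp2 : ∀ u, bp (Sum.inr u) ∈ E₂ := by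
    intro u
    show ((b₁.prod b₂).map (Submodule.prodEquivOfIsCompl E₁ E₂ hc)) (Sum.inr u) ∈ E₂
    rw [Module.Basis.map_apply, Submodule.coe_prodEquivOfIsCompl', Module.Basis.prod_apply]
    simp
  refine ⟨bp.reindex σ, fun l => (τ.symm l).isLeft, ?_⟩
  intro j l
  rw [Module.Basis.reindex_apply, hσ]
  rcases hl : τ.symm l with u | u
  · refine ⟨fun _ => ?_, fun h => ?_⟩
    · exact hbp1 (j, u)
    · have h' : (τ.symm l).isLeft = _ := h
      rw [hl] at h'
      simp at h'
  · refine ⟨fun h => ?_, fun _ => ?_⟩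
    · have h' : (τ.symm l).isLeft = _ := h
      rw [hl] at h'
      simp at h'
    · exact hbp2 (j, u)

section finite

variable [Fintype F]

/-- TNS-G2 : square scalar square -/
theorem isKronSimilar_of_square {n b : ℕ} (hn : n = 2 * b) (hb : 0 < b) (e : Fin n ≃ Fin 2 × Fin b)
    (h2 : (2 : F) ≠ 0)
    (hv : padicValNat 2 (Fintype.card F - 1) ≤ padicValNat 2 n)
    (x : Matrix (Fin n) (Fin n) F) (hdet : x.det = 1) (c : F) (hc : c ≠ 0)
    (hxx : x * x = (c * c) • (1 : Matrix (Fin n) (Fin n) F)) :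
    IsKronSimilar 2 b e x := by
  classical
  have hX : ∀ w, (Matrix.toLin' x) ((Matrix.toLin' x) w) = (c * c) • w := by
    intro w
    rw [Matrix.toLin'_apply, Matrix.toLin'_apply, Matrix.mulVec_mulVec, hxx, Matrix.smul_mulVec,
      Matrix.one_mulVec]
  have hcompl := Cfsg.Agent.Lib.Helper44.SLInv.isCompl_eigen (Matrix.toLin' x) c h2 hc hX
  have hdetX := Cfsg.Agent.Lib.Helper44.SLInv.det_eq_of_eigen (Matrix.toLin' x) c h2 hc hX
  rw [LinearMap.det_toLin', hdet] at hdetX
  have hsum := Submodule.finrank_add_eq_of_isCompl hcompl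
  rw [Module.finrank_fin_fun] at hsum
  have hn0 : n ≠ 0 := by omega
  have heven : Even (Module.finrank F
      (LinearMap.ker (Matrix.toLin' x + c • LinearMap.id))) := by
    by_contra hodd
    rw [Nat.not_even_iff_odd] at hodd
    rw [Odd.neg_pow hodd, mul_neg, ← pow_add, hsum] at hdetX
    apply Cfsg.Agent.Lib.Helper44.SLInv.pow_ne_neg_one h2 hn0 hv c hc
    linear_combination hdetX
  obtain ⟨t, ht⟩ := heven
  have ht' : Module.finrank F (LinearMap.ker (Matrix.toLin' x + c • LinearMap.id)) = 2 * t := by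
    rw [ht]; ring
  have hs' : Module.finrank F (LinearMap.ker (Matrix.toLin' x - c • LinearMap.id)) = 2 * (b - t) := by
    omega
  have hst : (b - t) + t = b := by omega
  obtain ⟨w, κ, hw⟩ := TNSG2_basis _ _ hcompl (b - t) t b hs' ht' hst
  have hd0 : ∀ l : Fin b, (if κ l = true then c else -c) ≠ 0 := by
    intro l
    by_cases h : κ l = true
    · rw [if_pos h]; exact hc
    · rw [if_neg h]; exact neg_ne_zero.2 hc
  have heig : ∀ j l, x *ᵥ w (j, l) = (if κ l = true then c else -c) • w (j, l) := by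
    intro j l
    by_cases h : κ l = true
    · rw [if_pos h]
      have := (Cfsg.Agent.Lib.Helper44.SLInv.mem_ker_sub (Matrix.toLin' x) c _).1 ((hw j l).1 h)
      rw [Matrix.toLin'_apply] at this
      exact this
    · rw [if_neg h]
      have h' : κ l = false := by simpa using h
      have := (Cfsg.Agent.Lib.Helper44.SLInv.mem_ker_add (Matrix.toLin' x) c _).1 ((hw j l).2 h')
      rw [Matrix.toLin'_apply] at this
      rw [this, neg_smul]
  refine isKronSimilar_of_basis e x (1 : Matrix (Fin 2) (Fin 2) F)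
    (Matrix.diagonal (fun l : Fin b => if κ l = true then c else -c)) ?_ ?_ w ?_
  · rw [Matrix.det_one]; exact isUnit_one
  · rw [Matrix.det_diagonal]
    exact isUnit_iff_ne_zero.2 (Finset.prod_ne_zero_iff.2 (fun l _ => hd0 l))
  · intro j l
    rw [heig j l, Finset.sum_eq_single j, Finset.sum_eq_single l]
    · rw [Matrix.one_apply_eq, Matrix.diagonal_apply_eq, one_mul]
    · intro k _ hk
      rw [Matrix.diagonal_apply_ne _ hk, mul_zero, zero_smul]
    · intro h; exact absurd (Finset.mem_univ _) h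
    · intro i _ hi
      apply Finset.sum_eq_zero
      intro k _
      rw [Matrix.one_apply_ne hi, zero_mul, zero_smul]
    · intro h; exact absurd (Finset.mem_univ _) h

end finite

end Cfsg.Agent.Lib.Helper44.Tns
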