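import Cfsg.Agent.Lib.Helper99.UPair2

set_option autoImplicit false

/-!
Stabilizer of a pair of complementary totally isotropic subspaces in the special unitary group:
an overgroup without transvections stabilizes the pair.
-/

namespace Cfsg.Agent.Lib.Helper99

open Matrix Module

section upair3

variable {F : Type*} [Field F] [Fintype F] {q n k : ℕ}

local notation "hh" => Cfsg.hermForm n F q

local notation "GG" => Cfsg.GU n F q ⊓ Cfsg.Geo.specialLinear (Fin n) F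

theorem map_eq_of_mem_stabU (W : Submodule F (Fin n → F))
    (g : GL (Fin n) F) (hg : g ∈ Cfsg.Geo.subspaceStabilizer W) :
    W.map (Matrix.toLin' (g : Matrix (Fin n) (Fin n) F)) = W := by
  apply le_antisymm
  · rintro _ ⟨x, hx, rfl⟩
    rw [Matrix.toLin'_apply]
    exact ((mem_subspaceStabilizer_iff W g).mp hg x).mp hx
  · intro y hy
    refine ⟨((g⁻¹ : GL (Fin n) F) : Matrix (Fin n) (Fin n) F) *ᵥ y, ?_, ?_⟩
    · rw [SetLike.mem_coe, (mem_subspaceStabilizer_iff W g).mp hg, gl_mulVec_inv_mulVec]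
      exact hy
    · rw [Matrix.toLin'_apply, gl_mulVec_inv_mulVec]

theorem mem_decompStabU_of_forall {t : ℕ}
    (D : Fin t → Submodule F (Fin n → F)) (g : GL (Fin n) F)
    (h : ∀ i, g ∈ Cfsg.Geo.subspaceStabilizer (D i)) :
    g ∈ Cfsg.Geo.decompositionStabilizer D :=
  ⟨1, fun i => by
    rw [Equiv.Perm.one_apply]
    exact map_eq_of_mem_stabU (D i) g (h i)⟩

variable (D : Fin 2 → Submodule F (Fin n → F))

theorem pair_sumU (hD : Cfsg.Geo.IsMDecomposition k D) (x : Fin n → F) :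
    ∃ x1 ∈ D 0, ∃ x2 ∈ D 1, x1 + x2 = x := by
  have hx : x ∈ ⨆ i, D i := by
    rw [hD.iSup_eq_top]
    trivial
  refine Submodule.iSup_induction D
    (motive := fun x => ∃ x1 ∈ D 0, ∃ x2 ∈ D 1, x1 + x2 = x) hx ?_ ?_ ?_
  · intro i x hx
    fin_cases i
    · exact ⟨x, hx, 0, Submodule.zero_mem _, add_zero x⟩
    · exact ⟨0, Submodule.zero_mem _, x, hx, zero_add x⟩
  · exact ⟨0, Submodule.zero_mem _, 0, Submodule.zero_mem _, add_zero 0⟩
  · rintro x y ⟨x1, hx1, x2, hx2, rfl⟩ ⟨y1, hy1, y2, hy2, rfl⟩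
    exact ⟨x1 + y1, (D 0).add_mem hx1 hy1, x2 + y2, (D 1).add_mem hx2 hy2, by abel⟩

theorem rootU_mem_pairStab (hF : Fintype.card F = q ^ 2)
    (hts : ∀ i, Cfsg.Geo.IsTotallySingularFor (Cfsg.hermForm n F q) (D i))
    (a b : Fin n → F) (ha : a ∈ D 0) (hb : b ∈ D 1) (hab : hh a b = 0) :
    rootU hF a b ∈ Cfsg.Geo.decompositionStabilizer D ⊓ GG := by
  have haa : hh a a = 0 := hts 0 a ha a ha
  have hbb : hh b b = 0 := hts 1 b hb b hb
  refine ⟨mem_decompStabU_of_forall D _ (fun i => ?_), rootU_mem_suGL hF haa hbb hab⟩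
  apply mem_subspaceStabilizer_of_forall
  intro x hx
  rw [rootU_mulVec hF haa hbb hab]
  fin_cases i
  · have h0 : hh x a = 0 := hts 0 x hx a ha
    rw [h0, mul_zero, zero_smul, add_zero]
    exact (D 0).add_mem hx ((D 0).smul_mem _ ha)
  · have h0 : hh x b = 0 := hts 1 x hx b hb
    rw [h0, mul_zero, zero_smul, add_zero]
    exact (D 1).add_mem hx ((D 1).smul_mem _ hb)

theorem basePairU (hF : Fintype.card F = q ^ 2) (hD : Cfsg.Geo.IsMDecomposition k D)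
    (hts : ∀ i, Cfsg.Geo.IsTotallySingularFor (Cfsg.hermForm n F q) (D i)) (hk : 3 ≤ k)
    (M : Subgroup (GL (Fin n) F))
    (hHM : Cfsg.Geo.decompositionStabilizer D ⊓ GG ≤ M) :
    LagPairU hF M (D 0) (D 1) where
  iso := hts 0
  iso' := hts 1
  sum := pair_sumU D hD
  dim := by rw [hD.finrank_eq]; exact hk
  dim' := by rw [hD.finrank_eq]; exact hk
  base := fun a ha b hb hab => hHM (rootU_mem_pairStab D hF hts a b ha hb hab)

theorem noutv_map (M : Subgroup (GL (Fin n) F)) (hMS : M ≤ GG)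
    (A : Submodule F (Fin n → F)) (hiso : ∀ x ∈ A, ∀ y ∈ A, hh x y = 0)
    (hno : ∀ a ∈ A, InZ q M a → a = 0)
    (g : GL (Fin n) F) (hg : g ∈ M) :
    ∀ a ∈ A.map (Matrix.toLin' (g : Matrix (Fin n) (Fin n) F)), InZ q M a → a = 0 := by
  rintro _ ⟨a, ha, rfl⟩ hT
  rw [Matrix.toLin'_apply] at hT ⊢
  have hiso' : hh ((g : Matrix (Fin n) (Fin n) F) *ᵥ a) ((g : Matrix (Fin n) (Fin n) F) *ᵥ a)
      = 0 := by
    rw [GU_preserves (hMS hg).1]
    exact hiso a ha a ha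
  have h1 := inZ_map M hMS g⁻¹ (M.inv_mem hg) _ hiso' hT
  rw [gl_inv_mulVec_mulVec] at h1
  rw [hno a ha h1, mulVec_zero]

/-- An overgroup of the stabilizer of the pair that contains no transvection with direction in
`D 0` or `D 1` stabilizes the pair. -/
theorem mem_pairStab_of_no_utv (hF : Fintype.card F = q ^ 2)
    (hD : Cfsg.Geo.IsMDecomposition k D)
    (hts : ∀ i, Cfsg.Geo.IsTotallySingularFor (Cfsg.hermForm n F q) (D i)) (hk : 3 ≤ k)
    (M : Subgroup (GL (Fin n) F))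
    (hHM : Cfsg.Geo.decompositionStabilizer D ⊓ GG ≤ M) (hMS : M ≤ GG)
    (hno0 : ∀ a ∈ D 0, InZ q M a → a = 0) (hno1 : ∀ a ∈ D 1, InZ q M a → a = 0)
    (g : GL (Fin n) F) (hg : g ∈ M) : g ∈ Cfsg.Geo.decompositionStabilizer D := by
  classical
  have P := basePairU D hF hD hts hk M hHM
  have Q := P.map hMS g hg
  set X := (D 0).map (Matrix.toLin' (g : Matrix (Fin n) (Fin n) F)) with hX
  set X' := (D 1).map (Matrix.toLin' (g : Matrix (Fin n) (Fin n) F)) with hX'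
  have hnoX : ∀ a ∈ X, InZ q M a → a = 0 := noutv_map M hMS (D 0) (hts 0) hno0 g hg
  have hnoX' : ∀ a ∈ X', InZ q M a → a = 0 := noutv_map M hMS (D 1) (hts 1) hno1 g hg
  have hid : X = D 0 → X' = D 1 → g ∈ Cfsg.Geo.decompositionStabilizer D := by
    intro h0 h1
    refine ⟨1, fun i => ?_⟩
    fin_cases i
    · exact h0
    · exact h1
  have hsw : X = D 1 → X' = D 0 → g ∈ Cfsg.Geo.decompositionStabilizer D := by
    intro h0 h1
    refine ⟨Equiv.swap 0 1, fun i => ?_⟩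
    fin_cases i
    · show X = D (Equiv.swap 0 1 0)
      rw [Equiv.swap_apply_left]
      exact h0
    · show X' = D (Equiv.swap 0 1 1)
      rw [Equiv.swap_apply_right]
      exact h1
  by_cases c1 : ∃ a, a ≠ 0 ∧ a ∈ X ∧ a ∈ D 0
  · obtain ⟨a, ha0, haX, haD⟩ := c1
    obtain ⟨e1, e2⟩ := Q.eq_of_meet P hnoX hnoX' hno0 hno1 a haX haD ha0
    exact hid e1 e2
  by_cases c2 : ∃ a, a ≠ 0 ∧ a ∈ X ∧ a ∈ D 1
  · obtain ⟨a, ha0, haX, haD⟩ := c2
    obtain ⟨e1, e2⟩ := Q.eq_of_meet P.symm hnoX hnoX' hno1 hno0 a haX haD ha0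
    exact hsw e1 e2
  by_cases c3 : ∃ a, a ≠ 0 ∧ a ∈ X' ∧ a ∈ D 0
  · obtain ⟨a, ha0, haX, haD⟩ := c3
    obtain ⟨e1, e2⟩ := Q.symm.eq_of_meet P hnoX' hnoX hno0 hno1 a haX haD ha0
    exact hsw e2 e1
  by_cases c4 : ∃ a, a ≠ 0 ∧ a ∈ X' ∧ a ∈ D 1
  · obtain ⟨a, ha0, haX, haD⟩ := c4
    obtain ⟨e1, e2⟩ := Q.symm.eq_of_meet P.symm hnoX' hnoX hno1 hno0 a haX haD ha0
    exact hid e2 e1
  -- generic position: contradiction
  exfalso
  push Not at c1 c2
  obtain ⟨x, hxX, hx0, _, _⟩ := exists_ne_zero_hperp_two hF X Q.dim 0 0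
  obtain ⟨x1, hx1, x2, hx2, hx12⟩ := P.sum x
  have hx10 : x1 ≠ 0 := by
    rintro rfl
    rw [zero_add] at hx12
    exact c2 x hx0 hxX (hx12 ▸ hx2)
  obtain ⟨b, hb, hx1b⟩ := P.exists_pair x1 hx1 hx10
  obtain ⟨a, ha, ha0, hax2, hab⟩ := exists_ne_zero_hperp_two hF (D 0) P.dim x2 b
  have haa : hh a a = 0 := hts 0 a ha a ha
  have hbb : hh b b = 0 := hts 1 b hb b hb
  have hroot : rootU hF a b ∈ M := P.base a ha b hb hab
  have hxa : hh x a = 0 := by
    rw [← hx12, Helper13.hermForm_add_left, P.iso x1 hx1 a ha, zero_add]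
    exact hermForm_eq_zero_comm hF hax2
  have hxb : hh x b = hh x1 b := by
    rw [← hx12, Helper13.hermForm_add_left, P.iso' x2 hx2 b hb, add_zero]
  have R := Q.map hMS (rootU hF a b) hroot
  obtain ⟨x', hx'X, hx'0, hx'a, hx'b⟩ := exists_ne_zero_hperp_two hF X Q.dim a b
  have hfix : ((rootU hF a b : GL (Fin n) F) : Matrix (Fin n) (Fin n) F) *ᵥ x' = x' := by
    rw [rootU_mulVec hF haa hbb hab, hx'a, hx'b, mul_zero, zero_smul, zero_smul, add_zero,
      add_zero]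
  have hx'Y : x' ∈ X.map (Matrix.toLin' ((rootU hF a b : GL (Fin n) F) :
      Matrix (Fin n) (Fin n) F)) :=
    ⟨x', hx'X, by rw [Matrix.toLin'_apply, hfix]⟩
  obtain ⟨e1, _⟩ := R.eq_of_meet Q (noutv_map M hMS X Q.iso hnoX _ hroot)
    (noutv_map M hMS X' Q.iso' hnoX' _ hroot) hnoX hnoX' x' hx'Y hx'X hx'0
  have hhx : ((rootU hF a b : GL (Fin n) F) : Matrix (Fin n) (Fin n) F) *ᵥ x ∈ X := by
    rw [← e1]
    exact ⟨x, hxX, by rw [Matrix.toLin'_apply]⟩
  rw [rootU_mulVec hF haa hbb hab, hxa, mul_zero, zero_smul, add_zero, hxb] at hhx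
  have hne : tz hF * hh x1 b ≠ 0 := mul_ne_zero (tz_ne_zero hF) hx1b
  have h3 : (tz hF * hh x1 b) • a ∈ X := by
    have : (tz hF * hh x1 b) • a = (x + (tz hF * hh x1 b) • a) - x := by abel
    rw [this]
    exact X.sub_mem hhx hxX
  have h4 : a ∈ X := by
    have : a = (tz hF * hh x1 b)⁻¹ • ((tz hF * hh x1 b) • a) := by
      rw [smul_smul, inv_mul_cancel₀ hne, one_smul]
    rw [this]
    exact X.smul_mem _ h3
  exact c1 a ha0 h4 ha

end upair3

end Cfsg.Agent.Lib.Helper99
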