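import Cfsg.Agent.Lib.Helper99.UPair3

set_option autoImplicit false

/-!
Stabilizer of a pair of complementary totally isotropic subspaces in the special unitary group:
the swap.
-/

namespace Cfsg.Agent.Lib.Helper99

open Matrix Module

section upair4

variable {F : Type*} [Field F] [Fintype F] {q n k : ℕ}

local notation "hh" => Cfsg.hermForm n F q

local notation "GG" => Cfsg.GU n F q ⊓ Cfsg.Geo.specialLinear (Fin n) F

/-- A torus element of `GU` stabilizing two totally isotropic subspaces, with prescribed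
determinant. -/
theorem exists_det_correction_two (hF : Fintype.card F = q ^ 2) (W W' : Submodule F (Fin n → F))
    (hW : ∀ u ∈ W, ∀ v ∈ W, hh u v = 0) (hW' : ∀ u ∈ W', ∀ v ∈ W', hh u v = 0)
    (u' : Fin n → F) (hu'W' : u' ∈ W')
    (hu' : u' ∉ hperp q W) (δ : F) (hδ : δ ^ (q + 1) = 1) :
    ∃ (d : GL (Fin n) F), d ∈ Cfsg.GU n F q ∧
      (d : Matrix (Fin n) (Fin n) F).det = δ⁻¹ ∧
      (∀ x ∈ W, (d : Matrix (Fin n) (Fin n) F) *ᵥ x ∈ W) ∧
      (∀ x ∈ W', (d : Matrix (Fin n) (Fin n) F) *ᵥ x ∈ W') := by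
  have hu'0 : hh u' u' = 0 := hW' u' hu'W' u' hu'W'
  obtain ⟨a, ha0, haq⟩ := exists_hilbert90 hF δ hδ
  have hδ0 : δ ≠ 0 := by
    rintro rfl
    rw [zero_pow (by omega)] at hδ
    exact zero_ne_one hδ
  have haq0 : a ^ q ≠ 0 := pow_ne_zero _ ha0
  set b : F := (a ^ q)⁻¹ with hb
  have hb0 : b ≠ 0 := inv_ne_zero haq0
  have hbq : b ^ q = a⁻¹ := by rw [hb, inv_pow, Helper13.pow_q_pow_q hF]
  obtain ⟨w, hwW, hw⟩ : ∃ w ∈ W, hh w u' ≠ 0 := by
    by_contra hcon
    push Not at hcon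
    exact hu' ((mem_hperp' hF W u').mpr hcon)
  set w₁ : Fin n → F := (hh w u')⁻¹ • w with hw₁
  have hw₁W : w₁ ∈ W := W.smul_mem _ hwW
  have h1 : hh w₁ u' = 1 := by
    rw [hw₁, Helper13.hermForm_smul_left, inv_mul_cancel₀ hw]
  have h2 : hh u' w₁ = 1 := by
    rw [← Helper13.hermForm_conj hF n w₁ u', h1, one_pow]
  have h3 : hh w₁ w₁ = 0 := hW w₁ hw₁W w₁ hw₁W
  set d₁ : GL (Fin n) F := rk1GL w₁ (fun j => (a - 1) * (u' j) ^ q) with hd₁
  set d₂ : GL (Fin n) F := rk1GL u' (fun j => (b - 1) * (w₁ j) ^ q) with hd₂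
  have hne₁ : 1 + (fun j => (a - 1) * (u' j) ^ q) ⬝ᵥ w₁ ≠ 0 := by
    rw [utv_dot, h1, mul_one, add_sub_cancel]
    exact ha0
  have hne₂ : 1 + (fun j => (b - 1) * (w₁ j) ^ q) ⬝ᵥ u' ≠ 0 := by
    rw [utv_dot, h2, mul_one, add_sub_cancel]
    exact hb0
  have hd₁x : ∀ x, (d₁ : Matrix (Fin n) (Fin n) F) *ᵥ x = x + ((a - 1) * hh x u') • w₁ := by
    intro x
    rw [hd₁, coe_rk1GL _ _ hne₁, rk1_mulVec, utv_dot]
  have hd₂x : ∀ x, (d₂ : Matrix (Fin n) (Fin n) F) *ᵥ x = x + ((b - 1) * hh x w₁) • u' := by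
    intro x
    rw [hd₂, coe_rk1GL _ _ hne₂, rk1_mulVec, utv_dot]
  have hdx : ∀ x, ((d₁ * d₂ : GL (Fin n) F) : Matrix (Fin n) (Fin n) F) *ᵥ x =
      x + ((b - 1) * hh x w₁) • u' + ((a - 1) * hh x u') • w₁ := by
    intro x
    rw [Units.val_mul, ← mulVec_mulVec, hd₂x, hd₁x, Helper13.hermForm_add_left,
      Helper13.hermForm_smul_left, hu'0, mul_zero, add_zero]
  have hab1 : a * b ^ q = 1 := by rw [hbq, mul_inv_cancel₀ ha0]
  have hab2 : b * a ^ q = 1 := by rw [hb, inv_mul_cancel₀ haq0]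
  refine ⟨d₁ * d₂, ?_, ?_, ?_, ?_⟩
  · rw [Helper13.mem_GU_iff]
    intro x y
    rw [hdx, hdx]
    simp only [Helper13.hermForm_add_left, Helper13.hermForm_add_right hF,
      Helper13.hermForm_smul_left, Helper13.hermForm_smul_right, hu'0, h1, h2, h3, mul_pow]
    have e1 : (hh y w₁) ^ q = hh w₁ y := Helper13.hermForm_conj hF n y w₁
    have e2 : (hh y u') ^ q = hh u' y := Helper13.hermForm_conj hF n y u'
    rw [e1, e2, frob_sub hF, frob_sub hF, one_pow]
    linear_combination (hh x u' * hh w₁ y) * hab1 + (hh x w₁ * hh u' y) * hab2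
  · rw [Units.val_mul, Matrix.det_mul, hd₁, hd₂, coe_rk1GL _ _ hne₁, coe_rk1GL _ _ hne₂, det_rk1,
      det_rk1, utv_dot, utv_dot, h1, h2, mul_one, mul_one, add_sub_cancel, add_sub_cancel, hb, haq]
    field_simp
  · intro x hx
    rw [hdx, hW x hx w₁ hw₁W, mul_zero, zero_smul, add_zero]
    exact W.add_mem hx (W.smul_mem _ hw₁W)
  · intro x hx
    rw [hdx, hW' x hx u' hu'W', mul_zero, zero_smul, add_zero]
    exact W'.add_mem hx (W'.smul_mem _ hu'W')

variable (D : Fin 2 → Submodule F (Fin n → F))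

theorem pair_disjointU (hF : Fintype.card F = q ^ 2)
    (hts : ∀ i, Cfsg.Geo.IsTotallySingularFor (Cfsg.hermForm n F q) (D i))
    (hD : Cfsg.Geo.IsMDecomposition k D) (x : Fin n → F) (h0 : x ∈ D 0) (h1 : x ∈ D 1) :
    x = 0 := by
  apply hermForm_nd_left hF
  intro y
  obtain ⟨y1, hy1, y2, hy2, rfl⟩ := pair_sumU D hD y
  rw [Helper13.hermForm_add_right hF, hts 0 x h0 y1 hy1, hts 1 x h1 y2 hy2, add_zero]

theorem pair_isComplU (hF : Fintype.card F = q ^ 2)
    (hts : ∀ i, Cfsg.Geo.IsTotallySingularFor (Cfsg.hermForm n F q) (D i))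
    (hD : Cfsg.Geo.IsMDecomposition k D) : IsCompl (D 0) (D 1) := by
  constructor
  · rw [Submodule.disjoint_def]
    exact fun x h0 h1 => pair_disjointU D hF hts hD x h0 h1
  · rw [codisjoint_iff, eq_top_iff]
    intro x _
    obtain ⟨x1, hx1, x2, hx2, rfl⟩ := pair_sumU D hD x
    exact Submodule.add_mem_sup hx1 hx2

/-- An isometry interchanging the two totally isotropic subspaces. -/
theorem exists_swapU0 (hF : Fintype.card F = q ^ 2)
    (hts : ∀ i, Cfsg.Geo.IsTotallySingularFor (Cfsg.hermForm n F q) (D i))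
    (hD : Cfsg.Geo.IsMDecomposition k D) :
    ∃ s : GL (Fin n) F, s ∈ Cfsg.GU n F q ∧
      (∀ x ∈ D 0, (s : Matrix (Fin n) (Fin n) F) *ᵥ x ∈ D 1) ∧
      (∀ x ∈ D 1, (s : Matrix (Fin n) (Fin n) F) *ᵥ x ∈ D 0) := by
  classical
  have hcompl := pair_isComplU D hF hts hD
  let e : Basis (Fin k) F (D 0) := Module.finBasisOfFinrankEq F (D 0) (hD.finrank_eq 0)
  let Φ : D 1 →ₗ[F] (Fin k → F) :=
    LinearMap.pi (fun i => (hermB hF n ((e i : D 0) : Fin n → F)).comp (D 1).subtype)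
  have hΦ : ∀ (y : D 1) (i : Fin k), Φ y i = hh (y : Fin n → F) ((e i : D 0) : Fin n → F) := by
    intro y i
    rfl
  have hΦinj : Function.Injective Φ := by
    rw [← LinearMap.ker_eq_bot, LinearMap.ker_eq_bot']
    intro y hy
    apply Subtype.ext
    apply hermForm_nd_right hF
    intro z
    have hD0 : D 0 ≤ LinearMap.ker (hermB hF n (y : Fin n → F)) := by
      rw [← span_basis_eq (D 0) e, Submodule.span_le]
      rintro _ ⟨i, rfl⟩
      rw [SetLike.mem_coe, LinearMap.mem_ker, hermB_apply]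
      apply hermForm_eq_zero_comm hF
      rw [← hΦ, hy]
      rfl
    obtain ⟨z1, hz1, z2, hz2, rfl⟩ := pair_sumU D hD z
    have := hD0 hz1
    rw [LinearMap.mem_ker, hermB_apply] at this
    rw [Helper13.hermForm_add_left, this, hts 1 z2 hz2 _ y.2, add_zero]
  have hdim : finrank F (D 1) = finrank F (Fin k → F) := by
    rw [hD.finrank_eq, Module.finrank_fin_fun]
  let Φe : D 1 ≃ₗ[F] (Fin k → F) := LinearMap.linearEquivOfInjective Φ hΦinj hdim
  let f' : Basis (Fin k) F (D 1) := (Pi.basisFun F (Fin k)).map Φe.symm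
  have hfe : ∀ i j, hh ((f' j : D 1) : Fin n → F) ((e i : D 0) : Fin n → F) =
      if i = j then 1 else 0 := by
    intro i j
    rw [← hΦ]
    have h1 : Φ (f' j) = Pi.single j 1 := by
      show Φe (f' j) = _
      simp only [f', Basis.map_apply, LinearEquiv.apply_symm_apply, Pi.basisFun_apply]
    rw [h1, Pi.single_apply]
  have hef : ∀ i j, hh ((e i : D 0) : Fin n → F) ((f' j : D 1) : Fin n → F) =
      if i = j then 1 else 0 := by
    intro i j
    rw [← Helper13.hermForm_conj hF n, hfe]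
    split_ifs
    · rw [one_pow]
    · rw [zero_pow]
      have := q_ge_two hF
      omega
  let α : D 0 ≃ₗ[F] D 1 := e.equiv f' (Equiv.refl _)
  have hα : ∀ i, α (e i) = f' i := fun i => by
    simp only [α, Basis.equiv_apply, Equiv.refl_apply]
  -- first step: `h(z, f' j) = h(α z, e j)`
  have hstep1 : ∀ (j : Fin k) (z : D 0), hh (z : Fin n → F) ((f' j : D 1) : Fin n → F) =
      hh ((α z : D 1) : Fin n → F) ((e j : D 0) : Fin n → F) := by
    intro j
    let L1 : D 0 →ₗ[F] F := (hermB hF n ((f' j : D 1) : Fin n → F)).comp (D 0).subtype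
    let L2 : D 0 →ₗ[F] F := (hermB hF n ((e j : D 0) : Fin n → F)).comp
      ((D 1).subtype.comp α.toLinearMap)
    have hL : L1 = L2 := by
      apply e.ext
      intro i
      show hh ((e i : D 0) : Fin n → F) ((f' j : D 1) : Fin n → F) =
        hh ((α (e i) : D 1) : Fin n → F) ((e j : D 0) : Fin n → F)
      rw [hα, hef, hfe]
      by_cases h : i = j
      · rw [if_pos h, if_pos h.symm]
      · rw [if_neg h, if_neg (Ne.symm h)]
    intro z
    exact LinearMap.congr_fun hL z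
  -- symmetry of `α`
  have hsymm : ∀ x z : D 0, hh ((α x : D 1) : Fin n → F) (z : Fin n → F) =
      hh (x : Fin n → F) ((α z : D 1) : Fin n → F) := by
    intro x z
    let M1 : D 0 →ₗ[F] F := (hermB hF n (z : Fin n → F)).comp
      ((D 1).subtype.comp α.toLinearMap)
    let M2 : D 0 →ₗ[F] F := (hermB hF n ((α z : D 1) : Fin n → F)).comp (D 0).subtype
    have hM : M1 = M2 := by
      apply e.ext
      intro j
      show hh ((α (e j) : D 1) : Fin n → F) (z : Fin n → F) =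
        hh ((e j : D 0) : Fin n → F) ((α z : D 1) : Fin n → F)
      rw [hα, ← Helper13.hermForm_conj hF n (z : Fin n → F), hstep1 j z,
        Helper13.hermForm_conj hF n]
    exact LinearMap.congr_fun hM x
  let s : (Fin n → F) →ₗ[F] (Fin n → F) :=
    LinearMap.ofIsCompl hcompl ((D 1).subtype ∘ₗ α.toLinearMap)
      ((D 0).subtype ∘ₗ α.symm.toLinearMap)
  have hs0 : ∀ x : D 0, s (x : Fin n → F) = (α x : D 1) := by
    intro x
    simp only [s, LinearMap.ofIsCompl_apply_left, LinearMap.comp_apply, LinearEquiv.coe_coe,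
      Submodule.subtype_apply]
  have hs1 : ∀ y : D 1, s (y : Fin n → F) = (α.symm y : D 0) := by
    intro y
    simp only [s, LinearMap.ofIsCompl_apply_right, LinearMap.comp_apply,
      LinearEquiv.coe_coe, Submodule.subtype_apply]
  have hsiso : ∀ u v, hh (s u) (s v) = hh u v := by
    intro u v
    obtain ⟨u0, hu0, u1, hu1, rfl⟩ := pair_sumU D hD u
    obtain ⟨v0, hv0, v1, hv1, rfl⟩ := pair_sumU D hD v
    have e1 := hs0 ⟨u0, hu0⟩
    have e2 := hs1 ⟨u1, hu1⟩
    have e3 := hs0 ⟨v0, hv0⟩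
    have e4 := hs1 ⟨v1, hv1⟩
    simp only at e1 e2 e3 e4
    rw [map_add, map_add, e1, e2, e3, e4]
    simp only [Helper13.hermForm_add_left, Helper13.hermForm_add_right hF]
    have z1 : hh ((α ⟨u0, hu0⟩ : D 1) : Fin n → F) ((α ⟨v0, hv0⟩ : D 1) : Fin n → F) = 0 :=
      hts 1 _ (α _).2 _ (α _).2
    have z2 : hh ((α.symm ⟨u1, hu1⟩ : D 0) : Fin n → F)
        ((α.symm ⟨v1, hv1⟩ : D 0) : Fin n → F) = 0 :=
      hts 0 _ (α.symm _).2 _ (α.symm _).2
    have z3 : hh u0 v0 = 0 := hts 0 _ hu0 _ hv0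
    have z4 : hh u1 v1 = 0 := hts 1 _ hu1 _ hv1
    -- cross terms
    have c1 : hh ((α ⟨u0, hu0⟩ : D 1) : Fin n → F) ((α.symm ⟨v1, hv1⟩ : D 0) : Fin n → F) =
        hh u0 v1 := by
      have h1 := hsymm ⟨u0, hu0⟩ (α.symm ⟨v1, hv1⟩)
      rw [LinearEquiv.apply_symm_apply] at h1
      exact h1
    have c2 : hh ((α.symm ⟨u1, hu1⟩ : D 0) : Fin n → F) ((α ⟨v0, hv0⟩ : D 1) : Fin n → F) =
        hh u1 v0 := by
      have h1 := hsymm (α.symm ⟨u1, hu1⟩) ⟨v0, hv0⟩
      rw [LinearEquiv.apply_symm_apply] at h1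
      exact h1.symm
    rw [z1, z2, z3, z4, c1, c2]
  have hsinj : Function.Injective s := by
    rw [← LinearMap.ker_eq_bot, LinearMap.ker_eq_bot']
    intro u hu
    apply hermForm_nd_left hF
    intro y
    rw [← hsiso, hu, hermForm_zero_left]
  let se : (Fin n → F) ≃ₗ[F] (Fin n → F) := LinearEquiv.ofInjectiveEndo s hsinj
  have hse : ∀ x, se x = s x := fun x => rfl
  refine ⟨glOfEquiv' se, ?_, ?_, ?_⟩
  · rw [Helper13.mem_GU_iff]
    intro u v
    rw [glOfEquiv'_mulVec, glOfEquiv'_mulVec, hse, hse]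
    exact hsiso u v
  · intro x hx
    rw [glOfEquiv'_mulVec, hse]
    have := hs0 ⟨x, hx⟩
    simp only at this
    rw [this]
    exact (α _).2
  · intro x hx
    rw [glOfEquiv'_mulVec, hse]
    have := hs1 ⟨x, hx⟩
    simp only at this
    rw [this]
    exact (α.symm _).2

theorem map_eq_of_forall_mem (W W' : Submodule F (Fin n → F)) (g : GL (Fin n) F)
    (hfr : finrank F W = finrank F W')
    (h : ∀ x ∈ W, (g : Matrix (Fin n) (Fin n) F) *ᵥ x ∈ W') :
    W.map (Matrix.toLin' (g : Matrix (Fin n) (Fin n) F)) = W' := by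
  apply Submodule.eq_of_le_of_finrank_eq
  · rintro _ ⟨x, hx, rfl⟩
    rw [Matrix.toLin'_apply]
    exact h x hx
  · rw [gl_map_finrank, hfr]

/-- An element of the special unitary group interchanging the two subspaces. -/
theorem exists_swapU (hF : Fintype.card F = q ^ 2)
    (hts : ∀ i, Cfsg.Geo.IsTotallySingularFor (Cfsg.hermForm n F q) (D i))
    (hD : Cfsg.Geo.IsMDecomposition k D) :
    ∃ s : GL (Fin n) F, s ∈ GG ∧
      (D 0).map (Matrix.toLin' (s : Matrix (Fin n) (Fin n) F)) = D 1 ∧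
      (D 1).map (Matrix.toLin' (s : Matrix (Fin n) (Fin n) F)) = D 0 := by
  obtain ⟨s₀, hs₀GU, hs₀0, hs₀1⟩ := exists_swapU0 D hF hts hD
  have hdet := Helper13.GU_det_pow hF n s₀ hs₀GU
  -- a vector of `D 1` outside the orthogonal complement of `D 0`
  have hk0 : 0 < k := hD.pos
  have hne : ∃ u' ∈ D 1, u' ≠ 0 := by
    have hfr : 0 < finrank F (D 1) := by rw [hD.finrank_eq]; exact hk0
    rw [Module.finrank_pos_iff_exists_ne_zero] at hfr
    obtain ⟨u', hu'⟩ := hfr
    exact ⟨u', u'.2, fun h => hu' (Subtype.ext h)⟩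
  obtain ⟨u', hu'1, hu'0⟩ := hne
  have hu'perp : u' ∉ hperp q (D 0) := by
    intro hmem
    apply hu'0
    apply hermForm_nd_left hF
    intro y
    obtain ⟨y1, hy1, y2, hy2, rfl⟩ := pair_sumU D hD y
    rw [Helper13.hermForm_add_right hF, (mem_hperp _ u').mp hmem y1 hy1,
      hts 1 u' hu'1 y2 hy2, add_zero]
  obtain ⟨d, hdGU, hddet, hd0, hd1⟩ := exists_det_correction_two hF (D 0) (D 1) (hts 0) (hts 1)
    u' hu'1 hu'perp _ hdet
  have hfr01 : finrank F (D 0) = finrank F (D 1) := by rw [hD.finrank_eq, hD.finrank_eq]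
  refine ⟨d * s₀, ⟨Subgroup.mul_mem _ hdGU hs₀GU, ?_⟩, ?_, ?_⟩
  · show d * s₀ ∈ Cfsg.Geo.specialLinear (Fin n) F
    rw [mem_specialLinear_iff, Units.val_mul, Matrix.det_mul, hddet]
    apply inv_mul_cancel₀
    intro h0
    rw [h0, zero_pow (by omega)] at hdet
    exact zero_ne_one hdet
  · apply map_eq_of_forall_mem _ _ _ hfr01
    intro x hx
    rw [Units.val_mul, ← mulVec_mulVec]
    exact hd1 _ (hs₀0 x hx)
  · apply map_eq_of_forall_mem _ _ _ hfr01.symm
    intro x hx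
    rw [Units.val_mul, ← mulVec_mulVec]
    exact hd0 _ (hs₀1 x hx)

end upair4

end Cfsg.Agent.Lib.Helper99
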