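import Cfsg.Agent.Lib.Helper99.UPair4
import Cfsg.Agent.Lib.Helper13.UnitaryGen5

set_option autoImplicit false

/-!
Stabilizer of a pair of complementary totally isotropic subspaces in the special unitary group:
main theorem.
-/

namespace Cfsg.Agent.Lib.Helper99

open Matrix Module

section upair5

variable {F : Type*} [Field F] [Fintype F] {q n k : ℕ}

local notation "hh" => Cfsg.hermForm n F q

local notation "GG" => Cfsg.GU n F q ⊓ Cfsg.Geo.specialLinear (Fin n) F

/-- Adding two transvection directions whose inner product is a nonzero trace-zero element. -/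
theorem inZ_add (hF : Fintype.card F = q ^ 2) (M : Subgroup (GL (Fin n) F)) (hMS : M ≤ GG)
    (u u' : Fin n → F) (hu0 : hh u u = 0) (hu'0 : hh u' u' = 0) (hu : InZ q M u)
    (hu' : InZ q M u') (hne : hh u' u ≠ 0) (htr : hh u' u + (hh u' u) ^ q = 0) :
    InZ q M (u + u') := by
  have h1 := inZ_map M hMS (utv q u (hh u' u)⁻¹) (hu _ (trace_zero_inv hF _ htr)) u' hu'0 hu'
  rw [utv_mulVec u hu0, inv_mul_cancel₀ hne, one_smul, add_comm] at h1
  exact h1

/-- Spreading: a transvection direction in `A` gives all transvections. -/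
theorem LagPairU.inZ_all {hF : Fintype.card F = q ^ 2} {M : Subgroup (GL (Fin n) F)}
    {A A' : Submodule F (Fin n → F)} (P : LagPairU hF M A A') (hMS : M ≤ GG)
    (s : GL (Fin n) F) (hsM : s ∈ M)
    (hsA : A.map (Matrix.toLin' (s : Matrix (Fin n) (Fin n) F)) = A')
    (a₀ : Fin n → F) (ha₀ : a₀ ∈ A) (ha₀0 : a₀ ≠ 0) (hT : InZ q M a₀) :
    ∀ u, hh u u = 0 → InZ q M u := by
  have ha₀iso : hh a₀ a₀ = 0 := P.iso a₀ ha₀ a₀ ha₀
  -- all of `A`
  have hA : ∀ y ∈ A, InZ q M y := by
    intro y hy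
    by_cases hys : y ∈ Submodule.span F {a₀}
    · obtain ⟨c, rfl⟩ := Submodule.mem_span_singleton.mp hys
      exact inZ_smul M hF c a₀ ha₀iso hT
    · have hv : y - a₀ ∈ A := A.sub_mem hy ha₀
      have hns : a₀ ∉ Submodule.span F {y - a₀} := by
        intro h
        obtain ⟨c, hc⟩ := Submodule.mem_span_singleton.mp h
        have hc0 : c ≠ 0 := by
          rintro rfl
          rw [zero_smul] at hc
          exact ha₀0 hc.symm
        apply hys
        rw [Submodule.mem_span_singleton]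
        refine ⟨(1 + c) / c, ?_⟩
        have h1 : c • y = (1 + c) • a₀ := by
          have : c • y = c • (y - a₀) + c • a₀ := by module
          rw [this, hc]
          module
        have h2 : y = c⁻¹ • (c • y) := by rw [smul_smul, inv_mul_cancel₀ hc0, one_smul]
        rw [h2, h1, smul_smul]
        congr 1
        field_simp
      obtain ⟨b, hb, hvb, hab⟩ := P.exists_perp_pair (y - a₀) a₀ hv ha₀ hns
      have hne : tz hF * hh a₀ b ≠ 0 := mul_ne_zero (tz_ne_zero hF) hab
      set μ : F := ((tz hF * hh a₀ b)⁻¹) ^ q with hμ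
      have hμq : μ ^ q = (tz hF * hh a₀ b)⁻¹ := by rw [hμ, Helper13.pow_q_pow_q hF]
      have hb1 : μ • b ∈ A' := A'.smul_mem _ hb
      have hvb1 : hh (y - a₀) (μ • b) = 0 := by
        rw [Helper13.hermForm_smul_right, hvb, mul_zero]
      have hroot := P.base (y - a₀) hv _ hb1 hvb1
      have h3 := inZ_map M hMS _ hroot a₀ ha₀iso hT
      rw [rootU_mulVec hF (P.iso _ hv _ hv) (P.iso' _ hb1 _ hb1) hvb1,
        Helper13.hermForm_smul_right, hμq, P.iso a₀ ha₀ (y - a₀) hv, mul_zero, zero_smul,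
        add_zero] at h3
      have e1 : tz hF * ((tz hF * hh a₀ b)⁻¹ * hh a₀ b) = 1 := by
        have : tz hF * ((tz hF * hh a₀ b)⁻¹ * hh a₀ b) =
            (tz hF * hh a₀ b) * (tz hF * hh a₀ b)⁻¹ := by ring
        rw [this, mul_inv_cancel₀ hne]
      rw [e1, one_smul] at h3
      have : a₀ + (y - a₀) = y := by abel
      rw [this] at h3
      exact h3
  have hA' : ∀ y ∈ A', InZ q M y := by
    intro y hy
    rw [← hsA] at hy
    obtain ⟨x, hx, rfl⟩ := hy
    rw [Matrix.toLin'_apply]
    exact inZ_map M hMS s hsM x (P.iso x hx x hx) (hA x hx)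
  -- sums with nonzero pairing
  have hgen : ∀ x1 ∈ A, ∀ x2 ∈ A', hh x2 x1 ≠ 0 → hh (x1 + x2) (x1 + x2) = 0 →
      InZ q M (x1 + x2) := by
    intro x1 hx1 x2 hx2 hne hiso
    apply inZ_add hF M hMS x1 x2 (P.iso x1 hx1 x1 hx1) (P.iso' x2 hx2 x2 hx2) (hA x1 hx1)
      (hA' x2 hx2) hne
    rw [Helper13.hermForm_add_left, Helper13.hermForm_add_right hF,
      Helper13.hermForm_add_right hF, P.iso x1 hx1 x1 hx1, P.iso' x2 hx2 x2 hx2, zero_add,
      add_zero, ← Helper13.hermForm_conj hF n x2 x1] at hiso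
    rw [add_comm]
    exact hiso
  intro u hu0
  obtain ⟨x1, hx1, x2, hx2, rfl⟩ := P.sum u
  by_cases h10 : x1 = 0
  · rw [h10, zero_add]
    exact hA' x2 hx2
  by_cases hne : hh x2 x1 ≠ 0
  · exact hgen x1 hx1 x2 hx2 hne hu0
  · push Not at hne
    obtain ⟨y2, hy2, hxy⟩ := P.exists_pair x1 hx1 h10
    have hyx : hh y2 x1 ≠ 0 := fun h => hxy (hermForm_eq_zero_comm hF h)
    -- rescale so that `h(y, x1) = τ`
    set y : Fin n → F := (tz hF / hh y2 x1) • y2 with hy
    have hyA' : y ∈ A' := A'.smul_mem _ hy2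
    have hyx1 : hh y x1 = tz hF := by
      rw [hy, Helper13.hermForm_smul_left, div_mul_cancel₀ _ hyx]
    have hx1y : hh x1 y = -tz hF := by
      rw [← Helper13.hermForm_conj hF n y x1, hyx1, tz_pow hF]
    have hx1x2 : hh x1 x2 = 0 := hermForm_eq_zero_comm hF hne
    have hiso1 : hh (x1 + y) (x1 + y) = 0 := by
      rw [Helper13.hermForm_add_left, Helper13.hermForm_add_right hF,
        Helper13.hermForm_add_right hF, P.iso x1 hx1 x1 hx1, P.iso' y hyA' y hyA', hyx1, hx1y]
      ring
    have h1 : InZ q M (x1 + y) := hgen x1 hx1 y hyA' (by rw [hyx1]; exact tz_ne_zero hF) hiso1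
    have h2 : InZ q M (x2 - y) := hA' _ (A'.sub_mem hx2 hyA')
    have hiso2 : hh (x2 - y) (x2 - y) = 0 :=
      P.iso' _ (A'.sub_mem hx2 hyA') _ (A'.sub_mem hx2 hyA')
    have h3 : hh (x2 - y) (x1 + y) = -tz hF := by
      rw [hermForm_sub_left, Helper13.hermForm_add_right hF, Helper13.hermForm_add_right hF,
        hne, P.iso' x2 hx2 y hyA', P.iso' y hyA' y hyA', hyx1]
      ring
    have h4 := inZ_add hF M hMS _ _ hiso1 hiso2 h1 h2
      (by rw [h3]; exact neg_ne_zero.mpr (tz_ne_zero hF))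
      (by rw [h3]; exact neg_tz_trace hF)
    have : x1 + y + (x2 - y) = x1 + x2 := by abel
    rw [this] at h4
    exact h4

/-- The stabilizer of a pair of complementary totally isotropic subspaces of dimension `k ≥ 3` is
maximal in the special unitary group. -/
theorem upair_stabilizer_isMaximalIn (hF : Fintype.card F = q ^ 2) (hk : 3 ≤ k) (hn : 4 ≤ n)
    (D : Fin 2 → Submodule F (Fin n → F)) (hD : Cfsg.Geo.IsMDecomposition k D)
    (hts : ∀ i, Cfsg.Geo.IsTotallySingularFor (Cfsg.hermForm n F q) (D i)) :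
    Cfsg.Geo.IsMaximalIn (Cfsg.GU n F q ⊓ Cfsg.Geo.specialLinear (Fin n) F)
      (Cfsg.Geo.decompositionStabilizer D ⊓
        (Cfsg.GU n F q ⊓ Cfsg.Geo.specialLinear (Fin n) F)) := by
  classical
  obtain ⟨s, hsS, hs0, hs1⟩ := exists_swapU D hF hts hD
  have hsH : s ∈ Cfsg.Geo.decompositionStabilizer D ⊓ GG := by
    refine ⟨⟨Equiv.swap 0 1, fun i => ?_⟩, hsS⟩
    fin_cases i
    · show _ = D (Equiv.swap 0 1 0)
      rw [Equiv.swap_apply_left]
      exact hs0
    · show _ = D (Equiv.swap 0 1 1)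
      rw [Equiv.swap_apply_right]
      exact hs1
  constructor
  · rw [lt_iff_le_and_ne]
    refine ⟨inf_le_right, fun heq => ?_⟩
    have P := basePairU D hF hD hts hk _ (le_refl (Cfsg.Geo.decompositionStabilizer D ⊓ GG))
    obtain ⟨a, ha, ha0, _, _⟩ := exists_ne_zero_hperp_two hF (D 0) P.dim 0 0
    obtain ⟨b, hb, hab⟩ := P.exists_pair a ha ha0
    have hba : hh b a ≠ 0 := fun h => hab (hermForm_eq_zero_comm hF h)
    have haa : hh a a = 0 := hts 0 a ha a ha
    have h1 : utv q a (tz hF) ∈ GG := utv_mem_suGL hF a haa _ (tz_trace hF)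
    rw [← heq] at h1
    obtain ⟨σ, hσ⟩ := h1.1
    have h3 : ((utv q a (tz hF) : GL (Fin n) F) : Matrix (Fin n) (Fin n) F) *ᵥ b ∈ D (σ 1) := by
      rw [← hσ 1]
      exact ⟨b, hb, by rw [Matrix.toLin'_apply]⟩
    rw [utv_mulVec a haa] at h3
    have hne : tz hF * hh b a ≠ 0 := mul_ne_zero (tz_ne_zero hF) hba
    have hcases : σ 1 = 0 ∨ σ 1 = 1 := by
      generalize σ 1 = j
      fin_cases j
      · left; rfl
      · right; rfl
    rcases hcases with h | h
    · rw [h] at h3
      have hb0 : b ∈ D 0 := by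
        have : b = (b + (tz hF * hh b a) • a) - (tz hF * hh b a) • a := by abel
        rw [this]
        exact (D 0).sub_mem h3 ((D 0).smul_mem _ ha)
      apply hab
      rw [pair_disjointU D hF hts hD b hb0 hb, hermForm_zero_right hF]
    · rw [h] at h3
      have h4 : (tz hF * hh b a) • a ∈ D 1 := by
        have : (tz hF * hh b a) • a = (b + (tz hF * hh b a) • a) - b := by abel
        rw [this]
        exact (D 1).sub_mem h3 hb
      have h5 : a ∈ D 1 := by
        have : a = (tz hF * hh b a)⁻¹ • ((tz hF * hh b a) • a) := by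
          rw [smul_smul, inv_mul_cancel₀ hne, one_smul]
        rw [this]
        exact (D 1).smul_mem _ h4
      exact ha0 (pair_disjointU D hF hts hD a ha h5)
  · intro M hHM hMS
    by_cases hMH : M ≤ Cfsg.Geo.decompositionStabilizer D ⊓ GG
    · left
      exact le_antisymm hMH hHM
    · right
      obtain ⟨g, hgM, hgH⟩ := SetLike.not_le_iff_exists.mp hMH
      have hgD : g ∉ Cfsg.Geo.decompositionStabilizer D := fun h => hgH ⟨h, hMS hgM⟩
      have P := basePairU D hF hD hts hk M hHM
      have hsM : s ∈ M := hHM hsH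
      have hfin : (∀ u, hh u u = 0 → InZ q M u) → M = GG := by
        intro hall
        have hTM : utvGroup n q F ≤ M := by
          unfold utvGroup
          rw [Subgroup.closure_le]
          rintro t ⟨u, c, hu0, hc, rfl⟩
          exact hall u hu0 c hc
        apply le_antisymm hMS
        exact le_trans (Helper13.suGL_le_utvGroup hF n (by omega) (by omega)) hTM
      by_cases hT0 : ∃ a ∈ D 0, a ≠ 0 ∧ InZ q M a
      · obtain ⟨a, ha, ha0, haT⟩ := hT0
        exact hfin (P.inZ_all hMS s hsM hs0 a ha ha0 haT)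
      by_cases hT1 : ∃ a ∈ D 1, a ≠ 0 ∧ InZ q M a
      · obtain ⟨a, ha, ha0, haT⟩ := hT1
        exact hfin (P.symm.inZ_all hMS s hsM hs1 a ha ha0 haT)
      exfalso
      push Not at hT0 hT1
      apply hgD
      apply mem_pairStab_of_no_utv D hF hD hts hk M hHM hMS _ _ g hgM
      · intro a ha hT
        by_contra h0
        exact hT0 a ha h0 hT
      · intro a ha hT
        by_contra h0
        exact hT1 a ha h0 hT

end upair5

end Cfsg.Agent.Lib.Helper99
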