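import Cfsg.Agent.Lib.Helper99.UnitaryND1

set_option autoImplicit false

/-!
The stabilizer of a nondegenerate subspace in `SU`: transitivity on mixed vectors.
-/

namespace Cfsg.Agent.Lib.Helper99

open Matrix

section und2

variable {F : Type*} [Field F] [Fintype F] {q n : ℕ}

local notation "hh" => Cfsg.hermForm n F q

/-- A quasi-reflection with prescribed determinant of norm one. -/
theorem exists_qrefl (hF : Fintype.card F = q ^ 2) (z : Fin n → F) (hz : hh z z ≠ 0) (ε : F)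
    (hε : ε ^ (q + 1) = 1) :
    ∃ d : GL (Fin n) F, d ∈ Cfsg.GU n F q ∧ (d : Matrix (Fin n) (Fin n) F).det = ε ∧
      ∀ x, hh x z = 0 → (d : Matrix (Fin n) (Fin n) F) *ᵥ x = x := by
  have hε0 : ε ≠ 0 := by
    rintro rfl
    rw [zero_pow (by omega)] at hε
    exact zero_ne_one hε
  set N := hh z z with hN
  have hNq : N ^ q = N := hermForm_self_pow hF z
  set κ := (ε - 1) / N with hκ
  set d : GL (Fin n) F := rk1GL z (fun j => κ * (z j) ^ q) with hd
  have hκN : κ * N = ε - 1 := by rw [hκ, div_mul_cancel₀ _ hz]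
  have hne : 1 + (fun j => κ * (z j) ^ q) ⬝ᵥ z ≠ 0 := by
    rw [utv_dot, ← hN, hκN, add_sub_cancel]
    exact hε0
  have hdx : ∀ x, (d : Matrix (Fin n) (Fin n) F) *ᵥ x = x + (κ * hh x z) • z := by
    intro x
    rw [hd, coe_rk1GL _ _ hne, rk1_mulVec, utv_dot]
  have hεε : ε ^ q * ε = 1 := by rw [← pow_succ]; exact hε
  have hκq : κ ^ q = (ε ^ q - 1) / N := by
    rw [hκ, div_pow, frob_sub hF, one_pow, hNq]
  have hkey : κ ^ q + κ + κ * κ ^ q * N = 0 := by
    rw [hκq, hκ]
    field_simp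
    linear_combination hεε
  refine ⟨d, ?_, ?_, ?_⟩
  · rw [Helper13.mem_GU_iff]
    intro x y
    rw [hdx, hdx]
    simp only [Helper13.hermForm_add_left, Helper13.hermForm_add_right hF,
      Helper13.hermForm_smul_left, Helper13.hermForm_smul_right, mul_pow]
    have e1 : (hh y z) ^ q = hh z y := Helper13.hermForm_conj hF n y z
    rw [e1, ← hN]
    linear_combination (hh x z * hh z y) * hkey
  · rw [hd, coe_rk1GL _ _ hne, det_rk1, utv_dot, ← hN, hκN, add_sub_cancel]
  · intro x hx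
    rw [hdx, hx, mul_zero, zero_smul, add_zero]

/-- Witt: an isometry fixing the orthogonal complement of a nondegenerate subspace `U` pointwise
and moving a vector of `U` to another one of the same norm. -/
theorem exists_GU_map_nd (hF : Fintype.card F = q ^ 2) {U : Submodule F (Fin n → F)}
    (h : NdOn q U) (x x' : Fin n → F) (hx : x ∈ U) (hx' : x' ∈ U) (hx0 : x ≠ 0) (hx'0 : x' ≠ 0)
    (hxx : hh x x = hh x' x') :
    ∃ g : GL (Fin n) F, g ∈ Cfsg.GU n F q ∧
      (∀ y ∈ hperp q U, (g : Matrix (Fin n) (Fin n) F) *ᵥ y = y) ∧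
      (∀ w ∈ U, (g : Matrix (Fin n) (Fin n) F) *ᵥ w ∈ U) ∧
      (g : Matrix (Fin n) (Fin n) F) *ᵥ x = x' := by
  set k := Module.finrank F (hperp q U) with hk
  let c : Module.Basis (Fin k) F (hperp q U) := Module.finBasis F (hperp q U)
  let X : Fin (k + 1) → (Fin n → F) :=
    Fin.snoc (fun i => ((c i : hperp q U) : Fin n → F)) x
  let Y : Fin (k + 1) → (Fin n → F) :=
    Fin.snoc (fun i => ((c i : hperp q U) : Fin n → F)) x'
  have hli : LinearIndependent F (fun i => ((c i : hperp q U) : Fin n → F)) :=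
    c.linearIndependent.map' (hperp q U).subtype (Submodule.ker_subtype _)
  have hdisj := Submodule.disjoint_def.mp (nd_disjoint hF h)
  have hX : LinearIndependent F X := by
    rw [linearIndependent_finSnoc]
    refine ⟨hli, ?_⟩
    rw [span_basis_eq (hperp q U) c]
    exact fun hmem => hx0 (hdisj x hx hmem)
  have hY : LinearIndependent F Y := by
    rw [linearIndependent_finSnoc]
    refine ⟨hli, ?_⟩
    rw [span_basis_eq (hperp q U) c]
    exact fun hmem => hx'0 (hdisj x' hx' hmem)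
  have hcU : ∀ i, ∀ w ∈ U, hh ((c i : hperp q U) : Fin n → F) w = 0 := fun i w hw =>
    (mem_hperp U _).mp (c i).2 w hw
  have hUc : ∀ i, ∀ w ∈ U, hh w ((c i : hperp q U) : Fin n → F) = 0 := fun i w hw =>
    hermForm_eq_zero_comm hF (hcU i w hw)
  have hgram : ∀ i j, hermB hF n (Y i) (Y j) = hermB hF n (X i) (X j) := by
    intro i j
    rw [hermB_apply, hermB_apply]
    refine Fin.lastCases ?_ (fun i' => ?_) i <;> refine Fin.lastCases ?_ (fun j' => ?_) j
    · simp only [X, Y, Fin.snoc_last]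
      exact hxx.symm
    · simp only [X, Y, Fin.snoc_last, Fin.snoc_castSucc]
      rw [hcU j' x hx, hcU j' x' hx']
    · simp only [X, Y, Fin.snoc_last, Fin.snoc_castSucc]
      rw [hUc i' x hx, hUc i' x' hx']
    · simp only [X, Y, Fin.snoc_castSucc]
  obtain ⟨g, hgiso, hgx⟩ := Helper8.witt_family_herm (frobU hF) (frobU_ne_id hF) (frobU_frobU hF)
    (hermB hF n) (hermB_isSymm hF) (hermB_nondegenerate hF) (k + 1) X Y hX hY hgram
  have hgc : ∀ i, g ((c i : hperp q U) : Fin n → F) = ((c i : hperp q U) : Fin n → F) := by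
    intro i
    have := hgx i.castSucc
    simpa only [X, Y, Fin.snoc_castSucc] using this
  have hgxx : g x = x' := by
    have := hgx (Fin.last k)
    simpa only [X, Y, Fin.snoc_last] using this
  have hgfix : ∀ y : hperp q U, g (y : Fin n → F) = (y : Fin n → F) := by
    have : (g : (Fin n → F) →ₗ[F] (Fin n → F)).comp (hperp q U).subtype =
        (hperp q U).subtype := by
      apply c.ext
      intro i
      simp only [LinearMap.comp_apply, Submodule.subtype_apply, LinearEquiv.coe_coe]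
      exact hgc i
    intro y
    exact LinearMap.congr_fun this y
  have hiso : ∀ u v, hh (g u) (g v) = hh u v := fun u v => hgiso v u
  refine ⟨glOfEquiv' g, ?_, ?_, ?_, ?_⟩
  · rw [Helper13.mem_GU_iff]
    intro a b
    rw [glOfEquiv'_mulVec, glOfEquiv'_mulVec]
    exact hiso a b
  · intro y hy
    rw [glOfEquiv'_mulVec]
    exact hgfix ⟨y, hy⟩
  · intro w hw
    rw [glOfEquiv'_mulVec, ← hperp_hperp hF U, mem_hperp]
    intro y hy
    have h1 := hiso w y
    rw [hgfix ⟨y, hy⟩] at h1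
    rw [h1]
    exact hermForm_eq_zero_comm hF ((mem_hperp U y).mp hy w hw)
  · rw [glOfEquiv'_mulVec]
    exact hgxx

/-- The stabilizer in `SU` of a nondegenerate subspace `W` is transitive on mixed vectors with
given norms of the components. -/
theorem exists_stab_map_und (hF : Fintype.card F = q ^ 2) {W : Submodule F (Fin n → F)}
    (h : NdOn q W) (hfr : 3 ≤ Module.finrank F (hperp q W)) (a a' b b' : Fin n → F)
    (ha : a ∈ W) (ha' : a' ∈ W) (hb : b ∈ hperp q W) (hb' : b' ∈ hperp q W)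
    (ha0 : a ≠ 0) (ha'0 : a' ≠ 0) (hb0 : b ≠ 0) (hb'0 : b' ≠ 0)
    (haa : hh a a = hh a' a') (hbb : hh b b = hh b' b') :
    ∃ p : GL (Fin n) F, p ∈ suGL (F := F) n q ∧ p ∈ Cfsg.Geo.subspaceStabilizer W ∧
      (p : Matrix (Fin n) (Fin n) F) *ᵥ (a + b) = a' + b' := by
  obtain ⟨g₁, hg₁GU, hg₁fix, hg₁W, hg₁a⟩ := exists_GU_map_nd hF h a a' ha ha' ha0 ha'0 haa
  obtain ⟨g₂, hg₂GU, hg₂fix, -, hg₂b⟩ := exists_GU_map_nd hF (nd_hperp hF h) b b' hb hb' hb0
    hb'0 hbb
  rw [hperp_hperp hF W] at hg₂fix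
  obtain ⟨z, hzW, hzb', hzz⟩ := exists_anisotropic_room hF (nd_hperp hF h)
    (Submodule.span F {b'}) (by have := finrank_span_singleton_le' b'; omega)
  have hgGU : g₂ * g₁ ∈ Cfsg.GU n F q := Subgroup.mul_mem _ hg₂GU hg₁GU
  have hdet := Helper13.GU_det_pow hF n (g₂ * g₁) hgGU
  set δ := ((g₂ * g₁ : GL (Fin n) F) : Matrix (Fin n) (Fin n) F).det with hδ
  have hδ0 : δ ≠ 0 := by
    intro h0
    rw [h0, zero_pow (by omega)] at hdet
    exact zero_ne_one hdet
  obtain ⟨d, hdGU, hddet, hdfix⟩ := exists_qrefl hF z hzz δ⁻¹ (by rw [inv_pow, hdet, inv_one])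
  have hWz : ∀ w ∈ W, hh w z = 0 := fun w hw => (mem_hperp' hF W z).mp hzW w hw
  have hb'z : hh b' z = 0 :=
    hermForm_eq_zero_comm hF ((mem_hperp _ z).mp hzb' b' (Submodule.mem_span_singleton_self b'))
  refine ⟨d * (g₂ * g₁), ⟨Subgroup.mul_mem _ hdGU hgGU, ?_⟩, ?_, ?_⟩
  · show d * (g₂ * g₁) ∈ Cfsg.Geo.specialLinear (Fin n) F
    rw [mem_specialLinear_iff, Units.val_mul, Matrix.det_mul, hddet, ← hδ, inv_mul_cancel₀ hδ0]
  · apply mem_subspaceStabilizer_of_forall
    intro w hw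
    rw [Units.val_mul, Units.val_mul, ← mulVec_mulVec, ← mulVec_mulVec,
      hg₂fix _ (hg₁W w hw), hdfix _ (hWz _ (hg₁W w hw))]
    exact hg₁W w hw
  · rw [Units.val_mul, Units.val_mul, ← mulVec_mulVec, ← mulVec_mulVec, mulVec_add, hg₁a,
      hg₁fix b hb, mulVec_add, hg₂fix a' ha', hg₂b, mulVec_add, hdfix a' (hWz a' ha'),
      hdfix b' hb'z]

end und2

end Cfsg.Agent.Lib.Helper99
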