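import Cfsg.Agent.Lib.Helper99.UnitaryND2

set_option autoImplicit false

/-!
The transvection group is transitive enough: `SU = T · Stab(W)` for a nondegenerate subspace `W`.
-/

namespace Cfsg.Agent.Lib.Helper99

open Matrix

section und3

variable {F : Type*} [Field F] [Fintype F] {q n : ℕ}

local notation "hh" => Cfsg.hermForm n F q

theorem trace_zero_inv (hF : Fintype.card F = q ^ 2) (c : F) (hc : c + c ^ q = 0) :
    c⁻¹ + (c⁻¹) ^ q = 0 := by
  have hcq : c ^ q = -c := eq_neg_of_add_eq_zero_right hc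
  rw [inv_pow, hcq, inv_neg, add_neg_cancel]

/-- One transvection moves `p` to `z` when `z - p` is isotropic and `h(p, z - p) ≠ 0`. -/
theorem utv_move_one (hF : Fintype.card F = q ^ 2) (p z : Fin n → F)
    (hd : hh (z - p) (z - p) = 0) (hpd : hh p (z - p) ≠ 0)
    (htr : hh p (z - p) + (hh p (z - p)) ^ q = 0) :
    ∃ c : F, c + c ^ q = 0 ∧
      ((utv q (z - p) c : GL (Fin n) F) : Matrix (Fin n) (Fin n) F) *ᵥ p = z := by
  refine ⟨(hh p (z - p))⁻¹, trace_zero_inv hF _ htr, ?_⟩
  rw [utv_mulVec _ hd, inv_mul_cancel₀ hpd, one_smul]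
  abel

/-- Moving `p` to an orthogonal vector `r` of the same nonzero norm by transvections with
directions in `U ⊇ W^⊥`. -/
theorem exists_utv_map_orth (hF : Fintype.card F = q ^ 2) {W : Submodule F (Fin n → F)}
    (h : NdOn q W) (hfr : 5 ≤ Module.finrank F (hperp q W)) (U : Submodule F (Fin n → F))
    (hWU : hperp q W ≤ U) (p r : Fin n → F) (hp : p ∈ U) (hr : r ∈ U) (hpr : hh p r = 0)
    (hpp : hh p p ≠ 0) (hrr : hh r r = hh p p) :
    ∃ t ∈ utvGroup n q F,
      (∀ w, (∀ y ∈ U, hh w y = 0) → (t : Matrix (Fin n) (Fin n) F) *ᵥ w = w) ∧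
      (t : Matrix (Fin n) (Fin n) F) *ᵥ p = r := by
  obtain ⟨τ, hτ0, hτ⟩ := exists_trace_zero hF
  have hτq : τ ^ q = -τ := eq_neg_of_add_eq_zero_right hτ
  set s := hh p p with hs
  have hsq : s ^ q = s := hermForm_self_pow hF p
  have hrp : hh r p = 0 := hermForm_eq_zero_comm hF hpr
  set e : Fin n → F := (1 + τ) • (p + r) with he
  have heU : e ∈ U := U.smul_mem _ (U.add_mem hp hr)
  obtain ⟨f, hfW, hfS, hff⟩ := exists_norm_vector_room hF (nd_hperp hF h)
    (Submodule.span F {p, r}) (by have := finrank_span_pair_le' p r; omega) (s - hh e e)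
    (by rw [frob_sub hF, hsq, hermForm_self_pow hF])
  have hfp : hh f p = 0 :=
    (mem_hperp _ f).mp hfS p (Submodule.subset_span (by simp))
  have hfr' : hh f r = 0 :=
    (mem_hperp _ f).mp hfS r (Submodule.subset_span (by simp))
  have hep : hh e p = (1 + τ) * s := by
    rw [he, Helper13.hermForm_smul_left, Helper13.hermForm_add_left, hrp, add_zero]
  have her : hh e r = (1 + τ) * s := by
    rw [he, Helper13.hermForm_smul_left, Helper13.hermForm_add_left, hpr, zero_add, hrr]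
  have hfe : hh f e = 0 := by
    rw [he, Helper13.hermForm_smul_right, Helper13.hermForm_add_right hF, hfp, hfr', add_zero,
      mul_zero]
  have hef : hh e f = 0 := hermForm_eq_zero_comm hF hfe
  set z := e + f with hz
  have hzU : z ∈ U := U.add_mem heU (hWU hfW)
  have hzz : hh z z = s := by
    rw [hz, Helper13.hermForm_add_left, Helper13.hermForm_add_right hF,
      Helper13.hermForm_add_right hF, hef, hfe, hff]
    ring
  have hzp : hh z p = (1 + τ) * s := by
    rw [hz, Helper13.hermForm_add_left, hep, hfp, add_zero]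
  have hzr : hh z r = (1 + τ) * s := by
    rw [hz, Helper13.hermForm_add_left, her, hfr', add_zero]
  have hpz : hh p z = (1 - τ) * s := by
    rw [← Helper13.hermForm_conj hF n z p, hzp, mul_pow, frob_add hF, one_pow, hτq, hsq]
    ring
  have hrz : hh r z = (1 - τ) * s := by
    rw [← Helper13.hermForm_conj hF n z r, hzr, mul_pow, frob_add hF, one_pow, hτq, hsq]
    ring
  -- first move
  have hd₁ : hh (z - p) (z - p) = 0 := by
    rw [hermForm_sub_left, hermForm_sub_right hF, hermForm_sub_right hF, hzz, hzp, hpz]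
    ring
  have hpd₁ : hh p (z - p) = -(τ * s) := by
    rw [hermForm_sub_right hF, hpz]
    ring
  have hτs : τ * s ≠ 0 := mul_ne_zero hτ0 hpp
  have hτsq : (τ * s) ^ q = -(τ * s) := by rw [mul_pow, hτq, hsq]; ring
  obtain ⟨c₁, hc₁, ht₁⟩ := utv_move_one hF p z hd₁ (by rw [hpd₁]; exact neg_ne_zero.mpr hτs)
    (by rw [hpd₁, frob_neg hF, hτsq]; ring)
  -- second move
  have hd₂ : hh (r - z) (r - z) = 0 := by
    rw [hermForm_sub_left, hermForm_sub_right hF, hermForm_sub_right hF, hzz, hzr, hrz, hrr]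
    ring
  have hzd₂ : hh z (r - z) = τ * s := by
    rw [hermForm_sub_right hF, hzr, hzz]
    ring
  obtain ⟨c₂, hc₂, ht₂⟩ := utv_move_one hF z r hd₂ (by rw [hzd₂]; exact hτs)
    (by rw [hzd₂, hτsq]; ring)
  refine ⟨utv q (r - z) c₂ * utv q (z - p) c₁,
    Subgroup.mul_mem _ (utv_mem_utvGroup _ hd₂ _ hc₂) (utv_mem_utvGroup _ hd₁ _ hc₁), ?_, ?_⟩
  · intro w hw
    rw [Units.val_mul, ← mulVec_mulVec, utv_mulVec _ hd₁, hermForm_sub_right hF, hw z hzU,
      hw p hp, sub_zero, mul_zero, zero_smul, add_zero, utv_mulVec _ hd₂, hermForm_sub_right hF,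
      hw r hr, hw z hzU, sub_zero, mul_zero, zero_smul, add_zero]
  · rw [Units.val_mul, ← mulVec_mulVec, ht₁, ht₂]

/-- Moving `y` to any vector `a` of the same nonzero norm. -/
theorem exists_utv_map_norm (hF : Fintype.card F = q ^ 2) {W : Submodule F (Fin n → F)}
    (h : NdOn q W) (hfr : 5 ≤ Module.finrank F (hperp q W)) (U : Submodule F (Fin n → F))
    (hWU : hperp q W ≤ U) (y a : Fin n → F) (hy : y ∈ U) (ha : a ∈ U)
    (hyy : hh y y ≠ 0) (haa : hh a a = hh y y) :
    ∃ t ∈ utvGroup n q F,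
      (∀ w, (∀ y ∈ U, hh w y = 0) → (t : Matrix (Fin n) (Fin n) F) *ᵥ w = w) ∧
      (t : Matrix (Fin n) (Fin n) F) *ᵥ y = a := by
  obtain ⟨m, hmW, hmS, hmm⟩ := exists_norm_vector_room hF (nd_hperp hF h)
    (Submodule.span F {y, a}) (by have := finrank_span_pair_le' y a; omega) (hh y y)
    (hermForm_self_pow hF y)
  have hmy : hh m y = 0 := (mem_hperp _ m).mp hmS y (Submodule.subset_span (by simp))
  have hma : hh m a = 0 := (mem_hperp _ m).mp hmS a (Submodule.subset_span (by simp))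
  have hym : hh y m = 0 := hermForm_eq_zero_comm hF hmy
  obtain ⟨t₁, ht₁, ht₁fix, ht₁y⟩ := exists_utv_map_orth hF h hfr U hWU y m hy (hWU hmW) hym hyy hmm
  obtain ⟨t₂, ht₂, ht₂fix, ht₂m⟩ := exists_utv_map_orth hF h hfr U hWU m a (hWU hmW) ha hma
    (by rw [hmm]; exact hyy) (by rw [haa, hmm])
  refine ⟨t₂ * t₁, Subgroup.mul_mem _ ht₂ ht₁, ?_, ?_⟩
  · intro w hw
    rw [Units.val_mul, ← mulVec_mulVec, ht₁fix w hw, ht₂fix w hw]
  · rw [Units.val_mul, ← mulVec_mulVec, ht₁y, ht₂m]

/-- Extending a nondegenerate subspace `X < W` by an anisotropic vector of `W` orthogonal to it. -/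
theorem exists_nd_extend (hF : Fintype.card F = q ^ 2) {W X : Submodule F (Fin n → F)}
    (h : NdOn q W) (hX : NdOn q X) (hXW : X ≤ W) (hne : X ≠ W) :
    ∃ a ∈ W, a ∈ hperp q X ∧ hh a a ≠ 0 := by
  have hnd : NdOn q (W ⊓ hperp q X) := by
    intro v hv hv0
    obtain ⟨y, hy, hyv⟩ := h v hv.1 hv0
    obtain ⟨y₁, hy₁, y', hy', hyy⟩ := nd_decomp hF hX y
    have hy'W : y' ∈ W := by
      have : y' = y - y₁ := by rw [← hyy]; abel
      rw [this]
      exact W.sub_mem hy (hXW hy₁)
    refine ⟨y', ⟨hy'W, hy'⟩, ?_⟩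
    rw [← hyy, Helper13.hermForm_add_left, (mem_hperp' hF X v).mp hv.2 y₁ hy₁, zero_add] at hyv
    exact hyv
  have hpos : 0 < Module.finrank F (W ⊓ hperp q X : Submodule F (Fin n → F)) := by
    obtain ⟨w, hw, hwX⟩ := SetLike.exists_of_lt (lt_of_le_of_ne hXW hne)
    obtain ⟨w₁, hw₁, w', hw', hww⟩ := nd_decomp hF hX w
    have hw'W : w' ∈ W := by
      have : w' = w - w₁ := by rw [← hww]; abel
      rw [this]
      exact W.sub_mem hw (hXW hw₁)
    have hw'0 : w' ≠ 0 := by
      rintro rfl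
      rw [add_zero] at hww
      exact hwX (hww ▸ hw₁)
    rw [Module.finrank_pos_iff_exists_ne_zero]
    exact ⟨⟨w', hw'W, hw'⟩, fun h0 => hw'0 (congrArg Subtype.val h0)⟩
  obtain ⟨a, ha, -, haa⟩ := exists_anisotropic_room hF hnd ⊥ (by rw [finrank_bot]; omega)
  exact ⟨a, ha.1, ha.2, haa⟩

theorem nd_sup_span (hF : Fintype.card F = q ^ 2) {X : Submodule F (Fin n → F)}
    (hX : NdOn q X) (a : Fin n → F) (haX : a ∈ hperp q X) (haa : hh a a ≠ 0) :
    NdOn q (X ⊔ Submodule.span F {a}) := by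
  intro v hv hv0
  obtain ⟨x₁, hx₁, a', ha', rfl⟩ := Submodule.mem_sup.mp hv
  obtain ⟨l, rfl⟩ := Submodule.mem_span_singleton.mp ha'
  by_cases hx₁0 : x₁ = 0
  · subst hx₁0
    rw [zero_add] at hv0 ⊢
    have hl : l ≠ 0 := by
      rintro rfl
      exact hv0 (zero_smul _ _)
    refine ⟨a, Submodule.mem_sup_right (Submodule.mem_span_singleton_self a), ?_⟩
    rw [Helper13.hermForm_smul_right]
    exact mul_ne_zero (pow_ne_zero _ hl) haa
  · obtain ⟨y, hy, hyx⟩ := hX x₁ hx₁ hx₁0
    refine ⟨y, Submodule.mem_sup_left hy, ?_⟩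
    rw [Helper13.hermForm_add_right hF, Helper13.hermForm_smul_right,
      (mem_hperp' hF X a).mp haX y hy, mul_zero, add_zero]
    exact hyx

theorem finrank_sup_span (hF : Fintype.card F = q ^ 2) {X : Submodule F (Fin n → F)}
    (hX : NdOn q X) (a : Fin n → F) (haX : a ∈ hperp q X) (ha0 : a ≠ 0) :
    Module.finrank F (X ⊔ Submodule.span F {a} : Submodule F (Fin n → F)) =
      Module.finrank F X + 1 := by
  have h1 := Submodule.finrank_sup_add_finrank_inf_eq X (Submodule.span F {a})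
  have h2 : X ⊓ Submodule.span F {a} = ⊥ := by
    rw [eq_bot_iff]
    rintro x ⟨hx, hxa⟩
    have hxp : x ∈ hperp q X := by
      obtain ⟨l, rfl⟩ := Submodule.mem_span_singleton.mp hxa
      exact (hperp q X).smul_mem _ haX
    have := (Submodule.disjoint_def.mp (nd_disjoint hF hX)) x hx hxp
    rw [this]
    exact Submodule.zero_mem _
  rw [h2, finrank_bot, add_zero, finrank_span_singleton ha0] at h1
  exact h1

/-- The frame induction. -/
theorem exists_utv_fix (hF : Fintype.card F = q ^ 2) {W : Submodule F (Fin n → F)}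
    (h : NdOn q W) (hfr : 5 ≤ Module.finrank F (hperp q W)) (x : GL (Fin n) F)
    (hx : x ∈ Cfsg.GU n F q) : ∀ (d : ℕ) (X : Submodule F (Fin n → F)), X ≤ W → NdOn q X →
    Module.finrank F X + d = Module.finrank F W →
    (∃ t ∈ utvGroup n q F, ∀ w ∈ X, (t : Matrix (Fin n) (Fin n) F) *ᵥ
      ((x : Matrix (Fin n) (Fin n) F) *ᵥ w) = w) →
    ∃ t ∈ utvGroup n q F, ∀ w ∈ W, (t : Matrix (Fin n) (Fin n) F) *ᵥ
      ((x : Matrix (Fin n) (Fin n) F) *ᵥ w) = w := by
  intro d
  induction d with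
  | zero =>
    intro X hXW _ hfrX hex
    have : X = W := Submodule.eq_of_le_of_finrank_le hXW (by omega)
    rw [← this]
    exact hex
  | succ d ih =>
    intro X hXW hX hfrX hex
    have hne : X ≠ W := by
      rintro rfl
      omega
    obtain ⟨a, haW, haX, haa⟩ := exists_nd_extend hF h hX hXW hne
    have ha0 : a ≠ 0 := by
      rintro rfl
      exact haa (hermForm_zero_left 0)
    obtain ⟨t, ht, htX⟩ := hex
    have htGU : t ∈ Cfsg.GU n F q := (utvGroup_le_suGL hF ht).1
    set y := (t : Matrix (Fin n) (Fin n) F) *ᵥ ((x : Matrix (Fin n) (Fin n) F) *ᵥ a) with hy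
    have hyX : y ∈ hperp q X := by
      rw [mem_hperp]
      intro w hw
      have h1 : hh y ((t : Matrix (Fin n) (Fin n) F) *ᵥ ((x : Matrix (Fin n) (Fin n) F) *ᵥ w)) =
          hh a w := by
        rw [hy, GU_preserves htGU, GU_preserves hx]
      rw [htX w hw] at h1
      rw [h1]
      exact (mem_hperp X a).mp haX w hw
    have hyy : hh y y = hh a a := by
      rw [hy, GU_preserves htGU, GU_preserves hx]
    have hWU : hperp q W ≤ hperp q X := by
      intro v hv
      rw [mem_hperp] at hv ⊢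
      exact fun w hw => hv w (hXW hw)
    obtain ⟨t', ht', ht'fix, ht'y⟩ := exists_utv_map_norm hF h hfr (hperp q X) hWU y a hyX haX
      (by rw [hyy]; exact haa) hyy.symm
    apply ih (X ⊔ Submodule.span F {a})
      (sup_le hXW ((Submodule.span_singleton_le_iff_mem a W).mpr haW))
      (nd_sup_span hF hX a haX haa)
      (by rw [finrank_sup_span hF hX a haX ha0]; omega)
    refine ⟨t' * t, Subgroup.mul_mem _ ht' ht, ?_⟩
    intro w hw
    obtain ⟨x₁, hx₁, a', ha', rfl⟩ := Submodule.mem_sup.mp hw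
    obtain ⟨l, rfl⟩ := Submodule.mem_span_singleton.mp ha'
    rw [Units.val_mul, ← mulVec_mulVec, mulVec_add, mulVec_add, mulVec_smul, mulVec_smul,
      htX x₁ hx₁, ← hy, mulVec_add, mulVec_smul, ht'y]
    congr 1
    apply ht'fix
    intro v hv
    exact hermForm_eq_zero_comm hF ((mem_hperp X v).mp hv x₁ hx₁)

/-- `SU = T · Stab(W)` for a nondegenerate subspace `W` with enough room. -/
theorem exists_utv_mul_mem_stabilizer (hF : Fintype.card F = q ^ 2)
    {W : Submodule F (Fin n → F)} (h : NdOn q W) (hfr : 5 ≤ Module.finrank F (hperp q W))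
    (x : GL (Fin n) F) (hx : x ∈ Cfsg.GU n F q) :
    ∃ t ∈ utvGroup n q F, t * x ∈ Cfsg.Geo.subspaceStabilizer W := by
  obtain ⟨t, ht, htW⟩ := exists_utv_fix hF h hfr x hx (Module.finrank F W) ⊥ bot_le
    (fun u hu hu0 => absurd ((Submodule.mem_bot F).mp hu) hu0)
    (by rw [finrank_bot, zero_add])
    ⟨1, Subgroup.one_mem _, fun w hw => by
      rw [(Submodule.mem_bot F).mp hw, mulVec_zero, mulVec_zero]⟩
  refine ⟨t, ht, ?_⟩
  apply mem_subspaceStabilizer_of_forall
  intro w hw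
  rw [Units.val_mul, ← mulVec_mulVec, htW w hw]
  exact hw

end und3

end Cfsg.Agent.Lib.Helper99
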