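import Cfsg.Agent.Lib.Helper99.UnitaryND4

set_option autoImplicit false

/-!
The stabilizer of a nondegenerate subspace is maximal in the special unitary group: main theorem.
-/

namespace Cfsg.Agent.Lib.Helper99

open Matrix

section und5

variable {F : Type*} [Field F] [Fintype F] {q n : ℕ}

local notation "hh" => Cfsg.hermForm n F q

local notation "GG" => Cfsg.GU n F q ⊓ Cfsg.Geo.specialLinear (Fin n) F

/-- If `g` maps all isotropic vectors of the nondegenerate subspace `U` into `X`, it maps `U`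
into `X`. -/
theorem map_le_of_isotropic (hF : Fintype.card F = q ^ 2) {U : Submodule F (Fin n → F)}
    (h : NdOn q U) (hU : 3 ≤ Module.finrank F U) (X : Submodule F (Fin n → F))
    (g : GL (Fin n) F)
    (hg : ∀ b ∈ U, hh b b = 0 → (g : Matrix (Fin n) (Fin n) F) *ᵥ b ∈ X) :
    ∀ x ∈ U, (g : Matrix (Fin n) (Fin n) F) *ᵥ x ∈ X := by
  obtain ⟨y, hy, hy0, hyy⟩ := exists_isotropic_nd hF h hU
  have hspan := span_isotropic_nd hF h y hy hy0 hyy
  intro x hx
  have hle : Submodule.span F {z | z ∈ U ∧ hh z z = 0} ≤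
      X.comap (Matrix.toLin' (g : Matrix (Fin n) (Fin n) F)) := by
    rw [Submodule.span_le]
    rintro z ⟨hz, hz0⟩
    show Matrix.toLin' (g : Matrix (Fin n) (Fin n) F) z ∈ X
    rw [Matrix.toLin'_apply]
    exact hg z hz hz0
  have := hle (hspan x hx)
  rw [Submodule.mem_comap, Matrix.toLin'_apply] at this
  exact this

/-- Step 2: a mixed isotropic vector all of whose transvections lie in `M`. -/
theorem exists_mixed_inZ (hF : Fintype.card F = q ^ 2) {W : Submodule F (Fin n → F)}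
    (h : NdOn q W) (hfr : 3 ≤ Module.finrank F (hperp q W))
    (hdim : Module.finrank F W < Module.finrank F (hperp q W))
    {M : Subgroup (GL (Fin n) F)} (hPM : Cfsg.Geo.subspaceStabilizer W ⊓ GG ≤ M)
    (hMS : M ≤ GG) (g : GL (Fin n) F) (hgM : g ∈ M)
    (hgW : g ∉ Cfsg.Geo.subspaceStabilizer W) :
    ∃ u₁ : Fin n → F, hh u₁ u₁ = 0 ∧ InZ q M u₁ ∧ u₁ ∉ W ∧ u₁ ∉ hperp q W := by
  have hgGU : g ∈ Cfsg.GU n F q := (hMS hgM).1
  have hWp := nd_hperp hF h
  have hdisj := Submodule.disjoint_def.mp (nd_disjoint hF h)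
  by_contra hcon
  have hcon' : ∀ u₁ : Fin n → F, hh u₁ u₁ = 0 → InZ q M u₁ → u₁ ∈ W ∨ u₁ ∈ hperp q W := by
    intro u₁ h1 h2
    by_contra h3
    push Not at h3
    exact hcon ⟨u₁, h1, h2, h3.1, h3.2⟩
  -- images of isotropic vectors of `W^⊥`
  have himg : ∀ b ∈ hperp q W, hh b b = 0 →
      (g : Matrix (Fin n) (Fin n) F) *ᵥ b ∈ W ∨
        (g : Matrix (Fin n) (Fin n) F) *ᵥ b ∈ hperp q W := by
    intro b hb hbb
    apply hcon'
    · rw [GU_preserves hgGU, hbb]
    · exact inZ_map M hMS g hgM b hbb (inZ_of_perp M hF W hPM b hb hbb)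
  have hinj : ∀ b : Fin n → F, (g : Matrix (Fin n) (Fin n) F) *ᵥ b = 0 → b = 0 := by
    intro b hb
    apply mulVec_injective_of_GL g
    show (g : Matrix (Fin n) (Fin n) F) *ᵥ b = (g : Matrix (Fin n) (Fin n) F) *ᵥ 0
    rw [hb, mulVec_zero]
  have hmix : ∀ b₁ ∈ hperp q W, ∀ b₂ ∈ hperp q W, hh b₁ b₁ = 0 → hh b₂ b₂ = 0 → b₁ ≠ 0 →
      b₂ ≠ 0 → (g : Matrix (Fin n) (Fin n) F) *ᵥ b₁ ∈ W →
      (g : Matrix (Fin n) (Fin n) F) *ᵥ b₂ ∈ hperp q W → False := by
    intro b₁ hb₁ b₂ hb₂ h11 h22 h10 h20 hg1 hg2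
    have h12 : hh b₁ b₂ = 0 := by
      rw [← GU_preserves hgGU]
      exact (mem_hperp' hF W _).mp hg2 _ hg1
    have h21 : hh b₂ b₁ = 0 := hermForm_eq_zero_comm hF h12
    have hsum : hh (b₁ + b₂) (b₁ + b₂) = 0 := by
      rw [Helper13.hermForm_add_left, Helper13.hermForm_add_right hF,
        Helper13.hermForm_add_right hF, h11, h12, h21, h22]
      ring
    rcases himg (b₁ + b₂) ((hperp q W).add_mem hb₁ hb₂) hsum with hc | hc
    · rw [mulVec_add] at hc
      have : (g : Matrix (Fin n) (Fin n) F) *ᵥ b₂ ∈ W := by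
        have e : (g : Matrix (Fin n) (Fin n) F) *ᵥ b₂ =
            ((g : Matrix (Fin n) (Fin n) F) *ᵥ b₁ + (g : Matrix (Fin n) (Fin n) F) *ᵥ b₂) -
              (g : Matrix (Fin n) (Fin n) F) *ᵥ b₁ := by abel
        rw [e]
        exact W.sub_mem hc hg1
      exact h20 (hinj b₂ (hdisj _ this hg2))
    · rw [mulVec_add] at hc
      have : (g : Matrix (Fin n) (Fin n) F) *ᵥ b₁ ∈ hperp q W := by
        have e : (g : Matrix (Fin n) (Fin n) F) *ᵥ b₁ =
            ((g : Matrix (Fin n) (Fin n) F) *ᵥ b₁ + (g : Matrix (Fin n) (Fin n) F) *ᵥ b₂) -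
              (g : Matrix (Fin n) (Fin n) F) *ᵥ b₂ := by abel
        rw [e]
        exact (hperp q W).sub_mem hc hg2
      exact h10 (hinj b₁ (hdisj _ hg1 this))
  by_cases hcase : ∃ b₁ ∈ hperp q W, hh b₁ b₁ = 0 ∧ b₁ ≠ 0 ∧
      (g : Matrix (Fin n) (Fin n) F) *ᵥ b₁ ∈ W
  · obtain ⟨b₁, hb₁, h11, h10, hg1⟩ := hcase
    have hall : ∀ b ∈ hperp q W, hh b b = 0 → (g : Matrix (Fin n) (Fin n) F) *ᵥ b ∈ W := by
      intro b hb hbb
      by_cases hb0 : b = 0
      · rw [hb0, mulVec_zero]
        exact W.zero_mem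
      · rcases himg b hb hbb with hc | hc
        · exact hc
        · exact absurd (hmix b₁ hb₁ b hb h11 hbb h10 hb0 hg1 hc) id
    have hmap := map_le_of_isotropic hF hWp hfr W g hall
    have hle : (hperp q W).map (Matrix.toLin' (g : Matrix (Fin n) (Fin n) F)) ≤ W := by
      rintro _ ⟨x, hx, rfl⟩
      rw [Matrix.toLin'_apply]
      exact hmap x hx
    have h1 := Submodule.finrank_mono hle
    rw [gl_map_finrank] at h1
    omega
  · push Not at hcase
    have hall : ∀ b ∈ hperp q W, hh b b = 0 →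
        (g : Matrix (Fin n) (Fin n) F) *ᵥ b ∈ hperp q W := by
      intro b hb hbb
      by_cases hb0 : b = 0
      · rw [hb0, mulVec_zero]
        exact (hperp q W).zero_mem
      · rcases himg b hb hbb with hc | hc
        · exact absurd hc (hcase b hb hbb hb0)
        · exact hc
    have hmap := map_le_of_isotropic hF hWp hfr (hperp q W) g hall
    have hgst := mem_subspaceStabilizer_of_forall (hperp q W) g hmap
    apply hgW
    apply mem_subspaceStabilizer_of_forall
    intro w₀ hw₀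
    rw [← hperp_hperp hF W, mem_hperp]
    intro y' hy'
    have hy'' : ((g⁻¹ : GL (Fin n) F) : Matrix (Fin n) (Fin n) F) *ᵥ y' ∈ hperp q W := by
      rw [(mem_subspaceStabilizer_iff (hperp q W) g).mp hgst, gl_mulVec_inv_mulVec]
      exact hy'
    have h1 := GU_preserves hgGU w₀
      (((g⁻¹ : GL (Fin n) F) : Matrix (Fin n) (Fin n) F) *ᵥ y')
    rw [gl_mulVec_inv_mulVec] at h1
    rw [h1]
    exact (mem_hperp' hF W _).mp hy'' w₀ hw₀

/-- The stabilizer of a nonzero nondegenerate subspace `W` with `2 dim W < n` is maximal in the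
special unitary group (`n ≥ 13`). -/
theorem und_stabilizer_isMaximalIn (hF : Fintype.card F = q ^ 2) (hn : 13 ≤ n)
    (W : Submodule F (Fin n → F)) (hW0 : W ≠ ⊥)
    (hW : Cfsg.Geo.IsNondegenerateOn (Cfsg.hermForm n F q) W)
    (hdim : 2 * Module.finrank F W < n) :
    Cfsg.Geo.IsMaximalIn (Cfsg.GU n F q ⊓ Cfsg.Geo.specialLinear (Fin n) F)
      (Cfsg.Geo.subspaceStabilizer W ⊓ (Cfsg.GU n F q ⊓ Cfsg.Geo.specialLinear (Fin n) F)) := by
  have h : NdOn q W := ndOn_of_isNondegenerateOn hW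
  have hWp := nd_hperp hF h
  have hfin := nd_finrank hF h
  have hfr7 : 7 ≤ Module.finrank F (hperp q W) := by omega
  have hdisj := Submodule.disjoint_def.mp (nd_disjoint hF h)
  have hWpos : 0 < Module.finrank F W := by
    rw [Module.finrank_pos_iff_exists_ne_zero]
    obtain ⟨w, hw, hw0⟩ := W.exists_mem_ne_zero_of_ne_bot hW0
    exact ⟨⟨w, hw⟩, fun h0 => hw0 (congrArg Subtype.val h0)⟩
  constructor
  · rw [lt_iff_le_and_ne]
    refine ⟨inf_le_right, fun heq => ?_⟩
    obtain ⟨a, haW, -, haa⟩ := exists_anisotropic_room hF h ⊥ (by rw [finrank_bot]; omega)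
    obtain ⟨b, hbW, -, hbb⟩ := exists_norm_vector_room hF hWp ⊥ (by rw [finrank_bot]; omega)
      (-hh a a) (by rw [frob_neg hF, hermForm_self_pow hF])
    have hb0 : b ≠ 0 := by
      rintro rfl
      rw [hermForm_zero_left] at hbb
      exact haa (neg_eq_zero.mp hbb.symm)
    have huu : hh (a + b) (a + b) = 0 := by
      rw [hermForm_mixed hF W haW hbW haW hbW, hbb, add_neg_cancel]
    obtain ⟨τ, hτ0, hτ⟩ := exists_trace_zero hF
    have h1 : utv q (a + b) τ ∈ GG := utv_mem_suGL hF _ huu τ hτ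
    rw [← heq] at h1
    have h2 := ((mem_subspaceStabilizer_iff W _).mp h1.1 a).mp haW
    rw [utv_mulVec _ huu] at h2
    have hau : hh a (a + b) = hh a a := by
      rw [Helper13.hermForm_add_right hF, (mem_hperp' hF W b).mp hbW a haW, add_zero]
    have hne : τ * hh a (a + b) ≠ 0 := by
      rw [hau]
      exact mul_ne_zero hτ0 haa
    have h3 : (τ * hh a (a + b)) • (a + b) ∈ W := by
      have : (τ * hh a (a + b)) • (a + b) = (a + (τ * hh a (a + b)) • (a + b)) - a := by abel
      rw [this]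
      exact W.sub_mem h2 haW
    have h4 : a + b ∈ W := by
      have : a + b = (τ * hh a (a + b))⁻¹ • ((τ * hh a (a + b)) • (a + b)) := by
        rw [smul_smul, inv_mul_cancel₀ hne, one_smul]
      rw [this]
      exact W.smul_mem _ h3
    have h5 : b ∈ W := by
      have : b = (a + b) - a := by abel
      rw [this]
      exact W.sub_mem h4 haW
    exact hb0 (hdisj b h5 hbW)
  · intro M hPM hMS
    by_cases hMP : M ≤ Cfsg.Geo.subspaceStabilizer W ⊓ GG
    · left
      exact le_antisymm hMP hPM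
    · right
      obtain ⟨g, hgM, hgP⟩ := SetLike.not_le_iff_exists.mp hMP
      have hgS := hMS hgM
      have hgW : g ∉ Cfsg.Geo.subspaceStabilizer W := fun h' => hgP ⟨h', hgS⟩
      obtain ⟨u₁, hu₁0, hZu₁, hu₁W, hu₁Wp⟩ := exists_mixed_inZ hF h (by omega) (by omega) hPM hMS
        g hgM hgW
      obtain ⟨a₁, ha₁, b₁, hb₁, hab₁⟩ := nd_decomp hF h u₁
      have ha₁0 : a₁ ≠ 0 := by
        rintro rfl
        rw [zero_add] at hab₁
        exact hu₁Wp (hab₁ ▸ hb₁)
      have hb₁0 : b₁ ≠ 0 := by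
        rintro rfl
        rw [add_zero] at hab₁
        exact hu₁W (hab₁ ▸ ha₁)
      have hiso₁ : hh a₁ a₁ + hh b₁ b₁ = 0 := by
        rw [← hermForm_mixed hF W ha₁ hb₁ ha₁ hb₁, hab₁, hu₁0]
      rw [← hab₁] at hZu₁
      -- all mixed vectors with anisotropic components
      have hD : ∀ a b : Fin n → F, a ∈ W → b ∈ hperp q W → hh a a ≠ 0 → hh b b = -hh a a →
          InZ q M (a + b) := by
        by_cases hs : hh a₁ a₁ = 0
        · have hb₁b₁ : hh b₁ b₁ = 0 := by rw [hs, zero_add] at hiso₁; exact hiso₁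
          obtain ⟨a'', b'', ha'', hb'', ha''a'', hb''b'', hZ''⟩ := inZ_C_to_D hF h (by omega) hPM hMS
            a₁ b₁ ha₁ hb₁ ha₁0 hb₁0 hs hb₁b₁ hZu₁
          intro a b ha hb haa hbb
          exact inZ_scale hF h (by omega) hPM hMS a'' b'' ha'' hb'' ha''a'' hb''b'' hZ'' a b ha hb
            haa hbb
        · intro a b ha hb haa hbb
          exact inZ_scale hF h (by omega) hPM hMS a₁ b₁ ha₁ hb₁ hs
            (eq_neg_of_add_eq_zero_right hiso₁) hZu₁ a b ha hb haa hbb
      have hall : ∀ u : Fin n → F, hh u u = 0 → InZ q M u := by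
        intro u hu0
        by_cases huW : u ∈ W
        · exact inZ_of_mem M hF W hPM u huW hu0
        by_cases huWp : u ∈ hperp q W
        · exact inZ_of_perp M hF W hPM u huWp hu0
        obtain ⟨a, ha, b, hb, hab⟩ := nd_decomp hF h u
        have ha0 : a ≠ 0 := by
          rintro rfl
          rw [zero_add] at hab
          exact huWp (hab ▸ hb)
        have hiso : hh a a + hh b b = 0 := by
          rw [← hermForm_mixed hF W ha hb ha hb, hab, hu0]
        rw [← hab]
        by_cases hs : hh a a = 0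
        · have hbb : hh b b = 0 := by rw [hs, zero_add] at hiso; exact hiso
          exact inZ_C_of_D hF h (by omega) hMS hD a b ha hb ha0 hs hbb
        · exact hD a b ha hb hs (eq_neg_of_add_eq_zero_right hiso)
      have hTM : utvGroup n q F ≤ M := by
        unfold utvGroup
        rw [Subgroup.closure_le]
        rintro t ⟨u, c, hu0, hc, rfl⟩
        exact hall u hu0 c hc
      apply le_antisymm hMS
      intro x hx
      obtain ⟨t, ht, htx⟩ := exists_utv_mul_mem_stabilizer hF h (by omega) x hx.1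
      have htxP : t * x ∈ Cfsg.Geo.subspaceStabilizer W ⊓ GG :=
        ⟨htx, Subgroup.mul_mem _ (utvGroup_le_suGL hF ht) hx⟩
      have : x = t⁻¹ * (t * x) := by group
      rw [this]
      exact M.mul_mem (M.inv_mem (hTM ht)) (hPM htxP)

end und5

end Cfsg.Agent.Lib.Helper99
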